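import Mathlib

/-!
# Natural group laws on the additive and multiplicative group functors

`ga_law_unique`: a natural, unital, associative binary operation with inverses on the forgetful
functor `R ↦ R` of `k`-algebras (`k` a field) is `a + b - ε`.
`gm_law_unique`: a natural binary operation with two-sided unit `ε` on `R ↦ Rˣ` is `a * b * ε⁻¹`.
(Lemma-on-demand for helper93, rows S15602/S15603.)
-/

universe u

open Polynomial

namespace Groth.Agent.H85.GaGmLaw

section Ga

variable {k : Type u} [Field k]

theorem natDegree_le_one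
    (μ : ∀ (R : Type u) [CommRing R] [Algebra k R], R → R → R)
    (hnat : ∀ (R R' : Type u) [CommRing R] [CommRing R'] [Algebra k R] [Algebra k R']
      (f : R →ₐ[k] R') (a b : R), f (μ R a b) = μ R' (f a) (f b))
    (hassoc : ∀ (R : Type u) [CommRing R] [Algebra k R] (a b c : R),
      μ R (μ R a b) c = μ R a (μ R b c)) :
    (μ (Polynomial (Polynomial k)) (C X) X).natDegree ≤ 1 := by
  have h1 : μ (Polynomial (Polynomial k)) (C X) (μ (Polynomial (Polynomial k)) (C X) X) =
      (μ (Polynomial (Polynomial k)) (C X) X).comp (μ (Polynomial (Polynomial k)) (C X) X) := by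
    have h := hnat (Polynomial (Polynomial k)) (Polynomial (Polynomial k))
      ((Polynomial.aeval (μ (Polynomial (Polynomial k)) (C X) X) :
        Polynomial (Polynomial k) →ₐ[Polynomial k] Polynomial (Polynomial k)).restrictScalars k)
      (C X) X
    rw [AlgHom.restrictScalars_apply, AlgHom.restrictScalars_apply, AlgHom.restrictScalars_apply,
      aeval_X, aeval_C] at h
    rw [comp_eq_aeval, h]
    rfl
  have h2 : μ (Polynomial (Polynomial k)) (μ (Polynomial (Polynomial k)) (C X) (C X)) X =
      (μ (Polynomial (Polynomial k)) (C X) X).map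
        ((aeval (μ (Polynomial k) X X) : Polynomial k →ₐ[k] Polynomial k) : Polynomial k →+* Polynomial k) := by
    have ha := hnat (Polynomial k) (Polynomial (Polynomial k)) (Polynomial.CAlgHom) X X
    rw [CAlgHom_apply, CAlgHom_apply] at ha
    have hb := hnat (Polynomial (Polynomial k)) (Polynomial (Polynomial k))
      (Polynomial.mapAlgHom (aeval (μ (Polynomial k) X X) : Polynomial k →ₐ[k] Polynomial k))
      (C X) X
    rw [coe_mapAlgHom, map_C, map_X] at hb
    rw [← ha, hb]
    congr 2
    simp
  have h3 := hassoc (Polynomial (Polynomial k)) (C X) (C X) X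
  rw [h1, h2] at h3
  have h4 := congrArg natDegree h3
  rw [natDegree_comp] at h4
  have h5 := natDegree_map_le (p := μ (Polynomial (Polynomial k)) (C X) X)
    (f := ((aeval (μ (Polynomial k) X X) : Polynomial k →ₐ[k] Polynomial k) :
      Polynomial k →+* Polynomial k))
  rw [h4] at h5
  by_contra hcon
  push Not at hcon
  nlinarith

theorem repr
    (μ : ∀ (R : Type u) [CommRing R] [Algebra k R], R → R → R)
    (hnat : ∀ (R R' : Type u) [CommRing R] [CommRing R'] [Algebra k R] [Algebra k R']
      (f : R →ₐ[k] R') (a b : R), f (μ R a b) = μ R' (f a) (f b))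
    (R : Type u) [CommRing R] [Algebra k R] (a b : R) :
    μ R a b = Polynomial.aevalAeval a b (μ (Polynomial (Polynomial k)) (C X) X) := by
  have h := hnat (Polynomial (Polynomial k)) R (Polynomial.aevalAeval a b) (C X) X
  rw [Polynomial.aevalAeval_X, Polynomial.aevalAeval_Y] at h
  exact h.symm

theorem ga_law_unique
    (μ : ∀ (R : Type u) [CommRing R] [Algebra k R], R → R → R)
    (hnat : ∀ (R R' : Type u) [CommRing R] [CommRing R'] [Algebra k R] [Algebra k R']
      (f : R →ₐ[k] R') (a b : R), f (μ R a b) = μ R' (f a) (f b))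
    (ε : k)
    (hl : ∀ (R : Type u) [CommRing R] [Algebra k R] (a : R), μ R (algebraMap k R ε) a = a)
    (hr : ∀ (R : Type u) [CommRing R] [Algebra k R] (a : R), μ R a (algebraMap k R ε) = a)
    (hassoc : ∀ (R : Type u) [CommRing R] [Algebra k R] (a b c : R),
      μ R (μ R a b) c = μ R a (μ R b c))
    (hinv : ∀ (R : Type u) [CommRing R] [Algebra k R] (a : R), ∃ b : R, μ R a b = algebraMap k R ε) :
    ∀ (R : Type u) [CommRing R] [Algebra k R] (a b : R), μ R a b = a + b - algebraMap k R ε := by
  -- degree bounds in both variables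
  have hd1 := natDegree_le_one μ hnat hassoc
  have hd2 := natDegree_le_one (fun R _ _ a b => μ R b a)
    (fun R R' _ _ _ _ f a b => hnat R R' f b a) (fun R _ _ a b c => (hassoc R c b a).symm)
  -- the shape of p
  obtain ⟨A, B, hAB⟩ : ∃ A B : Polynomial k,
      μ (Polynomial (Polynomial k)) (C X) X = C B * X + C A :=
    ⟨_, _, eq_X_add_C_of_natDegree_le_one hd1⟩
  have hform : ∀ (R : Type u) [CommRing R] [Algebra k R] (a b : R),
      μ R a b = aeval a B * b + aeval a A := by
    intro R _ _ a b
    rw [repr μ hnat R a b, hAB, map_add, map_mul, Polynomial.aevalAeval_C, Polynomial.aevalAeval_C,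
      Polynomial.aevalAeval_Y]
  -- degrees of A and B
  have hswap : μ (Polynomial (Polynomial k)) X (C X) = B.map C * C X + A.map C := by
    rw [hform, aeval_X_left_eq_map, aeval_X_left_eq_map]
    rfl
  have hcoef : ∀ i, 1 < i → B.coeff i = 0 ∧ A.coeff i = 0 := by
    intro i hi
    have h0 : (μ (Polynomial (Polynomial k)) X (C X)).coeff i = 0 :=
      coeff_eq_zero_of_natDegree_lt (lt_of_le_of_lt hd2 hi)
    rw [hswap, coeff_add, coeff_mul_C, coeff_map, coeff_map] at h0
    have h00 := congrArg (fun q : Polynomial k => q.coeff 0) h0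
    have h01 := congrArg (fun q : Polynomial k => q.coeff 1) h0
    simp only [coeff_add, coeff_C_mul, coeff_X_zero, mul_zero, coeff_C_zero, zero_add,
      coeff_zero] at h00
    simp only [coeff_add, coeff_C_mul, coeff_X_one, mul_one, coeff_C_succ, add_zero,
      coeff_zero] at h01
    exact ⟨h01, h00⟩
  have hB1 : B.natDegree ≤ 1 := natDegree_le_iff_coeff_eq_zero.mpr fun i hi => (hcoef i hi).1
  have hA1 : A.natDegree ≤ 1 := natDegree_le_iff_coeff_eq_zero.mpr fun i hi => (hcoef i hi).2
  obtain ⟨b1, b0, hB⟩ : ∃ b1 b0 : k, B = C b1 * X + C b0 :=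
    ⟨_, _, eq_X_add_C_of_natDegree_le_one hB1⟩
  obtain ⟨a1, a0, hA⟩ : ∃ a1 a0 : k, A = C a1 * X + C a0 :=
    ⟨_, _, eq_X_add_C_of_natDegree_le_one hA1⟩
  have hform2 : ∀ (R : Type u) [CommRing R] [Algebra k R] (a b : R),
      μ R a b = (algebraMap k R b1 * a + algebraMap k R b0) * b +
        (algebraMap k R a1 * a + algebraMap k R a0) := by
    intro R _ _ a b
    rw [hform, hA, hB]
    simp only [map_add, map_mul, aeval_C, aeval_X]
  -- unit equations
  have hr' := hr (Polynomial k) X
  have hl' := hl (Polynomial k) X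
  rw [hform2] at hr' hl'
  simp only [Polynomial.algebraMap_apply, Algebra.algebraMap_self, RingHom.id_apply] at hr' hl'
  have key : ∀ (u v : k), C u * X + C v = (X : Polynomial k) → u = 1 ∧ v = 0 := by
    intro u v h
    have h1 := congrArg (fun q : Polynomial k => q.coeff 1) h
    have h0 := congrArg (fun q : Polynomial k => q.coeff 0) h
    simp at h1 h0
    exact ⟨h1, h0⟩
  have hr'' : C (b1 * ε + a1) * X + C (b0 * ε + a0) = (X : Polynomial k) := by
    refine Eq.trans ?_ hr'
    simp only [C_add, C_mul]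
    ring
  have hl'' : C (b1 * ε + b0) * X + C (a1 * ε + a0) = (X : Polynomial k) := by
    refine Eq.trans ?_ hl'
    simp only [C_add, C_mul]
  obtain ⟨E1, E2⟩ := key _ _ hr''
  obtain ⟨E3, E4⟩ := key _ _ hl''
  have ha1 : a1 = 1 - b1 * ε := by linear_combination E1
  have ha0 : a0 = -(b0 * ε) := by linear_combination E2
  have hb0 : b0 = 1 - b1 * ε := by linear_combination E3
  -- inverses force b1 = 0
  have hb1 : b1 = 0 := by
    by_contra hne
    obtain ⟨e, he⟩ := hinv (Polynomial k) X
    rw [hform2] at he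
    simp only [Polynomial.algebraMap_apply, Algebra.algebraMap_self, RingHom.id_apply] at he
    have hx0 : b1 * (-b0 * b1⁻¹) = -b0 := by
      rw [mul_left_comm, mul_inv_cancel₀ hne, mul_one]
    have h6 := congrArg (eval (-b0 * b1⁻¹)) he
    simp only [eval_add, eval_mul, eval_C, eval_X] at h6
    rw [hx0, neg_add_cancel, zero_mul, zero_add] at h6
    have h7 : b1 * (a1 * (-b0 * b1⁻¹) + a0) = b1 * ε := by rw [h6]
    have h8 : a1 * (-b0) + b1 * a0 = b1 * ε := by
      rw [← hx0, ← h7]
      ring
    rw [ha1, ha0, hb0] at h8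
    have : (1 : k) = 0 := by linear_combination (-1 : k) * h8
    exact one_ne_zero this
  intro R _ _ a b
  rw [hform2, ha1, ha0, hb0, hb1]
  simp only [zero_mul, sub_zero, map_zero, map_one, one_mul, zero_add, map_neg]
  ring

end Ga

section Gm

open LaurentPolynomial

variable {k : Type u} [Field k]

/-- units of a Laurent polynomial ring over a domain are monomials -/
theorem exists_eq_C_mul_T {D : Type*} [CommRing D] [IsDomain D] (w : LaurentPolynomial D)
    (hw : IsUnit w) : ∃ (c : D) (m : ℤ), w = LaurentPolynomial.C c * T m := by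
  obtain ⟨v, huv⟩ := hw.exists_right_inv
  obtain ⟨n, f, hf⟩ := exists_T_pow w
  obtain ⟨m, g, hg⟩ := exists_T_pow v
  have h1 : toLaurent (f * g) = toLaurent (X ^ (n + m) : Polynomial D) := by
    rw [map_mul, hf, hg, toLaurent_X_pow]
    calc w * T n * (v * T m) = (w * v) * (T n * T m) := by ring
      _ = T ((n + m : ℕ) : ℤ) := by rw [huv, one_mul, ← T_add]; push_cast; rfl
  have hfg : f * g = X ^ (n + m) := toLaurent_injective h1
  have hdvd : f ∣ X ^ (n + m) := ⟨g, hfg.symm⟩
  obtain ⟨i, -, hassoc⟩ := (dvd_prime_pow Polynomial.prime_X _).mp hdvd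
  obtain ⟨z, hz⟩ := hassoc.symm
  obtain ⟨c, -, hc⟩ := Polynomial.isUnit_iff.mp z.isUnit
  refine ⟨c, (i : ℤ) - n, ?_⟩
  have h2 : w = toLaurent f * T (-(n : ℤ)) := by
    rw [hf, mul_T_assoc, add_neg_cancel, T_zero, mul_one]
  rw [h2, ← hz, ← hc, map_mul, toLaurent_X_pow, toLaurent_C, T_sub]
  ring

/-- the unit `T` of a Laurent polynomial ring -/
noncomputable def tU (D : Type*) [CommRing D] : (LaurentPolynomial D)ˣ :=
  ⟨T 1, T (-1), by rw [← T_add]; exact T_zero, by rw [← T_add]; exact T_zero⟩

lemma tU_zpow {D : Type*} [CommRing D] (n : ℤ) : ((tU D ^ n : (LaurentPolynomial D)ˣ) :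
    LaurentPolynomial D) = T n := by
  cases n with
  | ofNat m =>
    rw [Int.ofNat_eq_natCast, zpow_natCast, Units.val_pow_eq_pow_val]
    show (T 1 : LaurentPolynomial D) ^ m = T m
    rw [T_pow, mul_one]
  | negSucc m =>
    rw [zpow_negSucc, ← inv_pow, Units.val_pow_eq_pow_val]
    show (T (-1) : LaurentPolynomial D) ^ (m + 1) = T (Int.negSucc m)
    rw [T_pow, Int.negSucc_eq]
    congr 1
    push_cast
    ring

/-- the `k`-algebra map out of the double Laurent ring determined by two units -/
noncomputable def homAB (R : Type u) [CommRing R] [Algebra k R] (a b : Rˣ) :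
    LaurentPolynomial (LaurentPolynomial k) →ₐ[k] R :=
  { LaurentPolynomial.eval₂ (LaurentPolynomial.eval₂ (algebraMap k R) a) b with
    commutes' := fun r => by
      show LaurentPolynomial.eval₂ (LaurentPolynomial.eval₂ (algebraMap k R) a) b
        (algebraMap k (LaurentPolynomial (LaurentPolynomial k)) r) = algebraMap k R r
      rw [LaurentPolynomial.algebraMap_apply, LaurentPolynomial.algebraMap_apply,
        LaurentPolynomial.eval₂_C, LaurentPolynomial.eval₂_C]
      rfl }

lemma homAB_C_mul_T (R : Type u) [CommRing R] [Algebra k R] (a b : Rˣ) (d : LaurentPolynomial k)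
    (n : ℤ) : homAB R a b (LaurentPolynomial.C d * T n) =
      LaurentPolynomial.eval₂ (algebraMap k R) a d * ((b ^ n : Rˣ) : R) := by
  show LaurentPolynomial.eval₂ (LaurentPolynomial.eval₂ (algebraMap k R) a) b
    (LaurentPolynomial.C d * T n) = _
  rw [LaurentPolynomial.eval₂_C_mul_T]

/-- the inner unit `x` -/
noncomputable def xL : (LaurentPolynomial (LaurentPolynomial k))ˣ :=
  Units.map (LaurentPolynomial.C : LaurentPolynomial k →+* LaurentPolynomial (LaurentPolynomial k)) (tU k)

lemma map_xL (R : Type u) [CommRing R] [Algebra k R] (a b : Rˣ) :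
    Units.map ((homAB R a b : LaurentPolynomial (LaurentPolynomial k) →ₐ[k] R) :
      LaurentPolynomial (LaurentPolynomial k) →* R) xL = a := by
  ext
  show homAB (k := k) R a b (LaurentPolynomial.C (T 1)) = a
  have := homAB_C_mul_T (k := k) R a b (T 1) 0
  rw [T_zero, mul_one, zpow_zero, Units.val_one, mul_one] at this
  rw [this, LaurentPolynomial.eval₂_T, zpow_one]

lemma map_yL (R : Type u) [CommRing R] [Algebra k R] (a b : Rˣ) :
    Units.map ((homAB R a b : LaurentPolynomial (LaurentPolynomial k) →ₐ[k] R) :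
      LaurentPolynomial (LaurentPolynomial k) →* R) (tU (LaurentPolynomial k)) = b := by
  ext
  show homAB (k := k) R a b (T 1) = b
  have := homAB_C_mul_T (k := k) R a b 1 1
  rw [map_one, one_mul, map_one, one_mul, zpow_one] at this
  exact this

lemma eval₂_tU_self (d : LaurentPolynomial k) :
    LaurentPolynomial.eval₂ (algebraMap k (LaurentPolynomial k)) (tU k) d = d := by
  induction d using LaurentPolynomial.induction_on' with
  | add p q hp hq => rw [map_add, hp, hq]
  | C_mul_T n a =>
    rw [LaurentPolynomial.eval₂_C_mul_T, tU_zpow]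
    rfl

theorem gm_law_unique
    (μ : ∀ (R : Type u) [CommRing R] [Algebra k R], Rˣ → Rˣ → Rˣ)
    (hnat : ∀ (R R' : Type u) [CommRing R] [CommRing R'] [Algebra k R] [Algebra k R']
      (f : R →ₐ[k] R') (a b : Rˣ),
      Units.map (f : R →* R') (μ R a b) = μ R' (Units.map (f : R →* R') a) (Units.map (f : R →* R') b))
    (ε : kˣ)
    (hl : ∀ (R : Type u) [CommRing R] [Algebra k R] (a : Rˣ),
      μ R (Units.map (algebraMap k R : k →* R) ε) a = a)
    (hr : ∀ (R : Type u) [CommRing R] [Algebra k R] (a : Rˣ),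
      μ R a (Units.map (algebraMap k R : k →* R) ε) = a) :
    ∀ (R : Type u) [CommRing R] [Algebra k R] (a b : Rˣ),
      μ R a b = a * b * (Units.map (algebraMap k R : k →* R) ε)⁻¹ := by
  -- the universal value
  obtain ⟨d, n, hu⟩ := exists_eq_C_mul_T
    ((μ (LaurentPolynomial (LaurentPolynomial k)) xL (tU (LaurentPolynomial k)) :
      (LaurentPolynomial (LaurentPolynomial k))ˣ) : LaurentPolynomial (LaurentPolynomial k))
    (Units.isUnit _)
  have hgen : ∀ (R : Type u) [CommRing R] [Algebra k R] (a b : Rˣ),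
      ((μ R a b : Rˣ) : R) =
        LaurentPolynomial.eval₂ (algebraMap k R) a d * ((b ^ n : Rˣ) : R) := by
    intro R _ _ a b
    have h := hnat (LaurentPolynomial (LaurentPolynomial k)) R (homAB R a b) xL
      (tU (LaurentPolynomial k))
    rw [map_xL, map_yL] at h
    rw [← h, Units.coe_map]
    show homAB (k := k) R a b _ = _
    rw [hu, homAB_C_mul_T]
  -- specialise: right unit
  have h1 := hgen (LaurentPolynomial k) (tU k)
    (Units.map (algebraMap k (LaurentPolynomial k) : k →* LaurentPolynomial k) ε)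
  rw [hr, eval₂_tU_self] at h1
  -- h1 : T 1 = d * (ε^n)
  have hd : d = T 1 * LaurentPolynomial.C (((ε ^ n)⁻¹ : kˣ) : k) := by
    have h2 : ((Units.map (algebraMap k (LaurentPolynomial k) : k →* LaurentPolynomial k) ε ^ n :
        (LaurentPolynomial k)ˣ) : LaurentPolynomial k) = LaurentPolynomial.C ((ε ^ n : kˣ) : k) := by
      rw [← map_zpow, Units.coe_map]
      rfl
    rw [h2] at h1
    have h3 : (tU k : LaurentPolynomial k) = T 1 := rfl
    rw [h3] at h1
    rw [h1, mul_assoc, ← map_mul, Units.mul_inv, map_one, mul_one]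
  -- specialise: left unit
  have h4 := hgen (LaurentPolynomial k)
    (Units.map (algebraMap k (LaurentPolynomial k) : k →* LaurentPolynomial k) ε) (tU k)
  rw [hl, tU_zpow, hd, map_mul, LaurentPolynomial.eval₂_T, LaurentPolynomial.eval₂_C, zpow_one] at h4
  have h5 : (tU k : LaurentPolynomial k) = T 1 := rfl
  have h6 : ((Units.map (algebraMap k (LaurentPolynomial k) : k →* LaurentPolynomial k) ε :
      (LaurentPolynomial k)ˣ) : LaurentPolynomial k) = LaurentPolynomial.C (ε : k) := rfl
  have h7 : (algebraMap k (LaurentPolynomial k)) (((ε ^ n)⁻¹ : kˣ) : k) =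
      LaurentPolynomial.C (((ε ^ n)⁻¹ : kˣ) : k) := rfl
  rw [h5, h6, h7, ← map_mul] at h4
  have hc : (ε : k) * (((ε ^ n)⁻¹ : kˣ) : k) ≠ 0 :=
    mul_ne_zero (Units.ne_zero _) (Units.ne_zero _)
  have hn : n = 1 := by
    have h9 := congrArg LaurentPolynomial.degree h4
    rw [degree_T, degree_C_mul_T _ _ hc] at h9
    exact_mod_cast h9.symm
  subst hn
  intro R _ _ a b
  ext
  rw [hgen, hd, map_mul, LaurentPolynomial.eval₂_T, LaurentPolynomial.eval₂_C, zpow_one, zpow_one,
    zpow_one, Units.val_mul, Units.val_mul]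
  have h10 : (((Units.map (algebraMap k R : k →* R) ε)⁻¹ : Rˣ) : R) =
      algebraMap k R ((ε⁻¹ : kˣ) : k) := by
    rw [← map_inv, Units.coe_map]
    rfl
  rw [h10]
  ring

end Gm

end Groth.Agent.H85.GaGmLaw
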