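import Mathlib
import Groth.Prelude.Def_Cyc

/-!
# Cycles and open immersions

* `ordFrac_congr`: `CycAlg.ordFrac` is invariant under compatible isomorphisms of `(R, K)`.
* `ordAt_ι`, `divFun_ι`: `Cyc.ordAt`, `Cyc.divFun` on an open subscheme agree with those on `X`.
* `locallyFinite_closure_ι`: a family of points of `U` whose closures are locally finite in `U` has
  locally finite closures in `X` when `X` is locally Noetherian.
-/

set_option autoImplicit false
set_option linter.style.haveILetI false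
universe u v

open CategoryTheory AlgebraicGeometry TopologicalSpace Topology

namespace Groth.Agent.H85.CycOpen

section Algebra

theorem ord_ringEquiv {R R' : Type*} [CommRing R] [CommRing R'] (e : R ≃+* R') (a : R) :
    Ring.ord R' (e a) = Ring.ord R a := by
  unfold Ring.ord
  have hI : Ideal.span {e a} = Ideal.map (e : R →+* R') (Ideal.span {a}) := by
    rw [Ideal.map_span, Set.image_singleton]; rfl
  let q : R ⧸ Ideal.span {a} ≃+* R' ⧸ Ideal.span {e a} := Ideal.quotientEquiv _ _ e hI
  haveI : RingHomSurjective (e : R →+* R') := ⟨e.surjective⟩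
  let f : (R ⧸ Ideal.span {a}) →ₛₗ[(e : R →+* R')] (R' ⧸ Ideal.span {e a}) :=
    { toFun := q
      map_add' := map_add q
      map_smul' := by
        intro r m
        obtain ⟨m, rfl⟩ := Ideal.Quotient.mk_surjective m
        show q (Ideal.Quotient.mk _ (r * m)) = Ideal.Quotient.mk _ ((e r) * (e m))
        rw [Ideal.quotientEquiv_mk, map_mul] }
  symm
  rw [Module.length, Module.length, WithBot.unbot_inj,
    Order.krullDim_eq_of_orderIso (Submodule.orderIsoMapComapOfBijective f q.bijective)]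

theorem ringOrdFrac_congr {R R' : Type u} [CommRing R] [CommRing R'] {K K' : Type v} [Field K]
    [Field K'] [Algebra R K] [Algebra R' K'] [IsNoetherianRing R] [Ring.KrullDimLE 1 R]
    [Nontrivial R] [IsFractionRing R K] [IsNoetherianRing R'] [Ring.KrullDimLE 1 R']
    [Nontrivial R'] [IsFractionRing R' K'] (e : R ≃+* R') (σ : K ≃+* K')
    (h : ∀ r, σ (algebraMap R K r) = algebraMap R' K' (e r)) (f : K) :
    Ring.ordFrac R' (σ f) = Ring.ordFrac R f := by
  haveI : IsDomain R := (IsFractionRing.injective R K).isDomain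
  haveI : IsDomain R' := (IsFractionRing.injective R' K').isDomain
  have key : ∀ x : R, x ≠ 0 →
      Ring.ordFrac R' (algebraMap R' K' (e x)) = Ring.ordFrac R (algebraMap R K x) := by
    intro x hx
    have hx' : e x ≠ 0 := (map_ne_zero_iff e e.injective).mpr hx
    rw [Ring.ordFrac_eq_ord R' hx', Ring.ordFrac_eq_ord R hx,
      Ring.ordMonoidWithZeroHom_eq_ord (mem_nonZeroDivisors_of_ne_zero hx'),
      Ring.ordMonoidWithZeroHom_eq_ord (mem_nonZeroDivisors_of_ne_zero hx), ord_ringEquiv]
  by_cases hf : f = 0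
  · rw [hf, map_zero, map_zero, map_zero]
  obtain ⟨⟨a, b⟩, hab⟩ := IsLocalization.surj (nonZeroDivisors R) f
  have hab' : f * algebraMap R K (b : R) = algebraMap R K a := hab
  have hb : (b : R) ≠ 0 := nonZeroDivisors.ne_zero b.2
  have hinj := IsFractionRing.injective R K
  have ha : a ≠ 0 := by
    rintro rfl
    rw [map_zero] at hab'
    rcases mul_eq_zero.mp hab' with h1 | h1
    · exact hf h1
    · exact hb ((map_eq_zero_iff _ hinj).mp h1)
  have h1 : Ring.ordFrac R f * Ring.ordFrac R (algebraMap R K (b : R)) =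
      Ring.ordFrac R (algebraMap R K a) := by
    rw [← map_mul, hab']
  have h2 : Ring.ordFrac R' (σ f) * Ring.ordFrac R' (algebraMap R' K' (e (b : R))) =
      Ring.ordFrac R' (algebraMap R' K' (e a)) := by
    rw [← map_mul, ← h, ← h, ← map_mul, hab']
  rw [key a ha, key b hb, ← h1] at h2
  have hne : Ring.ordFrac R (algebraMap R K (b : R)) ≠ 0 :=
    (map_ne_zero _).mpr ((map_ne_zero_iff _ hinj).mpr hb)
  exact mul_right_cancel₀ hne h2

theorem cond_transfer {R R' : Type u} [CommRing R] [CommRing R'] {K K' : Type v} [Field K]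
    [Field K'] [Algebra R K] [Algebra R' K'] (e : R ≃+* R') (σ : K ≃+* K')
    (h : ∀ r, σ (algebraMap R K r) = algebraMap R' K' (e r))
    (hc : IsNoetherianRing R ∧ Ring.KrullDimLE 1 R ∧ Nontrivial R ∧ IsFractionRing R K) :
    IsNoetherianRing R' ∧ Ring.KrullDimLE 1 R' ∧ Nontrivial R' ∧ IsFractionRing R' K' := by
  obtain ⟨h1, h2, h3, h4⟩ := hc
  have hinj : Function.Injective (algebraMap R K) := IsFractionRing.injective R K
  have hinj' : Function.Injective (algebraMap R' K') := by
    intro x y hxy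
    have : σ (algebraMap R K (e.symm x)) = σ (algebraMap R K (e.symm y)) := by
      rw [h, h, e.apply_symm_apply, e.apply_symm_apply, hxy]
    exact e.symm.injective (hinj (σ.injective this))
  refine ⟨isNoetherianRing_of_ringEquiv R e, ?_, e.injective.nontrivial, ?_⟩
  · rw [Ring.krullDimLE_iff] at h2 ⊢
    rwa [← ringKrullDim_eq_of_ringEquiv e]
  · haveI : FaithfulSMul R' K' := (faithfulSMul_iff_algebraMap_injective R' K').mpr hinj'
    refine IsFractionRing.of_field R' K' (fun z => ?_)
    obtain ⟨x, y, -, hxy⟩ := IsFractionRing.div_surjective (A := R) (σ.symm z)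
    refine ⟨e x, e y, ?_⟩
    rw [← h, ← h, ← map_div₀, hxy, σ.apply_symm_apply]

/-- `CycAlg.ordFrac` is invariant under compatible isomorphisms. -/
theorem ordFrac_congr {R R' : Type u} [CommRing R] [CommRing R'] {K K' : Type v} [Field K]
    [Field K'] [Algebra R K] [Algebra R' K'] (e : R ≃+* R') (σ : K ≃+* K')
    (h : ∀ r, σ (algebraMap R K r) = algebraMap R' K' (e r)) (f : K) :
    CycAlg.ordFrac R' K' (σ f) = CycAlg.ordFrac R K f := by
  have h' : ∀ r, σ.symm (algebraMap R' K' r) = algebraMap R K (e.symm r) := by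
    intro r
    rw [RingEquiv.symm_apply_eq, h, e.apply_symm_apply]
  unfold CycAlg.ordFrac
  by_cases hc : IsNoetherianRing R ∧ Ring.KrullDimLE 1 R ∧ Nontrivial R ∧ IsFractionRing R K
  · have hc' := cond_transfer e σ h hc
    rw [dif_pos hc, dif_pos hc']
    haveI := hc.1; haveI := hc.2.1; haveI := hc.2.2.1; haveI := hc.2.2.2
    haveI := hc'.1; haveI := hc'.2.1; haveI := hc'.2.2.1; haveI := hc'.2.2.2
    rw [ringOrdFrac_congr e σ h f]
  · have hc' : ¬ (IsNoetherianRing R' ∧ Ring.KrullDimLE 1 R' ∧ Nontrivial R' ∧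
        IsFractionRing R' K') := fun hh => hc (cond_transfer e.symm σ.symm h' hh)
    rw [dif_neg hc, dif_neg hc']

end Algebra


section Scheme

variable {X Y : Scheme.{u}} (j : Y ⟶ X)

theorem specMap_comm {u ξ : Y} (h : ξ ⤳ u) (a : X.presheaf.stalk (j u)) :
    Cyc.specMap u ξ h (j.stalkMap u a) =
      j.residueFieldMap ξ (Cyc.specMap (j u) (j ξ) (h.map j.continuous) a) := by
  show Y.residue ξ (Y.presheaf.stalkSpecializes h (j.stalkMap u a)) =
      j.residueFieldMap ξ (X.residue (j ξ) (X.presheaf.stalkSpecializes (h.map j.continuous) a))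
  rw [← Scheme.Hom.stalkSpecializes_stalkMap_apply j ξ u h a]
  have := congrArg (fun φ => φ.hom (X.presheaf.stalkSpecializes (h.map j.continuous) a))
    (Scheme.residue_residueFieldMap j ξ)
  exact this.symm

variable [IsOpenImmersion j]

/-- The stalk isomorphism of an open immersion, as a ring equivalence. -/
noncomputable def stalkEquiv (u : Y) : X.presheaf.stalk (j u) ≃+* Y.presheaf.stalk u :=
  (asIso (j.stalkMap u)).commRingCatIsoToRingEquiv

/-- The residue field isomorphism of an open immersion, as a ring equivalence. -/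
noncomputable def resEquiv (ξ : Y) : X.residueField (j ξ) ≃+* Y.residueField ξ :=
  (asIso (j.residueFieldMap ξ)).commRingCatIsoToRingEquiv

theorem stalkEquiv_apply (u : Y) (a : X.presheaf.stalk (j u)) :
    stalkEquiv j u a = j.stalkMap u a := rfl

theorem resEquiv_apply (ξ : Y) (g : X.residueField (j ξ)) :
    resEquiv j ξ g = j.residueFieldMap ξ g := rfl

theorem ker_specMap_eq {u ξ : Y} (h : ξ ⤳ u) :
    RingHom.ker (Cyc.specMap u ξ h) =
      Ideal.map ((stalkEquiv j u : X.presheaf.stalk (j u) ≃+* Y.presheaf.stalk u) :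
        X.presheaf.stalk (j u) →+* Y.presheaf.stalk u)
        (RingHom.ker (Cyc.specMap (j u) (j ξ) (h.map j.continuous))) := by
  rw [Ideal.map_comap_of_equiv]
  ext b
  obtain ⟨a, rfl⟩ := (stalkEquiv j u).surjective b
  rw [Ideal.mem_comap, RingHom.mem_ker, RingHom.mem_ker]
  rw [RingEquiv.symm_apply_apply, stalkEquiv_apply, specMap_comm j h a]
  exact map_eq_zero_iff _ (j.residueFieldMap ξ).hom.injective

/-- The induced isomorphism of the local rings of the closure of `ξ`. -/
noncomputable def locQuotEquiv {u ξ : Y} (h : ξ ⤳ u) :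
    Cyc.LocQuot (j u) (j ξ) (h.map j.continuous) ≃+* Cyc.LocQuot u ξ h :=
  Ideal.quotientEquiv _ _ (stalkEquiv j u) (ker_specMap_eq j h)

theorem locQuotEquiv_compat {u ξ : Y} (h : ξ ⤳ u)
    (r : Cyc.LocQuot (j u) (j ξ) (h.map j.continuous)) :
    resEquiv j ξ (algebraMap (Cyc.LocQuot (j u) (j ξ) (h.map j.continuous))
      (X.residueField (j ξ)) r) =
      algebraMap (Cyc.LocQuot u ξ h) (Y.residueField ξ) (locQuotEquiv j h r) := by
  obtain ⟨a, rfl⟩ := Ideal.Quotient.mk_surjective r
  have e1 : locQuotEquiv j h (Ideal.Quotient.mk _ a) = Ideal.Quotient.mk _ (stalkEquiv j u a) :=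
    Ideal.quotientEquiv_mk _ _ _ _ a
  rw [e1, resEquiv_apply, stalkEquiv_apply]
  exact (specMap_comm j h a).symm

theorem ordAt_openImm {u ξ : Y} (h : ξ ⤳ u) (g : X.residueField (j ξ)) :
    Cyc.ordAt u ξ h (j.residueFieldMap ξ g) =
      Cyc.ordAt (j u) (j ξ) (h.map j.continuous) g := by
  unfold Cyc.ordAt
  exact ordFrac_congr (locQuotEquiv j h) (resEquiv j ξ) (locQuotEquiv_compat j h) g

theorem divFun_openImm (δ : X → ℤ) (ξ : Y) (g : X.residueField (j ξ)) (u : Y) :
    Cyc.divFun (fun y => δ (j y)) ξ (j.residueFieldMap ξ g) u = Cyc.divFun δ (j ξ) g (j u) := by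
  unfold Cyc.divFun
  split_ifs with h1 h2 h2
  · exact ordAt_openImm j h1.1 g
  · exact absurd ⟨h1.1.map j.continuous, h1.2⟩ h2
  · exact absurd ⟨(j.isOpenEmbedding.isInducing.specializes_iff).mp h2.1, h2.2⟩ h1
  · rfl

theorem locallyFinite_closure_openImm [IsLocallyNoetherian X] {ι : Type*} (ξ : ι → Y)
    (hfin : ∀ y : Y, ∃ N : Set Y, IsOpen N ∧ y ∈ N ∧
      {i | (closure {ξ i} ∩ N).Nonempty}.Finite) (x : X) :
    ∃ V : Set X, IsOpen V ∧ x ∈ V ∧ {i | (closure {j (ξ i)} ∩ V).Nonempty}.Finite := by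
  choose N hNo hNm hNf using hfin
  obtain ⟨_, ⟨W, hW, rfl⟩, hxW, -⟩ :=
    X.isBasis_affineOpens.exists_subset_of_mem_open (Set.mem_univ x) isOpen_univ
  have hcomp : IsCompact (j ⁻¹' (W : Set X)) :=
    QuasiCompact.isCompact_preimage (f := j) (W : Set X) W.isOpen hW.isCompact
  obtain ⟨t, -, ht⟩ := hcomp.elim_nhds_subcover N (fun y _ => (hNo y).mem_nhds (hNm y))
  refine ⟨W, W.isOpen, hxW, ?_⟩
  refine (Set.Finite.biUnion t.finite_toSet (fun y _ => hNf y)).subset ?_
  rintro i ⟨z, hz, hzW⟩
  have hiW : j (ξ i) ∈ (W : Set X) := by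
    obtain ⟨w, hwW, hw⟩ := mem_closure_iff.mp hz W W.isOpen hzW
    rw [Set.mem_singleton_iff] at hw
    rw [← hw]; exact hwW
  obtain ⟨y, hyt, hy⟩ := Set.mem_iUnion₂.mp (ht hiW)
  exact Set.mem_biUnion hyt ⟨ξ i, subset_closure rfl, hy⟩

end Scheme

end Groth.Agent.H85.CycOpen
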