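import Mathlib

/-!
# Graphs of relative morphisms inside `(X ×_S Y) ×_S T` (definitions for S17087)
-/

set_option autoImplicit false
universe u
open CategoryTheory CategoryTheory.Limits AlgebraicGeometry

namespace Groth.Agent.H85.MorHilb

variable {X Y S : Scheme.{u}} (gX : X ⟶ S) (gY : Y ⟶ S) (T : Over S)

/-- The graph `Γ_a : T ×_S X ⟶ (X ×_S Y) ×_S T` of an `S`-morphism `a : T ×_S X ⟶ Y`. -/
noncomputable def graph (a : pullback T.hom gX ⟶ Y)
    (ha : pullback.snd T.hom gX ≫ gX = a ≫ gY) :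
    pullback T.hom gX ⟶ pullback (pullback.fst gX gY ≫ gX) T.hom :=
  pullback.lift (pullback.lift (pullback.snd T.hom gX) a ha) (pullback.fst T.hom gX)
    ((pullback.lift_fst_assoc _ _ _ _).trans pullback.condition.symm)

/-- The projection `(X ×_S Y) ×_S T ⟶ T ×_S X`. -/
noncomputable def q : pullback (pullback.fst gX gY ≫ gX) T.hom ⟶ pullback T.hom gX :=
  pullback.lift (pullback.snd _ _) (pullback.fst _ _ ≫ pullback.fst gX gY)
    (by rw [Category.assoc]; exact pullback.condition.symm)

/-- The projection `(X ×_S Y) ×_S T ⟶ Y`. -/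
noncomputable def pY : pullback (pullback.fst gX gY ≫ gX) T.hom ⟶ Y :=
  pullback.fst _ _ ≫ pullback.snd gX gY

@[reassoc (attr := simp)]
theorem q_fst : q gX gY T ≫ pullback.fst T.hom gX = pullback.snd _ _ :=
  pullback.lift_fst _ _ _

@[reassoc (attr := simp)]
theorem q_snd : q gX gY T ≫ pullback.snd T.hom gX = pullback.fst _ _ ≫ pullback.fst gX gY :=
  pullback.lift_snd _ _ _

variable {gX gY T}

@[reassoc (attr := simp)]
theorem graph_snd (a : pullback T.hom gX ⟶ Y) (ha : pullback.snd T.hom gX ≫ gX = a ≫ gY) :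
    graph gX gY T a ha ≫ pullback.snd _ _ = pullback.fst T.hom gX :=
  pullback.lift_snd _ _ _

@[reassoc (attr := simp)]
theorem graph_fst (a : pullback T.hom gX ⟶ Y) (ha : pullback.snd T.hom gX ≫ gX = a ≫ gY) :
    graph gX gY T a ha ≫ pullback.fst _ _ = pullback.lift (pullback.snd T.hom gX) a ha :=
  pullback.lift_fst _ _ _

@[reassoc (attr := simp)]
theorem graph_q (a : pullback T.hom gX ⟶ Y) (ha : pullback.snd T.hom gX ≫ gX = a ≫ gY) :
    graph gX gY T a ha ≫ q gX gY T = 𝟙 _ := by
  apply pullback.hom_ext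
  · rw [Category.assoc, q_fst, graph_snd, Category.id_comp]
  · rw [Category.assoc, q_snd, graph_fst_assoc, pullback.lift_fst, Category.id_comp]

@[reassoc (attr := simp)]
theorem graph_pY (a : pullback T.hom gX ⟶ Y) (ha : pullback.snd T.hom gX ≫ gX = a ≫ gY) :
    graph gX gY T a ha ≫ pY gX gY T = a := by
  unfold pY
  rw [graph_fst_assoc, pullback.lift_snd]

end Groth.Agent.H85.MorHilb
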