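import Groth.Agent.H95.C1Cap

/-!
# The support of a principal divisor is locally finite

* `finite_maximal_points`: in a quasi-sober T0 space, the maximal points of a closed set inside a
  Noetherian open are finite in number.
* `divFun_support_locallyFinite`: `Cyc.divFun δ ξ f` has locally finite support.
-/

set_option autoImplicit false
set_option linter.style.haveILetI false
universe u

open CategoryTheory AlgebraicGeometry TopologicalSpace Topology

namespace Groth.Agent.H85.CycDivFin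

open Groth.Agent.H95.SecOrd Groth.Agent.H95.C1Cap

theorem finite_maximal_points {X : Type*} [TopologicalSpace X] [QuasiSober X] [T0Space X]
    (W : Set X) (hWn : NoetherianSpace W) (Z : Set X) (hZ : IsClosed Z) :
    {y : X | y ∈ W ∧ y ∈ Z ∧ ∀ y' ∈ Z, y' ⤳ y → y' = y}.Finite := by
  let T : Set X := W ∩ Z
  haveI : NoetherianSpace T := by
    rw [noetherianSpace_set_iff] at hWn ⊢
    exact fun t ht => hWn t (ht.trans Set.inter_subset_left)
  have hfin : (irreducibleComponents T).Finite := NoetherianSpace.finite_irreducibleComponents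
  refine Set.Finite.of_injOn
    (f := fun y : X => ((↑) : T → X) ⁻¹' closure ({y} : Set X)) ?_ ?_ hfin
  · rintro y ⟨hyW, hyZ, hmax⟩
    have hcl : ((↑) : T → X) ⁻¹' closure ({y} : Set X) =
        closure ({(⟨y, hyW, hyZ⟩ : T)} : Set T) := by
      rw [IsInducing.subtypeVal.closure_eq_preimage_closure_image, Set.image_singleton]
    show Maximal IsIrreducible (((↑) : T → X) ⁻¹' closure ({y} : Set X))
    rw [hcl]
    refine ⟨isIrreducible_singleton.closure, fun S hS hle => ?_⟩
    have hS' : IsIrreducible (closure (((↑) : T → X) '' S)) :=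
      (hS.image _ continuous_subtype_val.continuousOn).closure
    obtain ⟨y', hy'⟩ := QuasiSober.sober hS' isClosed_closure
    have hyS : y ∈ closure (((↑) : T → X) '' S) :=
      subset_closure ⟨⟨y, hyW, hyZ⟩, hle (subset_closure rfl), rfl⟩
    have hsp : y' ⤳ y := by
      rw [specializes_iff_mem_closure, hy'.def]; exact hyS
    have hy'Z : y' ∈ Z := by
      have h1 : closure (((↑) : T → X) '' S) ⊆ Z :=
        closure_minimal (by rintro _ ⟨t, -, rfl⟩; exact t.2.2) hZ
      have h2 : y' ∈ closure ({y'} : Set X) := subset_closure rfl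
      rw [hy'.def] at h2
      exact h1 h2
    have hyy : y' = y := hmax y' hy'Z hsp
    intro t ht
    rw [← hcl]
    show (t : X) ∈ closure ({y} : Set X)
    rw [← hyy, hy'.def]
    exact subset_closure ⟨t, ht, rfl⟩
  · rintro y₁ ⟨h1W, h1Z, -⟩ y₂ ⟨h2W, h2Z, -⟩ heq
    have heq' : ((↑) : T → X) ⁻¹' closure ({y₁} : Set X) =
        ((↑) : T → X) ⁻¹' closure ({y₂} : Set X) := heq
    have m1 : (⟨y₁, h1W, h1Z⟩ : T) ∈ ((↑) : T → X) ⁻¹' closure ({y₂} : Set X) := by
      rw [← heq']; exact subset_closure rfl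
    have m2 : (⟨y₂, h2W, h2Z⟩ : T) ∈ ((↑) : T → X) ⁻¹' closure ({y₁} : Set X) := by
      rw [heq']; exact subset_closure rfl
    have s1 : y₂ ⤳ y₁ := specializes_iff_mem_closure.mpr m1
    have s2 : y₁ ⤳ y₂ := specializes_iff_mem_closure.mpr m2
    exact (s2.antisymm s1).eq

variable {X : Scheme.{u}}

/-- The support of a principal divisor `div(f)`, `f ∈ κ(ξ)^*`, is locally finite. -/
theorem divFun_support_locallyFinite (δ : X → ℤ) (hX : Cyc.IsSetup X δ) (ξ : X)
    (f : X.residueField ξ) (hf : f ≠ 0) (x : X) :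
    ∃ V : Set X, IsOpen V ∧ x ∈ V ∧ {y : X | y ∈ V ∧ Cyc.divFun δ ξ f y ≠ 0}.Finite := by
  obtain ⟨hLN, -, hdim⟩ := hX
  haveI := hLN
  obtain ⟨_, ⟨W, hW, rfl⟩, hxW, -⟩ :=
    X.isBasis_affineOpens.exists_subset_of_mem_open (Set.mem_univ x) isOpen_univ
  refine ⟨W, W.isOpen, hxW, ?_⟩
  by_cases hξW : ξ ∈ W
  swap
  · convert Set.finite_empty
    ext y
    simp only [Set.mem_ofPred_eq, Set.mem_empty_iff_false, iff_false, not_and, not_not]
    intro hyW
    apply divFun_eq_zero
    intro hsp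
    exact hξW (hsp.mem_open W.isOpen hyW)
  haveI : IsNoetherianRing Γ(X, W) := IsLocallyNoetherian.component_noetherian ⟨W, hW⟩
  have hWn : NoetherianSpace W := noetherianSpace_of_isAffineOpen W hW
  obtain ⟨c, rfl⟩ := X.residue_surjective ξ f
  have hmap := (@isLocalization_iff_isLocalizationMap Γ(X, W) _
    (hW.primeIdealOf ⟨ξ, hξW⟩).asIdeal.primeCompl (X.presheaf.stalk ξ) _
    (TopCat.Presheaf.algebra_section_stalk X.presheaf ⟨ξ, hξW⟩)).mp
    (hW.isLocalization_stalk ⟨ξ, hξW⟩)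
  obtain ⟨⟨a, s⟩, has⟩ := hmap.surj c
  have has' : c * X.presheaf.germ W ξ hξW (s : Γ(X, W)) = X.presheaf.germ W ξ hξW a := has
  have hsu : IsUnit (X.presheaf.germ W ξ hξW (s : Γ(X, W))) := hmap.map_units s
  have hcu : IsUnit c := by
    by_contra hnu
    exact hf ((residue_eq_zero_iff c).mpr ((IsLocalRing.mem_maximalIdeal c).mpr hnu))
  have hau : IsUnit (X.presheaf.germ W ξ hξW a) := has' ▸ hcu.mul hsu
  have hev_s : X.residue ξ (X.presheaf.germ W ξ hξW (s : Γ(X, W))) ≠ 0 :=
    residue_ne_zero_of_isUnit hsu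
  have hev_a : X.residue ξ (X.presheaf.germ W ξ hξW a) ≠ 0 := residue_ne_zero_of_isUnit hau
  have hfeq : X.residue ξ c = X.residue ξ (X.presheaf.germ W ξ hξW a) *
      (X.residue ξ (X.presheaf.germ W ξ hξW (s : Γ(X, W))))⁻¹ := by
    rw [eq_mul_inv_iff_mul_eq₀ hev_s, ← map_mul, has']
  let Z : Set X := closure {ξ} ∩ ((X.basicOpen (a * (s : Γ(X, W))) : Set X))ᶜ
  have hZ : IsClosed Z := isClosed_closure.inter (X.basicOpen _).isOpen.isClosed_compl
  refine (finite_maximal_points (W : Set X) hWn Z hZ).subset ?_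
  rintro y ⟨hyW, hy⟩
  unfold Cyc.divFun at hy
  split_ifs at hy with hc
  swap
  · exact absurd rfl hy
  obtain ⟨hsp, hδ⟩ := hc
  have hynb : y ∉ X.basicOpen (a * (s : Γ(X, W))) := by
    intro hyb
    rw [Scheme.basicOpen_mul] at hyb
    have hya : IsUnit (X.presheaf.germ W y hyW a) := (X.mem_basicOpen a y hyW).mp hyb.1
    have hys : IsUnit (X.presheaf.germ W y hyW (s : Γ(X, W))) :=
      (X.mem_basicOpen _ y hyW).mp hyb.2
    apply hy
    rw [hfeq, ordAt_mul hsp hev_a (inv_ne_zero hev_s), ordAt_inv hsp hev_s,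
      ← specMap_germ hsp hyW hξW a, ← specMap_germ hsp hyW hξW (s : Γ(X, W)),
      ordAt_specMap_unit hsp hya, ordAt_specMap_unit hsp hys]
    simp
  have hξb : ξ ∈ X.basicOpen (a * (s : Γ(X, W))) := by
    rw [Scheme.basicOpen_mul]
    exact ⟨(X.mem_basicOpen a ξ hξW).mpr hau, (X.mem_basicOpen _ ξ hξW).mpr hsu⟩
  refine ⟨hyW, ⟨specializes_iff_mem_closure.mp hsp, hynb⟩, ?_⟩
  rintro y' ⟨hy'cl, hy'nb⟩ hy'sp
  have hsp' : ξ ⤳ y' := specializes_iff_mem_closure.mpr hy'cl
  have hne : ξ ≠ y' := by rintro rfl; exact hy'nb hξb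
  by_contra hyy
  have h1 := (hdim ξ y' hsp' hne).1
  have h2 := (hdim y' y hy'sp hyy).1
  omega

end Groth.Agent.H85.CycDivFin
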