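import Groth.Agent.H85.CycOpen

/-!
# `Cyc.ordAt` / `Cyc.divFun` along immersions (surjective on stalks, inducing)

Generalises `CycOpen.ordAt_openImm`, `CycOpen.divFun_openImm` to morphisms which are surjective on
stalks and topologically inducing, e.g. closed immersions.
-/

set_option autoImplicit false
set_option linter.style.haveILetI false
universe u

open CategoryTheory AlgebraicGeometry TopologicalSpace Topology

namespace Groth.Agent.H85.CycImm

open Groth.Agent.H85.CycOpen

variable {X Y : Scheme.{u}} (j : Y ⟶ X)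

theorem residueFieldMap_bijective (hs : ∀ y : Y, Function.Surjective (j.stalkMap y)) (y : Y) : Function.Bijective (j.residueFieldMap y) := by
  refine ⟨(j.residueFieldMap y).hom.injective, fun b => ?_⟩
  obtain ⟨t, rfl⟩ := Y.residue_surjective y b
  obtain ⟨a, rfl⟩ := hs y t
  refine ⟨X.residue (j y) a, ?_⟩
  exact congrArg (fun φ => φ.hom a) (Scheme.residue_residueFieldMap j y)

/-- The residue field isomorphism. -/
noncomputable def resEquiv (hs : ∀ y : Y, Function.Surjective (j.stalkMap y)) (y : Y) : X.residueField (j y) ≃+* Y.residueField y :=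
  RingEquiv.ofBijective (j.residueFieldMap y).hom (residueFieldMap_bijective j hs y)

theorem resEquiv_apply (hs : ∀ y : Y, Function.Surjective (j.stalkMap y)) (y : Y) (g : X.residueField (j y)) :
    resEquiv j hs y g = j.residueFieldMap y g := rfl

theorem mem_ker_specMap_iff {u ξ : Y} (h : ξ ⤳ u) (a : X.presheaf.stalk (j u)) :
    a ∈ RingHom.ker (Cyc.specMap (j u) (j ξ) (h.map j.continuous)) ↔
      j.stalkMap u a ∈ RingHom.ker (Cyc.specMap u ξ h) := by
  rw [RingHom.mem_ker, RingHom.mem_ker, specMap_comm j h a]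
  exact (map_eq_zero_iff _ (j.residueFieldMap ξ).hom.injective).symm

/-- The induced map of the local rings of the closure of `ξ`. -/
noncomputable def locQuotMap {u ξ : Y} (h : ξ ⤳ u) :
    Cyc.LocQuot (j u) (j ξ) (h.map j.continuous) →+* Cyc.LocQuot u ξ h :=
  Ideal.quotientMap (RingHom.ker (Cyc.specMap u ξ h)) (j.stalkMap u).hom
    (fun a ha => (mem_ker_specMap_iff j h a).mp ha)

theorem locQuotMap_bijective (hs : ∀ y : Y, Function.Surjective (j.stalkMap y)) {u ξ : Y} (h : ξ ⤳ u) : Function.Bijective (locQuotMap j h) := by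
  unfold locQuotMap
  constructor
  · apply Ideal.quotientMap_injective'
    intro a ha
    exact (mem_ker_specMap_iff j h a).mpr ha
  · exact Ideal.quotientMap_surjective (hs u)

/-- The induced isomorphism of the local rings of the closure of `ξ`. -/
noncomputable def locQuotEquiv (hs : ∀ y : Y, Function.Surjective (j.stalkMap y)) {u ξ : Y} (h : ξ ⤳ u) :
    Cyc.LocQuot (j u) (j ξ) (h.map j.continuous) ≃+* Cyc.LocQuot u ξ h :=
  RingEquiv.ofBijective (locQuotMap j h) (locQuotMap_bijective j hs h)

theorem locQuotEquiv_compat (hs : ∀ y : Y, Function.Surjective (j.stalkMap y)) {u ξ : Y} (h : ξ ⤳ u)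
    (r : Cyc.LocQuot (j u) (j ξ) (h.map j.continuous)) :
    resEquiv j hs ξ (algebraMap (Cyc.LocQuot (j u) (j ξ) (h.map j.continuous))
      (X.residueField (j ξ)) r) =
      algebraMap (Cyc.LocQuot u ξ h) (Y.residueField ξ) (locQuotEquiv j hs h r) := by
  obtain ⟨a, rfl⟩ := Ideal.Quotient.mk_surjective r
  have e1 : locQuotEquiv j hs h (Ideal.Quotient.mk _ a) =
      Ideal.Quotient.mk _ (j.stalkMap u a) := rfl
  rw [e1, resEquiv_apply]
  exact (specMap_comm j h a).symm

theorem ordAt_imm (hs : ∀ y : Y, Function.Surjective (j.stalkMap y)) {u ξ : Y} (h : ξ ⤳ u) (g : X.residueField (j ξ)) :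
    Cyc.ordAt u ξ h (j.residueFieldMap ξ g) =
      Cyc.ordAt (j u) (j ξ) (h.map j.continuous) g := by
  unfold Cyc.ordAt
  exact ordFrac_congr (locQuotEquiv j hs h) (resEquiv j hs ξ) (locQuotEquiv_compat j hs h) g

theorem divFun_imm (hs : ∀ y : Y, Function.Surjective (j.stalkMap y)) (hind : IsInducing j) (δ : X → ℤ) (ξ : Y) (g : X.residueField (j ξ))
    (u : Y) :
    Cyc.divFun (fun y => δ (j y)) ξ (j.residueFieldMap ξ g) u = Cyc.divFun δ (j ξ) g (j u) := by
  unfold Cyc.divFun
  split_ifs with h1 h2 h2
  · exact ordAt_imm j hs h1.1 g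
  · exact absurd ⟨h1.1.map j.continuous, h1.2⟩ h2
  · exact absurd ⟨hind.specializes_iff.mp h2.1, h2.2⟩ h1
  · rfl

/-- Closed immersions have residue degree one. -/
theorem residueDegree_eq_one (hs : ∀ y : Y, Function.Surjective (j.stalkMap y)) (y : Y) : j.residueDegree y = 1 := by
  unfold Scheme.Hom.residueDegree
  letI := (j.residueFieldMap y).hom.toAlgebra
  have hb : Function.Bijective (algebraMap (X.residueField (j y)) (Y.residueField y)) :=
    residueFieldMap_bijective j hs y
  have e : (X.residueField (j y)) ≃ₗ[X.residueField (j y)] (Y.residueField y) :=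
    LinearEquiv.ofBijective (Algebra.linearMap _ _) hb
  rw [← e.finrank_eq, Module.finrank_self]

end Groth.Agent.H85.CycImm
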