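import Mathlib
import Groth.Agent.S13232
import Groth.Agent.H71.BassGrInt
import Groth.Agent.H29.DepthFinite

/-!
# The dimension of a `ℤ`-graded Noetherian ring with a largest homogeneous prime (helper85)

If every prime `p` of the Noetherian `ℤ`-graded ring `R` has homogeneous core inside the prime `m`,
and `m` is maximal among primes, then every prime has height at most `ht m`; hence
`dim R = ht m`.  (Uses S13232 and `H71.BassGrInt.height_eq_one`.)
-/

set_option autoImplicit false
set_option linter.style.haveILetI false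
universe u

namespace Groth.Agent.H85.GrHeight

open Groth.Agent.H29.DepthFinite

theorem supportDim_localizedModule_self {R : Type u} [CommRing R] (p : Ideal R) [p.IsPrime] :
    Module.supportDim (Localization.AtPrime p) (LocalizedModule p.primeCompl R) =
      ((p.height : ℕ∞) : WithBot ℕ∞) := by
  rw [Module.supportDim_eq_of_equiv (selfEquiv p.primeCompl),
    Module.supportDim_self_eq_ringKrullDim,
    IsLocalization.AtPrime.ringKrullDim_eq_height p (Localization.AtPrime p)]

variable {R : Type u} [CommRing R] [IsNoetherianRing R] (𝒢 : ℤ → AddSubgroup R) [GradedRing 𝒢]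
  (m : Ideal R) [hm : m.IsPrime]
  (hcore : ∀ p : Ideal R, p.IsPrime → (Ideal.homogeneousCore 𝒢 p).toIdeal ≤ m)
  (hmax : ∀ p : Ideal R, p.IsPrime → m ≤ p → p ≤ m)

include hcore hmax in
theorem height_le_of_core (p : Ideal R) [hp : p.IsPrime] : p.height ≤ m.height := by
  haveI hc : (Ideal.homogeneousCore 𝒢 p).toIdeal.IsPrime := Ideal.IsPrime.homogeneousCore hp
  by_cases hh : Ideal.IsHomogeneous 𝒢 p
  · have h1 : (Ideal.homogeneousCore 𝒢 p).toIdeal = p := hh.toIdeal_homogeneousCore_eq_self
    have h2 : p ≤ m := by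
      have := hcore p hp
      rwa [h1] at this
    exact Ideal.height_mono h2
  · have h1 := Groth.Agent.H71.BassGrInt.height_eq_one R 𝒢 p hh
    have hnt : Nontrivial (LocalizedModule p.primeCompl R) :=
      (selfEquiv p.primeCompl).toEquiv.nontrivial
    have h2 := Groth.Agent.S13232.result R 𝒢 R 𝒢 p 1 h1 hnt
    rw [supportDim_localizedModule_self p,
      supportDim_localizedModule_self (Ideal.homogeneousCore 𝒢 p).toIdeal] at h2
    have hle : (Ideal.homogeneousCore 𝒢 p).toIdeal ≤ p := Ideal.toIdeal_homogeneousCore_le 𝒢 p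
    have hne : (Ideal.homogeneousCore 𝒢 p).toIdeal ≠ m := by
      intro heq
      apply hh
      have hmp : m ≤ p := heq ▸ hle
      have hpm : p ≤ m := hmax p hp hmp
      have hpq : (Ideal.homogeneousCore 𝒢 p).toIdeal = p :=
        le_antisymm hle (hpm.trans heq.ge)
      exact (Ideal.IsHomogeneous.iff_eq 𝒢 p).2 hpq
    have hlt : (Ideal.homogeneousCore 𝒢 p).toIdeal < m := lt_of_le_of_ne (hcore p hp) hne
    have h3 : (Ideal.homogeneousCore 𝒢 p).toIdeal.height + 1 ≤ m.height :=
      Ideal.height_add_one_le_of_lt_of_isPrime hlt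
    have h4 : ((p.height : ℕ∞) : WithBot ℕ∞) =
        (((Ideal.homogeneousCore 𝒢 p).toIdeal.height + ((1 : ℕ) : ℕ∞) : ℕ∞) : WithBot ℕ∞) := by
      rw [h2, WithBot.coe_add]
      rfl
    have h5 : p.height = (Ideal.homogeneousCore 𝒢 p).toIdeal.height + ((1 : ℕ) : ℕ∞) :=
      WithBot.coe_injective h4
    rw [h5, Nat.cast_one]
    exact h3

include hcore hmax in
theorem ringKrullDim_eq_height_of_core : ringKrullDim R = ((m.height : ℕ∞) : WithBot ℕ∞) := by
  apply le_antisymm
  · rw [ringKrullDim_le_iff_height_le]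
    intro p hp
    haveI := hp
    exact WithBot.coe_le_coe.2 (height_le_of_core 𝒢 m hcore hmax p)
  · exact Ideal.height_le_ringKrullDim_of_isPrime

end Groth.Agent.H85.GrHeight
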