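import Mathlib

/-!
# Quotient gradings by additive subgroups, and the standard `ℤ`-grading of a polynomial ring
(helper85)

* `quotGr 𝒜 I` : the image grading on `A ⧸ I`, by additive subgroups, for any grading `𝒜` of `A`.
* `quotGradedRing 𝒜 I hI : GradedRing (quotGr 𝒜 I)` for a homogeneous ideal `I`.
* facts on the standard `ℤ`-grading `stdZ K N` of `MvPolynomial (Fin N) K`.
-/

set_option autoImplicit false
universe u

namespace Groth.Agent.H85.GrQuot

section Quot

variable {ι : Type*} [DecidableEq ι] [AddMonoid ι] {A : Type*} [CommRing A]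
  {σ : Type*} [SetLike σ A] [AddSubgroupClass σ A] (𝒜 : ι → σ) (I : Ideal A)

/-- The image grading on a quotient ring, by additive subgroups. -/
def quotGr (i : ι) : AddSubgroup (A ⧸ I) :=
  (AddSubgroup.ofClass (𝒜 i)).map (Ideal.Quotient.mk I : A →+* A ⧸ I).toAddMonoidHom

omit [DecidableEq ι] [AddMonoid ι] in
theorem mem_quotGr {i : ι} {q : A ⧸ I} :
    q ∈ quotGr 𝒜 I i ↔ ∃ a ∈ 𝒜 i, Ideal.Quotient.mk I a = q := by
  unfold quotGr
  rw [AddSubgroup.mem_map]
  rfl

omit [DecidableEq ι] [AddMonoid ι] in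
theorem mk_mem_quotGr {i : ι} {a : A} (ha : a ∈ 𝒜 i) : Ideal.Quotient.mk I a ∈ quotGr 𝒜 I i :=
  (mem_quotGr 𝒜 I).2 ⟨a, ha, rfl⟩

variable [GradedRing 𝒜]

/-- The quotient of a graded ring by a homogeneous ideal is graded (by additive subgroups). -/
@[instance_reducible]
noncomputable def quotGradedRing (hI : I.IsHomogeneous 𝒜) : GradedRing (quotGr 𝒜 I) := by
  have hmem : ∀ (i : ι) (x : 𝒜 i), (Ideal.Quotient.mk I : A →+ A ⧸ I) x ∈ quotGr 𝒜 I i :=
    fun i x => mk_mem_quotGr 𝒜 I x.2
  let c : ∀ i, 𝒜 i →+ quotGr 𝒜 I i := fun i =>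
    (((Ideal.Quotient.mk I : A →+ A ⧸ I)).comp (AddSubmonoidClass.subtype (𝒜 i))).codRestrict _
      (hmem i)
  let g : A →+ DirectSum ι (fun i => quotGr 𝒜 I i) :=
    (DirectSum.map c).comp (DirectSum.decomposeAddEquiv 𝒜).toAddMonoidHom
  have hg : (Ideal.Quotient.mk I : A →+ A ⧸ I).ker ≤ g.ker := by
    intro a ha
    rw [AddMonoidHom.mem_ker] at ha ⊢
    have haI : a ∈ I := Ideal.Quotient.eq_zero_iff_mem.mp ha
    refine DFinsupp.ext fun i => Subtype.ext ?_
    show (Ideal.Quotient.mk I) ((DirectSum.decompose 𝒜 a i : A)) = 0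
    exact Ideal.Quotient.eq_zero_iff_mem.mpr (hI i haI)
  have hsurj : Function.Surjective (Ideal.Quotient.mk I : A →+ A ⧸ I) :=
    Ideal.Quotient.mk_surjective
  let D : A ⧸ I →+ DirectSum ι (fun i => quotGr 𝒜 I i) :=
    (Ideal.Quotient.mk I : A →+ A ⧸ I).liftOfSurjective hsurj ⟨g, hg⟩
  have hD : ∀ a : A, D ((Ideal.Quotient.mk I : A →+ A ⧸ I) a) = g a := fun a =>
    AddMonoidHom.liftOfRightInverse_comp_apply _ _ _ ⟨g, hg⟩ a
  have hghom : ∀ (i : ι) (a : A) (ha : a ∈ 𝒜 i), g a =
      DirectSum.of (fun i => quotGr 𝒜 I i) i (c i ⟨a, ha⟩) := by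
    intro i a ha
    show DirectSum.map c (DirectSum.decompose 𝒜 a) = _
    rw [DirectSum.decompose_of_mem 𝒜 ha, DirectSum.map_of]
  exact
    { one_mem := (mem_quotGr 𝒜 I).2
        ⟨1, SetLike.GradedOne.one_mem, map_one (Ideal.Quotient.mk I)⟩
      mul_mem := by
        intro i j x y hx hy
        obtain ⟨a, ha, rfl⟩ := (mem_quotGr 𝒜 I).1 hx
        obtain ⟨b, hb, rfl⟩ := (mem_quotGr 𝒜 I).1 hy
        exact (mem_quotGr 𝒜 I).2
          ⟨a * b, SetLike.GradedMul.mul_mem ha hb, map_mul (Ideal.Quotient.mk I) a b⟩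
      decompose' := D
      left_inv := by
        intro q
        obtain ⟨a, rfl⟩ := hsurj q
        rw [hD]
        induction a using DirectSum.Decomposition.inductionOn 𝒜 with
        | zero => simp
        | homogeneous x =>
          rw [hghom _ x x.2, DirectSum.coeAddMonoidHom_of]
          rfl
        | add x y hx hy => rw [map_add, map_add, hx, hy, map_add]
      right_inv := by
        intro z
        induction z using DirectSum.induction_on with
        | zero => simp
        | of i b =>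
          obtain ⟨b, hb⟩ := b
          obtain ⟨a, ha, rfl⟩ := (mem_quotGr 𝒜 I).1 hb
          rw [DirectSum.coeAddMonoidHom_of]
          show D ((Ideal.Quotient.mk I : A →+ A ⧸ I) a) = _
          rw [hD, hghom i a ha]
          rfl
        | add x y hx hy => rw [map_add, map_add, hx, hy] }

end Quot

section Poly

open MvPolynomial

variable (K : Type u) [Field K] (N : ℕ)

/-- The standard `ℤ`-grading of the polynomial ring (all variables in degree one). -/
noncomputable abbrev stdZ : ℤ → Submodule K (MvPolynomial (Fin N) K) :=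
  MvPolynomial.weightedHomogeneousSubmodule K (fun _ : Fin N => (1 : ℤ))

noncomputable instance stdZ.gradedAlgebra : GradedAlgebra (stdZ K N) :=
  MvPolynomial.weightedGradedAlgebra K (fun _ : Fin N => (1 : ℤ))

variable {K N}

theorem weight_one_int (d : Fin N →₀ ℕ) :
    Finsupp.weight (fun _ : Fin N => (1 : ℤ)) d = ∑ i ∈ d.support, (d i : ℤ) := by
  rw [Finsupp.weight_apply, Finsupp.sum]
  simp

theorem weight_one_nat (d : Fin N →₀ ℕ) :
    Finsupp.weight (1 : Fin N → ℕ) d = ∑ i ∈ d.support, d i := by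
  rw [Finsupp.weight_apply, Finsupp.sum]
  simp

theorem mem_stdZ_of_isHomogeneous {f : MvPolynomial (Fin N) K} {k : ℕ} (hf : f.IsHomogeneous k) :
    f ∈ stdZ K N (k : ℤ) := by
  intro d hd
  have h1 : Finsupp.weight (1 : Fin N → ℕ) d = k := hf hd
  rw [weight_one_int, ← h1, weight_one_nat]
  push_cast
  rfl

theorem constantCoeff_eq_zero_of_mem_stdZ {f : MvPolynomial (Fin N) K} {n : ℤ}
    (hf : f ∈ stdZ K N n) (hn : n ≠ 0) : constantCoeff f = 0 := by
  by_contra h
  have h1 : coeff 0 f ≠ 0 := by rwa [← constantCoeff_eq]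
  have h2 : Finsupp.weight (fun _ : Fin N => (1 : ℤ)) 0 = n := hf h1
  rw [map_zero] at h2
  exact hn h2.symm

theorem eq_C_of_mem_stdZ_zero {f : MvPolynomial (Fin N) K} (hf : f ∈ stdZ K N 0) :
    f = C (constantCoeff f) := by
  ext d
  rw [coeff_C]
  by_cases hd : d = 0
  · subst hd
    rw [if_pos rfl, constantCoeff_eq]
  · rw [if_neg (Ne.symm hd)]
    by_contra hne
    have h0 : Finsupp.weight (fun _ : Fin N => (1 : ℤ)) d = 0 := hf hne
    rw [weight_one_int] at h0
    have h2 := (Finset.sum_eq_zero_iff_of_nonneg (fun j _ => by positivity)).mp h0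
    apply hd
    ext i
    by_cases hi : i ∈ d.support
    · have := h2 i hi
      simpa using this
    · simpa [Finsupp.notMem_support_iff] using hi

/-- An ideal spanned by homogeneous polynomials is homogeneous for the standard `ℤ`-grading. -/
theorem isHomogeneous_stdZ_of_span (I : Ideal (MvPolynomial (Fin N) K))
    (hI : ∃ T : Set (MvPolynomial (Fin N) K),
      (∀ f ∈ T, ∃ k : ℕ, f.IsHomogeneous k) ∧ I = Ideal.span T) :
    I.IsHomogeneous (stdZ K N) := by
  obtain ⟨T, hT, rfl⟩ := hI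
  refine Ideal.homogeneous_span (stdZ K N) T fun f hf => ?_
  obtain ⟨k, hk⟩ := hT f hf
  exact ⟨(k : ℤ), mem_stdZ_of_isHomogeneous hk⟩

/-- A homogeneous element of the quotient by `I` lying in a prime ideal lies in the image of the
irrelevant ideal. -/
theorem homogeneous_mem_irrelevant (I : Ideal (MvPolynomial (Fin N) K))
    (p : Ideal (MvPolynomial (Fin N) K ⧸ I)) [hp : p.IsPrime] {n : ℤ}
    {x : MvPolynomial (Fin N) K ⧸ I} (hx : x ∈ quotGr (stdZ K N) I n) (hxp : x ∈ p) :
    x ∈ (RingHom.ker (MvPolynomial.constantCoeff : MvPolynomial (Fin N) K →+* K)).map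
      (Ideal.Quotient.mk I) := by
  obtain ⟨f, hf, rfl⟩ := (mem_quotGr (stdZ K N) I).1 hx
  by_cases hn : n = 0
  · subst hn
    have hfC := eq_C_of_mem_stdZ_zero hf
    by_cases hc : constantCoeff f = 0
    · rw [hfC, hc, map_zero, map_zero]
      exact zero_mem _
    · exfalso
      apply hp.ne_top
      refine Ideal.eq_top_of_isUnit_mem _ hxp ?_
      rw [hfC]
      have h1 : IsUnit (C (constantCoeff f) : MvPolynomial (Fin N) K) :=
        (IsUnit.mk0 _ hc).map C
      exact h1.map (Ideal.Quotient.mk I)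
  · exact Ideal.mem_map_of_mem _ (by
      rw [RingHom.mem_ker]
      exact constantCoeff_eq_zero_of_mem_stdZ hf hn)

end Poly

end Groth.Agent.H85.GrQuot
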