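import Mathlib
import Groth.Agent.H85.GrQuot

/-!
# From `ℕ`-gradings to `ℤ`-gradings by additive subgroups; connected graded algebras over a field
(helper85)

* `intGr 𝒜 : ℤ → AddSubgroup A` — extension by zero of an `ℕ`-grading, with `GradedRing` instance.
* `isHomogeneous_intGr` — homogeneous ideals stay homogeneous.
* For an `ℕ`-graded `K`-algebra with `𝒜 0 = K`: `le_irrelevant` (proper homogeneous ideals lie in the
  irrelevant ideal), `homogeneousCore_le` (the homogeneous core of any prime of `A ⧸ 𝔞` lies in the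
  image of the irrelevant ideal), `le_map_irrelevant_of_le` (that image is maximal among primes).
-/

set_option autoImplicit false

namespace Groth.Agent.H85.GrIntConv

open DirectSum

section Conv

variable {A : Type*} [CommRing A] {σ : Type*} [SetLike σ A] [AddSubgroupClass σ A] (𝒜 : ℕ → σ)

/-- Extension by zero of an `ℕ`-grading to a `ℤ`-grading by additive subgroups. -/
def intGr (n : ℤ) : AddSubgroup A := if 0 ≤ n then AddSubgroup.ofClass (𝒜 n.toNat) else ⊥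

theorem mem_intGr_natCast {k : ℕ} {a : A} : a ∈ intGr 𝒜 (k : ℤ) ↔ a ∈ 𝒜 k := by
  unfold intGr
  rw [if_pos (Int.natCast_nonneg k), Int.toNat_natCast]
  rfl

theorem eq_zero_of_mem_intGr_neg {n : ℤ} (hn : n < 0) {a : A} (ha : a ∈ intGr 𝒜 n) : a = 0 := by
  unfold intGr at ha
  rw [if_neg (not_le.mpr hn)] at ha
  exact AddSubgroup.mem_bot.1 ha

variable [GradedRing 𝒜]

theorem intGr_mul_mem {i j : ℤ} {x y : A} (hx : x ∈ intGr 𝒜 i) (hy : y ∈ intGr 𝒜 j) :
    x * y ∈ intGr 𝒜 (i + j) := by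
  by_cases hi : i < 0
  · rw [eq_zero_of_mem_intGr_neg 𝒜 hi hx, zero_mul]
    exact zero_mem _
  by_cases hj : j < 0
  · rw [eq_zero_of_mem_intGr_neg 𝒜 hj hy, mul_zero]
    exact zero_mem _
  obtain ⟨a, rfl⟩ := Int.eq_ofNat_of_zero_le (not_lt.mp hi)
  obtain ⟨b, rfl⟩ := Int.eq_ofNat_of_zero_le (not_lt.mp hj)
  rw [mem_intGr_natCast] at hx hy
  rw [← Nat.cast_add, mem_intGr_natCast]
  exact SetLike.GradedMul.mul_mem hx hy

/-- inclusion of the `k`-th piece into the `ℤ`-indexed piece -/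
def incl (k : ℕ) : 𝒜 k →+ intGr 𝒜 (k : ℤ) :=
  (AddSubmonoidClass.subtype (𝒜 k)).codRestrict (intGr 𝒜 (k : ℤ))
    (fun x => (mem_intGr_natCast 𝒜).2 x.2)

/-- the decomposition map for the `ℤ`-grading -/
noncomputable def decomp : A →+ ⨁ n : ℤ, intGr 𝒜 n :=
  (DirectSum.toAddMonoid fun k : ℕ =>
    (DirectSum.of (fun n : ℤ => intGr 𝒜 n) (k : ℤ)).comp (incl 𝒜 k)).comp
    (DirectSum.decomposeAddEquiv 𝒜).toAddMonoidHom

theorem decomp_of_mem {k : ℕ} {a : A} (ha : a ∈ 𝒜 k) :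
    decomp 𝒜 a = DirectSum.of (fun n : ℤ => intGr 𝒜 n) (k : ℤ)
      ⟨a, (mem_intGr_natCast 𝒜).2 ha⟩ := by
  show DirectSum.toAddMonoid _ (DirectSum.decompose 𝒜 a) = _
  rw [DirectSum.decompose_of_mem 𝒜 ha, DirectSum.toAddMonoid_of]
  rfl

noncomputable instance intGradedRing : GradedRing (intGr 𝒜) where
  one_mem := by
    have h : (1 : A) ∈ intGr 𝒜 ((0 : ℕ) : ℤ) :=
      (mem_intGr_natCast 𝒜).2 SetLike.GradedOne.one_mem
    rwa [Nat.cast_zero] at h
  mul_mem := by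
    intro i j x y hx hy
    exact intGr_mul_mem 𝒜 hx hy
  decompose' := decomp 𝒜
  left_inv := by
    intro a
    induction a using DirectSum.Decomposition.inductionOn 𝒜 with
    | zero => simp
    | homogeneous x =>
      rw [decomp_of_mem 𝒜 x.2]
      exact DirectSum.coeAddMonoidHom_of _ _ _
    | add x y hx hy => rw [map_add, map_add, hx, hy]
  right_inv := by
    intro z
    induction z using DirectSum.induction_on with
    | zero => simp
    | of n b =>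
      rw [DirectSum.coeAddMonoidHom_of]
      by_cases hn : 0 ≤ n
      · obtain ⟨k, rfl⟩ := Int.eq_ofNat_of_zero_le hn
        exact decomp_of_mem 𝒜 ((mem_intGr_natCast 𝒜).1 b.2)
      · have hb : (b : A) = 0 := eq_zero_of_mem_intGr_neg 𝒜 (not_le.mp hn) b.2
        have hb' : b = 0 := Subtype.ext hb
        rw [hb', ZeroMemClass.coe_zero, map_zero, map_zero]
    | add x y hx hy => rw [map_add, map_add, hx, hy]

theorem isHomogeneous_intGr {I : Ideal A} (hI : I.IsHomogeneous 𝒜) :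
    I.IsHomogeneous (intGr 𝒜) := by
  obtain ⟨S, rfl⟩ := (Ideal.IsHomogeneous.iff_exists 𝒜 I).1 hI
  refine Ideal.homogeneous_span (intGr 𝒜) _ ?_
  rintro _ ⟨⟨x, k, hx⟩, -, rfl⟩
  exact ⟨(k : ℤ), (mem_intGr_natCast 𝒜).2 hx⟩

end Conv

section Alg

variable {K : Type*} [Field K] {A : Type*} [CommRing A] [Algebra K A]
  (𝒜 : ℕ → Submodule K A) [GradedAlgebra 𝒜]

theorem sub_proj_mem_irrelevant (a : A) :
    a - ((DirectSum.decompose 𝒜 a 0 : 𝒜 0) : A) ∈ (HomogeneousIdeal.irrelevant 𝒜).toIdeal := by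
  change a - ((DirectSum.decompose 𝒜 a 0 : 𝒜 0) : A) ∈ HomogeneousIdeal.irrelevant 𝒜
  rw [HomogeneousIdeal.mem_irrelevant_iff, map_sub, GradedRing.proj_apply, GradedRing.proj_apply,
    DirectSum.decompose_coe, DirectSum.of_eq_same, sub_self]

variable (h0 : ∀ a ∈ 𝒜 0, ∃ c : K, algebraMap K A c = a)
include h0

/-- A proper homogeneous ideal lies in the irrelevant ideal. -/
theorem le_irrelevant (𝔞 : Ideal A) (h𝔞 : 𝔞.IsHomogeneous 𝒜) (hne : 𝔞 ≠ ⊤) :
    𝔞 ≤ (HomogeneousIdeal.irrelevant 𝒜).toIdeal := by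
  intro a ha
  have h1 : ((DirectSum.decompose 𝒜 a 0 : 𝒜 0) : A) ∈ 𝔞 := h𝔞 0 ha
  obtain ⟨c, hc⟩ := h0 _ (DirectSum.decompose 𝒜 a 0).2
  have hc0 : c = 0 := by
    by_contra hne0
    apply hne
    refine Ideal.eq_top_of_isUnit_mem _ h1 ?_
    rw [← hc]
    exact (IsUnit.mk0 c hne0).map (algebraMap K A)
  change a ∈ HomogeneousIdeal.irrelevant 𝒜
  rw [HomogeneousIdeal.mem_irrelevant_iff, GradedRing.proj_apply, ← hc, hc0, map_zero]

/-- A homogeneous element of `A ⧸ 𝔞` lying in a prime ideal lies in the image of the irrelevant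
ideal. -/
theorem homogeneous_mem_map_irrelevant (𝔞 : Ideal A) (p : Ideal (A ⧸ 𝔞)) [hp : p.IsPrime] {n : ℤ}
    {x : A ⧸ 𝔞} (hx : x ∈ GrQuot.quotGr (intGr 𝒜) 𝔞 n) (hxp : x ∈ p) :
    x ∈ (HomogeneousIdeal.irrelevant 𝒜).toIdeal.map (Ideal.Quotient.mk 𝔞) := by
  obtain ⟨a, ha, rfl⟩ := (GrQuot.mem_quotGr (intGr 𝒜) 𝔞).1 hx
  by_cases hn : n < 0
  · rw [eq_zero_of_mem_intGr_neg 𝒜 hn ha, map_zero]
    exact zero_mem _
  · obtain ⟨k, rfl⟩ := Int.eq_ofNat_of_zero_le (not_lt.mp hn)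
    rw [mem_intGr_natCast] at ha
    rcases Nat.eq_zero_or_pos k with hk | hk
    · subst hk
      obtain ⟨c, rfl⟩ := h0 a ha
      by_cases hc : c = 0
      · rw [hc, map_zero, map_zero]
        exact zero_mem _
      · exfalso
        apply hp.ne_top
        refine Ideal.eq_top_of_isUnit_mem _ hxp ?_
        exact ((IsUnit.mk0 c hc).map (algebraMap K A)).map (Ideal.Quotient.mk 𝔞)
    · exact Ideal.mem_map_of_mem _ (HomogeneousIdeal.mem_irrelevant_of_mem 𝒜 hk ha)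

/-- The homogeneous core of a prime of `A ⧸ 𝔞` lies in the image of the irrelevant ideal. -/
theorem homogeneousCore_le (𝔞 : Ideal A) [GradedRing (GrQuot.quotGr (intGr 𝒜) 𝔞)]
    (p : Ideal (A ⧸ 𝔞)) (hp : p.IsPrime) :
    (Ideal.homogeneousCore (GrQuot.quotGr (intGr 𝒜) 𝔞) p).toIdeal ≤
      (HomogeneousIdeal.irrelevant 𝒜).toIdeal.map (Ideal.Quotient.mk 𝔞) := by
  change Ideal.homogeneousCore' (GrQuot.quotGr (intGr 𝒜) 𝔞) p ≤ _
  unfold Ideal.homogeneousCore'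
  rw [Ideal.span_le]
  rintro _ ⟨⟨x, n, hx⟩, hxp, rfl⟩
  exact homogeneous_mem_map_irrelevant 𝒜 h0 𝔞 p hx hxp

/-- The image of the irrelevant ideal is maximal among primes. -/
theorem le_map_irrelevant_of_le (𝔞 : Ideal A) (p : Ideal (A ⧸ 𝔞)) (hp : p.IsPrime)
    (hmp : (HomogeneousIdeal.irrelevant 𝒜).toIdeal.map (Ideal.Quotient.mk 𝔞) ≤ p) :
    p ≤ (HomogeneousIdeal.irrelevant 𝒜).toIdeal.map (Ideal.Quotient.mk 𝔞) := by
  intro x hx
  obtain ⟨a, rfl⟩ := Ideal.Quotient.mk_surjective x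
  have h1 := sub_proj_mem_irrelevant 𝒜 a
  obtain ⟨c, hc⟩ := h0 _ (DirectSum.decompose 𝒜 a 0).2
  have h2 : Ideal.Quotient.mk 𝔞 (a - ((DirectSum.decompose 𝒜 a 0 : 𝒜 0) : A)) ∈ p :=
    hmp (Ideal.mem_map_of_mem _ h1)
  have h3 : Ideal.Quotient.mk 𝔞 ((DirectSum.decompose 𝒜 a 0 : 𝒜 0) : A) ∈ p := by
    have h : Ideal.Quotient.mk 𝔞 ((DirectSum.decompose 𝒜 a 0 : 𝒜 0) : A) =
        Ideal.Quotient.mk 𝔞 a -
          Ideal.Quotient.mk 𝔞 (a - ((DirectSum.decompose 𝒜 a 0 : 𝒜 0) : A)) := by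
      rw [← map_sub, sub_sub_cancel]
    rw [h]
    exact p.sub_mem hx h2
  have hc0 : c = 0 := by
    by_contra hne0
    apply hp.ne_top
    refine Ideal.eq_top_of_isUnit_mem _ h3 ?_
    rw [← hc]
    exact ((IsUnit.mk0 c hne0).map (algebraMap K A)).map (Ideal.Quotient.mk 𝔞)
  have h4 : ((DirectSum.decompose 𝒜 a 0 : 𝒜 0) : A) = 0 := by rw [← hc, hc0, map_zero]
  have h5 : a ∈ (HomogeneousIdeal.irrelevant 𝒜).toIdeal := by
    have h := h1
    rw [h4, sub_zero] at h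
    exact h
  exact Ideal.mem_map_of_mem _ h5

end Alg

end Groth.Agent.H85.GrIntConv
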