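import Mathlib
import Groth.Agent.H85.GrQuot
import Groth.Agent.H85.GrIntConv
import Groth.Agent.H85.GrHeight
import Groth.Agent.H59.Goren4
import Groth.Agent.H71.CMOpen
import Groth.Agent.H71.StalkLoc
import Groth.Agent.H71.GrCoactMain
import Groth.Agent.H29.GenDepth

/-!
# Cohen–Macaulayness of `A ⧸ (I ⊓ J)` at the irrelevant ideal (helper85)

* `isCMLocalRing_map_iff` : for `𝔞 ≤ q`, the local ring `(A ⧸ 𝔞)_{q/𝔞}` is Cohen–Macaulay iff
  `(A ⧸ 𝔞)_q` is a Cohen–Macaulay `A_q`-module.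
* `fMap`, `gMap`, `fg_exact` : the exact sequence `0 → A/(I ⊓ J) → A/I × A/J → A/(I ⊔ J) → 0`.
* `supportDim_le_of_support_subset_union`.
* `key_quot` : for a connected `ℕ`-graded Noetherian `K`-algebra `A` and a homogeneous ideal `𝔞` with
  `A ⧸ 𝔞` Cohen–Macaulay of dimension `r`: depth and dimension of `(A ⧸ 𝔞)_𝔐` are `r`.
* `main` : the statement of S11276.
-/

set_option autoImplicit false
set_option linter.style.haveILetI false
universe u w

namespace Groth.Agent.H85.CMInf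

open Groth.Agent.H29.CM Groth.Agent.H29.GenDepth

section Bridge

variable {A : Type u} [CommRing A] [IsNoetherianRing A]

theorem isCMLocalRing_iff_isCMModule_atPrime (𝔞 : Ideal A) (Pb : Ideal (A ⧸ 𝔞)) [hPb : Pb.IsPrime] :
    LocCoh.IsCohenMacaulayLocalRing (Localization.AtPrime Pb) ↔
      LocCoh.IsCohenMacaulayModule (Localization.AtPrime (Pb.comap (Ideal.Quotient.mk 𝔞)))
        (LocalizedModule (Pb.comap (Ideal.Quotient.mk 𝔞)).primeCompl (A ⧸ 𝔞)) := by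
  obtain ⟨e⟩ := Groth.Agent.H59.Goren4.exists_quot_loc_equiv 𝔞 Pb
  obtain ⟨l⟩ := nonempty_locQuotRingEquiv 𝔞 (Pb.comap (Ideal.Quotient.mk 𝔞))
  haveI : IsLocalRing (Localization.AtPrime (Pb.comap (Ideal.Quotient.mk 𝔞)) ⧸
      𝔞.map (algebraMap A (Localization.AtPrime (Pb.comap (Ideal.Quotient.mk 𝔞))))) :=
    e.symm.isLocalRing
  have h1 : LocCoh.IsCohenMacaulayLocalRing (Localization.AtPrime Pb) ↔
      LocCoh.IsCohenMacaulayLocalRing (Localization.AtPrime (Pb.comap (Ideal.Quotient.mk 𝔞)) ⧸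
        𝔞.map (algebraMap A (Localization.AtPrime (Pb.comap (Ideal.Quotient.mk 𝔞))))) :=
    ⟨fun h => Groth.Agent.H71.StalkLoc.isCM_of_ringEquiv e h,
      fun h => Groth.Agent.H71.StalkLoc.isCM_of_ringEquiv e.symm h⟩
  have h2 := Groth.Agent.H71.CMOpen.isCMLocalRing_iff_isCMModule
    (R := Localization.AtPrime (Pb.comap (Ideal.Quotient.mk 𝔞)))
    (T := Localization.AtPrime (Pb.comap (Ideal.Quotient.mk 𝔞)) ⧸
        𝔞.map (algebraMap A (Localization.AtPrime (Pb.comap (Ideal.Quotient.mk 𝔞)))))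
    (fun y => by
      obtain ⟨x, rfl⟩ := Ideal.Quotient.mk_surjective y
      exact ⟨x, rfl⟩)
  have h3 : LocCoh.IsCohenMacaulayModule (Localization.AtPrime (Pb.comap (Ideal.Quotient.mk 𝔞)))
        (Localization.AtPrime (Pb.comap (Ideal.Quotient.mk 𝔞)) ⧸
          𝔞.map (algebraMap A (Localization.AtPrime (Pb.comap (Ideal.Quotient.mk 𝔞))))) ↔
      LocCoh.IsCohenMacaulayModule (Localization.AtPrime (Pb.comap (Ideal.Quotient.mk 𝔞)))
        (LocalizedModule (Pb.comap (Ideal.Quotient.mk 𝔞)).primeCompl (A ⧸ 𝔞)) :=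
    ⟨fun h => isCM_of_equiv l.symm h, fun h => isCM_of_equiv l h⟩
  exact h1.trans (h2.trans h3)

omit [IsNoetherianRing A] in
theorem comap_map_mk (𝔞 q : Ideal A) (h𝔞q : 𝔞 ≤ q) :
    (q.map (Ideal.Quotient.mk 𝔞)).comap (Ideal.Quotient.mk 𝔞) = q := by
  rw [Ideal.comap_map_of_surjective _ Ideal.Quotient.mk_surjective, ← RingHom.ker_eq_comap_bot,
    Ideal.mk_ker, sup_eq_left.mpr h𝔞q]

theorem isCMLocalRing_map_iff (𝔞 q : Ideal A) [hq : q.IsPrime] (h𝔞q : 𝔞 ≤ q)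
    [hq' : (q.map (Ideal.Quotient.mk 𝔞)).IsPrime] :
    LocCoh.IsCohenMacaulayLocalRing (Localization.AtPrime (q.map (Ideal.Quotient.mk 𝔞))) ↔
      LocCoh.IsCohenMacaulayModule (Localization.AtPrime q)
        (LocalizedModule q.primeCompl (A ⧸ 𝔞)) := by
  have key : ∀ (q' : Ideal A) [q'.IsPrime], q' = q →
      (LocCoh.IsCohenMacaulayModule (Localization.AtPrime q')
          (LocalizedModule q'.primeCompl (A ⧸ 𝔞)) ↔
        LocCoh.IsCohenMacaulayModule (Localization.AtPrime q)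
          (LocalizedModule q.primeCompl (A ⧸ 𝔞))) := by
    intro q' _ h
    subst h
    exact Iff.rfl
  exact (isCMLocalRing_iff_isCMModule_atPrime 𝔞 _).trans (key _ (comap_map_mk 𝔞 q h𝔞q))

end Bridge

section SES

variable {A : Type u} [CommRing A] (I J : Ideal A)

/-- `A/(I ⊓ J) → A/I × A/J`. -/
def fMap : (A ⧸ (I ⊓ J)) →ₗ[A] (A ⧸ I) × (A ⧸ J) :=
  (Submodule.mapQ (I ⊓ J) I LinearMap.id (fun _ hx => hx.1)).prod
    (Submodule.mapQ (I ⊓ J) J LinearMap.id (fun _ hx => hx.2))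

/-- `A/I × A/J → A/(I ⊔ J)`, `(x, y) ↦ x - y`. -/
def gMap : (A ⧸ I) × (A ⧸ J) →ₗ[A] A ⧸ (I ⊔ J) :=
  (Submodule.mapQ I (I ⊔ J) LinearMap.id (fun _ hx => (le_sup_left : I ≤ I ⊔ J) hx)).coprod
    (-(Submodule.mapQ J (I ⊔ J) LinearMap.id (fun _ hx => (le_sup_right : J ≤ I ⊔ J) hx)))

theorem fMap_mk (a : A) :
    fMap I J (Ideal.Quotient.mk (I ⊓ J) a) = (Ideal.Quotient.mk I a, Ideal.Quotient.mk J a) := rfl

theorem gMap_mk (a b : A) :
    gMap I J (Ideal.Quotient.mk I a, Ideal.Quotient.mk J b) =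
      Ideal.Quotient.mk (I ⊔ J) (a - b) := by
  have h : gMap I J (Ideal.Quotient.mk I a, Ideal.Quotient.mk J b) =
      Ideal.Quotient.mk (I ⊔ J) a + -(Ideal.Quotient.mk (I ⊔ J) b) := rfl
  rw [h, map_sub, sub_eq_add_neg]

theorem fMap_injective : Function.Injective (fMap I J) := by
  rw [← LinearMap.ker_eq_bot, LinearMap.ker_eq_bot']
  intro x hx
  obtain ⟨a, rfl⟩ := Ideal.Quotient.mk_surjective x
  have h1 : Ideal.Quotient.mk I a = 0 := congrArg Prod.fst hx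
  have h2 : Ideal.Quotient.mk J a = 0 := congrArg Prod.snd hx
  exact Ideal.Quotient.eq_zero_iff_mem.mpr
    (Submodule.mem_inf.mpr ⟨Ideal.Quotient.eq_zero_iff_mem.mp h1,
      Ideal.Quotient.eq_zero_iff_mem.mp h2⟩)

theorem gMap_surjective : Function.Surjective (gMap I J) := by
  intro y
  obtain ⟨a, rfl⟩ := Ideal.Quotient.mk_surjective y
  exact ⟨(Ideal.Quotient.mk I a, Ideal.Quotient.mk J 0), by rw [gMap_mk, sub_zero]⟩

theorem fg_exact : Function.Exact (fMap I J) (gMap I J) := by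
  rintro ⟨x, y⟩
  obtain ⟨a, rfl⟩ := Ideal.Quotient.mk_surjective x
  obtain ⟨b, rfl⟩ := Ideal.Quotient.mk_surjective y
  rw [gMap_mk, Ideal.Quotient.eq_zero_iff_mem]
  constructor
  · intro h
    obtain ⟨i, hi, j, hj, hij⟩ := Submodule.mem_sup.mp h
    refine ⟨Ideal.Quotient.mk (I ⊓ J) (a - i), ?_⟩
    rw [fMap_mk]
    refine Prod.ext ?_ ?_
    · show Ideal.Quotient.mk I (a - i) = Ideal.Quotient.mk I a
      rw [Ideal.Quotient.eq]
      have h1 : a - i - a = -i := by ring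
      rw [h1]
      exact I.neg_mem hi
    · show Ideal.Quotient.mk J (a - i) = Ideal.Quotient.mk J b
      rw [Ideal.Quotient.eq]
      have h1 : a - i - b = j := by linear_combination (-1 : A) * hij
      rw [h1]
      exact hj
  · rintro ⟨z, hz⟩
    obtain ⟨c, rfl⟩ := Ideal.Quotient.mk_surjective z
    rw [fMap_mk] at hz
    have h1 : Ideal.Quotient.mk I c = Ideal.Quotient.mk I a := congrArg Prod.fst hz
    have h2 : Ideal.Quotient.mk J c = Ideal.Quotient.mk J b := congrArg Prod.snd hz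
    rw [Ideal.Quotient.eq] at h1 h2
    have h3 : a - b = -(c - a) + (c - b) := by ring
    rw [h3]
    exact Submodule.add_mem_sup (I.neg_mem h1) h2

theorem exact_inl_snd (R M N : Type*) [Semiring R] [AddCommMonoid M] [AddCommMonoid N]
    [Module R M] [Module R N] :
    Function.Exact (LinearMap.inl R M N) (LinearMap.snd R M N) := by
  intro y
  constructor
  · intro h
    exact ⟨y.1, Prod.ext rfl h.symm⟩
  · rintro ⟨x, rfl⟩
    rfl

end SES

section SuppDim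

theorem supportDim_le_of_support_subset_union {R : Type u} [CommRing R] {N X Y : Type u}
    [AddCommGroup N] [Module R N] [AddCommGroup X] [Module R X] [AddCommGroup Y] [Module R Y]
    (h : Module.support R N ⊆ Module.support R X ∪ Module.support R Y) (e : WithBot ℕ∞)
    (hX : Module.supportDim R X ≤ e) (hY : Module.supportDim R Y ≤ e) :
    Module.supportDim R N ≤ e := by
  unfold Module.supportDim Order.krullDim
  refine iSup_le fun p => ?_
  have key : ∀ (Z : Type u) [AddCommGroup Z] [Module R Z], Module.supportDim R Z ≤ e →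
      (p.head : PrimeSpectrum R) ∈ Module.support R Z → (p.length : WithBot ℕ∞) ≤ e := by
    intro Z _ _ hZ hmem
    let q : LTSeries (Module.support R Z) :=
      LTSeries.mk p.length
        (fun i => ⟨(p i).1, Module.mem_support_mono (p.head_le i) hmem⟩)
        (fun i j hij => p.strictMono hij)
    exact le_trans (Order.LTSeries.length_le_krullDim q) hZ
  rcases h p.head.2 with hx | hy
  · exact key X hX hx
  · exact key Y hY hy

end SuppDim

section Key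

variable {K : Type w} [Field K] {A : Type u} [CommRing A] [Algebra K A] [IsNoetherianRing A]
  (𝒜 : ℕ → Submodule K A) [GradedAlgebra 𝒜]
  (h0 : ∀ a ∈ 𝒜 0, ∃ c : K, algebraMap K A c = a)

theorem ne_top_of_ringKrullDim_eq {R : Type u} [CommRing R] (𝔞 : Ideal R) (r : ℕ)
    (h : ringKrullDim (R ⧸ 𝔞) = (r : WithBot ℕ∞)) : 𝔞 ≠ ⊤ := by
  rintro rfl
  haveI : Subsingleton (R ⧸ (⊤ : Ideal R)) := Ideal.Quotient.subsingleton_iff.mpr rfl
  rw [ringKrullDim_eq_bot_of_subsingleton] at h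
  have h2 : ((r : ℕ∞) : WithBot ℕ∞) ≠ ⊥ := WithBot.coe_ne_bot
  exact h2 h.symm

include h0 in
theorem key_quot (𝔞 : Ideal A) (h𝔞 : 𝔞.IsHomogeneous 𝒜) (r : ℕ)
    (hcm : LocCoh.IsCohenMacaulayRing (A ⧸ 𝔞)) (hdim : ringKrullDim (A ⧸ 𝔞) = (r : WithBot ℕ∞))
    [h𝔐 : (HomogeneousIdeal.irrelevant 𝒜).toIdeal.IsPrime] :
    𝔞 ≤ (HomogeneousIdeal.irrelevant 𝒜).toIdeal ∧
      Module.supportDim (Localization.AtPrime (HomogeneousIdeal.irrelevant 𝒜).toIdeal)
        (LocalizedModule (HomogeneousIdeal.irrelevant 𝒜).toIdeal.primeCompl (A ⧸ 𝔞)) =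
          (((r : ℕ) : ℕ∞) : WithBot ℕ∞) ∧
      LocCoh.depth (Localization.AtPrime (HomogeneousIdeal.irrelevant 𝒜).toIdeal)
        (LocalizedModule (HomogeneousIdeal.irrelevant 𝒜).toIdeal.primeCompl (A ⧸ 𝔞)) = (r : ℕ∞) := by
  have hne : 𝔞 ≠ ⊤ := ne_top_of_ringKrullDim_eq 𝔞 r hdim
  have h𝔞𝔐 := Groth.Agent.H85.GrIntConv.le_irrelevant 𝒜 h0 𝔞 h𝔞 hne
  haveI hq' : ((HomogeneousIdeal.irrelevant 𝒜).toIdeal.map (Ideal.Quotient.mk 𝔞)).IsPrime :=
    Ideal.map_isPrime_of_surjective Ideal.Quotient.mk_surjective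
      (by rw [Ideal.mk_ker]; exact h𝔞𝔐)
  letI : GradedRing (Groth.Agent.H85.GrQuot.quotGr (Groth.Agent.H85.GrIntConv.intGr 𝒜) 𝔞) :=
    Groth.Agent.H85.GrQuot.quotGradedRing (Groth.Agent.H85.GrIntConv.intGr 𝒜) 𝔞
      (Groth.Agent.H85.GrIntConv.isHomogeneous_intGr 𝒜 h𝔞)
  have hG := Groth.Agent.H85.GrHeight.ringKrullDim_eq_height_of_core
    (Groth.Agent.H85.GrQuot.quotGr (Groth.Agent.H85.GrIntConv.intGr 𝒜) 𝔞)
    ((HomogeneousIdeal.irrelevant 𝒜).toIdeal.map (Ideal.Quotient.mk 𝔞))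
    (fun p hp => Groth.Agent.H85.GrIntConv.homogeneousCore_le 𝒜 h0 𝔞 p hp)
    (fun p hp hmp => Groth.Agent.H85.GrIntConv.le_map_irrelevant_of_le 𝒜 h0 𝔞 p hp hmp)
  have hht : ((HomogeneousIdeal.irrelevant 𝒜).toIdeal.map (Ideal.Quotient.mk 𝔞)).height =
      ((r : ℕ) : ℕ∞) := by
    apply WithBot.coe_injective
    rw [← hG, hdim]
    rfl
  have hsd := Groth.Agent.H71.GrCoactMain.supportDim_atPrime_quotient 𝔞
    (HomogeneousIdeal.irrelevant 𝒜).toIdeal h𝔞𝔐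
  rw [hht] at hsd
  have hcmM : LocCoh.IsCohenMacaulayModule
      (Localization.AtPrime (HomogeneousIdeal.irrelevant 𝒜).toIdeal)
      (LocalizedModule (HomogeneousIdeal.irrelevant 𝒜).toIdeal.primeCompl (A ⧸ 𝔞)) :=
    (isCMLocalRing_map_iff 𝔞 (HomogeneousIdeal.irrelevant 𝒜).toIdeal h𝔞𝔐).1
      (hcm.isCohenMacaulayLocalRing_localization _)
  rw [isCM_def, hsd] at hcmM
  exact ⟨h𝔞𝔐, hsd, (WithBot.coe_injective hcmM).symm⟩

include h0 in
theorem main (I J : Ideal A) (hI : I.IsHomogeneous 𝒜) (hJ : J.IsHomogeneous 𝒜) (e : ℕ)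
    (he : 1 ≤ e)
    (hIcm : LocCoh.IsCohenMacaulayRing (A ⧸ I)) (hJcm : LocCoh.IsCohenMacaulayRing (A ⧸ J))
    (hIJcm : LocCoh.IsCohenMacaulayRing (A ⧸ (I ⊔ J)))
    (hIdim : ringKrullDim (A ⧸ I) = (e : WithBot ℕ∞))
    (hJdim : ringKrullDim (A ⧸ J) = (e : WithBot ℕ∞))
    (hIJdim : ringKrullDim (A ⧸ (I ⊔ J)) = ((e - 1 : ℕ) : WithBot ℕ∞))
    [hm : ((HomogeneousIdeal.irrelevant 𝒜).toIdeal.map (Ideal.Quotient.mk (I ⊓ J))).IsPrime] :
    LocCoh.IsCohenMacaulayLocalRing (Localization.AtPrime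
        ((HomogeneousIdeal.irrelevant 𝒜).toIdeal.map (Ideal.Quotient.mk (I ⊓ J)))) ∧
      ringKrullDim (Localization.AtPrime
        ((HomogeneousIdeal.irrelevant 𝒜).toIdeal.map (Ideal.Quotient.mk (I ⊓ J)))) =
          (e : WithBot ℕ∞) := by
  have hIne : I ≠ ⊤ := ne_top_of_ringKrullDim_eq I e hIdim
  have hI𝔐 : I ≤ (HomogeneousIdeal.irrelevant 𝒜).toIdeal :=
    Groth.Agent.H85.GrIntConv.le_irrelevant 𝒜 h0 I hI hIne
  have hIJ𝔐 : I ⊓ J ≤ (HomogeneousIdeal.irrelevant 𝒜).toIdeal := inf_le_left.trans hI𝔐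
  haveI h𝔐 : (HomogeneousIdeal.irrelevant 𝒜).toIdeal.IsPrime := by
    have h : (((HomogeneousIdeal.irrelevant 𝒜).toIdeal.map (Ideal.Quotient.mk (I ⊓ J))).comap
        (Ideal.Quotient.mk (I ⊓ J))).IsPrime := Ideal.comap_isPrime _ _
    rwa [comap_map_mk (I ⊓ J) _ hIJ𝔐] at h
  obtain ⟨-, hsdI, hdpI⟩ := key_quot 𝒜 h0 I hI e hIcm hIdim
  obtain ⟨-, hsdJ, hdpJ⟩ := key_quot 𝒜 h0 J hJ e hJcm hJdim
  obtain ⟨-, -, hdpS⟩ := key_quot 𝒜 h0 (I ⊔ J) (hI.sup hJ) (e - 1) hIJcm hIJdim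
  -- the depth lemma
  have hd2 : ((e - 1 + 1 : ℕ) : ℕ∞) ≤
      dep (HomogeneousIdeal.irrelevant 𝒜).toIdeal ((A ⧸ I) × (A ⧸ J)) := by
    refine le_dep_mid (LinearMap.inl A (A ⧸ I) (A ⧸ J)) (LinearMap.snd A (A ⧸ I) (A ⧸ J))
      LinearMap.inl_injective (exact_inl_snd A (A ⧸ I) (A ⧸ J)) LinearMap.snd_surjective
      (HomogeneousIdeal.irrelevant 𝒜).toIdeal (e - 1 + 1) ?_ ?_
    · rw [Nat.sub_add_cancel he]
      exact hdpI.ge
    · rw [Nat.sub_add_cancel he]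
      exact hdpJ.ge
  have hd3 : ((e - 1 : ℕ) : ℕ∞) ≤
      dep (HomogeneousIdeal.irrelevant 𝒜).toIdeal (A ⧸ (I ⊔ J)) := hdpS.ge
  have hd1 := le_dep_ker (fMap I J) (gMap I J) (fMap_injective I J) (fg_exact I J)
    (gMap_surjective I J) (HomogeneousIdeal.irrelevant 𝒜).toIdeal (e - 1) hd2 hd3
  rw [Nat.sub_add_cancel he] at hd1
  -- the support
  have hsub : Module.support (Localization.AtPrime (HomogeneousIdeal.irrelevant 𝒜).toIdeal)
        (LocalizedModule (HomogeneousIdeal.irrelevant 𝒜).toIdeal.primeCompl (A ⧸ (I ⊓ J))) ⊆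
      Module.support (Localization.AtPrime (HomogeneousIdeal.irrelevant 𝒜).toIdeal)
        (LocalizedModule (HomogeneousIdeal.irrelevant 𝒜).toIdeal.primeCompl (A ⧸ I)) ∪
      Module.support (Localization.AtPrime (HomogeneousIdeal.irrelevant 𝒜).toIdeal)
        (LocalizedModule (HomogeneousIdeal.irrelevant 𝒜).toIdeal.primeCompl (A ⧸ J)) := by
    have h1 := Module.support_subset_of_injective
      (LocalizedModule.map (HomogeneousIdeal.irrelevant 𝒜).toIdeal.primeCompl (fMap I J))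
      (LocalizedModule.map_injective _ (fMap I J) (fMap_injective I J))
    have h2 := Module.support_of_exact
      (R := Localization.AtPrime (HomogeneousIdeal.irrelevant 𝒜).toIdeal)
      (f := LocalizedModule.map (HomogeneousIdeal.irrelevant 𝒜).toIdeal.primeCompl
        (LinearMap.inl A (A ⧸ I) (A ⧸ J)))
      (g := LocalizedModule.map (HomogeneousIdeal.irrelevant 𝒜).toIdeal.primeCompl
        (LinearMap.snd A (A ⧸ I) (A ⧸ J)))
      (LocalizedModule.map_exact (HomogeneousIdeal.irrelevant 𝒜).toIdeal.primeCompl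
        (LinearMap.inl A (A ⧸ I) (A ⧸ J)) (LinearMap.snd A (A ⧸ I) (A ⧸ J))
        (exact_inl_snd A (A ⧸ I) (A ⧸ J)))
      (LocalizedModule.map_injective _ (LinearMap.inl A (A ⧸ I) (A ⧸ J)) LinearMap.inl_injective)
      (LocalizedModule.map_surjective _ (LinearMap.snd A (A ⧸ I) (A ⧸ J))
        LinearMap.snd_surjective)
    rw [h2] at h1
    exact h1
  have hsd_le := supportDim_le_of_support_subset_union hsub _ hsdI.le hsdJ.le
  have hsupp : (⟨(HomogeneousIdeal.irrelevant 𝒜).toIdeal, h𝔐⟩ : PrimeSpectrum A) ∈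
      Module.support A (A ⧸ (I ⊓ J)) := by
    rw [Module.support_eq_zeroLocus, Ideal.annihilator_quotient]
    exact hIJ𝔐
  haveI hnt : Nontrivial
      (LocalizedModule (HomogeneousIdeal.irrelevant 𝒜).toIdeal.primeCompl (A ⧸ (I ⊓ J))) :=
    Module.mem_support_iff.mp hsupp
  have hle := depth_le_supportDim
    (A := Localization.AtPrime (HomogeneousIdeal.irrelevant 𝒜).toIdeal)
    (M := LocalizedModule (HomogeneousIdeal.irrelevant 𝒜).toIdeal.primeCompl (A ⧸ (I ⊓ J)))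
  have hsd : Module.supportDim (Localization.AtPrime (HomogeneousIdeal.irrelevant 𝒜).toIdeal)
      (LocalizedModule (HomogeneousIdeal.irrelevant 𝒜).toIdeal.primeCompl (A ⧸ (I ⊓ J))) =
        (((e : ℕ) : ℕ∞) : WithBot ℕ∞) :=
    le_antisymm hsd_le (le_trans (WithBot.coe_le_coe.2 hd1) hle)
  have hdp : LocCoh.depth (Localization.AtPrime (HomogeneousIdeal.irrelevant 𝒜).toIdeal)
      (LocalizedModule (HomogeneousIdeal.irrelevant 𝒜).toIdeal.primeCompl (A ⧸ (I ⊓ J))) =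
        ((e : ℕ) : ℕ∞) :=
    le_antisymm (WithBot.coe_le_coe.1 (hle.trans hsd_le)) hd1
  have hcmM : LocCoh.IsCohenMacaulayModule
      (Localization.AtPrime (HomogeneousIdeal.irrelevant 𝒜).toIdeal)
      (LocalizedModule (HomogeneousIdeal.irrelevant 𝒜).toIdeal.primeCompl (A ⧸ (I ⊓ J))) := by
    rw [isCM_def, hsd, hdp]
  refine ⟨(isCMLocalRing_map_iff (I ⊓ J) (HomogeneousIdeal.irrelevant 𝒜).toIdeal hIJ𝔐).2 hcmM, ?_⟩
  rw [IsLocalization.AtPrime.ringKrullDim_eq_height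
    ((HomogeneousIdeal.irrelevant 𝒜).toIdeal.map (Ideal.Quotient.mk (I ⊓ J)))
    (Localization.AtPrime ((HomogeneousIdeal.irrelevant 𝒜).toIdeal.map
      (Ideal.Quotient.mk (I ⊓ J))))]
  have h := Groth.Agent.H71.GrCoactMain.supportDim_atPrime_quotient (I ⊓ J)
    (HomogeneousIdeal.irrelevant 𝒜).toIdeal hIJ𝔐
  rw [← h, hsd]
  rfl

end Key

end Groth.Agent.H85.CMInf
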