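import Mathlib
import Groth.Agent.S13234
import Groth.Agent.S13232
import Groth.Agent.H71.StalkLoc

/-!
# Graded local–global principle for the Cohen–Macaulay property (`ℤ`-graded rings) (helper85)

From the landed rows S13232/S13234 (`dim M_p = dim M_{p*} + ht(p/p*)`, same for depth):
* `isCM_atPrime_of_homogeneousCore` : `R_{p*}` Cohen–Macaulay ⇒ `R_p` Cohen–Macaulay;
* `isCMRing_of_isCM_atPrime` : if every `p*` lies in a prime `m` with `R_m` Cohen–Macaulay, then `R`
  is a Cohen–Macaulay ring.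
-/

set_option autoImplicit false
set_option linter.style.haveILetI false
universe u

namespace Groth.Agent.H85.GrCM

open Groth.Agent.H29.CM Groth.Agent.H29.DepthFinite

/-- Graded local–global principle: for a Noetherian `ℤ`-graded ring, if the localization at the
homogeneous core `p*` of a prime `p` is Cohen–Macaulay, so is the localization at `p`. -/
theorem isCM_atPrime_of_homogeneousCore {R : Type u} [CommRing R] [IsNoetherianRing R]
    (𝒜 : ℤ → AddSubgroup R) [GradedRing 𝒜] (p : Ideal R) [hp : p.IsPrime]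
    [hc : (Ideal.homogeneousCore 𝒜 p).toIdeal.IsPrime]
    (hq : LocCoh.IsCohenMacaulayLocalRing
      (Localization.AtPrime (Ideal.homogeneousCore 𝒜 p).toIdeal)) :
    LocCoh.IsCohenMacaulayLocalRing (Localization.AtPrime p) := by
  have hqp : (Ideal.homogeneousCore 𝒜 p).toIdeal ≤ p := Ideal.toIdeal_homogeneousCore_le 𝒜 p
  haveI hq' : (p.map (Ideal.Quotient.mk (Ideal.homogeneousCore 𝒜 p).toIdeal)).IsPrime :=
    Ideal.map_isPrime_of_surjective Ideal.Quotient.mk_surjective (by rw [Ideal.mk_ker]; exact hqp)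
  have hfin : (p.map (Ideal.Quotient.mk (Ideal.homogeneousCore 𝒜 p).toIdeal)).height ≠ ⊤ :=
    Ideal.height_ne_top_of_isPrime
  obtain ⟨d, hd⟩ := ENat.ne_top_iff_exists.mp hfin
  have hnt : Nontrivial (LocalizedModule p.primeCompl R) :=
    (selfEquiv p.primeCompl).toEquiv.nontrivial
  have h1 := Groth.Agent.S13234.result R 𝒜 R 𝒜 p d hd.symm
  have h2 := Groth.Agent.S13232.result R 𝒜 R 𝒜 p d hd.symm hnt
  haveI := hq
  have hMq : LocCoh.IsCohenMacaulayModule
      (Localization.AtPrime (Ideal.homogeneousCore 𝒜 p).toIdeal)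
      (LocalizedModule (Ideal.homogeneousCore 𝒜 p).toIdeal.primeCompl R) :=
    isCM_of_equiv (selfEquiv (Ideal.homogeneousCore 𝒜 p).toIdeal.primeCompl).symm
      hq.supportDim_eq_depth
  have hMp : LocCoh.IsCohenMacaulayModule (Localization.AtPrime p)
      (LocalizedModule p.primeCompl R) := by
    rw [isCM_def] at hMq ⊢
    rw [h2, h1, hMq, WithBot.coe_add]
    rfl
  exact ⟨isCM_of_equiv (selfEquiv p.primeCompl) hMp⟩

/-- If the homogeneous core of every prime lies in the prime `m` and `R_m` is Cohen–Macaulay, then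
`R` is a Cohen–Macaulay ring. -/
theorem isCMRing_of_isCM_atPrime {R : Type u} [CommRing R] [IsNoetherianRing R]
    (𝒜 : ℤ → AddSubgroup R) [GradedRing 𝒜] (m : Ideal R) [m.IsPrime]
    (hm : ∀ (p : Ideal R), p.IsPrime → (Ideal.homogeneousCore 𝒜 p).toIdeal ≤ m)
    (hCM : LocCoh.IsCohenMacaulayLocalRing (Localization.AtPrime m)) :
    LocCoh.IsCohenMacaulayRing R := by
  refine ⟨fun p hp => ?_⟩
  haveI hc : (Ideal.homogeneousCore 𝒜 p).toIdeal.IsPrime := Ideal.IsPrime.homogeneousCore hp
  exact isCM_atPrime_of_homogeneousCore 𝒜 p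
    (Groth.Agent.H71.StalkLoc.isCM_of_le _ m (hm p hp) hCM)

end Groth.Agent.H85.GrCM
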