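import Mathlib
import Groth.Agent.H85.CMInf
import Groth.Agent.H85.GrCM
import Groth.Agent.H29.CM2
import Groth.Agent.H71.DepthLoc

/-!
# The predicate "`(A ⧸ 𝔞)_m` is Cohen–Macaulay of dimension `r`" (helper85)

For a prime `m` of a Noetherian ring `A`, `Q m 𝔞 r` says that `𝔞 ≤ m` and that the `A_m`-module
`(A ⧸ 𝔞)_m` has depth and dimension `r`.

* `Q_inf` : `Q m I e`, `Q m J e`, `Q m (I ⊔ J) (e - 1)`, `1 ≤ e` imply `Q m (I ⊓ J) e`.
* `Q_of_sup_span` : if `x ∈ m` is a nonzerodivisor on `A ⧸ 𝔞` and `Q m (𝔞 ⊔ (x)) r`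
  then `Q m 𝔞 (r + 1)`.
* `isCMRing_of_Q` : in a connected `ℕ`-graded Noetherian `K`-algebra with irrelevant ideal `𝔐`,
  a homogeneous ideal `𝔞` with `Q 𝔐 𝔞 r` has a Cohen–Macaulay quotient ring `A ⧸ 𝔞`.
* `Q_of_isCM` : the converse (`CMInf.key_quot`).
-/

set_option autoImplicit false
set_option linter.style.haveILetI false
universe u w

namespace Groth.Agent.H85.CMQ

open Groth.Agent.H29.CM Groth.Agent.H29.GenDepth Groth.Agent.H85.CMInf
open Pointwise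

section General

variable {A : Type u} [CommRing A] [IsNoetherianRing A] (m : Ideal A) [hm : m.IsPrime]

/-- `(A ⧸ 𝔞)_m` is a nonzero Cohen–Macaulay `A_m`-module of dimension `r`. -/
def Q (𝔞 : Ideal A) (r : ℕ) : Prop :=
  𝔞 ≤ m ∧
    Module.supportDim (Localization.AtPrime m) (LocalizedModule m.primeCompl (A ⧸ 𝔞)) =
      (((r : ℕ) : ℕ∞) : WithBot ℕ∞) ∧
    LocCoh.depth (Localization.AtPrime m) (LocalizedModule m.primeCompl (A ⧸ 𝔞)) = (r : ℕ∞)

theorem depth_congr {R : Type u} [CommRing R] [IsLocalRing R] {M N : Type u} [AddCommGroup M]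
    [Module R M] [AddCommGroup N] [Module R N] (e : M ≃ₗ[R] N) :
    LocCoh.depth R M = LocCoh.depth R N :=
  idealDepth_congr e

theorem Q_inf (I J : Ideal A) (e : ℕ) (he : 1 ≤ e) (hI : Q m I e) (hJ : Q m J e)
    (hIJ : Q m (I ⊔ J) (e - 1)) : Q m (I ⊓ J) e := by
  obtain ⟨hIm, hsdI, hdpI⟩ := hI
  obtain ⟨-, hsdJ, hdpJ⟩ := hJ
  obtain ⟨-, -, hdpS⟩ := hIJ
  have hIJm : I ⊓ J ≤ m := inf_le_left.trans hIm
  -- the depth lemma
  have hd2 : ((e - 1 + 1 : ℕ) : ℕ∞) ≤ dep m ((A ⧸ I) × (A ⧸ J)) := by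
    refine le_dep_mid (LinearMap.inl A (A ⧸ I) (A ⧸ J)) (LinearMap.snd A (A ⧸ I) (A ⧸ J))
      LinearMap.inl_injective (exact_inl_snd A (A ⧸ I) (A ⧸ J)) LinearMap.snd_surjective
      m (e - 1 + 1) ?_ ?_
    · rw [Nat.sub_add_cancel he]
      exact hdpI.ge
    · rw [Nat.sub_add_cancel he]
      exact hdpJ.ge
  have hd3 : ((e - 1 : ℕ) : ℕ∞) ≤ dep m (A ⧸ (I ⊔ J)) := hdpS.ge
  have hd1 := le_dep_ker (fMap I J) (gMap I J) (fMap_injective I J) (fg_exact I J)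
    (gMap_surjective I J) m (e - 1) hd2 hd3
  rw [Nat.sub_add_cancel he] at hd1
  -- the support
  have hsub : Module.support (Localization.AtPrime m)
        (LocalizedModule m.primeCompl (A ⧸ (I ⊓ J))) ⊆
      Module.support (Localization.AtPrime m) (LocalizedModule m.primeCompl (A ⧸ I)) ∪
      Module.support (Localization.AtPrime m) (LocalizedModule m.primeCompl (A ⧸ J)) := by
    have h1 := Module.support_subset_of_injective
      (LocalizedModule.map m.primeCompl (fMap I J))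
      (LocalizedModule.map_injective _ (fMap I J) (fMap_injective I J))
    have h2 := Module.support_of_exact
      (R := Localization.AtPrime m)
      (f := LocalizedModule.map m.primeCompl (LinearMap.inl A (A ⧸ I) (A ⧸ J)))
      (g := LocalizedModule.map m.primeCompl (LinearMap.snd A (A ⧸ I) (A ⧸ J)))
      (LocalizedModule.map_exact m.primeCompl
        (LinearMap.inl A (A ⧸ I) (A ⧸ J)) (LinearMap.snd A (A ⧸ I) (A ⧸ J))
        (exact_inl_snd A (A ⧸ I) (A ⧸ J)))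
      (LocalizedModule.map_injective _ (LinearMap.inl A (A ⧸ I) (A ⧸ J)) LinearMap.inl_injective)
      (LocalizedModule.map_surjective _ (LinearMap.snd A (A ⧸ I) (A ⧸ J))
        LinearMap.snd_surjective)
    rw [h2] at h1
    exact h1
  have hsd_le := supportDim_le_of_support_subset_union hsub _ hsdI.le hsdJ.le
  have hsupp : (⟨m, hm⟩ : PrimeSpectrum A) ∈ Module.support A (A ⧸ (I ⊓ J)) := by
    rw [Module.support_eq_zeroLocus, Ideal.annihilator_quotient]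
    exact hIJm
  haveI hnt : Nontrivial (LocalizedModule m.primeCompl (A ⧸ (I ⊓ J))) :=
    Module.mem_support_iff.mp hsupp
  have hle := depth_le_supportDim
    (A := Localization.AtPrime m)
    (M := LocalizedModule m.primeCompl (A ⧸ (I ⊓ J)))
  have hsd : Module.supportDim (Localization.AtPrime m)
      (LocalizedModule m.primeCompl (A ⧸ (I ⊓ J))) = (((e : ℕ) : ℕ∞) : WithBot ℕ∞) :=
    le_antisymm hsd_le (le_trans (WithBot.coe_le_coe.2 hd1) hle)
  have hdp : LocCoh.depth (Localization.AtPrime m)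
      (LocalizedModule m.primeCompl (A ⧸ (I ⊓ J))) = ((e : ℕ) : ℕ∞) :=
    le_antisymm (WithBot.coe_le_coe.1 (hle.trans hsd_le)) hd1
  exact ⟨hIJm, hsd, hdp⟩

omit [IsNoetherianRing A] in
theorem smul_top_eq_map (𝔞 : Ideal A) (x : A) :
    (x • (⊤ : Submodule A (A ⧸ 𝔞))) =
      Submodule.map (Submodule.mkQ 𝔞) (𝔞 ⊔ Ideal.span {x}) := by
  ext y
  constructor
  · intro hy
    obtain ⟨b, -, rfl⟩ := (Submodule.mem_smul_pointwise_iff_exists _ _ _).mp hy
    obtain ⟨c, rfl⟩ := Submodule.mkQ_surjective 𝔞 b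
    refine ⟨x * c, Ideal.mem_sup_right (Ideal.mul_mem_right c _ (Ideal.subset_span rfl)), ?_⟩
    rw [← smul_eq_mul, map_smul]
  · rintro ⟨t, ht, rfl⟩
    obtain ⟨i, hi, j, hj, rfl⟩ := Submodule.mem_sup.mp ht
    obtain ⟨c, rfl⟩ := Ideal.mem_span_singleton'.mp hj
    have hi0 : Submodule.mkQ 𝔞 i = 0 := by
      rw [← LinearMap.mem_ker, Submodule.ker_mkQ]
      exact hi
    have h1 : Submodule.mkQ 𝔞 (i + c * x) = x • Submodule.mkQ 𝔞 c := by
      rw [map_add, hi0, zero_add, mul_comm, ← smul_eq_mul, map_smul]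
    rw [h1]
    exact Submodule.smul_mem_pointwise_smul _ _ _ Submodule.mem_top

/-- `(A ⧸ 𝔞) / x (A ⧸ 𝔞) ≃ A ⧸ (𝔞 ⊔ (x))`. -/
noncomputable def quotSMulTopEquiv (𝔞 : Ideal A) (x : A) :
    QuotSMulTop x (A ⧸ 𝔞) ≃ₗ[A] A ⧸ (𝔞 ⊔ Ideal.span {x}) :=
  (Submodule.quotEquivOfEq _ _ (smul_top_eq_map 𝔞 x)).trans
    (Submodule.quotientQuotientEquivQuotient 𝔞 (𝔞 ⊔ Ideal.span {x}) le_sup_left)

theorem Q_of_sup_span (𝔞 : Ideal A) (x : A) (hx : x ∈ m) (hreg : IsSMulRegular (A ⧸ 𝔞) x) (r : ℕ)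
    (h : Q m (𝔞 ⊔ Ideal.span {x}) r) : Q m 𝔞 (r + 1) := by
  obtain ⟨hle, hsd, hdp⟩ := h
  have h𝔞m : 𝔞 ≤ m := le_sup_left.trans hle
  have e1 : LocalizedModule m.primeCompl (QuotSMulTop x (A ⧸ 𝔞)) ≃ₗ[Localization.AtPrime m]
      LocalizedModule m.primeCompl (A ⧸ (𝔞 ⊔ Ideal.span {x})) :=
    IsLocalizedModule.mapEquiv m.primeCompl
      (LocalizedModule.mkLinearMap m.primeCompl (QuotSMulTop x (A ⧸ 𝔞)))
      (LocalizedModule.mkLinearMap m.primeCompl (A ⧸ (𝔞 ⊔ Ideal.span {x})))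
      (Localization.AtPrime m) (quotSMulTopEquiv 𝔞 x)
  have e2 := Groth.Agent.H71.DL.locQuotEquiv (A ⧸ 𝔞) m x
  haveI : Module.Flat A (Localization.AtPrime m) := IsLocalization.flat _ m.primeCompl
  have hreg' : IsSMulRegular (LocalizedModule m.primeCompl (A ⧸ 𝔞))
      (algebraMap A (Localization.AtPrime m) x) :=
    hreg.of_flat_of_isBaseChange (IsLocalizedModule.isBaseChange m.primeCompl
      (Localization.AtPrime m) (LocalizedModule.mkLinearMap m.primeCompl (A ⧸ 𝔞)))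
  have hxm : algebraMap A (Localization.AtPrime m) x ∈
      IsLocalRing.maximalIdeal (Localization.AtPrime m) := algebraMap_mem_maximalIdeal hx
  have hsupp : (⟨m, hm⟩ : PrimeSpectrum A) ∈ Module.support A (A ⧸ 𝔞) := by
    rw [Module.support_eq_zeroLocus, Ideal.annihilator_quotient]
    exact h𝔞m
  haveI hnt : Nontrivial (LocalizedModule m.primeCompl (A ⧸ 𝔞)) :=
    Module.mem_support_iff.mp hsupp
  have h1 := Module.supportDim_quotSMulTop_succ_eq_supportDim (R := Localization.AtPrime m)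
    (M := LocalizedModule m.primeCompl (A ⧸ 𝔞)) hreg' hxm
  have h2 := depth_quotSMulTop_add_one (A := Localization.AtPrime m)
    (M := LocalizedModule m.primeCompl (A ⧸ 𝔞)) hxm hreg'
  have hsd' : Module.supportDim (Localization.AtPrime m)
      (QuotSMulTop (algebraMap A (Localization.AtPrime m) x)
        (LocalizedModule m.primeCompl (A ⧸ 𝔞))) = (((r : ℕ) : ℕ∞) : WithBot ℕ∞) := by
    rw [← Module.supportDim_eq_of_equiv e2, Module.supportDim_eq_of_equiv e1]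
    exact hsd
  have hdp' : LocCoh.depth (Localization.AtPrime m)
      (QuotSMulTop (algebraMap A (Localization.AtPrime m) x)
        (LocalizedModule m.primeCompl (A ⧸ 𝔞))) = (r : ℕ∞) :=
    ((depth_congr e2).symm.trans (depth_congr e1)).trans hdp
  refine ⟨h𝔞m, ?_, ?_⟩
  · rw [← h1, hsd']
    rfl
  · rw [← h2, hdp']
    rfl

end General

section Graded

variable {K : Type w} [Field K] {A : Type u} [CommRing A] [Algebra K A] [IsNoetherianRing A]
  (𝒜 : ℕ → Submodule K A) [GradedAlgebra 𝒜]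
  (h0 : ∀ a ∈ 𝒜 0, ∃ c : K, algebraMap K A c = a)
  [h𝔐 : (HomogeneousIdeal.irrelevant 𝒜).toIdeal.IsPrime]

include h0 in
/-- A homogeneous ideal whose quotient is Cohen–Macaulay of dimension `r` at the irrelevant ideal has
a Cohen–Macaulay quotient ring. -/
theorem isCMRing_of_Q (𝔞 : Ideal A) (h𝔞 : 𝔞.IsHomogeneous 𝒜) (r : ℕ)
    (h : Q (HomogeneousIdeal.irrelevant 𝒜).toIdeal 𝔞 r) : LocCoh.IsCohenMacaulayRing (A ⧸ 𝔞) := by
  obtain ⟨h𝔞𝔐, hsd, hdp⟩ := h
  haveI hq' : ((HomogeneousIdeal.irrelevant 𝒜).toIdeal.map (Ideal.Quotient.mk 𝔞)).IsPrime :=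
    Ideal.map_isPrime_of_surjective Ideal.Quotient.mk_surjective
      (by rw [Ideal.mk_ker]; exact h𝔞𝔐)
  letI : GradedRing (Groth.Agent.H85.GrQuot.quotGr (Groth.Agent.H85.GrIntConv.intGr 𝒜) 𝔞) :=
    Groth.Agent.H85.GrQuot.quotGradedRing (Groth.Agent.H85.GrIntConv.intGr 𝒜) 𝔞
      (Groth.Agent.H85.GrIntConv.isHomogeneous_intGr 𝒜 h𝔞)
  have hcmM : LocCoh.IsCohenMacaulayModule
      (Localization.AtPrime (HomogeneousIdeal.irrelevant 𝒜).toIdeal)
      (LocalizedModule (HomogeneousIdeal.irrelevant 𝒜).toIdeal.primeCompl (A ⧸ 𝔞)) := by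
    rw [isCM_def, hsd, hdp]
  have hloc := (isCMLocalRing_map_iff 𝔞 (HomogeneousIdeal.irrelevant 𝒜).toIdeal h𝔞𝔐).2 hcmM
  exact Groth.Agent.H85.GrCM.isCMRing_of_isCM_atPrime
    (Groth.Agent.H85.GrQuot.quotGr (Groth.Agent.H85.GrIntConv.intGr 𝒜) 𝔞)
    ((HomogeneousIdeal.irrelevant 𝒜).toIdeal.map (Ideal.Quotient.mk 𝔞))
    (fun p hp => Groth.Agent.H85.GrIntConv.homogeneousCore_le 𝒜 h0 𝔞 p hp) hloc

include h0 in
/-- The converse: a homogeneous ideal with Cohen–Macaulay quotient ring of dimension `r`. -/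
theorem Q_of_isCM (𝔞 : Ideal A) (h𝔞 : 𝔞.IsHomogeneous 𝒜) (r : ℕ)
    (hcm : LocCoh.IsCohenMacaulayRing (A ⧸ 𝔞))
    (hdim : ringKrullDim (A ⧸ 𝔞) = (r : WithBot ℕ∞)) :
    Q (HomogeneousIdeal.irrelevant 𝒜).toIdeal 𝔞 r :=
  key_quot 𝒜 h0 𝔞 h𝔞 r hcm hdim

end Graded

end Groth.Agent.H85.CMQ
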