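import Groth.Agent.H85.DPCore

/-!
Conic classes on `DP δ` (`2 ≤ δ ≤ 8`): transitivity of the Weyl group, and normal forms of
conic classes under the stabiliser of `ℓ - e₁`.
-/

set_option autoImplicit false

namespace Groth.Agent.H85.DP

open W4c3severiratdp

/-- simple roots: adjacent transposition roots, then the Cremona root -/
def srL : ℕ → List (List ℤ)
  | 2 => [[0, -1, 1]]
  | 3 => [[0, -1, 1, 0],
      [0, 0, -1, 1],
      [1, 1, 1, 1]]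
  | 4 => [[0, -1, 1, 0, 0],
      [0, 0, -1, 1, 0],
      [0, 0, 0, -1, 1],
      [1, 1, 1, 1, 0]]
  | 5 => [[0, -1, 1, 0, 0, 0],
      [0, 0, -1, 1, 0, 0],
      [0, 0, 0, -1, 1, 0],
      [0, 0, 0, 0, -1, 1],
      [1, 1, 1, 1, 0, 0]]
  | 6 => [[0, -1, 1, 0, 0, 0, 0],
      [0, 0, -1, 1, 0, 0, 0],
      [0, 0, 0, -1, 1, 0, 0],
      [0, 0, 0, 0, -1, 1, 0],
      [0, 0, 0, 0, 0, -1, 1],
      [1, 1, 1, 1, 0, 0, 0]]
  | 7 => [[0, -1, 1, 0, 0, 0, 0, 0],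
      [0, 0, -1, 1, 0, 0, 0, 0],
      [0, 0, 0, -1, 1, 0, 0, 0],
      [0, 0, 0, 0, -1, 1, 0, 0],
      [0, 0, 0, 0, 0, -1, 1, 0],
      [0, 0, 0, 0, 0, 0, -1, 1],
      [1, 1, 1, 1, 0, 0, 0, 0]]
  | 8 => [[0, -1, 1, 0, 0, 0, 0, 0, 0],
      [0, 0, -1, 1, 0, 0, 0, 0, 0],
      [0, 0, 0, -1, 1, 0, 0, 0, 0],
      [0, 0, 0, 0, -1, 1, 0, 0, 0],
      [0, 0, 0, 0, 0, -1, 1, 0, 0],
      [0, 0, 0, 0, 0, 0, -1, 1, 0],
      [0, 0, 0, 0, 0, 0, 0, -1, 1],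
      [1, 1, 1, 1, 0, 0, 0, 0, 0]]
  | _ => []

/-- all moves allowed -/
def mask1 (δ : ℕ) : List Bool := List.replicate δ true

/-- the moves fixing `ℓ - e₁` -/
def mask2 (δ : ℕ) : List Bool := false :: List.replicate (δ - 1) true

/-- the conic class `ℓ - e₁` -/
def Q₀ (δ : ℕ) : DP δ := fun x => if x.val ≤ 1 then 1 else 0

/-- its coordinate list -/
def Q0L (δ : ℕ) : List ℤ := 1 :: 1 :: List.replicate (δ - 1) 0

/-- normal forms (for `δ = 8`) of conic classes `B` with `B·(ℓ - e₁) = k` under the stabiliser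
of `ℓ - e₁` -/
def nf8 (k : ℤ) : List ℤ :=
  if k = 0 then [1, 1, 0, 0, 0, 0, 0, 0, 0]
  else if k = 1 then [1, 0, 1, 0, 0, 0, 0, 0, 0]
  else if k = 2 then [2, 0, 1, 1, 1, 1, 0, 0, 0]
  else if k = 3 then [3, 0, 2, 1, 1, 1, 1, 1, 0]
  else if k = 4 then [4, 0, 2, 2, 2, 1, 1, 1, 1]
  else if k = 5 then [5, 0, 2, 2, 2, 2, 2, 2, 1]
  else if k = 6 then [7, 1, 3, 3, 3, 3, 2, 2, 2]
  else if k = 7 then [8, 1, 3, 3, 3, 3, 3, 3, 3]
  else if k = 8 then [11, 3, 4, 4, 4, 4, 4, 4, 4]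
  else []

/-- the second normal form for `δ = 8`, `k = 4` -/
def nf4' : List ℤ := [5, 1, 2, 2, 2, 2, 2, 2, 0]

/-- normal forms for general `δ` -/
def nfL (δ : ℕ) (k : ℤ) : List ℤ :=
  if δ = 7 ∧ k = 4 then nf4'.take 8 else (nf8 k).take (δ + 1)

/-- fuel for the descent -/
def fuel : ℕ := 130

/-- stage-1 check: the descent ends at `ℓ - e₁` -/
def P1 (δ : ℕ) (l : List ℤ) : Bool :=
  decide (descendL (srL δ) (mask1 δ) (pick δ (mask1 δ)) fuel l = Q0L δ)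

/-- stage-2 check: the descent (fixing `ℓ - e₁`) ends at the normal form -/
def P2 (δ : ℕ) (l : List ℤ) : Bool :=
  decide (descendL (srL δ) (mask2 δ) (pick δ (mask2 δ)) fuel l = nfL δ (formL (Q0L δ) l) ∨
    (δ = 8 ∧ formL (Q0L δ) l = 4 ∧
      descendL (srL δ) (mask2 δ) (pick δ (mask2 δ)) fuel l = nf4'))

/-- all the computational facts for one `δ` -/
abbrev ConicFacts (δ : ℕ) : Prop :=
  RootsOK δ (srL δ) (mask1 δ) ∧ RootsOK δ (srL δ) (mask2 δ) ∧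
    OrthOK (srL δ) (mask2 δ) (Q0L δ) ∧ toL (Q₀ δ) = Q0L δ ∧
    conicAllS δ 0 (P1 δ) = true ∧ conicAllS δ 1 (P2 δ) = true

theorem conicFacts_ok (δ : ℕ) (h2 : 2 ≤ δ) (h8 : δ ≤ 8) : ConicFacts δ := by
  interval_cases δ <;> decide +kernel

theorem tailConst_Q₀ (δ : ℕ) : TailConst 1 (Q₀ δ) := by
  intro i j hi hj
  have h1 : ¬ (i.succ.val ≤ 1) := by rw [Fin.val_succ]; omega
  have h2 : ¬ (j.succ.val ≤ 1) := by rw [Fin.val_succ]; omega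
  simp only [Q₀, if_neg h1, if_neg h2]

/-- the Weyl group is transitive on conic classes -/
theorem conic_stage1 {δ : ℕ} (h8 : δ ≤ 8) (hf : ConicFacts δ) (v : DP δ) (hv : IsConic v) :
    ∃ g : DP δ ≃ₗ[ℤ] DP δ, IsWeyl g ∧ g v = Q₀ δ := by
  obtain ⟨hr1, -, -, hQ, hs1, -⟩ := hf
  obtain ⟨gs, hgs, -, hsorted⟩ := exists_sort 0 v
  have hv' : IsConic (gs v) := isConic_map hgs hv
  have hP := conicAllS_spec h8 0 _ hs1 (gs v) hv' hsorted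
  obtain ⟨gd, hgd, -, hd⟩ :=
    descend_spec (srL δ) (mask1 δ) (pick δ (mask1 δ)) hr1 fuel (gs v)
  have hP' : descendL (srL δ) (mask1 δ) (pick δ (mask1 δ)) fuel (toL (gs v)) = Q0L δ :=
    of_decide_eq_true hP
  refine ⟨gs.trans gd, isWeyl_trans hgs hgd, ?_⟩
  show gd (gs v) = Q₀ δ
  apply toL_injective
  rw [hd, hP', hQ]

/-- normal forms of conic classes under the stabiliser of `ℓ - e₁` -/
theorem conic_stage2 {δ : ℕ} (h8 : δ ≤ 8) (hf : ConicFacts δ) (B : DP δ) (hB : IsConic B) :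
    ∃ g : DP δ ≃ₗ[ℤ] DP δ, IsWeyl g ∧ g (Q₀ δ) = Q₀ δ ∧
      (toL (g B) = nfL δ (form (Q₀ δ) B) ∨
        (δ = 8 ∧ form (Q₀ δ) B = 4 ∧ toL (g B) = nf4')) := by
  obtain ⟨-, hr2, horth, hQ, -, hs2⟩ := hf
  obtain ⟨gs, hgs, hfixs, hsorted⟩ := exists_sort 1 B
  have hQs : gs (Q₀ δ) = Q₀ δ := hfixs _ (tailConst_Q₀ δ)
  have hB' : IsConic (gs B) := isConic_map hgs hB
  have hk : form (Q₀ δ) (gs B) = form (Q₀ δ) B := by
    have h := hgs.1 (Q₀ δ) B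
    rw [hQs] at h
    exact h
  have hP := conicAllS_spec h8 1 _ hs2 (gs B) hB' hsorted
  obtain ⟨gd, hgd, hfixd, hd⟩ :=
    descend_spec (srL δ) (mask2 δ) (pick δ (mask2 δ)) hr2 fuel (gs B)
  have hQd : gd (Q₀ δ) = Q₀ δ := hfixd _ (by rw [hQ]; exact horth)
  have hP' : descendL (srL δ) (mask2 δ) (pick δ (mask2 δ)) fuel (toL (gs B)) =
        nfL δ (formL (Q0L δ) (toL (gs B))) ∨
      (δ = 8 ∧ formL (Q0L δ) (toL (gs B)) = 4 ∧
        descendL (srL δ) (mask2 δ) (pick δ (mask2 δ)) fuel (toL (gs B)) = nf4') :=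
    of_decide_eq_true hP
  rw [← hd, ← hQ, formL_toL, hk] at hP'
  refine ⟨gs.trans gd, isWeyl_trans hgs hgd, ?_, hP'⟩
  show gd (gs (Q₀ δ)) = Q₀ δ
  rw [hQs, hQd]

end Groth.Agent.H85.DP
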