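import Mathlib
import Groth.Prelude.Def_W4c3severiratdpLat

/-!
Generic machinery for Weyl-group orbit statements on the lattices `DP δ`
(blow-up of the plane at `δ` points): reflections, closure of `IsWeyl`, list-based verified
descent along reflections, abstract sorting by transposition reflections and a verified pruned
search over (partially sorted) integer vectors with prescribed sum and sum of squares.
-/

set_option autoImplicit false

namespace Groth.Agent.H85.DP

open W4c3severiratdp

variable {δ : ℕ}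

/-! ### the form is symmetric bilinear -/

theorem form_comm (v w : DP δ) : form v w = form w v := by
  unfold form
  rw [mul_comm (v 0)]
  congr 1
  exact Finset.sum_congr rfl fun i _ => mul_comm _ _

theorem form_add_left (u v w : DP δ) : form (u + v) w = form u w + form v w := by
  simp only [form, Pi.add_apply, add_mul, Finset.sum_add_distrib]
  ring

theorem form_smul_left (c : ℤ) (v w : DP δ) : form (c • v) w = c * form v w := by
  simp only [form, Pi.smul_apply, smul_eq_mul, mul_assoc, ← Finset.mul_sum]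
  ring

theorem form_add_right (u v w : DP δ) : form u (v + w) = form u v + form u w := by
  rw [form_comm, form_add_left, form_comm v, form_comm w]

theorem form_smul_right (c : ℤ) (v w : DP δ) : form v (c • w) = c * form v w := by
  rw [form_comm, form_smul_left, form_comm]

theorem form_neg_left (v w : DP δ) : form (-v) w = -form v w := by
  have := form_smul_left (-1) v w
  simpa using this

theorem form_sub_left (u v w : DP δ) : form (u - v) w = form u w - form v w := by
  rw [sub_eq_add_neg, form_add_left, form_neg_left, sub_eq_add_neg]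

theorem form_sub_right (u v w : DP δ) : form u (v - w) = form u v - form u w := by
  rw [form_comm, form_sub_left, form_comm v, form_comm w]

/-! ### reflections -/

/-- the reflection `v ↦ v + (v·α) α` as a linear map -/
def reflLin (α : DP δ) : DP δ →ₗ[ℤ] DP δ where
  toFun v := v + form v α • α
  map_add' u v := by
    rw [form_add_left, add_smul]
    abel
  map_smul' c v := by
    rw [form_smul_left, RingHom.id_apply, smul_add, mul_smul]

theorem reflLin_apply (α v : DP δ) : reflLin α v = v + form v α • α := rfl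

theorem refl_invol (α : DP δ) (hα : form α α = -2) : Function.Involutive (reflLin α) := by
  intro v
  rw [reflLin_apply, reflLin_apply, form_add_left, form_smul_left, hα]
  have : form v α + form v α * -2 = -form v α := by ring
  rw [this, neg_smul]
  abel

/-- the reflection in a root as a linear equivalence -/
def reflEquiv (α : DP δ) (hα : form α α = -2) : DP δ ≃ₗ[ℤ] DP δ :=
  LinearEquiv.ofInvolutive (reflLin α) (refl_invol α hα)

theorem reflEquiv_apply (α : DP δ) (hα : form α α = -2) (v : DP δ) :
    reflEquiv α hα v = v + form v α • α := rfl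

theorem isWeyl_refl (α : DP δ) (hα : form α α = -2) (hK : form (canon δ) α = 0) :
    IsWeyl (reflEquiv α hα) := by
  constructor
  · intro v w
    rw [reflEquiv_apply, reflEquiv_apply, form_add_left, form_add_right, form_add_right,
      form_smul_left, form_smul_left, form_smul_right, form_smul_right, hα, form_comm α w]
    ring
  · rw [reflEquiv_apply, hK, zero_smul, add_zero]

theorem isWeyl_id : IsWeyl (LinearEquiv.refl ℤ (DP δ)) := ⟨fun _ _ => rfl, rfl⟩

theorem isWeyl_trans {g h : DP δ ≃ₗ[ℤ] DP δ} (hg : IsWeyl g) (hh : IsWeyl h) :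
    IsWeyl (g.trans h) := by
  refine ⟨fun v w => ?_, ?_⟩
  · show form (h (g v)) (h (g w)) = form v w
    rw [hh.1, hg.1]
  · show h (g (canon δ)) = canon δ
    rw [hg.2, hh.2]

theorem isWeyl_symm {g : DP δ ≃ₗ[ℤ] DP δ} (hg : IsWeyl g) : IsWeyl g.symm := by
  refine ⟨fun v w => ?_, ?_⟩
  · have := hg.1 (g.symm v) (g.symm w)
    simp only [LinearEquiv.apply_symm_apply] at this
    exact this.symm
  · have := congrArg g.symm hg.2
    rw [LinearEquiv.symm_apply_apply] at this
    exact this.symm

theorem form_canon_map {g : DP δ ≃ₗ[ℤ] DP δ} (hg : IsWeyl g) (v : DP δ) :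
    form (canon δ) (g v) = form (canon δ) v := by
  have h : form (canon δ) (g v) = form (g (canon δ)) (g v) := by rw [hg.2]
  rw [h, hg.1]

theorem isConic_map {g : DP δ ≃ₗ[ℤ] DP δ} (hg : IsWeyl g) {v : DP δ} (hv : IsConic v) :
    IsConic (g v) :=
  ⟨by rw [hg.1]; exact hv.1, by rw [form_canon_map hg]; exact hv.2⟩

theorem isExc_map {g : DP δ ≃ₗ[ℤ] DP δ} (hg : IsWeyl g) {v : DP δ} (hv : IsExc v) :
    IsExc (g v) :=
  ⟨by rw [hg.1]; exact hv.1, by rw [form_canon_map hg]; exact hv.2⟩

/-! ### lists -/

/-- dot product of two lists -/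
def dotL : List ℤ → List ℤ → ℤ
  | x :: xs, y :: ys => x * y + dotL xs ys
  | _, _ => 0

/-- the intersection form on lists `[a, b₁, …]` -/
def formL : List ℤ → List ℤ → ℤ
  | a :: bs, a' :: bs' => a * a' - dotL bs bs'
  | _, _ => 0

/-- `l + c • α` on lists -/
def axpyL (c : ℤ) : List ℤ → List ℤ → List ℤ
  | x :: xs, y :: ys => (x + c * y) :: axpyL c xs ys
  | _, _ => []

/-- a lattice vector as a list -/
def toL (v : DP δ) : List ℤ := List.ofFn v

/-- a list as a lattice vector -/
def ofL (l : List ℤ) : DP δ := fun i => l.getD i.val 0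

theorem dotL_ofFn : ∀ (n : ℕ) (f g : Fin n → ℤ),
    dotL (List.ofFn f) (List.ofFn g) = ∑ i, f i * g i
  | 0, f, g => by simp [dotL]
  | n + 1, f, g => by
    rw [List.ofFn_succ, List.ofFn_succ, dotL, dotL_ofFn n, Fin.sum_univ_succ]

theorem axpyL_ofFn (c : ℤ) : ∀ (n : ℕ) (f g : Fin n → ℤ),
    axpyL c (List.ofFn f) (List.ofFn g) = List.ofFn (fun i => f i + c * g i)
  | 0, f, g => by simp [axpyL]
  | n + 1, f, g => by
    rw [List.ofFn_succ, List.ofFn_succ, axpyL, axpyL_ofFn c n, List.ofFn_succ]

theorem formL_toL (v w : DP δ) : formL (toL v) (toL w) = form v w := by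
  unfold toL form
  rw [List.ofFn_succ, List.ofFn_succ, formL, dotL_ofFn]

theorem axpyL_toL (c : ℤ) (v α : DP δ) : axpyL c (toL v) (toL α) = toL (v + c • α) := by
  unfold toL
  rw [axpyL_ofFn]
  rfl

theorem toL_injective : Function.Injective (toL : DP δ → List ℤ) := List.ofFn_injective

theorem toL_ofL (l : List ℤ) (h : l.length = δ + 1) : toL (ofL l : DP δ) = l := by
  apply List.ext_getElem
  · simp [toL, h]
  · intro i h1 h2
    have h3 : i < δ + 1 := h ▸ h2
    have : (toL (ofL l : DP δ))[i] = (ofL l : DP δ) ⟨i, h3⟩ := by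
      simp only [toL, List.getElem_ofFn]
    rw [this]
    exact List.getD_eq_getElem _ _ h2

/-! ### verified descent along reflections -/

/-- the reflection root (if any) to apply at `l` -/
def step? (sr : List (List ℤ)) (mask : List Bool) (pk : List ℤ → Option ℕ) (l : List ℤ) :
    Option (List ℤ) :=
  match pk l with
  | none => none
  | some i => if mask.getD i false = true then sr[i]? else none

theorem step?_some {sr : List (List ℤ)} {mask : List Bool} {pk : List ℤ → Option ℕ}
    {l α : List ℤ} (h : step? sr mask pk l = some α) :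
    ∃ i, i < sr.length ∧ mask.getD i false = true ∧ sr.getD i [] = α := by
  unfold step? at h
  split at h
  · exact absurd h (by simp)
  · rename_i i _
    by_cases hm : mask.getD i false = true
    · rw [if_pos hm] at h
      obtain ⟨hi, hα⟩ := List.getElem?_eq_some_iff.mp h
      refine ⟨i, hi, hm, ?_⟩
      rw [List.getD_eq_getElem?_getD, h]
      rfl
    · rw [if_neg hm] at h
      exact absurd h (by simp)

/-- iterate reflections chosen by `pk` (an arbitrary, untrusted strategy) -/
def descendL (sr : List (List ℤ)) (mask : List Bool) (pk : List ℤ → Option ℕ) :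
    ℕ → List ℤ → List ℤ
  | 0, l => l
  | n + 1, l =>
    match step? sr mask pk l with
    | none => l
    | some α => descendL sr mask pk n (axpyL (formL l α) l α)

theorem descendL_none {sr : List (List ℤ)} {mask : List Bool} {pk : List ℤ → Option ℕ}
    {l : List ℤ} (n : ℕ) (h : step? sr mask pk l = none) :
    descendL sr mask pk (n + 1) l = l := by
  simp only [descendL, h]

theorem descendL_some {sr : List (List ℤ)} {mask : List Bool} {pk : List ℤ → Option ℕ}
    {l α : List ℤ} (n : ℕ) (h : step? sr mask pk l = some α) :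
    descendL sr mask pk (n + 1) l = descendL sr mask pk n (axpyL (formL l α) l α) := by
  simp only [descendL, h]

/-- a list is (the coordinate list of) a root -/
abbrev RootOK (δ : ℕ) (α : List ℤ) : Prop :=
  α.length = δ + 1 ∧ formL α α = -2 ∧ formL (toL (canon δ)) α = 0

/-- all roots allowed by the mask are roots -/
abbrev RootsOK (δ : ℕ) (sr : List (List ℤ)) (mask : List Bool) : Prop :=
  ∀ i, i < sr.length → mask.getD i false = true → RootOK δ (sr.getD i [])

/-- `f` is orthogonal to all roots allowed by the mask -/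
abbrev OrthOK (sr : List (List ℤ)) (mask : List Bool) (f : List ℤ) : Prop :=
  ∀ i, i < sr.length → mask.getD i false = true → formL f (sr.getD i []) = 0

theorem descend_spec (sr : List (List ℤ)) (mask : List Bool) (pk : List ℤ → Option ℕ)
    (hroot : RootsOK δ sr mask) :
    ∀ (n : ℕ) (v : DP δ), ∃ g : DP δ ≃ₗ[ℤ] DP δ, IsWeyl g ∧
      (∀ u : DP δ, OrthOK sr mask (toL u) → g u = u) ∧
      toL (g v) = descendL sr mask pk n (toL v) := by
  intro n
  induction n with
  | zero =>
    intro v
    exact ⟨LinearEquiv.refl ℤ _, isWeyl_id, fun _ _ => rfl, rfl⟩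
  | succ n ih =>
    intro v
    cases hs : step? sr mask pk (toL v) with
    | none =>
      refine ⟨LinearEquiv.refl ℤ _, isWeyl_id, fun _ _ => rfl, ?_⟩
      rw [descendL_none n hs]
      rfl
    | some α =>
      obtain ⟨i, hi, hm, hα⟩ := step?_some hs
      obtain ⟨hlen, hsq, hK⟩ := hroot i hi hm
      rw [hα] at hlen hsq hK
      have hβ : toL (ofL α : DP δ) = α := toL_ofL _ hlen
      have hβ2 : form (ofL α : DP δ) (ofL α) = -2 := by
        rw [← formL_toL, hβ]
        exact hsq
      have hβK : form (canon δ) (ofL α : DP δ) = 0 := by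
        rw [← formL_toL, hβ]
        exact hK
      obtain ⟨g₂, hg₂, hfix₂, hv₂⟩ := ih (reflEquiv (ofL α) hβ2 v)
      refine ⟨(reflEquiv (ofL α) hβ2).trans g₂, isWeyl_trans (isWeyl_refl _ hβ2 hβK) hg₂, ?_, ?_⟩
      · intro u hu
        show g₂ (reflEquiv (ofL α) hβ2 u) = u
        have h0 : form u (ofL α : DP δ) = 0 := by
          rw [← formL_toL, hβ, ← hα]
          exact hu i hi hm
        have : reflEquiv (ofL α) hβ2 u = u := by
          rw [reflEquiv_apply, h0, zero_smul, add_zero]
        rw [this, hfix₂ u hu]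
      · show toL (g₂ (reflEquiv (ofL α) hβ2 v)) = _
        rw [hv₂, reflEquiv_apply, ← axpyL_toL, ← formL_toL, hβ, descendL_some n hs]

/-! ### transposition roots and abstract sorting -/

/-- the root `e_i - e_j` -/
def swapRoot (i j : Fin δ) : DP δ :=
  fun x => if x = j.succ then 1 else if x = i.succ then -1 else 0

theorem swapRoot_i {i j : Fin δ} (h : i ≠ j) : swapRoot i j i.succ = -1 := by
  simp [swapRoot, h]

theorem swapRoot_j (i j : Fin δ) : swapRoot i j j.succ = 1 := by
  simp [swapRoot]

theorem swapRoot_k {i j k : Fin δ} (hi : k ≠ i) (hj : k ≠ j) : swapRoot i j k.succ = 0 := by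
  simp [swapRoot, hi, hj]

theorem swapRoot_zero (i j : Fin δ) : swapRoot i j 0 = 0 := by
  have h1 : (0 : Fin (δ + 1)) ≠ j.succ := (Fin.succ_ne_zero j).symm
  have h2 : (0 : Fin (δ + 1)) ≠ i.succ := (Fin.succ_ne_zero i).symm
  simp [swapRoot, h1, h2]

theorem form_swapRoot (v : DP δ) {i j : Fin δ} (hij : i ≠ j) :
    form v (swapRoot i j) = v i.succ - v j.succ := by
  have key : ∀ k : Fin δ, v k.succ * swapRoot i j k.succ =
      (if k = j then v k.succ else 0) - (if k = i then v k.succ else 0) := by
    intro k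
    by_cases hkj : k = j
    · rw [hkj, swapRoot_j, if_pos rfl, if_neg (Ne.symm hij)]
      ring
    · by_cases hki : k = i
      · rw [if_neg hkj, hki, swapRoot_i hij, if_pos rfl]
        ring
      · rw [swapRoot_k hki hkj, if_neg hkj, if_neg hki]
        ring
  unfold form
  rw [swapRoot_zero, Finset.sum_congr rfl (fun k _ => key k), Finset.sum_sub_distrib,
    Finset.sum_ite_eq', Finset.sum_ite_eq']
  simp

theorem form_swapRoot_self {i j : Fin δ} (hij : i ≠ j) :
    form (swapRoot i j) (swapRoot i j) = -2 := by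
  rw [form_swapRoot _ hij, swapRoot_i hij, swapRoot_j]
  norm_num

theorem canon_succ (i : Fin δ) : canon δ i.succ = -1 := by
  simp [canon]

theorem form_canon_swapRoot {i j : Fin δ} (hij : i ≠ j) :
    form (canon δ) (swapRoot i j) = 0 := by
  rw [form_swapRoot _ hij, canon_succ, canon_succ]
  norm_num

/-- the tail (indices `≥ m`) is weakly decreasing -/
def TailSorted (m : ℕ) (v : DP δ) : Prop :=
  ∀ i j : Fin δ, m ≤ i.val → i ≤ j → v j.succ ≤ v i.succ

/-- the tail (indices `≥ m`) is constant -/
def TailConst (m : ℕ) (u : DP δ) : Prop :=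
  ∀ i j : Fin δ, m ≤ i.val → m ≤ j.val → u i.succ = u j.succ

/-- potential decreasing under transposition of an inversion -/
def mu (v : DP δ) : ℤ := ∑ k : Fin δ, (v k.succ + (k.val : ℤ)) ^ 2

theorem exists_sort (m : ℕ) : ∀ v : DP δ, ∃ g : DP δ ≃ₗ[ℤ] DP δ, IsWeyl g ∧
    (∀ u : DP δ, TailConst m u → g u = u) ∧ TailSorted m (g v) := by
  intro v
  induction h : (mu v).toNat using Nat.strong_induction_on generalizing v with
  | _ n ih =>
    by_cases hs : TailSorted m v
    · exact ⟨LinearEquiv.refl ℤ _, isWeyl_id, fun _ _ => rfl, hs⟩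
    · unfold TailSorted at hs
      push Not at hs
      obtain ⟨i, j, hmi, hij, hlt⟩ := hs
      have hne : i ≠ j := by
        rintro rfl
        exact lt_irrefl _ hlt
      have hij' : i.val < j.val := lt_of_le_of_ne (Fin.le_def.mp hij) (fun h => hne (Fin.ext h))
      have h2 := form_swapRoot_self hne
      have hK := form_canon_swapRoot hne
      have hri : (reflEquiv (swapRoot i j) h2 v) i.succ = v j.succ := by
        rw [reflEquiv_apply, form_swapRoot v hne, Pi.add_apply, Pi.smul_apply, swapRoot_i hne,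
          smul_eq_mul]
        ring
      have hrj : (reflEquiv (swapRoot i j) h2 v) j.succ = v i.succ := by
        rw [reflEquiv_apply, form_swapRoot v hne, Pi.add_apply, Pi.smul_apply, swapRoot_j,
          smul_eq_mul]
        ring
      have hrk : ∀ k : Fin δ, k ≠ i → k ≠ j →
          (reflEquiv (swapRoot i j) h2 v) k.succ = v k.succ := by
        intro k hki hkj
        rw [reflEquiv_apply, Pi.add_apply, Pi.smul_apply, swapRoot_k hki hkj, smul_zero,
          add_zero]
      have key : mu (reflEquiv (swapRoot i j) h2 v) - mu v =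
          ∑ k : Fin δ, (((reflEquiv (swapRoot i j) h2 v) k.succ + (k.val : ℤ)) ^ 2 -
            (v k.succ + (k.val : ℤ)) ^ 2) := by
        unfold mu
        rw [Finset.sum_sub_distrib]
      rw [Finset.sum_eq_add i j hne
        (fun k _ hk => by rw [hrk k hk.1 hk.2, sub_self])
        (fun h => absurd (Finset.mem_univ _) h) (fun h => absurd (Finset.mem_univ _) h),
        hri, hrj] at key
      have hi_lt : (i.val : ℤ) < (j.val : ℤ) := by exact_mod_cast hij'
      have hpos := mul_pos (sub_pos.mpr hi_lt) (sub_pos.mpr hlt)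
      have hmu : mu (reflEquiv (swapRoot i j) h2 v) < mu v := by nlinarith
      have hmu0 : 0 ≤ mu (reflEquiv (swapRoot i j) h2 v) :=
        Finset.sum_nonneg fun _ _ => sq_nonneg _
      obtain ⟨g₂, hg₂, hfix, hsorted⟩ :=
        ih (mu (reflEquiv (swapRoot i j) h2 v)).toNat (by omega)
          (reflEquiv (swapRoot i j) h2 v) rfl
      refine ⟨(reflEquiv (swapRoot i j) h2).trans g₂,
        isWeyl_trans (isWeyl_refl _ h2 hK) hg₂, ?_, hsorted⟩
      intro u hu
      show g₂ (reflEquiv (swapRoot i j) h2 u) = u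
      have : reflEquiv (swapRoot i j) h2 u = u := by
        rw [reflEquiv_apply, form_swapRoot u hne,
          hu i j hmi (le_trans hmi (Fin.le_def.mp hij)), sub_self, zero_smul, add_zero]
      rw [this, hfix u hu]

/-! ### verified pruned search over partially sorted vectors -/

/-- `allSolS R n fr ub s t P`: `P` holds at all lists of `n` integers in `[-R, R]` with sum `s`,
sum of squares `t`, whose entries from position `fr` on are weakly decreasing (and, when
`fr = 0`, bounded above by `ub`). -/
def allSolS (R : ℕ) : (n : ℕ) → (fr : ℕ) → (ub : ℤ) → (s t : ℤ) → (P : List ℤ → Bool) → Bool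
  | 0, _, _, s, t, P => if s = 0 ∧ t = 0 then P [] else true
  | n + 1, fr, ub, s, t, P => (List.range (2 * R + 1)).all fun i =>
      let x : ℤ := (i : ℤ) - (R : ℤ)
      if (fr ≠ 0 ∨ x ≤ ub) ∧ (s - x) * (s - x) ≤ (n : ℤ) * (t - x * x) then
        allSolS R n (fr - 1) (if fr = 0 then x else (R : ℤ)) (s - x) (t - x * x)
          (fun l => P (x :: l))
      else true

theorem allSolS_spec (R : ℕ) : ∀ (n fr : ℕ) (ub s t : ℤ) (P : List ℤ → Bool),
    allSolS R n fr ub s t P = true →
    ∀ b : Fin n → ℤ, (∀ i, -(R : ℤ) ≤ b i ∧ b i ≤ (R : ℤ)) → ∑ i, b i = s →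
      ∑ i, b i * b i = t → (∀ h : 0 < n, fr = 0 → b ⟨0, h⟩ ≤ ub) →
      (∀ i j : Fin n, fr ≤ i.val → i ≤ j → b j ≤ b i) → P (List.ofFn b) = true := by
  intro n
  induction n with
  | zero =>
    intro fr ub s t P h b _ hs ht _ _
    simp only [allSolS] at h
    have hs0 : s = 0 := by rw [← hs]; simp
    have ht0 : t = 0 := by rw [← ht]; simp
    rw [if_pos ⟨hs0, ht0⟩] at h
    simpa using h
  | succ n ih =>
    intro fr ub s t P h b hbox hs ht hub hsort
    simp only [allSolS, List.all_eq_true, List.mem_range] at h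
    have hx1 := hbox 0
    have hi : (b 0 + (R : ℤ)).toNat < 2 * R + 1 := by omega
    have hxi : (((b 0 + (R : ℤ)).toNat : ℕ) : ℤ) - (R : ℤ) = b 0 := by omega
    have h' := h _ hi
    rw [hxi] at h'
    have hs' : ∑ i : Fin n, b i.succ = s - b 0 := by
      rw [Fin.sum_univ_succ] at hs
      linarith
    have ht' : ∑ i : Fin n, b i.succ * b i.succ = t - b 0 * b 0 := by
      rw [Fin.sum_univ_succ] at ht
      linarith
    have hcs : (s - b 0) * (s - b 0) ≤ (n : ℤ) * (t - b 0 * b 0) := by
      have := sq_sum_le_card_mul_sum_sq (s := (Finset.univ : Finset (Fin n)))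
        (f := fun i => b i.succ)
      simp only [Finset.card_univ, Fintype.card_fin] at this
      rw [hs'] at this
      have e : ∑ i : Fin n, b i.succ ^ 2 = t - b 0 * b 0 := by
        rw [← ht']
        exact Finset.sum_congr rfl fun i _ => sq _
      rw [e] at this
      nlinarith [this]
    have hcond : fr ≠ 0 ∨ b 0 ≤ ub := by
      by_cases hfr : fr = 0
      · right
        exact hub (Nat.succ_pos n) hfr
      · left
        exact hfr
    rw [if_pos ⟨hcond, hcs⟩] at h'
    have := ih (fr - 1) _ _ _ _ h' (fun i => b i.succ) (fun i => hbox i.succ) hs' ht' ?_ ?_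
    · rw [List.ofFn_succ]
      exact this
    · intro hn hfr'
      by_cases hfr : fr = 0
      · rw [if_pos hfr]
        exact hsort 0 (Fin.succ ⟨0, hn⟩) (by simp [hfr]) (Fin.zero_le _)
      · rw [if_neg hfr]
        exact (hbox _).2
    · intro i j hfi hij
      refine hsort i.succ j.succ ?_ (Fin.succ_le_succ_iff.mpr hij)
      rw [Fin.val_succ]
      omega

/-! ### conic and exceptional classes lie in the search space -/

theorem abs_le_of_mul_self_le {x : ℤ} (N : ℤ) (hN : 0 ≤ N) (h : x * x ≤ N * N) :
    -N ≤ x ∧ x ≤ N := by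
  constructor
  · by_contra hlt
    push Not at hlt
    nlinarith
  · by_contra hlt
    push Not at hlt
    nlinarith

theorem conic_data (hδ : δ ≤ 8) (v : DP δ) (hv : IsConic v) :
    (1 ≤ v 0 ∧ v 0 ≤ 11) ∧ (∀ i : Fin δ, -11 ≤ v i.succ ∧ v i.succ ≤ 11) ∧
      ∑ i : Fin δ, v i.succ = 3 * v 0 - 2 ∧ ∑ i : Fin δ, v i.succ * v i.succ = v 0 * v 0 := by
  obtain ⟨h1, h2⟩ := hv
  unfold form at h1 h2
  simp only [canon, Fin.cases_zero, Fin.cases_succ] at h2
  rw [← Finset.mul_sum] at h2
  have e1 : ∑ i : Fin δ, v i.succ = 3 * v 0 - 2 := by linarith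
  have e2 : ∑ i : Fin δ, v i.succ * v i.succ = v 0 * v 0 := by linarith
  have hcs := sq_sum_le_card_mul_sum_sq (s := (Finset.univ : Finset (Fin δ)))
    (f := fun i => v i.succ)
  simp only [Finset.card_univ, Fintype.card_fin] at hcs
  have e2' : ∑ i : Fin δ, v i.succ ^ 2 = v 0 * v 0 := by
    rw [← e2]
    exact Finset.sum_congr rfl fun i _ => sq (v i.succ)
  rw [e1, e2'] at hcs
  have hδ' : (δ : ℤ) ≤ 8 := by exact_mod_cast hδ
  have hsq : 0 ≤ v 0 * v 0 := mul_self_nonneg _
  have h8 : (3 * v 0 - 2) ^ 2 ≤ 8 * (v 0 * v 0) := by nlinarith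
  have ha1 : 1 ≤ v 0 := by
    by_contra h
    push Not at h
    nlinarith
  have ha11 : v 0 ≤ 11 := by
    by_contra h
    push Not at h
    nlinarith [mul_nonneg (show (0 : ℤ) ≤ v 0 by linarith) (show (0 : ℤ) ≤ v 0 - 12 by linarith)]
  have h121 : v 0 * v 0 ≤ 11 * 11 := by nlinarith
  refine ⟨⟨ha1, ha11⟩, fun i => ?_, e1, e2⟩
  have : v i.succ * v i.succ ≤ ∑ j : Fin δ, v j.succ * v j.succ :=
    Finset.single_le_sum (f := fun j : Fin δ => v j.succ * v j.succ)
      (fun j _ => mul_self_nonneg _) (Finset.mem_univ i)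
  exact abs_le_of_mul_self_le 11 (by norm_num) (by linarith)

theorem exc_data (hδ : δ ≤ 8) (v : DP δ) (hv : IsExc v) :
    (-1 ≤ v 0 ∧ v 0 ≤ 7) ∧ (∀ i : Fin δ, -7 ≤ v i.succ ∧ v i.succ ≤ 7) ∧
      ∑ i : Fin δ, v i.succ = 3 * v 0 - 1 ∧
      ∑ i : Fin δ, v i.succ * v i.succ = v 0 * v 0 + 1 := by
  obtain ⟨h1, h2⟩ := hv
  unfold form at h1 h2
  simp only [canon, Fin.cases_zero, Fin.cases_succ] at h2
  rw [← Finset.mul_sum] at h2
  have e1 : ∑ i : Fin δ, v i.succ = 3 * v 0 - 1 := by linarith
  have e2 : ∑ i : Fin δ, v i.succ * v i.succ = v 0 * v 0 + 1 := by linarith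
  have hcs := sq_sum_le_card_mul_sum_sq (s := (Finset.univ : Finset (Fin δ)))
    (f := fun i => v i.succ)
  simp only [Finset.card_univ, Fintype.card_fin] at hcs
  have e2' : ∑ i : Fin δ, v i.succ ^ 2 = v 0 * v 0 + 1 := by
    rw [← e2]
    exact Finset.sum_congr rfl fun i _ => sq (v i.succ)
  rw [e1, e2'] at hcs
  have hδ' : (δ : ℤ) ≤ 8 := by exact_mod_cast hδ
  have hsq : 0 ≤ v 0 * v 0 := mul_self_nonneg _
  have h8 : (3 * v 0 - 1) ^ 2 ≤ 8 * (v 0 * v 0 + 1) := by nlinarith
  have ha1 : -1 ≤ v 0 := by
    by_contra h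
    push Not at h
    nlinarith
  have ha7 : v 0 ≤ 7 := by
    by_contra h
    push Not at h
    nlinarith
  have h49 : v 0 * v 0 + 1 ≤ 7 * 7 + 1 := by nlinarith
  refine ⟨⟨ha1, ha7⟩, fun i => ?_, e1, e2⟩
  have : v i.succ * v i.succ ≤ ∑ j : Fin δ, v j.succ * v j.succ :=
    Finset.single_le_sum (f := fun j : Fin δ => v j.succ * v j.succ)
      (fun j _ => mul_self_nonneg _) (Finset.mem_univ i)
  have h50 : v i.succ * v i.succ ≤ 50 := by linarith
  constructor
  · by_contra hlt
    push Not at hlt
    nlinarith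
  · by_contra hlt
    push Not at hlt
    nlinarith

/-- `P` holds at all conic classes whose tail from `fr` on is sorted -/
def conicAllS (δ fr : ℕ) (P : List ℤ → Bool) : Bool :=
  (List.range 11).all fun j =>
    allSolS 11 δ fr 11 (3 * ((j : ℤ) + 1) - 2) (((j : ℤ) + 1) * ((j : ℤ) + 1))
      (fun l => P (((j : ℤ) + 1) :: l))

theorem conicAllS_spec (hδ : δ ≤ 8) (fr : ℕ) (P : List ℤ → Bool) (h : conicAllS δ fr P = true)
    (v : DP δ) (hv : IsConic v) (hs : TailSorted fr v) : P (toL v) = true := by
  obtain ⟨⟨ha1, ha11⟩, hb, e1, e2⟩ := conic_data hδ v hv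
  simp only [conicAllS, List.all_eq_true, List.mem_range] at h
  have hj : (v 0 - 1).toNat < 11 := by omega
  have hja : (((v 0 - 1).toNat : ℕ) : ℤ) + 1 = v 0 := by omega
  have h' := h _ hj
  rw [hja] at h'
  have := allSolS_spec 11 δ fr 11 _ _ _ h' (fun i => v i.succ)
    (fun i => ⟨by have := (hb i).1; omega, by have := (hb i).2; omega⟩) e1 e2
    (fun hn _ => (hb _).2) hs
  unfold toL
  rw [List.ofFn_succ]
  exact this

/-- `P` holds at all exceptional classes whose tail from `fr` on is sorted -/
def excAllS (δ fr : ℕ) (P : List ℤ → Bool) : Bool :=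
  (List.range 9).all fun j =>
    allSolS 7 δ fr 7 (3 * ((j : ℤ) - 1) - 1) (((j : ℤ) - 1) * ((j : ℤ) - 1) + 1)
      (fun l => P (((j : ℤ) - 1) :: l))

theorem excAllS_spec (hδ : δ ≤ 8) (fr : ℕ) (P : List ℤ → Bool) (h : excAllS δ fr P = true)
    (v : DP δ) (hv : IsExc v) (hs : TailSorted fr v) : P (toL v) = true := by
  obtain ⟨⟨ha1, ha7⟩, hb, e1, e2⟩ := exc_data hδ v hv
  simp only [excAllS, List.all_eq_true, List.mem_range] at h
  have hj : (v 0 + 1).toNat < 9 := by omega
  have hja : (((v 0 + 1).toNat : ℕ) : ℤ) - 1 = v 0 := by omega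
  have h' := h _ hj
  rw [hja] at h'
  have := allSolS_spec 7 δ fr 7 _ _ _ h' (fun i => v i.succ)
    (fun i => ⟨by have := (hb i).1; omega, by have := (hb i).2; omega⟩) e1 e2
    (fun hn _ => (hb _).2) hs
  unfold toL
  rw [List.ofFn_succ]
  exact this

theorem tailSorted_of_le (v : DP δ) : TailSorted δ v := by
  intro i j hi
  exact absurd i.isLt (by omega)

/-! ### the strategy: bubble sort by allowed adjacent transpositions, then Cremona -/

/-- first allowed adjacent ascent -/
def firstDesc : List Bool → List ℤ → ℕ → Option ℕ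
  | m :: ms, x :: y :: r, i =>
    if m = true ∧ x < y then some i else firstDesc ms (y :: r) (i + 1)
  | _, _, _ => none

/-- choose the index of the next reflection -/
def pick (δ : ℕ) (mask : List Bool) (l : List ℤ) : Option ℕ :=
  match l with
  | [] => none
  | a :: bs =>
    match firstDesc mask bs 0 with
    | some i => some i
    | none =>
      match bs with
      | b1 :: b2 :: b3 :: _ => if a < b1 + b2 + b3 then some (δ - 1) else none
      | _ => none

end Groth.Agent.H85.DP
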