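import Groth.Agent.H85.DPConic

/-!
Exceptional classes on `DP 8`: transitivity of the Weyl group, normal forms under the stabiliser
of `e₈`, and under the stabiliser of `e₈` and `e₇`.
-/

set_option autoImplicit false

namespace Groth.Agent.H85.DP

open W4c3severiratdp

/-- the moves fixing `e₈` -/
def maskE2 : List Bool := [true, true, true, true, true, true, false, true]

/-- the moves fixing `e₈` and `e₇` -/
def maskE3 : List Bool := [true, true, true, true, true, false, false, true]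

/-- coordinates of `e₈` -/
def E0L : List ℤ := [0, 0, 0, 0, 0, 0, 0, 0, -1]

/-- coordinates of `e₇` -/
def e7L : List ℤ := [0, 0, 0, 0, 0, 0, 0, -1, 0]

/-- coordinates of `ℓ - e₁ - e₇` -/
def n1L : List ℤ := [1, 1, 0, 0, 0, 0, 0, 1, 0]

/-- the exceptional class `e₈` -/
def E₀ : DP 8 := ofL E0L

/-- the exceptional class `e₇` -/
def e₇ : DP 8 := ofL e7L

theorem toL_E₀ : toL E₀ = E0L := toL_ofL E0L rfl

theorem toL_e₇ : toL e₇ = e7L := toL_ofL e7L rfl

/-- normal forms of exceptional classes `M` with `M·e₈ = k` under the stabiliser of `e₈` -/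
def nfE (k : ℤ) : List ℤ :=
  if k = -1 then [0, 0, 0, 0, 0, 0, 0, 0, -1]
  else if k = 0 then [0, 0, 0, 0, 0, 0, 0, -1, 0]
  else if k = 1 then [1, 1, 0, 0, 0, 0, 0, 0, 1]
  else if k = 2 then [3, 1, 1, 1, 1, 1, 1, 0, 2]
  else if k = 3 then [6, 2, 2, 2, 2, 2, 2, 2, 3]
  else []

/-- stage 1: the descent ends at `e₈` -/
def PE1 (l : List ℤ) : Bool :=
  decide (descendL (srL 8) (mask1 8) (pick 8 (mask1 8)) fuel l = E0L)

/-- stage 2: the descent fixing `e₈` ends at the normal form -/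
def PE2 (l : List ℤ) : Bool :=
  decide (descendL (srL 8) maskE2 (pick 8 maskE2) fuel l = nfE (formL E0L l))

/-- stage 3: the descent fixing `e₈` and `e₇` -/
def PE3 (l : List ℤ) : Bool :=
  decide (formL E0L l = 0 → formL e7L l = 1 →
    descendL (srL 8) maskE3 (pick 8 maskE3) fuel l = n1L)

/-- the computational facts -/
abbrev ExcFacts : Prop :=
  RootsOK 8 (srL 8) (mask1 8) ∧ RootsOK 8 (srL 8) maskE2 ∧ RootsOK 8 (srL 8) maskE3 ∧
    OrthOK (srL 8) maskE2 E0L ∧ OrthOK (srL 8) maskE3 E0L ∧ OrthOK (srL 8) maskE3 e7L ∧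
    excAllS 8 0 PE1 = true ∧ excAllS 8 8 PE2 = true ∧ excAllS 8 8 PE3 = true

theorem excFacts_ok : ExcFacts := by decide +kernel

/-- the Weyl group is transitive on exceptional classes -/
theorem exc_stage1 (v : DP 8) (hv : IsExc v) :
    ∃ g : DP 8 ≃ₗ[ℤ] DP 8, IsWeyl g ∧ g v = E₀ := by
  obtain ⟨hr1, -, -, -, -, -, hs1, -, -⟩ := excFacts_ok
  obtain ⟨gs, hgs, -, hsorted⟩ := exists_sort 0 v
  have hv' : IsExc (gs v) := isExc_map hgs hv
  have hP := excAllS_spec le_rfl 0 _ hs1 (gs v) hv' hsorted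
  obtain ⟨gd, hgd, -, hd⟩ :=
    descend_spec (srL 8) (mask1 8) (pick 8 (mask1 8)) hr1 fuel (gs v)
  have hP' : descendL (srL 8) (mask1 8) (pick 8 (mask1 8)) fuel (toL (gs v)) = E0L :=
    of_decide_eq_true hP
  refine ⟨gs.trans gd, isWeyl_trans hgs hgd, ?_⟩
  show gd (gs v) = E₀
  apply toL_injective
  rw [hd, hP', toL_E₀]

/-- normal forms of exceptional classes under the stabiliser of `e₈` -/
theorem exc_stage2 (M : DP 8) (hM : IsExc M) :
    ∃ g : DP 8 ≃ₗ[ℤ] DP 8, IsWeyl g ∧ g E₀ = E₀ ∧ toL (g M) = nfE (form E₀ M) := by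
  obtain ⟨-, hr2, -, horth, -, -, -, hs2, -⟩ := excFacts_ok
  have hP := excAllS_spec le_rfl 8 _ hs2 M hM (tailSorted_of_le M)
  obtain ⟨gd, hgd, hfixd, hd⟩ := descend_spec (srL 8) maskE2 (pick 8 maskE2) hr2 fuel M
  have hE : gd E₀ = E₀ := hfixd _ (by rw [toL_E₀]; exact horth)
  have hP' : descendL (srL 8) maskE2 (pick 8 maskE2) fuel (toL M) = nfE (formL E0L (toL M)) :=
    of_decide_eq_true hP
  rw [← hd, ← toL_E₀, formL_toL] at hP'
  exact ⟨gd, hgd, hE, hP'⟩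

/-- exceptional classes `M` with `M·e₈ = 0`, `M·e₇ = 1` under the stabiliser of `e₈`, `e₇` -/
theorem exc_stage3 (M : DP 8) (hM : IsExc M) (h0 : form E₀ M = 0) (h1 : form e₇ M = 1) :
    ∃ g : DP 8 ≃ₗ[ℤ] DP 8, IsWeyl g ∧ g E₀ = E₀ ∧ g e₇ = e₇ ∧ toL (g M) = n1L := by
  obtain ⟨-, -, hr3, -, horth0, horth7, -, -, hs3⟩ := excFacts_ok
  have hP := excAllS_spec le_rfl 8 _ hs3 M hM (tailSorted_of_le M)
  obtain ⟨gd, hgd, hfixd, hd⟩ := descend_spec (srL 8) maskE3 (pick 8 maskE3) hr3 fuel M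
  have hE : gd E₀ = E₀ := hfixd _ (by rw [toL_E₀]; exact horth0)
  have h7 : gd e₇ = e₇ := hfixd _ (by rw [toL_e₇]; exact horth7)
  have hP' : formL E0L (toL M) = 0 → formL e7L (toL M) = 1 →
      descendL (srL 8) maskE3 (pick 8 maskE3) fuel (toL M) = n1L := of_decide_eq_true hP
  have k0 : formL E0L (toL M) = 0 := by rw [← toL_E₀, formL_toL]; exact h0
  have k1 : formL e7L (toL M) = 1 := by rw [← toL_e₇, formL_toL]; exact h1
  exact ⟨gd, hgd, hE, h7, by rw [hd]; exact hP' k0 k1⟩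

end Groth.Agent.H85.DP
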