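import Groth.Agent.H85.DetMain

/-!
# First fundamental theorem for `SL_d` acting on `n × d` matrices (helper85 library)
-/

set_option autoImplicit false
universe u
open W4bk4grassmannian MvPolynomial

namespace Groth.Agent.H85.Inv

open Groth.Agent.H85.Det

noncomputable section

section ring

variable {K : Type u} [CommRing K] {d n : ℕ}

lemma minor_eq (a : Fin d → Fin n) :
    minor K d n a = ((genMatrix K n d).submatrix a id).det := by
  unfold minor genMatrix
  rfl

lemma pluckerMap_X (θ : Idx d n) : pluckerMap K d n (X θ) = minor K d n θ.1 := by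
  unfold pluckerMap; rw [aeval_X]

lemma pluckerMap_shuffleRel (i j : Idx d n) (r : Fin d) :
    pluckerMap K d n (shuffleRel K i j r) = 0 := by
  unfold pluckerMap
  have hfun : (fun θ : Idx d n => minor K d n θ.1) =
      fun θ : Idx d n => ((genMatrix K n d).submatrix θ.1 id).det := funext fun θ => minor_eq θ.1
  rw [hfun, ← MvPolynomial.aeval_map_algebraMap (MatRing K d n), map_shuffleRel]
  exact Pl.evalMinors_shuffleRel (genMatrix K n d) i j r

lemma pluckerMap_plIdealTop {F : PlRing K d n} (hF : F ∈ plIdealTop (d := d) (n := n) K) :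
    pluckerMap K d n F = 0 := by
  have hle : plIdealTop (d := d) (n := n) K ≤ RingHom.ker (pluckerMap K d n).toRingHom := by
    unfold plIdealTop
    rw [Ideal.span_le]
    rintro _ ⟨i, j, r, _, rfl⟩
    exact pluckerMap_shuffleRel i j r
  exact hle hF

lemma pluckerMap_chainMon {m : ℕ} (c : Fin m → Idx d n) :
    pluckerMap K d n (chainMon K c) = ∏ i, minor K d n (c i).1 := by
  unfold chainMon
  rw [map_prod]
  exact Finset.prod_congr rfl (fun i _ => pluckerMap_X (c i))

variable (K d n) in
/-- the algebra generated by the maximal minors -/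
abbrev Amin : Subalgebra K (MatRing K d n) :=
  Algebra.adjoin K (Set.range fun θ : Idx d n => minor K d n θ.1)

lemma Amin_eq_range : Amin K d n = (pluckerMap K d n).range :=
  Algebra.adjoin_range_eq_range_aeval K _

lemma det_tuple_mem (a : Fin d → Fin n) :
    ((genMatrix K n d).submatrix a id).det ∈ Amin K d n := by
  have h := Pl.evalMinors_coord (K := MatRing K d n) (genMatrix K n d) a
  rw [← h]
  have hX : ∀ θ : Idx d n, evalMinors (MatRing K d n) d n (genMatrix K n d) (X θ) ∈ Amin K d n := by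
    intro θ
    rw [Pl.evalMinors_X, ← minor_eq]
    exact Algebra.subset_adjoin ⟨θ, rfl⟩
  rcases Pl.coord_cases (K := MatRing K d n) a with h0 | ⟨α, h1 | h1, -⟩
  · rw [h0, map_zero]; exact Subalgebra.zero_mem _
  · rw [h1]; exact hX α
  · rw [h1, map_neg]; exact Subalgebra.neg_mem _ (hX α)

lemma mul_adjugate_apply {R : Type*} [CommRing R] (Xm : Matrix (Fin n) (Fin d) R)
    (ι' : Fin d → Fin n) (s : Fin n) (j : Fin d) :
    (Xm * (Xm.submatrix ι' id).adjugate) s j = (Xm.submatrix (Function.update ι' j s) id).det := by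
  have h2 : (Xm.submatrix (Function.update ι' j s) id) = (Xm.submatrix ι' id).updateRow j (Xm s) := by
    ext i t
    rw [Matrix.submatrix_apply, Matrix.updateRow_apply]
    by_cases hij : i = j
    · rw [if_pos hij, hij, Function.update_self]; rfl
    · rw [if_neg hij, Function.update_of_ne hij]; rfl
  have h1 : (Xm * (Xm.submatrix ι' id).adjugate) s j =
      (((Xm.submatrix ι' id).adjugate).transpose.mulVec (Xm s)) j := by
    rw [Matrix.mul_apply]
    show _ = ∑ k, ((Xm.submatrix ι' id).adjugate).transpose j k * Xm s k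
    apply Finset.sum_congr rfl
    intro k _
    rw [Matrix.transpose_apply, mul_comm]
  rw [h1, Matrix.adjugate_transpose, ← Matrix.cramer_eq_adjugate_mulVec, Matrix.cramer_apply,
    Matrix.updateCol_transpose, Matrix.det_transpose, h2]

lemma rightTranslate_minor (g : Matrix.SpecialLinearGroup (Fin d) K) (θ : Idx d n) :
    rightTranslate K d n g (minor K d n θ.1) = minor K d n θ.1 := by
  rw [minor_eq, AlgHom.map_det]
  have h1 : (rightTranslate K d n g).mapMatrix ((genMatrix K n d).submatrix θ.1 id) =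
      ((genMatrix K n d).submatrix θ.1 id) * (g.1.map (C : K →+* MatRing K d n)) := by
    ext s t
    rw [AlgHom.mapMatrix_apply, Matrix.map_apply, Matrix.submatrix_apply, Matrix.mul_apply]
    unfold genMatrix rightTranslate
    rw [Matrix.of_apply, aeval_X]
    rfl
  have h2 : (g.1.map (C : K →+* MatRing K d n)).det = 1 := by
    have := (RingHom.map_det (C : K →+* MatRing K d n) g.1).symm
    rw [RingHom.mapMatrix_apply] at this
    rw [this, g.2, map_one]
  rw [h1, Matrix.det_mul, h2, mul_one]

lemma rightTranslate_of_mem (g : Matrix.SpecialLinearGroup (Fin d) K) {f : MatRing K d n}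
    (hf : f ∈ Amin K d n) : rightTranslate K d n g f = f := by
  have hle : Amin K d n ≤ AlgHom.equalizer (rightTranslate K d n g) (AlgHom.id K _) := by
    apply Algebra.adjoin_le
    rintro _ ⟨θ, rfl⟩
    rw [SetLike.mem_coe, AlgHom.mem_equalizer]
    exact rightTranslate_minor g θ
  exact (AlgHom.mem_equalizer _ _ _).mp (hle hf)

end ring

section field

variable {K : Type u} [Field K] {n : ℕ}

/-- evaluation at a matrix -/
def ev {d : ℕ} (X₀ : Matrix (Fin n) (Fin d) K) : MatRing K d n →ₐ[K] K :=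
  MvPolynomial.aeval fun p : Fin n × Fin d => X₀ p.1 p.2

lemma ev_X {d : ℕ} (X₀ : Matrix (Fin n) (Fin d) K) (s : Fin n) (t : Fin d) :
    ev X₀ (X (s, t)) = X₀ s t := by
  unfold ev; rw [aeval_X]

lemma ev_det_tuple {d : ℕ} (X₀ : Matrix (Fin n) (Fin d) K) (a : Fin d → Fin n) :
    ev X₀ (((genMatrix K n d).submatrix a id).det) = (X₀.submatrix a id).det := by
  rw [AlgHom.map_det]
  congr 1
  ext s t
  rw [AlgHom.mapMatrix_apply, Matrix.map_apply, Matrix.submatrix_apply, Matrix.submatrix_apply]
  unfold genMatrix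
  rw [Matrix.of_apply, ev_X]

lemma ev_rightTranslate {d : ℕ} (X₀ : Matrix (Fin n) (Fin d) K)
    (g : Matrix.SpecialLinearGroup (Fin d) K) (f : MatRing K d n) :
    ev X₀ (rightTranslate K d n g f) = ev (X₀ * g.1) f := by
  have : (ev X₀).comp (rightTranslate K d n g) = ev (X₀ * g.1) := by
    apply MvPolynomial.algHom_ext
    intro p
    rw [AlgHom.comp_apply]
    unfold rightTranslate
    rw [aeval_X, map_sum]
    unfold ev
    rw [aeval_X, Matrix.mul_apply]
    apply Finset.sum_congr rfl
    intro k _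
    rw [map_mul, aeval_X, aeval_C]
    rfl
  rw [← this, AlgHom.comp_apply]

variable {e : ℕ}

/-- the least index -/
def iotaF (h : e + 1 < n) : Idx (e + 1) n :=
  ⟨fun t => ⟨t.val, lt_trans t.isLt h⟩, fun _ _ hab => hab⟩

/-- the element of `SL` normalising the top block -/
def gmat (h : e + 1 < n) (X₀ : Matrix (Fin n) (Fin (e + 1)) K) : Matrix (Fin (e + 1)) (Fin (e + 1)) K :=
  (X₀.submatrix (iotaF h).1 id).adjugate * Matrix.diagonal
    (fun j => if j = 0 then ((X₀.submatrix (iotaF h).1 id).det ^ e)⁻¹ else 1)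

lemma det_gmat (h : e + 1 < n) (X₀ : Matrix (Fin n) (Fin (e + 1)) K)
    (hδ : (X₀.submatrix (iotaF h).1 id).det ≠ 0) : (gmat h X₀).det = 1 := by
  unfold gmat
  rw [Matrix.det_mul, Matrix.det_adjugate, Matrix.det_diagonal, Fintype.card_fin, Nat.add_sub_cancel,
    Finset.prod_ite_eq' Finset.univ (0 : Fin (e + 1))
      (fun _ => ((X₀.submatrix (iotaF h).1 id).det ^ e)⁻¹), if_pos (Finset.mem_univ _)]
  exact mul_inv_cancel₀ (pow_ne_zero e hδ)

lemma mul_gmat_apply (h : e + 1 < n) (X₀ : Matrix (Fin n) (Fin (e + 1)) K) (s : Fin n)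
    (j : Fin (e + 1)) :
    (X₀ * gmat h X₀) s j = (X₀.submatrix (Function.update (iotaF h).1 j s) id).det *
      (if j = 0 then ((X₀.submatrix (iotaF h).1 id).det ^ e)⁻¹ else 1) := by
  unfold gmat
  rw [← Matrix.mul_assoc, Matrix.mul_diagonal, mul_adjugate_apply]

lemma chart_property (h : e + 1 < n) (f : MatRing K (e + 1) n) :
    ∃ (N : ℕ) (a : MatRing K (e + 1) n), a ∈ Amin K (e + 1) n ∧
      ∀ X₀ : Matrix (Fin n) (Fin (e + 1)) K, (X₀.submatrix (iotaF h).1 id).det ≠ 0 →
        ev X₀ a = (X₀.submatrix (iotaF h).1 id).det ^ N * ev (X₀ * gmat h X₀) f := by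
  have hδmem : ((genMatrix K n (e + 1)).submatrix (iotaF h).1 id).det ∈ Amin K (e + 1) n :=
    det_tuple_mem _
  refine MvPolynomial.induction_on (motive := fun f => ∃ (N : ℕ) (a : MatRing K (e + 1) n),
      a ∈ Amin K (e + 1) n ∧
      ∀ X₀ : Matrix (Fin n) (Fin (e + 1)) K, (X₀.submatrix (iotaF h).1 id).det ≠ 0 →
        ev X₀ a = (X₀.submatrix (iotaF h).1 id).det ^ N * ev (X₀ * gmat h X₀) f) f ?_ ?_ ?_
  · intro c
    refine ⟨0, C c, Subalgebra.algebraMap_mem _ c, fun X₀ _ => ?_⟩
    unfold ev
    rw [aeval_C, aeval_C, pow_zero, one_mul]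
  · intro p q hp hq
    obtain ⟨N, a, ha, hpa⟩ := hp
    obtain ⟨N', a', ha', hqa⟩ := hq
    refine ⟨N + N', ((genMatrix K n (e + 1)).submatrix (iotaF h).1 id).det ^ N' * a +
      ((genMatrix K n (e + 1)).submatrix (iotaF h).1 id).det ^ N * a', ?_, fun X₀ hδ => ?_⟩
    · exact Subalgebra.add_mem _ (Subalgebra.mul_mem _ (Subalgebra.pow_mem _ hδmem _) ha)
        (Subalgebra.mul_mem _ (Subalgebra.pow_mem _ hδmem _) ha')
    · rw [map_add, map_mul, map_mul, map_pow, map_pow, ev_det_tuple, hpa X₀ hδ, hqa X₀ hδ, map_add]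
      ring
  · intro p i hp
    obtain ⟨N, a, ha, hpa⟩ := hp
    obtain ⟨s, j⟩ := i
    refine ⟨N + e, a * (if j = 0 then
        ((genMatrix K n (e + 1)).submatrix (Function.update (iotaF h).1 j s) id).det
      else ((genMatrix K n (e + 1)).submatrix (iotaF h).1 id).det ^ e *
        ((genMatrix K n (e + 1)).submatrix (Function.update (iotaF h).1 j s) id).det), ?_,
      fun X₀ hδ => ?_⟩
    · apply Subalgebra.mul_mem _ ha
      split_ifs
      · exact det_tuple_mem _
      · exact Subalgebra.mul_mem _ (Subalgebra.pow_mem _ hδmem _) (det_tuple_mem _)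
    · rw [map_mul, map_mul, hpa X₀ hδ, ev_X, mul_gmat_apply]
      have hne : (X₀.submatrix (iotaF h).1 id).det ^ e ≠ 0 := pow_ne_zero e hδ
      by_cases hj : j = 0
      · rw [if_pos hj, if_pos hj, ev_det_tuple, pow_add]
        field_simp
      · rw [if_neg hj, if_neg hj, map_mul, map_pow, ev_det_tuple, ev_det_tuple, pow_add]
        ring

lemma ev_one_top (h : e + 1 < n) :
    ev (Matrix.of fun (s : Fin n) (t : Fin (e + 1)) => if s.val = t.val then (1 : K) else 0)
      (((genMatrix K n (e + 1)).submatrix (iotaF h).1 id).det) = 1 := by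
  rw [ev_det_tuple]
  have : (Matrix.of fun (s : Fin n) (t : Fin (e + 1)) => if s.val = t.val then (1 : K) else 0).submatrix
      (iotaF h).1 id = 1 := by
    ext s t
    rw [Matrix.submatrix_apply, Matrix.of_apply, Matrix.one_apply]
    show (if s.val = t.val then (1 : K) else 0) = _
    by_cases hst : s = t
    · rw [if_pos hst, if_pos (by rw [hst])]
    · rw [if_neg hst, if_neg (fun h' => hst (Fin.ext h'))]
  rw [this, Matrix.det_one]

/-- an invariant polynomial times a power of the least minor is a polynomial in the minors -/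
lemma exists_pow_mul_mem [Infinite K] (h : e + 1 < n) (f : MatRing K (e + 1) n)
    (hf : ∀ g : Matrix.SpecialLinearGroup (Fin (e + 1)) K, rightTranslate K (e + 1) n g f = f) :
    ∃ N, ((genMatrix K n (e + 1)).submatrix (iotaF h).1 id).det ^ N * f ∈ Amin K (e + 1) n := by
  obtain ⟨N, a, ha, hP⟩ := chart_property h f
  refine ⟨N, ?_⟩
  have hδ0 : ((genMatrix K n (e + 1)).submatrix (iotaF h).1 id).det ≠ 0 := by
    intro h0
    have := ev_one_top (K := K) h
    rw [h0, map_zero] at this
    exact zero_ne_one this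
  have heq : a = ((genMatrix K n (e + 1)).submatrix (iotaF h).1 id).det ^ N * f := by
    apply mul_left_cancel₀ hδ0
    apply MvPolynomial.funext
    intro x
    obtain ⟨X₀, hX₀⟩ : ∃ X₀ : Matrix (Fin n) (Fin (e + 1)) K, X₀ = Matrix.of fun s t => x (s, t) :=
      ⟨_, rfl⟩
    have hev : ∀ q : MatRing K (e + 1) n, MvPolynomial.eval x q = ev X₀ q := by
      intro q
      unfold ev
      have hx : (fun p : Fin n × Fin (e + 1) => X₀ p.1 p.2) = x := by
        funext p
        rw [hX₀]
        rfl
      rw [hx, ← MvPolynomial.coe_aeval_eq_eval]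
      rfl
    rw [hev, hev]
    simp only [map_mul, map_pow, ev_det_tuple]
    by_cases hδ : (X₀.submatrix (iotaF h).1 id).det = 0
    · rw [hδ, zero_mul, zero_mul]
    · rw [hP X₀ hδ]
      have h1 := ev_rightTranslate X₀ ⟨gmat h X₀, det_gmat h X₀ hδ⟩ f
      rw [hf] at h1
      have h2 : ev X₀ f = ev (X₀ * gmat h X₀) f := h1
      rw [← h2]
  rw [← heq]
  exact ha

end field

end

end Groth.Agent.H85.Inv
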