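import Groth.Agent.H85.DetComb
import Groth.Agent.S11275

/-!
# Minors of a matrix as Plücker coordinates of `[1 ; Z reversed]` (helper85 library)
-/

set_option autoImplicit false
universe u
open W4bk4grassmannian MvPolynomial

namespace Groth.Agent.H85.Det

noncomputable section

variable {m n : ℕ}

/-- the matrix `[1 ; Z reversed]` -/
def Nmat {R : Type*} [CommRing R] (Z' : Matrix (Fin m) (Fin n) R) : Matrix (Fin (n + m)) (Fin n) R :=
  Matrix.of fun x j => Fin.addCases (motive := fun _ => R)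
    (fun c => if c = j then (1 : R) else 0) (fun a => Z' (Fin.rev a) j) x

lemma Nmat_castAdd {R : Type*} [CommRing R] (Z' : Matrix (Fin m) (Fin n) R) (c j : Fin n) :
    Nmat Z' (Fin.castAdd m c) j = if c = j then 1 else 0 := by
  unfold Nmat; rw [Matrix.of_apply, Fin.addCases_left]

lemma Nmat_natAdd {R : Type*} [CommRing R] (Z' : Matrix (Fin m) (Fin n) R) (a : Fin m) (j : Fin n) :
    Nmat Z' (Fin.natAdd n a) j = Z' (Fin.rev a) j := by
  unfold Nmat; rw [Matrix.of_apply, Fin.addCases_right]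

lemma Nmat_iota {R : Type*} [CommRing R] (Z' : Matrix (Fin m) (Fin n) R) :
    (Nmat Z').submatrix (iota m n).1 id = 1 := by
  ext c j
  rw [Matrix.submatrix_apply]
  show Nmat Z' (Fin.castAdd m c) j = _
  rw [Nmat_castAdd, Matrix.one_apply]

lemma exists_perm_of_enum {N k : ℕ} (S : Finset (Fin N)) (h : S.card = k) (ρ : Fin k → Fin N)
    (hinj : Function.Injective ρ) (hmem : ∀ i, ρ i ∈ S) :
    ∃ π : Equiv.Perm (Fin k), ∀ i, S.orderEmbOfFin h (π i) = ρ i := by
  have hbij : Function.Bijective (fun i => (⟨ρ i, hmem i⟩ : S)) := by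
    rw [Fintype.bijective_iff_injective_and_card]
    refine ⟨fun i j hij => hinj (Subtype.ext_iff.mp hij), ?_⟩
    rw [Fintype.card_fin, Fintype.card_coe, h]
  refine ⟨(Equiv.ofBijective _ hbij).trans (S.orderIsoOfFin h).symm.toEquiv, fun i => ?_⟩
  rw [← Finset.coe_orderIsoOfFin_apply]
  simp

theorem exists_eps (M : MinorIdx m n) :
    ∃ ε : ℤˣ, ∀ (R : Type u) [CommRing R] (Z' : Matrix (Fin m) (Fin n) R),
      ((Nmat Z').submatrix (Theta M).1 id).det =
        ((ε : ℤ) : R) * (Z'.submatrix M.2.1.1 M.2.2.1).det := by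
  classical
  have hcB := colsSet_card M
  have hcBc : (colsSet M)ᶜ.card = n - (M.1 + 1) := by
    rw [Finset.card_compl, Fintype.card_fin, hcB]
  have hκl : ∀ j, finSumEquivOfFinset hcB hcBc (Sum.inl j) = M.2.2.1 j := by
    intro j
    rw [finSumEquivOfFinset_inl]
    have := Finset.orderEmbOfFin_unique hcB (f := M.2.2.1)
      (fun x => Finset.mem_image_of_mem _ (Finset.mem_univ x)) M.2.2.2
    exact (congrFun this j).symm
  have hκr : ∀ i, finSumEquivOfFinset hcB hcBc (Sum.inr i) = (colsSet M)ᶜ.orderEmbOfFin hcBc i :=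
    fun i => finSumEquivOfFinset_inr hcB hcBc i
  have hbmem : ∀ i, (colsSet M)ᶜ.orderEmbOfFin hcBc i ∉ colsSet M := fun i =>
    Finset.mem_compl.mp (Finset.orderEmbOfFin_mem _ hcBc i)
  generalize hκ : finSumEquivOfFinset hcB hcBc = κ at hκl hκr
  generalize hbb : (fun i => (colsSet M)ᶜ.orderEmbOfFin hcBc i : Fin (n - (M.1 + 1)) → Fin n) = bbar
  have hbbar : ∀ i, (colsSet M)ᶜ.orderEmbOfFin hcBc i = bbar i := fun i => by rw [← hbb]
  have hbinj : Function.Injective bbar := by
    rw [← hbb]; exact ((colsSet M)ᶜ.orderEmbOfFin hcBc).injective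
  simp only [hbbar] at hκr hbmem
  have hρ'inj : Function.Injective (Sum.elim (fun j => Fin.natAdd n (Fin.rev (M.2.1.1 j)))
      (fun i => Fin.castAdd m (bbar i)) : Fin (M.1 + 1) ⊕ Fin (n - (M.1 + 1)) → Fin (n + m)) := by
    intro x y hxy
    rcases x with j | i <;> rcases y with j' | i'
    · have h1 : Fin.natAdd n (Fin.rev (M.2.1.1 j)) = Fin.natAdd n (Fin.rev (M.2.1.1 j')) := hxy
      have h2 := Fin.rev_injective (Fin.natAdd_injective m n h1)
      rw [M.2.1.2.injective h2]
    · exact absurd (show Fin.castAdd m (bbar i') = Fin.natAdd n (Fin.rev (M.2.1.1 j)) from hxy.symm)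
        (castAdd_ne_natAdd _ _)
    · exact absurd (show Fin.castAdd m (bbar i) = Fin.natAdd n (Fin.rev (M.2.1.1 j')) from hxy)
        (castAdd_ne_natAdd _ _)
    · have h1 : Fin.castAdd m (bbar i) = Fin.castAdd m (bbar i') := hxy
      have h2 : bbar i = bbar i' := Fin.castAdd_injective n m h1
      rw [hbinj h2]
  have hρ'mem : ∀ x, (Sum.elim (fun j => Fin.natAdd n (Fin.rev (M.2.1.1 j)))
      (fun i => Fin.castAdd m (bbar i)) : Fin (M.1 + 1) ⊕ Fin (n - (M.1 + 1)) → Fin (n + m)) x ∈ RM M := by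
    intro x
    unfold RM
    rcases x with j | i
    · apply Finset.mem_union_right
      rw [Finset.mem_map]
      exact ⟨M.2.1.1 j, Finset.mem_image_of_mem _ (Finset.mem_univ j), rfl⟩
    · apply Finset.mem_union_left
      rw [Finset.mem_map]
      exact ⟨bbar i, Finset.mem_compl.mpr (hbmem i), rfl⟩
  generalize hρ' : (Sum.elim (fun j => Fin.natAdd n (Fin.rev (M.2.1.1 j)))
      (fun i => Fin.castAdd m (bbar i)) : Fin (M.1 + 1) ⊕ Fin (n - (M.1 + 1)) → Fin (n + m)) = ρ'
    at hρ'inj hρ'mem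
  have hρl : ∀ j, ρ' (Sum.inl j) = Fin.natAdd n (Fin.rev (M.2.1.1 j)) := fun j => by rw [← hρ']; rfl
  have hρr : ∀ i, ρ' (Sum.inr i) = Fin.castAdd m (bbar i) := fun i => by rw [← hρ']; rfl
  obtain ⟨π, hπ⟩ := exists_perm_of_enum (RM M) (RM_card M) (fun i => ρ' (κ.symm i))
    (hρ'inj.comp κ.symm.injective) (fun i => hρ'mem _)
  refine ⟨Equiv.Perm.sign π, fun R _ Z' => ?_⟩
  have hblock : (Nmat Z').submatrix ρ' κ = Matrix.fromBlocks (Z'.submatrix M.2.1.1 M.2.2.1)
      (Z'.submatrix M.2.1.1 bbar) 0 1 := by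
    ext x y
    rcases x with j | i <;> rcases y with j' | i'
    · rw [Matrix.submatrix_apply, Matrix.fromBlocks_apply₁₁, hκl, hρl, Nmat_natAdd, Fin.rev_rev,
        Matrix.submatrix_apply]
    · rw [Matrix.submatrix_apply, Matrix.fromBlocks_apply₁₂, hκr, hρl, Nmat_natAdd, Fin.rev_rev,
        Matrix.submatrix_apply]
    · have hne : ¬ bbar i = M.2.2.1 j' := by
        intro h
        apply hbmem i
        rw [h]
        exact Finset.mem_image_of_mem _ (Finset.mem_univ j')
      rw [Matrix.submatrix_apply, Matrix.fromBlocks_apply₂₁, hκl, hρr, Nmat_castAdd, if_neg hne,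
        Matrix.zero_apply]
    · rw [Matrix.submatrix_apply, Matrix.fromBlocks_apply₂₂, hκr, hρr, Nmat_castAdd, Matrix.one_apply]
      by_cases h : i = i'
      · rw [if_pos h, if_pos (by rw [h])]
      · rw [if_neg h, if_neg]
        intro h'
        exact h (hbinj h')
  have h1 : (Nmat Z').submatrix (fun i => ρ' (κ.symm i)) id =
      ((Nmat Z').submatrix (Theta M).1 id).submatrix π id := by
    ext i j
    rw [Matrix.submatrix_apply, Matrix.submatrix_apply, Matrix.submatrix_apply]
    show _ = Nmat Z' ((RM M).orderEmbOfFin (RM_card M) (π i)) (id (id j))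
    rw [hπ]
    rfl
  have h2 : ((Nmat Z').submatrix (fun i => ρ' (κ.symm i)) id).det =
      (((Equiv.Perm.sign π : ℤˣ) : ℤ) : R) * ((Nmat Z').submatrix (Theta M).1 id).det := by
    rw [h1, Matrix.det_permute]
  have h3 : ((Nmat Z').submatrix ρ' κ) =
      ((Nmat Z').submatrix (fun i => ρ' (κ.symm i)) id).submatrix κ κ := by
    ext x y
    rw [Matrix.submatrix_apply, Matrix.submatrix_apply, Matrix.submatrix_apply,
      Equiv.symm_apply_apply]
    rfl
  have h4 : ((Nmat Z').submatrix ρ' κ).det =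
      ((Nmat Z').submatrix (fun i => ρ' (κ.symm i)) id).det := by
    rw [h3, Matrix.det_submatrix_equiv_self]
  have h5 : ((Nmat Z').submatrix ρ' κ).det = (Z'.submatrix M.2.1.1 M.2.2.1).det := by
    rw [hblock, Matrix.det_fromBlocks_zero₂₁, Matrix.det_one, mul_one]
  have hsq : (((Equiv.Perm.sign π : ℤˣ) : ℤ) : R) * (((Equiv.Perm.sign π : ℤˣ) : ℤ) : R) = 1 := by
    rw [← Int.cast_mul, ← Units.val_mul, Int.units_mul_self, Units.val_one, Int.cast_one]
  rw [← h5, h4, h2, ← mul_assoc, hsq, one_mul]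

/-- the sign relating the minor `M` and the Plücker coordinate `Theta M` -/
def epsZ (M : MinorIdx m n) : ℤˣ := Classical.choose (exists_eps.{u} M)

/-- the sign, in a ring -/
def epsK (K : Type u) [CommRing K] (M : MinorIdx m n) : K := ((epsZ.{u} M : ℤ) : K)

lemma epsK_mul_self (K : Type u) [CommRing K] (M : MinorIdx m n) : epsK K M * epsK K M = 1 := by
  unfold epsK
  rw [← Int.cast_mul, ← Units.val_mul, Int.units_mul_self, Units.val_one, Int.cast_one]

lemma det_Theta (R : Type u) [CommRing R] (Z' : Matrix (Fin m) (Fin n) R) (M : MinorIdx m n) :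
    ((Nmat Z').submatrix (Theta M).1 id).det = epsK R M * (Z'.submatrix M.2.1.1 M.2.2.1).det :=
  Classical.choose_spec (exists_eps.{u} M) R Z'

lemma epsK_C (K : Type u) [CommRing K] {σ : Type} (M : MinorIdx m n) :
    epsK (MvPolynomial σ K) M = C (epsK K M) := by
  unfold epsK
  rw [map_intCast]

/-! ### the comparison map -/

/-- Plücker coordinates of `[1 ; Z reversed]` -/
def psi (K : Type u) [CommRing K] (m n : ℕ) :
    PlRing K n (n + m) →ₐ[K] MvPolynomial (Fin m × Fin n) K :=
  MvPolynomial.aeval fun θ : Idx n (n + m) => ((Nmat (genMatrix K m n)).submatrix θ.1 id).det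

variable (K : Type u) [CommRing K]

lemma psi_X (θ : Idx n (n + m)) :
    psi K m n (X θ) = ((Nmat (genMatrix K m n)).submatrix θ.1 id).det := by
  unfold psi; rw [aeval_X]

lemma psi_C (a : K) : psi K m n (C a) = C a := by
  unfold psi; rw [aeval_C]; rfl

lemma psi_Theta (M : MinorIdx m n) : psi K m n (X (Theta M)) = C (epsK K M) * minorOf K M := by
  rw [psi_X, det_Theta _ _ M, epsK_C]
  rfl

lemma psi_iota : psi K m n (X (iota m n)) = 1 := by
  rw [psi_X, Nmat_iota, Matrix.det_one]

lemma map_coord {K R : Type u} [CommRing K] [CommRing R] {d N : ℕ} (f : K →+* R)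
    (a : Fin d → Fin N) : MvPolynomial.map f (coord K d N a) = coord R d N a := by
  unfold coord
  split_ifs with h
  · rw [map_mul, map_pow, map_neg, map_one, MvPolynomial.map_X]
  · rw [map_zero]

lemma map_shuffleRel {K R : Type u} [CommRing K] [CommRing R] {d N : ℕ} (f : K →+* R)
    (i j : Idx d N) (r : Fin d) :
    MvPolynomial.map f (shuffleRel K i j r) = shuffleRel R i j r := by
  unfold shuffleRel
  rw [map_sum]
  apply Finset.sum_congr rfl
  intro A _
  unfold shuffleTerm
  split_ifs with hA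
  · rw [map_mul, map_mul, map_pow, map_neg, map_one, map_coord, map_coord]
  · rw [map_zero]

lemma psi_shuffleRel (i j : Idx n (n + m)) (r : Fin n) : psi K m n (shuffleRel K i j r) = 0 := by
  unfold psi
  rw [← MvPolynomial.aeval_map_algebraMap (MvPolynomial (Fin m × Fin n) K), map_shuffleRel]
  exact Pl.evalMinors_shuffleRel (Nmat (genMatrix K m n)) i j r

lemma psi_plIdealTop {F : PlRing K n (n + m)} (hF : F ∈ plIdealTop (d := n) (n := n + m) K) :
    psi K m n F = 0 := by
  have hle : plIdealTop (d := n) (n := n + m) K ≤ RingHom.ker (psi K m n).toRingHom := by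
    unfold plIdealTop
    rw [Ideal.span_le]
    rintro _ ⟨i, j, r, _, rfl⟩
    exact psi_shuffleRel K i j r
  exact hle hF

/-- a one-element index -/
def oneIdx {N : ℕ} (i : Fin N) : Idx (0 + 1) N :=
  ⟨fun _ => i, fun a b hab => by have h1 := b.isLt; have h2 := Fin.lt_def.mp hab; omega⟩

/-- a `1 × 1` minor -/
def oneMinor (i : Fin m) (j : Fin n) : MinorIdx m n := mkMinor 0 (oneIdx i) (oneIdx j)

lemma minorOf_oneMinor (i : Fin m) (j : Fin n) : minorOf K (oneMinor i j) = X (i, j) := by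
  unfold minorOf
  show (Matrix.det ((genMatrix K m n).submatrix (fun _ : Fin 1 => i) (fun _ : Fin 1 => j))) = X (i, j)
  rw [Matrix.det_fin_one]
  rfl

lemma psi_surjective : Function.Surjective (psi K m n) := by
  rw [← AlgHom.range_eq_top, eq_top_iff, ← MvPolynomial.adjoin_range_X]
  apply Algebra.adjoin_le
  rintro _ ⟨⟨i, j⟩, rfl⟩
  refine ⟨C (epsK K (oneMinor i j)) * X (Theta (oneMinor i j)), ?_⟩
  show psi K m n (C (epsK K (oneMinor i j)) * X (Theta (oneMinor i j))) = X (i, j)
  rw [map_mul, psi_C, psi_Theta, ← mul_assoc, ← C_mul, epsK_mul_self, C_1,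
    one_mul, minorOf_oneMinor]

/-- a minor of size at least `t` lies in the ideal of `t`-minors -/
lemma minorOf_mem (t : ℕ) (M : MinorIdx m n) (h : t ≤ M.1 + 1) :
    minorOf K M ∈ CAlgX.minorIdeal (genMatrix K m n) t := by
  unfold minorOf
  exact Groth.Agent.S11275.det_mem_minorIdeal (genMatrix K m n) t (M.1 + 1) _ M.2.2.1
    (Fin.castLE h) (fun a => M.2.1.1 (Fin.castLE h a)) (Fin.castLE_injective h) (fun a j => rfl)

/-- evaluation of a minor at a matrix -/
lemma aeval_minorOf (Z₀ : Matrix (Fin m) (Fin n) K) (M : MinorIdx m n) :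
    MvPolynomial.aeval (fun p : Fin m × Fin n => Z₀ p.1 p.2) (minorOf K M) =
      (Z₀.submatrix M.2.1.1 M.2.2.1).det := by
  unfold minorOf
  rw [AlgHom.map_det]
  congr 1
  ext i j
  rw [AlgHom.mapMatrix_apply, Matrix.map_apply, Matrix.submatrix_apply, Matrix.submatrix_apply]
  unfold genMatrix
  rw [Matrix.of_apply, aeval_X]

end

end Groth.Agent.H85.Det
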