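import Groth.Agent.H85.PlDegen
import Groth.Agent.H85.DetInv
import Groth.Agent.H85.DetMinor

/-!
# Normality of the cone over a Schubert variety (helper85 library)

`S/J(τ)` is a domain (it embeds in a polynomial ring via the generic matrix of shape `τ`) and it is
integrally closed: `(X_τ)` is a radical ideal of `S/J(τ)` and `S/J(τ)[1/X_τ]` is a retract of a
localisation of a polynomial ring (the big cell).
-/

set_option autoImplicit false
universe u
open W4bk4grassmannian MvPolynomial

namespace Groth.Agent.H85.Pl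

noncomputable section

/-! ### two general lemmas on integral closure -/

/-- if `(f)` is radical and every integral element of the fraction field lies in `R[1/f]`,
then it lies in `R` -/
lemma mem_range_of_radical {R : Type*} [CommRing R] [IsDomain R] {L : Type*} [Field L] [Algebra R L]
    [IsFractionRing R L] (f : R) (hf : f ≠ 0) (hrad : (Ideal.span {f}).IsRadical) (x : L)
    (hx : IsIntegral R x) :
    ∀ (k : ℕ) (r : R), x * algebraMap R L f ^ k = algebraMap R L r →
      ∃ y, algebraMap R L y = x := by
  intro k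
  induction k with
  | zero =>
    intro r h
    exact ⟨r, by rw [← h, pow_zero, mul_one]⟩
  | succ k ih =>
    intro r h
    obtain ⟨p, hp, hpx⟩ := hx
    have hinj : Function.Injective (algebraMap R L) := IsFractionRing.injective R L
    have hdvd : f ^ (k + 1) ∣ r ^ p.natDegree :=
      Polynomial.dvd_pow_natDegree_of_eval₂_eq_zero hinj hp (f ^ (k + 1)) r x hpx
        (by rw [map_pow, mul_comm]; exact h)
    have hmem : r ∈ Ideal.span {f} := by
      apply hrad
      refine ⟨p.natDegree, ?_⟩
      rw [Ideal.mem_span_singleton]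
      exact dvd_trans (dvd_pow_self f (Nat.succ_ne_zero k)) hdvd
    obtain ⟨r', hr'⟩ := Ideal.mem_span_singleton'.mp hmem
    apply ih r'
    have hF : algebraMap R L f ≠ 0 := fun h0 => hf (hinj (by rw [h0, map_zero]))
    apply mul_right_cancel₀ hF
    rw [mul_assoc, ← pow_succ, h, ← hr', map_mul]

/-- integral elements over a retract of an integrally closed domain come from the big ring -/
lemma exists_of_retraction {R P L FP : Type*} [CommRing R] [IsDomain R] [CommRing P]
    [IsDomain P] [IsIntegrallyClosed P] [Field L] [Field FP] [Algebra R L] [IsFractionRing R L]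
    [Algebra P FP] [IsFractionRing P FP]
    (j₀ : R →+* P) (hj₀ : Function.Injective j₀) (ρ : P →+* L)
    (hρ : ∀ r, ρ (j₀ r) = algebraMap R L r) (x : L) (hx : IsIntegral R x) :
    ∃ z : P, ρ z = x := by
  have hg : Function.Injective ((algebraMap P FP).comp j₀) :=
    (IsFractionRing.injective P FP).comp hj₀
  have hJι : ∀ r, (IsFractionRing.lift hg : L →+* FP) (algebraMap R L r) =
      algebraMap P FP (j₀ r) := fun r => IsFractionRing.lift_algebraMap hg r
  have hint : IsIntegral P ((IsFractionRing.lift hg : L →+* FP) x) := by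
    apply IsIntegral.map_of_comp_eq j₀ (IsFractionRing.lift hg : L →+* FP) _ hx
    ext r
    exact (hJι r).symm
  obtain ⟨z, hz⟩ := IsIntegrallyClosed.isIntegral_iff.mp hint
  refine ⟨z, ?_⟩
  obtain ⟨a, b, hb, rfl⟩ := IsFractionRing.div_surjective (A := R) x
  have hb0 : b ≠ 0 := nonZeroDivisors.ne_zero hb
  have hb1 : algebraMap R L b ≠ 0 := fun h0 =>
    hb0 (IsFractionRing.injective R L (by rw [h0, map_zero]))
  have hb2 : algebraMap P FP (j₀ b) ≠ 0 := fun h0 => hb0 (hg (by
    rw [RingHom.comp_apply, h0, map_zero]))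
  have h1 : j₀ a = z * j₀ b := by
    apply IsFractionRing.injective P FP
    rw [map_mul, hz, map_div₀, hJι, hJι, div_mul_cancel₀ _ hb2]
  rw [eq_div_iff hb1, ← hρ b, ← map_mul, ← h1, hρ]

variable {K : Type u} [Field K] [Infinite K] {d n : ℕ}

/-! ### `J(τ)` is the kernel of `Phi τ` -/

lemma ker_Phi (hd : 0 < d) (τ : Idx d n) (f : PlRing K d n) :
    Phi K τ f = 0 ↔ f ∈ schubertVanishing K d n τ := by
  constructor
  · intro hf
    have hspan := span_app (K := K) τ
    have e : (fun c : CC τ => ((chh c).map (xq K τ)).prod) = fun c : CC τ =>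
        Ideal.Quotient.mk (schubertVanishing K d n τ) (chainMon K c.2.1) := funext (prod_chh τ)
    rw [e] at hspan
    have hmem : Ideal.Quotient.mk (schubertVanishing K d n τ) f ∈ Submodule.span K
        (Set.range fun c : CC τ =>
          Ideal.Quotient.mk (schubertVanishing K d n τ) (chainMon K c.2.1)) :=
      hspan Submodule.mem_top
    obtain ⟨l, hl⟩ := Finsupp.mem_span_range_iff_exists_finsupp.mp hmem
    rw [Finsupp.sum] at hl
    have hJ : f - ∑ c ∈ l.support, l c • chainMon K c.2.1 ∈ schubertVanishing K d n τ := by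
      rw [← Ideal.Quotient.eq, map_sum, ← hl]
      apply Finset.sum_congr rfl
      intro c _
      exact (mk_smul' _ _ _).symm
    have hPhi := Phi_eq_zero_of_mem τ hJ
    rw [map_sub, hf, zero_sub, neg_eq_zero, map_sum] at hPhi
    simp only [map_smul] at hPhi
    have hzero := coeff_zero_of_monic_family (MonomialOrder.lex) l.support (fun c => l c)
      (fun c : CC τ => Phi K τ (chainMon K c.2.1)) ?_ ?_ hPhi
    · have hl0 : l.support = ∅ := by
        rw [Finset.eq_empty_iff_forall_notMem]
        intro c hc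
        exact (Finsupp.mem_support_iff.mp hc)
          (hzero c hc (Phi_chainMon_monic τ c.2.1 (CC_le c)).1)
      rw [hl0, Finset.sum_empty] at hl
      exact Ideal.Quotient.eq_zero_iff_mem.mp hl.symm
    · intro c _
      right
      exact (Phi_chainMon_monic τ c.2.1 (CC_le c)).1
    · intro c _ c' _ _ _ hdeg
      rw [(Phi_chainMon_monic τ c.2.1 (CC_le c)).2,
        (Phi_chainMon_monic τ c'.2.1 (CC_le c')).2] at hdeg
      have := chain_eq_of_cexp_eq hd c.2.1 c'.2.1 c.2.2.1 c'.2.2.1 hdeg
      obtain ⟨m, cc, hcc⟩ := c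
      obtain ⟨m', cc', hcc'⟩ := c'
      simp only at this
      cases this
      rfl
  · exact Phi_eq_zero_of_mem τ

lemma isPrime_schubertVanishing (hd : 0 < d) (τ : Idx d n) :
    (schubertVanishing K d n τ).IsPrime := by
  have : schubertVanishing K d n τ = RingHom.ker (Phi K τ).toRingHom := by
    ext f
    rw [RingHom.mem_ker]
    exact (ker_Phi hd τ f).symm
  rw [this]
  exact RingHom.ker_isPrime _

lemma X_notMem (τ : Idx d n) : (X τ : PlRing K d n) ∉ schubertVanishing K d n τ := by
  intro h
  have h1 := Phi_eq_zero_of_mem τ h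
  rw [Phi_X] at h1
  exact (minor_monic (K := K) τ τ le_rfl).1.ne_zero h1

/-! ### `(X_τ)` is radical modulo `J(τ)` -/

lemma isRadical_schubertVanishing (τ : Idx d n) : (schubertVanishing K d n τ).IsRadical := by
  intro f hf
  obtain ⟨k, hk⟩ := hf
  rw [mem_schubertVanishing_iff] at hk ⊢
  intro A hA
  have := hk A hA
  rw [map_pow] at this
  exact eq_zero_of_pow_eq_zero this

lemma isRadical_sup_X (hd : 0 < d) (τ : Idx d n) :
    (schubertVanishing K d n τ ⊔ Ideal.span {(X τ : PlRing K d n)}).IsRadical := by
  by_cases hex : ∃ φ : Idx d n, φ < τ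
  · have h := master (K := K) hd (fun φ : {φ : Idx d n // φ < τ} => φ.1)
      (schubertVanishing K d n τ ⊔ Ideal.span {(X τ : PlRing K d n)}) ?_ ?_ ?_
    · rw [h]
      intro f hf
      rw [Ideal.mem_iInf]
      intro φ
      apply isRadical_schubertVanishing φ.1
      obtain ⟨k, hk⟩ := hf
      exact ⟨k, (Ideal.mem_iInf.mp hk) φ⟩
    · exact le_trans (plIdealTop_le_schubertVanishing τ) le_sup_left
    · apply le_iInf
      intro φ
      apply sup_le
      · exact schubertVanishing_anti φ.2.le
      · rw [Ideal.span_le, Set.singleton_subset_iff]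
        exact X_mem_schubertVanishing φ.1 τ (fun h => absurd φ.2 (not_lt_of_ge h))
    · intro m c hanti hnot
      cases m with
      | zero =>
        exfalso
        obtain ⟨φ, hφ⟩ := hex
        exact hnot ⟨⟨φ, hφ⟩, fun k => k.elim0⟩
      | succ m =>
        by_cases h0 : c 0 ≤ τ
        · by_cases h1 : c 0 = τ
          · have : chainMon K c ∈ Ideal.span {(X τ : PlRing K d n)} := by
              apply chainMon_mem_of_X_mem _ c 0
              rw [h1]
              exact Ideal.subset_span rfl
            exact Ideal.mem_sup_right this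
          · exfalso
            have hlt : c 0 < τ := lt_of_le_of_ne h0 h1
            exact hnot ⟨⟨c 0, hlt⟩, fun k => hanti (Fin.zero_le k)⟩
        · exact Ideal.mem_sup_left
            (chainMon_mem_of_X_mem _ c 0 (X_mem_schubertVanishing τ (c 0) h0))
  · push Not at hex
    have hker : schubertVanishing K d n τ ⊔ Ideal.span {(X τ : PlRing K d n)} =
        RingHom.ker (MvPolynomial.constantCoeff : PlRing K d n →+* K) := by
      apply le_antisymm
      · apply sup_le
        · intro f hf
          rw [RingHom.mem_ker]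
          have hz : ∀ θ : Idx d n,
              ((0 : Matrix (Fin n) (Fin d) K).submatrix θ.1 id).det = 0 := fun θ =>
            Matrix.det_eq_zero_of_row_eq_zero ⟨0, hd⟩ (fun j => rfl)
          have h0 := (mem_schubertVanishing_iff τ f).mp hf 0 (fun φ _ => hz φ)
          have h1 : evalMinors K d n (0 : Matrix (Fin n) (Fin d) K) f =
              MvPolynomial.constantCoeff f := by
            unfold evalMinors
            have : (fun θ : Idx d n =>
                ((0 : Matrix (Fin n) (Fin d) K).submatrix θ.1 id).det) = 0 := funext hz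
            rw [this, MvPolynomial.aeval_zero]
            rfl
          rw [← h1]
          exact h0
        · rw [Ideal.span_le, Set.singleton_subset_iff, SetLike.mem_coe, RingHom.mem_ker,
            MvPolynomial.constantCoeff_X]
      · intro f hf
        rw [RingHom.mem_ker, MvPolynomial.constantCoeff_eq] at hf
        have hmem : f ∈ Ideal.span (X '' (Set.univ : Set (Idx d n))) := by
          rw [MvPolynomial.mem_ideal_span_X_image]
          intro m hm
          have hm0 : m ≠ 0 := by
            rintro rfl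
            rw [MvPolynomial.mem_support_iff] at hm
            exact hm hf
          obtain ⟨i, hi⟩ := Finsupp.ne_iff.mp hm0
          exact ⟨i, Set.mem_univ _, by simpa using hi⟩
        refine (Ideal.span_le.mpr ?_) hmem
        rintro _ ⟨φ, _, rfl⟩
        by_cases hφ : φ = τ
        · rw [hφ]
          exact Ideal.mem_sup_right (Ideal.subset_span rfl)
        · have : ¬ φ ≤ τ := fun hle => hex φ (lt_of_le_of_ne hle hφ)
          exact Ideal.mem_sup_left (X_mem_schubertVanishing τ φ this)
    rw [hker]
    exact (RingHom.ker_isPrime _).isRadical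

lemma isRadical_span_mk_X (hd : 0 < d) (τ : Idx d n) :
    (Ideal.span {Ideal.Quotient.mk (schubertVanishing K d n τ) (X τ)}).IsRadical := by
  have key : ∀ g : PlRing K d n,
      Ideal.Quotient.mk (schubertVanishing K d n τ) g ∈
        Ideal.span {Ideal.Quotient.mk (schubertVanishing K d n τ) (X τ)} ↔
      g ∈ schubertVanishing K d n τ ⊔ Ideal.span {(X τ : PlRing K d n)} := by
    intro g
    constructor
    · intro h
      obtain ⟨a, ha⟩ := Ideal.mem_span_singleton'.mp h
      obtain ⟨a', rfl⟩ := Ideal.Quotient.mk_surjective a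
      rw [← map_mul, Ideal.Quotient.eq] at ha
      have : g = (a' * X τ) - (a' * X τ - g) := by ring
      rw [this]
      exact Ideal.sub_mem _
        (Ideal.mem_sup_right (Ideal.mul_mem_left _ _ (Ideal.subset_span rfl)))
        (Ideal.mem_sup_left ha)
    · intro h
      obtain ⟨j, hj, h', hh', rfl⟩ := Submodule.mem_sup.mp h
      obtain ⟨a, rfl⟩ := Ideal.mem_span_singleton'.mp hh'
      rw [map_add, Ideal.Quotient.eq_zero_iff_mem.mpr hj, zero_add, map_mul]
      exact Ideal.mul_mem_left _ _ (Ideal.subset_span rfl)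
  intro r hr
  obtain ⟨g, rfl⟩ := Ideal.Quotient.mk_surjective r
  obtain ⟨k, hk⟩ := hr
  rw [← map_pow, key] at hk
  rw [key]
  exact isRadical_sup_X hd τ ⟨k, hk⟩

/-! ### the big cell -/

lemma ssum_update (a : Fin d → Fin n) (t : Fin d) (s : Fin n) :
    ssum (Function.update a t s) + (a t).val = ssum a + s.val := by
  unfold ssum
  have h1 := Finset.add_sum_erase Finset.univ
    (fun k => ((Function.update a t s k : Fin n) : ℕ)) (Finset.mem_univ t)
  have h2 := Finset.add_sum_erase Finset.univ (fun k => ((a k : Fin n) : ℕ)) (Finset.mem_univ t)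
  have h3 : ∑ x ∈ Finset.univ.erase t, ((Function.update a t s x : Fin n) : ℕ) =
      ∑ x ∈ Finset.univ.erase t, ((a x : Fin n) : ℕ) := by
    apply Finset.sum_congr rfl
    intro x hx
    rw [Function.update_of_ne (Finset.ne_of_mem_erase hx)]
  simp only [Function.update_self] at h1
  omega

lemma coord_update_mem (τ : Idx d n) (t : Fin d) (s : Fin n) (h : τ.1 t < s) :
    coord K d n (Function.update τ.1 t s) ∈ schubertVanishing K d n τ := by
  rcases coord_cases (K := K) (Function.update τ.1 t s) with h0 | ⟨α, hα, hsum⟩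
  · rw [h0]
    exact Ideal.zero_mem _
  · have hα' : ¬ α ≤ τ := by
      intro hle
      have h1 := ssum_mono hle
      have h2 := ssum_update τ.1 t s
      have h3 : (τ.1 t).val < s.val := h
      omega
    rcases hα with h1 | h1
    · rw [h1]
      exact X_mem_schubertVanishing τ α hα'
    · rw [h1]
      exact neg_mem (X_mem_schubertVanishing τ α hα')

lemma Phi_coord (τ : Idx d n) (a : Fin d → Fin n) :
    Phi K τ (coord K d n a) = ((shaped K τ).submatrix a id).det := by
  unfold Phi
  rw [← MvPolynomial.aeval_map_algebraMap (MvPolynomial (Var d n) K), Det.map_coord]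
  exact evalMinors_coord (shaped K τ) a

lemma Phi_det_Gm (τ θ : Idx d n) :
    Phi K τ (Matrix.det
      (Matrix.of fun i t : Fin d => coord K d n (Function.update τ.1 t (θ.1 i)))) =
      Phi K τ (X θ * X τ ^ (d - 1)) := by
  rw [AlgHom.map_det, map_mul, map_pow, Phi_X, Phi_X]
  have h1 : (Phi K τ).mapMatrix
      (Matrix.of fun i t : Fin d => coord K d n (Function.update τ.1 t (θ.1 i))) =
      (shaped K τ).submatrix θ.1 id * ((shaped K τ).submatrix τ.1 id).adjugate := by
    ext i t
    rw [AlgHom.mapMatrix_apply, Matrix.map_apply, Matrix.of_apply, Phi_coord,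
      ← Inv.mul_adjugate_apply]
    rfl
  rw [h1, Matrix.det_mul, Matrix.det_adjugate, Fintype.card_fin]

lemma prod_ite_zero {L : Type*} [CommMonoid L] (hd : 0 < d) (c : L) :
    ∏ t : Fin d, (if t = ⟨0, hd⟩ then (1 : L) else c) = c ^ (d - 1) := by
  rw [Finset.prod_ite, Finset.prod_const_one, one_mul, Finset.prod_const, Finset.filter_ne',
    Finset.card_erase_of_mem (Finset.mem_univ _), Finset.card_univ, Fintype.card_fin]

section retraction

variable {L : Type*} [Field L] (ιS : PlRing K d n →+* L)

/-- entries of the normalised matrix -/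
def Mq (hd : 0 < d) (τ : Idx d n) (s : Fin n) (t : Fin d) : L :=
  ιS (coord K d n (Function.update τ.1 t s)) * (if t = ⟨0, hd⟩ then 1 else (ιS (X τ))⁻¹)

/-- the retraction of the polynomial ring onto the coordinate ring of the big cell -/
def retr (hd : 0 < d) (τ : Idx d n) : MvPolynomial (Var d n) K →+* L :=
  MvPolynomial.eval₂Hom (ιS.comp MvPolynomial.C)
    (fun v : Var d n => Mq ιS hd τ (ofLex v).1 (ofLex v).2)

lemma retr_C (hd : 0 < d) (τ : Idx d n) (a : K) : retr ιS hd τ (C a) = ιS (C a) := by
  unfold retr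
  rw [MvPolynomial.eval₂Hom_C]
  rfl

lemma retr_X (hd : 0 < d) (τ : Idx d n) (v : Var d n) :
    retr ιS hd τ (X v) = Mq ιS hd τ (ofLex v).1 (ofLex v).2 := by
  unfold retr
  rw [MvPolynomial.eval₂Hom_X']

lemma retr_shaped (hd : 0 < d) (τ : Idx d n)
    (hker : ∀ f ∈ schubertVanishing K d n τ, ιS f = 0) (s : Fin n) (t : Fin d) :
    retr ιS hd τ (shaped K τ s t) = Mq ιS hd τ s t := by
  by_cases h : s ≤ τ.1 t
  · rw [shaped_pos τ s t h, retr_X]
    rfl
  · rw [shaped_zero τ s t h, map_zero]
    unfold Mq
    rw [hker _ (coord_update_mem τ t s (lt_of_not_ge h)), zero_mul]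

lemma iota_det_Gm (hd : 0 < d) (τ θ : Idx d n)
    (hker : ∀ f ∈ schubertVanishing K d n τ, ιS f = 0) :
    ιS (Matrix.det
      (Matrix.of fun i t : Fin d => coord K d n (Function.update τ.1 t (θ.1 i)))) =
      ιS (X θ) * ιS (X τ) ^ (d - 1) := by
  have h1 : Matrix.det
      (Matrix.of fun i t : Fin d => coord K d n (Function.update τ.1 t (θ.1 i))) -
      X θ * X τ ^ (d - 1) ∈ schubertVanishing K d n τ := by
    rw [← ker_Phi hd, map_sub, Phi_det_Gm, sub_self]
  have h2 := hker _ h1
  rw [map_sub, sub_eq_zero] at h2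
  rw [h2, map_mul, map_pow]

lemma retr_Phi (hd : 0 < d) (τ : Idx d n)
    (hker : ∀ f ∈ schubertVanishing K d n τ, ιS f = 0) (hF : ιS (X τ) ≠ 0) (f : PlRing K d n) :
    retr ιS hd τ (Phi K τ f) = ιS f := by
  have hcomp : (retr ιS hd τ).comp (Phi K τ).toRingHom = ιS := by
    apply MvPolynomial.ringHom_ext
    · intro a
      have h1 : (Phi K τ).toRingHom (C a) = C a := MvPolynomial.algHom_C (Phi K τ) a
      rw [RingHom.comp_apply, h1, retr_C]
    · intro θ
      have h0 : (Phi K τ).toRingHom (X θ) = ((shaped K τ).submatrix θ.1 id).det := Phi_X τ θ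
      rw [RingHom.comp_apply, h0, RingHom.map_det]
      have h1 : (retr ιS hd τ).mapMatrix ((shaped K τ).submatrix θ.1 id) =
          Matrix.of (fun i t : Fin d => (if t = ⟨0, hd⟩ then 1 else (ιS (X τ))⁻¹) *
            (ιS.mapMatrix (Matrix.of fun i t : Fin d =>
              coord K d n (Function.update τ.1 t (θ.1 i)))) i t) := by
        ext i t
        simp only [RingHom.mapMatrix_apply, Matrix.map_apply, Matrix.submatrix_apply, id,
          Matrix.of_apply]
        rw [retr_shaped ιS hd τ hker]
        unfold Mq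
        rw [mul_comm]
      rw [h1, Matrix.det_mul_row, ← RingHom.map_det, iota_det_Gm ιS hd τ θ hker,
        prod_ite_zero hd, inv_pow, mul_comm (ιS (X θ)), ← mul_assoc,
        inv_mul_cancel₀ (pow_ne_zero _ hF), one_mul]
  exact DFunLike.congr_fun hcomp f

lemma Mq_mul (hd : 0 < d) (τ : Idx d n) (hF : ιS (X τ) ≠ 0) (s : Fin n) (t : Fin d) :
    ∃ g : PlRing K d n, Mq ιS hd τ s t * ιS (X τ) = ιS g := by
  unfold Mq
  by_cases h : t = ⟨0, hd⟩
  · rw [if_pos h, mul_one, ← map_mul]
    exact ⟨_, rfl⟩
  · rw [if_neg h, mul_assoc, inv_mul_cancel₀ hF, mul_one]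
    exact ⟨_, rfl⟩

lemma retr_mul_pow (hd : 0 < d) (τ : Idx d n) (hF : ιS (X τ) ≠ 0)
    (z : MvPolynomial (Var d n) K) :
    ∃ (k : ℕ) (g : PlRing K d n), retr ιS hd τ z * ιS (X τ) ^ k = ιS g := by
  induction z using MvPolynomial.induction_on with
  | C a => exact ⟨0, C a, by rw [pow_zero, mul_one, retr_C]⟩
  | add p q hp hq =>
    obtain ⟨k1, g1, h1⟩ := hp
    obtain ⟨k2, g2, h2⟩ := hq
    refine ⟨k1 + k2, g1 * X τ ^ k2 + g2 * X τ ^ k1, ?_⟩
    rw [map_add, map_add, map_mul, map_mul, map_pow, map_pow, ← h1, ← h2]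
    ring
  | mul_X p v hp =>
    obtain ⟨k, g, h⟩ := hp
    obtain ⟨g', hg'⟩ := Mq_mul ιS hd τ hF (ofLex v).1 (ofLex v).2
    refine ⟨k + 1, g * g', ?_⟩
    rw [map_mul, map_mul, retr_X, ← h, ← hg']
    ring

end retraction

/-- **Normality of Schubert cones.** -/
theorem normal (hd : 0 < d) (τ : Idx d n) :
    IsDomain (PlRing K d n ⧸ schubertVanishing K d n τ) ∧
      IsIntegrallyClosed (PlRing K d n ⧸ schubertVanishing K d n τ) := by
  haveI hprime := isPrime_schubertVanishing (K := K) hd τ
  haveI hdom : IsDomain (PlRing K d n ⧸ schubertVanishing K d n τ) :=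
    Ideal.Quotient.isDomain _
  refine ⟨hdom, ?_⟩
  rw [isIntegrallyClosed_iff (FractionRing (PlRing K d n ⧸ schubertVanishing K d n τ))]
  intro x hx
  -- the maps
  have hinj : Function.Injective (algebraMap (PlRing K d n ⧸ schubertVanishing K d n τ)
      (FractionRing (PlRing K d n ⧸ schubertVanishing K d n τ))) := IsFractionRing.injective _ _
  have hker : ∀ f ∈ schubertVanishing K d n τ,
      ((algebraMap (PlRing K d n ⧸ schubertVanishing K d n τ)
        (FractionRing (PlRing K d n ⧸ schubertVanishing K d n τ))).comp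
        (Ideal.Quotient.mk (schubertVanishing K d n τ))) f = 0 := by
    intro f hf
    rw [RingHom.comp_apply, Ideal.Quotient.eq_zero_iff_mem.mpr hf, map_zero]
  have hmk : Ideal.Quotient.mk (schubertVanishing K d n τ) (X τ) ≠ 0 := fun h0 =>
    X_notMem τ (Ideal.Quotient.eq_zero_iff_mem.mp h0)
  have hF : ((algebraMap (PlRing K d n ⧸ schubertVanishing K d n τ)
        (FractionRing (PlRing K d n ⧸ schubertVanishing K d n τ))).comp
        (Ideal.Quotient.mk (schubertVanishing K d n τ))) (X τ) ≠ 0 := by
    intro h0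
    rw [RingHom.comp_apply] at h0
    exact hmk (hinj (by rw [h0, map_zero]))
  -- the embedding into the polynomial ring
  have hj₀ : Function.Injective (Ideal.Quotient.lift (schubertVanishing K d n τ)
      (Phi K τ).toRingHom (fun f hf => Phi_eq_zero_of_mem τ hf)) := by
    rw [injective_iff_map_eq_zero]
    intro r hr
    obtain ⟨f, rfl⟩ := Ideal.Quotient.mk_surjective r
    rw [Ideal.Quotient.lift_mk] at hr
    exact Ideal.Quotient.eq_zero_iff_mem.mpr ((ker_Phi hd τ f).mp hr)
  obtain ⟨z, hz⟩ := exists_of_retraction (FP := FractionRing (MvPolynomial (Var d n) K))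
    (Ideal.Quotient.lift (schubertVanishing K d n τ)
      (Phi K τ).toRingHom (fun f hf => Phi_eq_zero_of_mem τ hf)) hj₀
    (retr ((algebraMap (PlRing K d n ⧸ schubertVanishing K d n τ)
        (FractionRing (PlRing K d n ⧸ schubertVanishing K d n τ))).comp
        (Ideal.Quotient.mk (schubertVanishing K d n τ))) hd τ)
    (by
      intro r
      obtain ⟨f, rfl⟩ := Ideal.Quotient.mk_surjective r
      rw [Ideal.Quotient.lift_mk]
      exact retr_Phi _ hd τ hker hF f) x hx
  obtain ⟨k, g, hkg⟩ := retr_mul_pow ((algebraMap (PlRing K d n ⧸ schubertVanishing K d n τ)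
        (FractionRing (PlRing K d n ⧸ schubertVanishing K d n τ))).comp
        (Ideal.Quotient.mk (schubertVanishing K d n τ))) hd τ hF z
  rw [hz] at hkg
  exact mem_range_of_radical (Ideal.Quotient.mk (schubertVanishing K d n τ) (X τ)) hmk
    (isRadical_span_mk_X hd τ) x hx k (Ideal.Quotient.mk _ g) hkg

end

end Groth.Agent.H85.Pl
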