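import Mathlib
import Groth.Agent.H85.PlNormal
import Groth.Agent.H85.CMQ

/-!
# Dehomogenization of a homogeneous prime of a polynomial ring (helper85)

Let `J` be a homogeneous prime ideal of `S = K[X_i]` and `i0` an index with `X_{i0} ∉ J`.
With `B = S ⧸ J`, `x0` the class of `X_{i0}` and `L = B[1/x0]`, the ring map
`lam : S → L`, `X_i ↦ x_i / x0` has kernel `J ⊔ (X_{i0} - 1)`. Hence this ideal is prime, and
`S ⧸ (J ⊔ (X_{i0} - 1))` is a retract of `L`; if `B` is integrally closed so is this quotient.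

Also: the quotient of a Cohen–Macaulay ring `A ⧸ 𝔞` by a nonzerodivisor is Cohen–Macaulay.
-/

set_option autoImplicit false
set_option linter.style.haveILetI false
universe u v

namespace Groth.Agent.H85.Dehom

open MvPolynomial

section CM

open Groth.Agent.H29.CM Groth.Agent.H29.GenDepth Groth.Agent.H85.CMInf

variable {A : Type u} [CommRing A] [IsNoetherianRing A]

theorem isCM_atPrime_quot_sup_span (𝔞 : Ideal A) (x : A) (hreg : IsSMulRegular (A ⧸ 𝔞) x)
    (hcm : LocCoh.IsCohenMacaulayRing (A ⧸ 𝔞)) (q : Ideal A) [hq : q.IsPrime]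
    (hle : 𝔞 ⊔ Ideal.span {x} ≤ q) :
    LocCoh.IsCohenMacaulayModule (Localization.AtPrime q)
      (LocalizedModule q.primeCompl (A ⧸ (𝔞 ⊔ Ideal.span {x}))) := by
  have h𝔞q : 𝔞 ≤ q := le_sup_left.trans hle
  have hxq : x ∈ q := hle (Ideal.mem_sup_right (Ideal.subset_span rfl))
  haveI hq' : (q.map (Ideal.Quotient.mk 𝔞)).IsPrime :=
    Ideal.map_isPrime_of_surjective Ideal.Quotient.mk_surjective
      (by rw [Ideal.mk_ker]; exact h𝔞q)
  have hM : LocCoh.IsCohenMacaulayModule (Localization.AtPrime q)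
      (LocalizedModule q.primeCompl (A ⧸ 𝔞)) :=
    (isCMLocalRing_map_iff 𝔞 q h𝔞q).1 (hcm.isCohenMacaulayLocalRing_localization _)
  haveI : Module.Flat A (Localization.AtPrime q) := IsLocalization.flat _ q.primeCompl
  have hreg' : IsSMulRegular (LocalizedModule q.primeCompl (A ⧸ 𝔞))
      (algebraMap A (Localization.AtPrime q) x) :=
    hreg.of_flat_of_isBaseChange (IsLocalizedModule.isBaseChange q.primeCompl
      (Localization.AtPrime q) (LocalizedModule.mkLinearMap q.primeCompl (A ⧸ 𝔞)))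
  have hxm : algebraMap A (Localization.AtPrime q) x ∈
      IsLocalRing.maximalIdeal (Localization.AtPrime q) := algebraMap_mem_maximalIdeal hxq
  have hQ := isCM_quotSMulTop (A := Localization.AtPrime q)
    (M := LocalizedModule q.primeCompl (A ⧸ 𝔞)) hM hxm hreg'
  have e1 : LocalizedModule q.primeCompl (QuotSMulTop x (A ⧸ 𝔞)) ≃ₗ[Localization.AtPrime q]
      LocalizedModule q.primeCompl (A ⧸ (𝔞 ⊔ Ideal.span {x})) :=
    IsLocalizedModule.mapEquiv q.primeCompl
      (LocalizedModule.mkLinearMap q.primeCompl (QuotSMulTop x (A ⧸ 𝔞)))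
      (LocalizedModule.mkLinearMap q.primeCompl (A ⧸ (𝔞 ⊔ Ideal.span {x})))
      (Localization.AtPrime q) (Groth.Agent.H85.CMQ.quotSMulTopEquiv 𝔞 x)
  have e2 := Groth.Agent.H71.DL.locQuotEquiv (A ⧸ 𝔞) q x
  exact isCM_of_equiv (e2.symm.trans e1) hQ

/-- The quotient of a Cohen–Macaulay ring by a nonzerodivisor is Cohen–Macaulay. -/
theorem isCMRing_quot_sup_span (𝔞 : Ideal A) (x : A) (hreg : IsSMulRegular (A ⧸ 𝔞) x)
    (hcm : LocCoh.IsCohenMacaulayRing (A ⧸ 𝔞)) :
    LocCoh.IsCohenMacaulayRing (A ⧸ (𝔞 ⊔ Ideal.span {x})) := by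
  refine ⟨fun Pb hPb => ?_⟩
  haveI := hPb
  rw [isCMLocalRing_iff_isCMModule_atPrime (𝔞 ⊔ Ideal.span {x}) Pb]
  apply isCM_atPrime_quot_sup_span 𝔞 x hreg hcm
  intro a ha
  rw [Ideal.mem_comap, Ideal.Quotient.eq_zero_iff_mem.mpr ha]
  exact Pb.zero_mem

end CM

section Scale

variable {K : Type u} [CommSemiring K] {σ : Type v}

theorem eval₂_scale {L : Type*} [CommSemiring L] (f : K →+* L) (p : σ → L) (c : L)
    {g : MvPolynomial σ K} {k : ℕ} (hg : g.IsHomogeneous k) :
    MvPolynomial.eval₂ f (fun θ => p θ * c) g = MvPolynomial.eval₂ f p g * c ^ k := by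
  rw [MvPolynomial.eval₂_eq, MvPolynomial.eval₂_eq, Finset.sum_mul]
  apply Finset.sum_congr rfl
  intro m hm
  have hk := hg.degree_eq_sum_deg_support hm
  have h1 : ∏ i ∈ m.support, (p i * c) ^ m i = (∏ i ∈ m.support, p i ^ m i) * c ^ k := by
    rw [hk, ← Finset.prod_pow_eq_pow_sum, ← Finset.prod_mul_distrib]
    exact Finset.prod_congr rfl (fun i _ => mul_pow _ _ _)
  rw [h1, mul_assoc]

end Scale

noncomputable section Main

variable {K : Type u} [Field K] {σ : Type v} (J : Ideal (MvPolynomial σ K)) (i0 : σ)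

/-- the class of `X_{i0}` -/
def x0 : MvPolynomial σ K ⧸ J := Ideal.Quotient.mk J (X i0)

/-- `S → B → B[1/x0]` -/
def q : MvPolynomial σ K →+* Localization.Away (x0 J i0) :=
  (algebraMap (MvPolynomial σ K ⧸ J) (Localization.Away (x0 J i0))).comp (Ideal.Quotient.mk J)

/-- the inverse of `x0` -/
def inv : Localization.Away (x0 J i0) := IsLocalization.Away.invSelf (x0 J i0)

theorem q_mul_inv : q J i0 (X i0) * inv J i0 = 1 :=
  IsLocalization.Away.mul_invSelf (x0 J i0)

/-- `X_i ↦ x_i / x0` -/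
def lam : MvPolynomial σ K →+* Localization.Away (x0 J i0) :=
  MvPolynomial.eval₂Hom ((q J i0).comp C) (fun θ => q J i0 (X θ) * inv J i0)

theorem eval₂Hom_q :
    MvPolynomial.eval₂Hom ((q J i0).comp C) (fun θ => q J i0 (X θ)) = q J i0 := by
  apply MvPolynomial.ringHom_ext
  · intro a
    rw [MvPolynomial.eval₂Hom_C]
    rfl
  · intro i
    rw [MvPolynomial.eval₂Hom_X']

theorem lam_hom {g : MvPolynomial σ K} {k : ℕ} (hg : g.IsHomogeneous k) :
    lam J i0 g = q J i0 g * inv J i0 ^ k := by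
  have h1 : lam J i0 g = MvPolynomial.eval₂ ((q J i0).comp C)
      (fun θ => q J i0 (X θ) * inv J i0) g := rfl
  rw [h1, eval₂_scale _ _ _ hg]
  congr 1
  exact congrArg (fun φ : MvPolynomial σ K →+* Localization.Away (x0 J i0) => φ g)
    (eval₂Hom_q J i0)

theorem lam_X (θ : σ) : lam J i0 (X θ) = q J i0 (X θ) * inv J i0 := by
  unfold lam
  rw [MvPolynomial.eval₂Hom_X']

theorem lam_C (a : K) : lam J i0 (C a) = q J i0 (C a) := by
  unfold lam
  rw [MvPolynomial.eval₂Hom_C]
  rfl

theorem q_eq_zero {f : MvPolynomial σ K} (hf : f ∈ J) : q J i0 f = 0 := by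
  show algebraMap (MvPolynomial σ K ⧸ J) (Localization.Away (x0 J i0))
    (Ideal.Quotient.mk J f) = 0
  rw [Ideal.Quotient.eq_zero_iff_mem.mpr hf, map_zero]

theorem lam_eq_sum (f : MvPolynomial σ K) :
    lam J i0 f = ∑ k ∈ Finset.range (f.totalDegree + 1),
      q J i0 (homogeneousComponent k f) * inv J i0 ^ k := by
  conv_lhs => rw [← MvPolynomial.sum_homogeneousComponent f]
  rw [map_sum]
  exact Finset.sum_congr rfl (fun k _ => lam_hom J i0 (homogeneousComponent_isHomogeneous k f))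

theorem lam_eq_zero_of_mem (hJ : ∀ f ∈ J, ∀ k, homogeneousComponent k f ∈ J)
    {f : MvPolynomial σ K} (hf : f ∈ J) : lam J i0 f = 0 := by
  rw [lam_eq_sum]
  apply Finset.sum_eq_zero
  intro k _
  rw [q_eq_zero J i0 (hJ f hf k), zero_mul]

theorem lam_X_sub_one : lam J i0 (X i0 - 1) = 0 := by
  rw [map_sub, map_one, lam_X, sub_eq_zero]
  exact q_mul_inv J i0

variable [hJp : J.IsPrime]

omit hJp in
theorem x0_ne_zero (hi0 : (X i0 : MvPolynomial σ K) ∉ J) : x0 J i0 ≠ 0 :=
  fun h => hi0 (Ideal.Quotient.eq_zero_iff_mem.mp h)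

theorem mem_of_lam_eq_zero (hi0 : (X i0 : MvPolynomial σ K) ∉ J) {f : MvPolynomial σ K}
    (hf : lam J i0 f = 0) : f ∈ J ⊔ Ideal.span {(X i0 - 1 : MvPolynomial σ K)} := by
  have hinj : Function.Injective
      (algebraMap (MvPolynomial σ K ⧸ J) (Localization.Away (x0 J i0))) :=
    IsLocalization.injective _
      (powers_le_nonZeroDivisors_of_noZeroDivisors (x0_ne_zero J i0 hi0))
  obtain ⟨g, hg⟩ : ∃ g : MvPolynomial σ K, g = ∑ k ∈ Finset.range (f.totalDegree + 1),
      homogeneousComponent k f * X i0 ^ (f.totalDegree - k) := ⟨_, rfl⟩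
  have ha : q J i0 (X i0) * inv J i0 = 1 := q_mul_inv J i0
  have hqg : q J i0 g = lam J i0 f * (q J i0 (X i0)) ^ f.totalDegree := by
    rw [lam_eq_sum, Finset.sum_mul, hg, map_sum]
    apply Finset.sum_congr rfl
    intro k hk
    have hk' : k ≤ f.totalDegree := Nat.lt_succ_iff.mp (Finset.mem_range.mp hk)
    rw [map_mul, map_pow]
    have h2 : (q J i0 (X i0)) ^ f.totalDegree =
        (q J i0 (X i0)) ^ (f.totalDegree - k) * (q J i0 (X i0)) ^ k := by
      rw [← pow_add, Nat.sub_add_cancel hk']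
    rw [h2]
    calc q J i0 (homogeneousComponent k f) * q J i0 (X i0) ^ (f.totalDegree - k)
        = q J i0 (homogeneousComponent k f) * q J i0 (X i0) ^ (f.totalDegree - k) *
            (q J i0 (X i0) * inv J i0) ^ k := by rw [ha, one_pow, mul_one]
      _ = _ := by rw [mul_pow]; ring
  rw [hf, zero_mul] at hqg
  have hgJ : g ∈ J := by
    rw [← Ideal.Quotient.eq_zero_iff_mem]
    apply hinj
    rw [map_zero]
    exact hqg
  have hd : ∀ j : ℕ, (X i0 - 1 : MvPolynomial σ K) ∣ 1 - X i0 ^ j := by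
    intro j
    have h := one_sub_dvd_one_sub_pow (X i0 : MvPolynomial σ K) j
    rwa [← neg_sub (X i0 : MvPolynomial σ K) 1, neg_dvd] at h
  have hf' : f = ∑ k ∈ Finset.range (f.totalDegree + 1), homogeneousComponent k f :=
    (MvPolynomial.sum_homogeneousComponent f).symm
  have hfg : f - g ∈ Ideal.span {(X i0 - 1 : MvPolynomial σ K)} := by
    have h3 : f - g = ∑ k ∈ Finset.range (f.totalDegree + 1),
        homogeneousComponent k f * (1 - X i0 ^ (f.totalDegree - k)) := by
      rw [hg]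
      calc f - ∑ k ∈ Finset.range (f.totalDegree + 1),
            homogeneousComponent k f * X i0 ^ (f.totalDegree - k)
          = (∑ k ∈ Finset.range (f.totalDegree + 1), homogeneousComponent k f) -
            ∑ k ∈ Finset.range (f.totalDegree + 1),
              homogeneousComponent k f * X i0 ^ (f.totalDegree - k) :=
            congrArg (fun z => z - ∑ k ∈ Finset.range (f.totalDegree + 1),
              homogeneousComponent k f * X i0 ^ (f.totalDegree - k)) hf'
        _ = _ := by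
            rw [← Finset.sum_sub_distrib]
            apply Finset.sum_congr rfl
            intro k _
            ring
    rw [h3]
    exact Ideal.sum_mem _ (fun k _ => Ideal.mul_mem_left _ _
      (Ideal.mem_span_singleton.mpr (hd _)))
  have h4 : f = g + (f - g) := by ring
  rw [h4]
  exact Submodule.add_mem_sup hgJ hfg

theorem ker_lam (hJ : ∀ f ∈ J, ∀ k, homogeneousComponent k f ∈ J)
    (hi0 : (X i0 : MvPolynomial σ K) ∉ J) :
    RingHom.ker (lam J i0) = J ⊔ Ideal.span {(X i0 - 1 : MvPolynomial σ K)} := by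
  ext f
  rw [RingHom.mem_ker]
  constructor
  · exact mem_of_lam_eq_zero J i0 hi0
  · intro h
    obtain ⟨a, ha, b, hb, rfl⟩ := Submodule.mem_sup.mp h
    obtain ⟨c, rfl⟩ := Ideal.mem_span_singleton'.mp hb
    rw [map_add, lam_eq_zero_of_mem J i0 hJ ha, zero_add, map_mul, lam_X_sub_one, mul_zero]

theorem isDomain_loc (hi0 : (X i0 : MvPolynomial σ K) ∉ J) :
    IsDomain (Localization.Away (x0 J i0)) :=
  IsLocalization.isDomain_localization
    (powers_le_nonZeroDivisors_of_noZeroDivisors (x0_ne_zero J i0 hi0))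

theorem isPrime_sup (hJ : ∀ f ∈ J, ∀ k, homogeneousComponent k f ∈ J)
    (hi0 : (X i0 : MvPolynomial σ K) ∉ J) :
    (J ⊔ Ideal.span {(X i0 - 1 : MvPolynomial σ K)}).IsPrime := by
  haveI := isDomain_loc J i0 hi0
  rw [← ker_lam J i0 hJ hi0]
  exact RingHom.ker_isPrime _

theorem isIntegrallyClosed_quot (hJ : ∀ f ∈ J, ∀ k, homogeneousComponent k f ∈ J)
    (hi0 : (X i0 : MvPolynomial σ K) ∉ J) [IsIntegrallyClosed (MvPolynomial σ K ⧸ J)]
    [hP : (J ⊔ Ideal.span {(X i0 - 1 : MvPolynomial σ K)}).IsPrime] :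
    IsIntegrallyClosed (MvPolynomial σ K ⧸ (J ⊔ Ideal.span {(X i0 - 1 : MvPolynomial σ K)})) := by
  haveI := isDomain_loc J i0 hi0
  haveI : IsIntegrallyClosed (Localization.Away (x0 J i0)) :=
    isIntegrallyClosed_of_isLocalization (Localization.Away (x0 J i0))
      (Submonoid.powers (x0 J i0))
      (powers_le_nonZeroDivisors_of_noZeroDivisors (x0_ne_zero J i0 hi0))
  have hker := ker_lam J i0 hJ hi0
  -- the inclusion
  let ι : (MvPolynomial σ K ⧸ (J ⊔ Ideal.span {(X i0 - 1 : MvPolynomial σ K)})) →+*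
      Localization.Away (x0 J i0) :=
    Ideal.Quotient.lift _ (lam J i0) (fun a ha => by
      rw [← RingHom.mem_ker, hker]
      exact ha)
  have hι : Function.Injective ι := by
    rw [injective_iff_map_eq_zero]
    intro y hy
    obtain ⟨a, rfl⟩ := Ideal.Quotient.mk_surjective y
    rw [Ideal.Quotient.eq_zero_iff_mem, ← hker, RingHom.mem_ker]
    exact hy
  -- the retraction
  have hunit : IsUnit ((Ideal.Quotient.factor
      (le_sup_left : J ≤ J ⊔ Ideal.span {(X i0 - 1 : MvPolynomial σ K)})) (x0 J i0)) := by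
    have h1 : (Ideal.Quotient.factor
        (le_sup_left : J ≤ J ⊔ Ideal.span {(X i0 - 1 : MvPolynomial σ K)})) (x0 J i0) = 1 := by
      unfold x0
      rw [Ideal.Quotient.factor_mk, ← map_one (Ideal.Quotient.mk _), Ideal.Quotient.eq]
      exact Ideal.mem_sup_right (Ideal.subset_span rfl)
    rw [h1]
    exact isUnit_one
  let ρ : Localization.Away (x0 J i0) →+*
      (MvPolynomial σ K ⧸ (J ⊔ Ideal.span {(X i0 - 1 : MvPolynomial σ K)})) :=
    IsLocalization.Away.lift (x0 J i0) hunit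
  have hρq : ∀ f : MvPolynomial σ K, ρ (q J i0 f) = Ideal.Quotient.mk _ f := by
    intro f
    show ρ (algebraMap (MvPolynomial σ K ⧸ J) (Localization.Away (x0 J i0))
      (Ideal.Quotient.mk J f)) = _
    rw [IsLocalization.Away.lift_eq, Ideal.Quotient.factor_mk]
  have hρinv : ρ (inv J i0) = 1 := by
    have h1 : ρ (q J i0 (X i0)) * ρ (inv J i0) = 1 := by
      rw [← map_mul, q_mul_inv, map_one]
    have h2 : ρ (q J i0 (X i0)) = 1 := by
      rw [hρq, ← map_one (Ideal.Quotient.mk _), Ideal.Quotient.eq]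
      exact Ideal.mem_sup_right (Ideal.subset_span rfl)
    rwa [h2, one_mul] at h1
  have hcomp : ρ.comp (lam J i0) = Ideal.Quotient.mk _ := by
    apply MvPolynomial.ringHom_ext
    · intro a
      rw [RingHom.comp_apply, lam_C, hρq]
    · intro i
      rw [RingHom.comp_apply, lam_X, map_mul, hρq, hρinv, mul_one]
  have hρι : ∀ y, ρ (ι y) = y := by
    intro y
    obtain ⟨a, rfl⟩ := Ideal.Quotient.mk_surjective y
    show ρ (lam J i0 a) = _
    exact congrArg (fun φ : MvPolynomial σ K →+* _ => φ a) hcomp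
  refine (isIntegrallyClosed_iff (FractionRing
    (MvPolynomial σ K ⧸ (J ⊔ Ideal.span {(X i0 - 1 : MvPolynomial σ K)})))).mpr ?_
  intro x hx
  obtain ⟨z, hz⟩ := Groth.Agent.H85.Pl.exists_of_retraction
    (R := MvPolynomial σ K ⧸ (J ⊔ Ideal.span {(X i0 - 1 : MvPolynomial σ K)}))
    (P := Localization.Away (x0 J i0))
    (L := FractionRing (MvPolynomial σ K ⧸ (J ⊔ Ideal.span {(X i0 - 1 : MvPolynomial σ K)})))
    (FP := FractionRing (Localization.Away (x0 J i0))) ι hι
    ((algebraMap _ (FractionRing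
      (MvPolynomial σ K ⧸ (J ⊔ Ideal.span {(X i0 - 1 : MvPolynomial σ K)})))).comp ρ)
    (fun r => by rw [RingHom.comp_apply, hρι]) x hx
  exact ⟨ρ z, hz⟩

end Main

end Groth.Agent.H85.Dehom
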