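import Groth.Agent.S11267
import Groth.Agent.H54.AffineTrdeg
import Groth.Agent.H21.TrdegDim
import Groth.Agent.H9.DimBaseField

/-!
# Krull dimension of generic determinantal rings

`dim k[x_{ij}]/I_{r+1} = r (m + n - r)` for the generic `n × m` matrix.  Over an algebraically
closed field the quotient is a domain (second fundamental theorem, S11267), the entries in the first
`r` rows and first `r` columns (the *hook*) are algebraically independent, and every entry is
algebraic over them (Laplace expansion of a bordered minor); so the transcendence degree is the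
number of hook entries.  The general case follows by base change to an algebraic closure.
-/

universe u

open W4bk4grassmannian MvPolynomial TensorProduct

namespace Groth.Agent.H85.DetDim

/-- positions in the first `r` rows or the first `r` columns -/
abbrev HookT (n m r : ℕ) : Type := {p : Fin n × Fin m // p.1.val < r ∨ p.2.val < r}

lemma card_hook {n m r : ℕ} (hrn : r ≤ n) (hrm : r ≤ m) :
    Fintype.card (HookT n m r) = r * (m + n - r) := by
  have hn : (Finset.univ.filter (fun i : Fin n => ¬ i.val < r)).card = n - r := by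
    have h := Finset.card_filter_add_card_filter_not
      (s := (Finset.univ : Finset (Fin n))) (fun i : Fin n => i.val < r)
    rw [Fin.card_filter_val_lt, Finset.card_univ, Fintype.card_fin] at h
    have : min n r = r := min_eq_right hrn
    omega
  have hm : (Finset.univ.filter (fun j : Fin m => ¬ j.val < r)).card = m - r := by
    have h := Finset.card_filter_add_card_filter_not
      (s := (Finset.univ : Finset (Fin m))) (fun j : Fin m => j.val < r)
    rw [Fin.card_filter_val_lt, Finset.card_univ, Fintype.card_fin] at h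
    have : min m r = r := min_eq_right hrm
    omega
  have hc : (Finset.univ.filter
      (fun p : Fin n × Fin m => ¬ (p.1.val < r ∨ p.2.val < r))).card = (n - r) * (m - r) := by
    have : Finset.univ.filter (fun p : Fin n × Fin m => ¬ (p.1.val < r ∨ p.2.val < r)) =
        (Finset.univ.filter (fun i : Fin n => ¬ i.val < r)) ×ˢ
          (Finset.univ.filter (fun j : Fin m => ¬ j.val < r)) := by
      ext p
      simp only [Finset.mem_filter, Finset.mem_univ, true_and, Finset.mem_product, not_or]
    rw [this, Finset.card_product, hn, hm]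
  have ht := Finset.card_filter_add_card_filter_not
    (s := (Finset.univ : Finset (Fin n × Fin m))) (fun p : Fin n × Fin m => p.1.val < r ∨ p.2.val < r)
  rw [hc, Finset.card_univ, Fintype.card_prod, Fintype.card_fin, Fintype.card_fin] at ht
  rw [Fintype.card_subtype]
  obtain ⟨a, rfl⟩ := Nat.exists_eq_add_of_le hrn
  obtain ⟨b, rfl⟩ := Nat.exists_eq_add_of_le hrm
  simp only [Nat.add_sub_cancel_left] at ht ⊢
  have e : r + b + (r + a) - r = r + a + b := by omega
  rw [e]
  nlinarith [ht]

section field

variable {K : Type u} [Field K] {n m r : ℕ}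

/-- the principal `r × r` minor, as a polynomial in the hook variables -/
noncomputable def deltaH (K : Type u) [Field K] {n m r : ℕ} (hrn : r ≤ n) (hrm : r ≤ m) :
    MvPolynomial (HookT n m r) K :=
  Matrix.det (Matrix.of fun a b : Fin r =>
    (X ⟨(Fin.castLE hrn a, Fin.castLE hrm b), Or.inl a.isLt⟩ : MvPolynomial (HookT n m r) K))

lemma eval_deltaH (hrn : r ≤ n) (hrm : r ≤ m) (z : HookT n m r → K) :
    MvPolynomial.eval z (deltaH K hrn hrm) =
      Matrix.det (Matrix.of fun a b : Fin r =>
        z ⟨(Fin.castLE hrn a, Fin.castLE hrm b), Or.inl a.isLt⟩) := by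
  unfold deltaH
  rw [RingHom.map_det]
  congr 1
  ext a b
  rw [RingHom.mapMatrix_apply, Matrix.map_apply, Matrix.of_apply, Matrix.of_apply,
    MvPolynomial.eval_X]

lemma deltaH_ne_zero (hrn : r ≤ n) (hrm : r ≤ m) : deltaH K hrn hrm ≠ 0 := by
  intro h0
  have h1 := congrArg (MvPolynomial.eval
    (fun h : HookT n m r => if h.1.1.val = h.1.2.val then (1 : K) else 0)) h0
  rw [eval_deltaH, map_zero] at h1
  have h2 : (Matrix.of fun a b : Fin r =>
      (fun h : HookT n m r => if h.1.1.val = h.1.2.val then (1 : K) else 0)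
        ⟨(Fin.castLE hrn a, Fin.castLE hrm b), Or.inl a.isLt⟩) =
      (1 : Matrix (Fin r) (Fin r) K) := by
    ext a b
    rw [Matrix.of_apply, Matrix.one_apply]
    show (if (Fin.castLE hrn a).val = (Fin.castLE hrm b).val then (1 : K) else 0) = _
    by_cases hab : a = b
    · rw [if_pos hab, if_pos (by rw [hab]; rfl)]
    · rw [if_neg hab, if_neg]
      intro h
      exact hab (Fin.ext h)
  rw [h2, Matrix.det_one] at h1
  exact one_ne_zero h1

lemma exists_factor (hrn : r ≤ n) (hrm : r ≤ m) (Z : Matrix (Fin n) (Fin m) K)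
    (hdet : (Z.submatrix (Fin.castLE hrn) (Fin.castLE hrm)).det ≠ 0) :
    ∃ (U : Matrix (Fin n) (Fin r) K) (W : Matrix (Fin r) (Fin m) K),
      ∀ i j, (i.val < r ∨ j.val < r) → (U * W) i j = Z i j := by
  have hu : IsUnit (Z.submatrix (Fin.castLE hrn) (Fin.castLE hrm)).det := IsUnit.mk0 _ hdet
  refine ⟨Z.submatrix id (Fin.castLE hrm) * (Z.submatrix (Fin.castLE hrn) (Fin.castLE hrm))⁻¹,
    Z.submatrix (Fin.castLE hrn) id, ?_⟩
  have e1 : (Z.submatrix id (Fin.castLE hrm) *
      (Z.submatrix (Fin.castLE hrn) (Fin.castLE hrm))⁻¹ *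
      Z.submatrix (Fin.castLE hrn) id).submatrix (Fin.castLE hrn) id =
      Z.submatrix (Fin.castLE hrn) id := by
    rw [Matrix.submatrix_mul _ _ (Fin.castLE hrn) id id Function.bijective_id,
      Matrix.submatrix_mul _ _ (Fin.castLE hrn) id id Function.bijective_id]
    simp only [Matrix.submatrix_submatrix, Matrix.submatrix_id_id, Function.comp_id,
      Function.id_comp]
    rw [Matrix.mul_nonsing_inv _ hu, Matrix.one_mul]
  have e2 : (Z.submatrix id (Fin.castLE hrm) *
      (Z.submatrix (Fin.castLE hrn) (Fin.castLE hrm))⁻¹ *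
      Z.submatrix (Fin.castLE hrn) id).submatrix id (Fin.castLE hrm) =
      Z.submatrix id (Fin.castLE hrm) := by
    rw [Matrix.submatrix_mul _ _ id id (Fin.castLE hrm) Function.bijective_id]
    simp only [Matrix.submatrix_submatrix, Matrix.submatrix_id_id, Function.comp_id,
      Function.id_comp]
    rw [Matrix.mul_assoc, Matrix.nonsing_inv_mul _ hu, Matrix.mul_one]
  intro i j hij
  rcases hij with h | h
  · have := congrFun (congrFun e1 ⟨i.val, h⟩) j
    exact this
  · have := congrFun (congrFun e2 i) ⟨j.val, h⟩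
    exact this

lemma eval_pairing (U : Matrix (Fin n) (Fin r) K) (W : Matrix (Fin r) (Fin m) K)
    (f : MvPolynomial (Fin n × Fin m) K) :
    MvPolynomial.eval (Sum.elim (fun p : Fin n × Fin r => U p.1 p.2)
        (fun p : Fin r × Fin m => W p.1 p.2)) (pairingMap K r n m f) =
      MvPolynomial.eval (fun p : Fin n × Fin m => (U * W) p.1 p.2) f := by
  have h : (MvPolynomial.eval (Sum.elim (fun p : Fin n × Fin r => U p.1 p.2)
        (fun p : Fin r × Fin m => W p.1 p.2))).comp (pairingMap K r n m).toRingHom =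
      MvPolynomial.eval (fun p : Fin n × Fin m => (U * W) p.1 p.2) := by
    apply MvPolynomial.ringHom_ext
    · intro c
      simp
    · intro p
      simp [pairingMap, Matrix.mul_apply]
  exact RingHom.congr_fun h f

theorem hook_indep [Infinite K] (hrn : r ≤ n) (hrm : r ≤ m) (g : MvPolynomial (HookT n m r) K)
    (hg : pairingMap K r n m (MvPolynomial.rename Subtype.val g) = 0) : g = 0 := by
  have key : ∀ z : HookT n m r → K, MvPolynomial.eval z (g * deltaH K hrn hrm) = 0 := by
    intro z
    rw [map_mul]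
    by_cases hz : MvPolynomial.eval z (deltaH K hrn hrm) = 0
    · rw [hz, mul_zero]
    · have hex : ∃ Z : Matrix (Fin n) (Fin m) K, ∀ h : HookT n m r, Z h.1.1 h.1.2 = z h := by
        refine ⟨Matrix.of fun i j => if h : i.val < r ∨ j.val < r then z ⟨(i, j), h⟩ else 0, ?_⟩
        intro h
        rw [Matrix.of_apply, dif_pos h.2]
      obtain ⟨Z, hZ⟩ := hex
      have hdet : (Z.submatrix (Fin.castLE hrn) (Fin.castLE hrm)).det =
          MvPolynomial.eval z (deltaH K hrn hrm) := by
        rw [eval_deltaH]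
        congr 1
        ext a b
        rw [Matrix.of_apply]
        exact hZ ⟨(Fin.castLE hrn a, Fin.castLE hrm b), Or.inl a.isLt⟩
      obtain ⟨U, W, hUW⟩ := exists_factor hrn hrm Z (by rw [hdet]; exact hz)
      have h1 := eval_pairing U W (MvPolynomial.rename Subtype.val g)
      rw [hg, map_zero, MvPolynomial.eval_rename] at h1
      have h2 : ((fun p : Fin n × Fin m => (U * W) p.1 p.2) ∘ Subtype.val) = z := by
        funext h
        show (U * W) h.1.1 h.1.2 = z h
        rw [hUW _ _ h.2, hZ]
      rw [h2] at h1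
      rw [← h1, zero_mul]
  have h0 : g * deltaH K hrn hrm = 0 :=
    MvPolynomial.funext (fun z => by rw [key z, map_zero])
  rcases mul_eq_zero.mp h0 with h | h
  · exact h
  · exact absurd h (deltaH_ne_zero hrn hrm)

lemma det_mem_subalgebra {R A : Type*} [CommRing R] [CommRing A] [Algebra R A]
    (S : Subalgebra R A) {k : ℕ} (N : Matrix (Fin k) (Fin k) A) (h : ∀ a b, N a b ∈ S) :
    N.det ∈ S := by
  rw [Matrix.det_apply]
  refine Subalgebra.sum_mem _ (fun σ _ => ?_)
  rw [Units.smul_def]
  exact Subalgebra.zsmul_mem _ (Subalgebra.prod_mem _ (fun i _ => h _ _)) _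

/-- the class of the principal `r × r` minor times any entry is a polynomial in the hook entries,
modulo the `(r+1) × (r+1)` minors -/
lemma delta_mul_mem (hrn : r ≤ n) (hrm : r ≤ m) (I : Ideal (MvPolynomial (Fin n × Fin m) K))
    (hI : CAlgX.minorIdeal (genMatrix K n m) (r + 1) ≤ I) (i : Fin n) (j : Fin m) :
    Matrix.det (Matrix.of fun a b : Fin r =>
        Ideal.Quotient.mk I (X (Fin.castLE hrn a, Fin.castLE hrm b))) *
      Ideal.Quotient.mk I (X (i, j)) ∈
      Algebra.adjoin K (Set.range fun h : HookT n m r => Ideal.Quotient.mk I (X h.1)) := by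
  have hB : ∀ p : Fin n × Fin m, (p.1.val < r ∨ p.2.val < r) →
      Ideal.Quotient.mk I (X p) ∈
        Algebra.adjoin K (Set.range fun h : HookT n m r => Ideal.Quotient.mk I (X h.1)) :=
    fun p hp => Algebra.subset_adjoin ⟨⟨p, hp⟩, rfl⟩
  obtain ⟨f, hf1, hf2⟩ : ∃ f : Fin (r + 1) → Fin n,
      (∀ a : Fin r, f (Fin.castSucc a) = Fin.castLE hrn a) ∧ f (Fin.last r) = i :=
    ⟨Fin.snoc (α := fun _ => Fin n) (fun a => Fin.castLE hrn a) i,
      fun a => Fin.snoc_castSucc (α := fun _ => Fin n) _ _ a,
      Fin.snoc_last (α := fun _ => Fin n) _ _⟩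
  obtain ⟨g, hg1, hg2⟩ : ∃ g : Fin (r + 1) → Fin m,
      (∀ b : Fin r, g (Fin.castSucc b) = Fin.castLE hrm b) ∧ g (Fin.last r) = j :=
    ⟨Fin.snoc (α := fun _ => Fin m) (fun b => Fin.castLE hrm b) j,
      fun b => Fin.snoc_castSucc (α := fun _ => Fin m) _ _ b,
      Fin.snoc_last (α := fun _ => Fin m) _ _⟩
  have hdet0 : (Matrix.of fun a b : Fin (r + 1) =>
      Ideal.Quotient.mk I (X (f a, g b))).det = 0 := by
    have h1 : (Matrix.of fun a b : Fin (r + 1) => Ideal.Quotient.mk I (X (f a, g b))) =
        (Ideal.Quotient.mk I).mapMatrix ((genMatrix K n m).submatrix f g) := by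
      ext a b
      rfl
    rw [h1, ← RingHom.map_det]
    exact Ideal.Quotient.eq_zero_iff_mem.mpr (hI (Ideal.subset_span ⟨(f, g), rfl⟩))
  rw [Matrix.det_succ_row _ (Fin.last r), Fin.sum_univ_castSucc] at hdet0
  have hsub : (Matrix.of fun a b : Fin (r + 1) =>
      Ideal.Quotient.mk I (X (f a, g b))).submatrix (Fin.last r).succAbove
        (Fin.last r).succAbove =
      Matrix.of fun a b : Fin r =>
        Ideal.Quotient.mk I (X (Fin.castLE hrn a, Fin.castLE hrm b)) := by
    ext a b
    rw [Matrix.submatrix_apply, Matrix.of_apply, Matrix.of_apply, Fin.succAbove_last, hf1, hg1]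
  have hsign : ((-1 : MvPolynomial (Fin n × Fin m) K ⧸ I)) ^
      (((Fin.last r : Fin (r + 1)) : ℕ) + ((Fin.last r : Fin (r + 1)) : ℕ)) = 1 := by
    rw [← two_mul, pow_mul]
    have : (-1 : MvPolynomial (Fin n × Fin m) K ⧸ I) ^ 2 = 1 := by ring
    rw [this, one_pow]
  rw [hsub, hsign, one_mul, Matrix.of_apply, hf2, hg2] at hdet0
  have heq : Matrix.det (Matrix.of fun a b : Fin r =>
        Ideal.Quotient.mk I (X (Fin.castLE hrn a, Fin.castLE hrm b))) *
      Ideal.Quotient.mk I (X (i, j)) =
      -(∑ b : Fin r, (-1 : MvPolynomial (Fin n × Fin m) K ⧸ I) ^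
        (((Fin.last r : Fin (r + 1)) : ℕ) + ((Fin.castSucc b : Fin (r + 1)) : ℕ)) *
        (Matrix.of fun a b : Fin (r + 1) => Ideal.Quotient.mk I (X (f a, g b)))
          (Fin.last r) (Fin.castSucc b) *
        ((Matrix.of fun a b : Fin (r + 1) => Ideal.Quotient.mk I (X (f a, g b))).submatrix
          (Fin.last r).succAbove (Fin.castSucc b).succAbove).det) := by
    linear_combination hdet0
  rw [heq]
  apply Subalgebra.neg_mem
  apply Subalgebra.sum_mem
  intro b _
  apply Subalgebra.mul_mem
  · apply Subalgebra.mul_mem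
    · exact Subalgebra.pow_mem _ (Subalgebra.neg_mem _ (Subalgebra.one_mem _)) _
    · rw [Matrix.of_apply, hf2, hg1]
      exact hB _ (Or.inr b.isLt)
  · apply det_mem_subalgebra
    intro a c
    rw [Matrix.submatrix_apply, Matrix.of_apply, Fin.succAbove_last, hf1]
    exact hB _ (Or.inl a.isLt)

theorem trdeg_le (hrn : r ≤ n) (hrm : r ≤ m) (I : Ideal (MvPolynomial (Fin n × Fin m) K))
    [I.IsPrime] (hI : CAlgX.minorIdeal (genMatrix K n m) (r + 1) ≤ I)
    (hδ : Matrix.det (Matrix.of fun a b : Fin r =>
        Ideal.Quotient.mk I (X (Fin.castLE hrn a, Fin.castLE hrm b))) ≠ 0) :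
    Algebra.trdeg K (MvPolynomial (Fin n × Fin m) K ⧸ I) ≤
      ((Fintype.card (HookT n m r) : ℕ) : Cardinal.{u}) := by
  classical
  have hB : ∀ p : Fin n × Fin m, (p.1.val < r ∨ p.2.val < r) →
      Ideal.Quotient.mk I (X p) ∈
        Algebra.adjoin K (Set.range fun h : HookT n m r => Ideal.Quotient.mk I (X h.1)) :=
    fun p hp => Algebra.subset_adjoin ⟨⟨p, hp⟩, rfl⟩
  have hδB : Matrix.det (Matrix.of fun a b : Fin r =>
        Ideal.Quotient.mk I (X (Fin.castLE hrn a, Fin.castLE hrm b))) ∈
      Algebra.adjoin K (Set.range fun h : HookT n m r => Ideal.Quotient.mk I (X h.1)) := by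
    apply det_mem_subalgebra
    intro a b
    rw [Matrix.of_apply]
    exact hB _ (Or.inl a.isLt)
  have hmemalg : ∀ y : MvPolynomial (Fin n × Fin m) K ⧸ I,
      y ∈ Algebra.adjoin K (Set.range fun h : HookT n m r => Ideal.Quotient.mk I (X h.1)) →
      IsAlgebraic (Algebra.adjoin K
        (Set.range fun h : HookT n m r => Ideal.Quotient.mk I (X h.1))) y := by
    intro y hy
    exact isAlgebraic_algebraMap (⟨y, hy⟩ : Algebra.adjoin K
      (Set.range fun h : HookT n m r => Ideal.Quotient.mk I (X h.1)))
  have hx : ∀ p : Fin n × Fin m, IsAlgebraic (Algebra.adjoin K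
      (Set.range fun h : HookT n m r => Ideal.Quotient.mk I (X h.1)))
      (Ideal.Quotient.mk I (X p)) := by
    intro p
    exact IsAlgebraic.of_mul (mem_nonZeroDivisors_of_ne_zero hδ) (hmemalg _ hδB)
      (hmemalg _ (delta_mul_mem hrn hrm I hI p.1 p.2))
  have halg : ∀ a : MvPolynomial (Fin n × Fin m) K ⧸ I, IsAlgebraic (Algebra.adjoin K
      (Set.range fun h : HookT n m r => Ideal.Quotient.mk I (X h.1))) a := by
    intro a
    obtain ⟨f, rfl⟩ := Ideal.Quotient.mk_surjective a
    induction f using MvPolynomial.induction_on with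
    | C c => exact hmemalg _ (Subalgebra.algebraMap_mem _ c)
    | add p q hp hq =>
      rw [map_add]
      exact hp.add hq
    | mul_X p i hp =>
      rw [map_mul]
      exact hp.mul (hx i)
  have : Algebra.IsAlgebraic (Algebra.adjoin K
      (Set.range fun h : HookT n m r => Ideal.Quotient.mk I (X h.1)))
      (MvPolynomial (Fin n × Fin m) K ⧸ I) := ⟨halg⟩
  have h1 := Algebra.IsAlgebraic.trdeg_le_cardinalMk (R := K)
    (A := MvPolynomial (Fin n × Fin m) K ⧸ I)
    (Set.range fun h : HookT n m r => Ideal.Quotient.mk I (X h.1))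
  have h2 : (Set.range fun h : HookT n m r => Ideal.Quotient.mk I (X h.1)) =
      ((Finset.univ.image fun h : HookT n m r => Ideal.Quotient.mk I (X h.1) :
        Finset (MvPolynomial (Fin n × Fin m) K ⧸ I)) :
        Set (MvPolynomial (Fin n × Fin m) K ⧸ I)) := by
    rw [Finset.coe_image, Finset.coe_univ, Set.image_univ]
  rw [h2, Finset.coe_sort_coe, Cardinal.mk_coe_finset] at h1
  refine le_trans h1 ?_
  exact_mod_cast Finset.card_image_le.trans (le_of_eq Finset.card_univ)

end field

section algClosed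

variable (K : Type u) [Field K] [IsAlgClosed K]

theorem dim_det_algClosed (n m r : ℕ) (hrn : r ≤ n) (hrm : r ≤ m) :
    ringKrullDim (MvPolynomial (Fin n × Fin m) K ⧸ CAlgX.minorIdeal (genMatrix K n m) (r + 1)) =
      ((r * (m + n - r) : ℕ) : WithBot ℕ∞) := by
  have hker := Groth.Agent.S11267.result K n r m
  have hprime : (CAlgX.minorIdeal (genMatrix K n m) (r + 1)).IsPrime := by
    rw [← hker]
    exact RingHom.ker_isPrime _
  have : Algebra.FiniteType K
      (MvPolynomial (Fin n × Fin m) K ⧸ CAlgX.minorIdeal (genMatrix K n m) (r + 1)) :=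
    Algebra.FiniteType.of_surjective (Ideal.Quotient.mkₐ K _) (Ideal.Quotient.mkₐ_surjective K _)
  -- the hook entries
  have haev : ∀ g : MvPolynomial (HookT n m r) K,
      MvPolynomial.aeval (fun h : HookT n m r =>
        Ideal.Quotient.mk (CAlgX.minorIdeal (genMatrix K n m) (r + 1)) (X h.1)) g =
      Ideal.Quotient.mk (CAlgX.minorIdeal (genMatrix K n m) (r + 1))
        (MvPolynomial.rename Subtype.val g) := by
    intro g
    have h1 := MvPolynomial.aeval_unique
      (Ideal.Quotient.mkₐ K (CAlgX.minorIdeal (genMatrix K n m) (r + 1)))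
    have h2 : Ideal.Quotient.mk (CAlgX.minorIdeal (genMatrix K n m) (r + 1))
        (MvPolynomial.rename Subtype.val g) =
        (Ideal.Quotient.mkₐ K (CAlgX.minorIdeal (genMatrix K n m) (r + 1)))
          (MvPolynomial.rename Subtype.val g) := rfl
    rw [h2, h1, MvPolynomial.aeval_rename]
    rfl
  have hind : AlgebraicIndependent K (fun h : HookT n m r =>
      Ideal.Quotient.mk (CAlgX.minorIdeal (genMatrix K n m) (r + 1)) (X h.1)) := by
    rw [AlgebraicIndependent, injective_iff_map_eq_zero]
    intro g hg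
    rw [haev, Ideal.Quotient.eq_zero_iff_mem, ← hker, RingHom.mem_ker] at hg
    exact hook_indep hrn hrm g hg
  have hδ : Matrix.det (Matrix.of fun a b : Fin r =>
      Ideal.Quotient.mk (CAlgX.minorIdeal (genMatrix K n m) (r + 1))
        (X (Fin.castLE hrn a, Fin.castLE hrm b))) ≠ 0 := by
    have h1 : Matrix.det (Matrix.of fun a b : Fin r =>
        Ideal.Quotient.mk (CAlgX.minorIdeal (genMatrix K n m) (r + 1))
          (X (Fin.castLE hrn a, Fin.castLE hrm b))) =
        MvPolynomial.aeval (fun h : HookT n m r =>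
          Ideal.Quotient.mk (CAlgX.minorIdeal (genMatrix K n m) (r + 1)) (X h.1))
          (deltaH K hrn hrm) := by
      unfold deltaH
      rw [AlgHom.map_det]
      congr 1
      ext a b
      rw [AlgHom.mapMatrix_apply, Matrix.map_apply, Matrix.of_apply, Matrix.of_apply,
        MvPolynomial.aeval_X]
    rw [h1]
    intro h0
    exact deltaH_ne_zero hrn hrm (hind (by rw [h0, map_zero]))
  have hlow := Groth.Agent.H21.SegreDim.natCast_le_ringKrullDim_of_algebraicIndependent hind
  obtain ⟨N, hN1, hN2⟩ := Groth.Agent.H54.exists_ringKrullDim_eq_trdeg K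
    (MvPolynomial (Fin n × Fin m) K ⧸ CAlgX.minorIdeal (genMatrix K n m) (r + 1))
  have hup := trdeg_le hrn hrm (CAlgX.minorIdeal (genMatrix K n m) (r + 1)) le_rfl hδ
  rw [hN1] at hup
  rw [hN2] at hlow
  have h1 : N ≤ Fintype.card (HookT n m r) := by exact_mod_cast hup
  have h2 : Fintype.card (HookT n m r) ≤ N := by exact_mod_cast hlow
  rw [hN2, le_antisymm h1 h2, card_hook hrn hrm]

end algClosed

section general

lemma minorIdeal_map {R S : Type u} [CommRing R] [CommRing S] (φ : R →+* S) {a b : Type}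
    [Fintype a] [Fintype b] (M : Matrix a b R) (t : ℕ) :
    (CAlgX.minorIdeal M t).map φ = CAlgX.minorIdeal (M.map φ) t := by
  unfold CAlgX.minorIdeal
  rw [Ideal.map_span, ← Set.range_comp]
  congr 2
  funext fg
  show φ (Matrix.det (M.submatrix fg.1 fg.2)) = Matrix.det ((M.map φ).submatrix fg.1 fg.2)
  rw [RingHom.map_det]
  rfl

theorem dim_det (k : Type u) [Field k] (n m r : ℕ) (hr : r ≤ min n m) :
    ringKrullDim (MvPolynomial (Fin n × Fin m) k ⧸ CAlgX.minorIdeal
      (Matrix.of fun (i : Fin n) (j : Fin m) =>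
        (MvPolynomial.X (i, j) : MvPolynomial (Fin n × Fin m) k)) (r + 1)) =
      ((r * (m + n - r) : ℕ) : WithBot ℕ∞) := by
  have hrn : r ≤ n := le_trans hr (min_le_left _ _)
  have hrm : r ≤ m := le_trans hr (min_le_right _ _)
  have : Algebra.FiniteType k (MvPolynomial (Fin n × Fin m) k ⧸ CAlgX.minorIdeal
      (Matrix.of fun (i : Fin n) (j : Fin m) =>
        (MvPolynomial.X (i, j) : MvPolynomial (Fin n × Fin m) k)) (r + 1)) :=
    Algebra.FiniteType.of_surjective (Ideal.Quotient.mkₐ k _) (Ideal.Quotient.mkₐ_surjective k _)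
  rw [← Groth.Agent.H9.DimBaseField.ringKrullDim_tensor_field k _ (AlgebraicClosure k)]
  have hmap : ((MvPolynomial.algebraTensorAlgEquiv k (AlgebraicClosure k) :
        AlgebraicClosure k ⊗[k] MvPolynomial (Fin n × Fin m) k ≃ₐ[AlgebraicClosure k]
          MvPolynomial (Fin n × Fin m) (AlgebraicClosure k)).toRingEquiv : _ →+* _).comp
      (Algebra.TensorProduct.includeRight (R := k) (A := AlgebraicClosure k)
        (B := MvPolynomial (Fin n × Fin m) k)).toRingHom =
      MvPolynomial.map (algebraMap k (AlgebraicClosure k)) := by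
    apply RingHom.ext
    intro p
    simp [MvPolynomial.algebraTensorAlgEquiv_tmul]
  have hIJ : CAlgX.minorIdeal (genMatrix (AlgebraicClosure k) n m) (r + 1) =
      ((CAlgX.minorIdeal (Matrix.of fun (i : Fin n) (j : Fin m) =>
        (MvPolynomial.X (i, j) : MvPolynomial (Fin n × Fin m) k)) (r + 1)).map
        (Algebra.TensorProduct.includeRight (R := k) (A := AlgebraicClosure k)
          (B := MvPolynomial (Fin n × Fin m) k))).map
        ((MvPolynomial.algebraTensorAlgEquiv k (AlgebraicClosure k) :
          AlgebraicClosure k ⊗[k] MvPolynomial (Fin n × Fin m) k ≃ₐ[AlgebraicClosure k]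
            MvPolynomial (Fin n × Fin m) (AlgebraicClosure k)).toRingEquiv : _ →+* _) := by
    have hinc : ((CAlgX.minorIdeal (Matrix.of fun (i : Fin n) (j : Fin m) =>
        (MvPolynomial.X (i, j) : MvPolynomial (Fin n × Fin m) k)) (r + 1)).map
        (Algebra.TensorProduct.includeRight (R := k) (A := AlgebraicClosure k)
          (B := MvPolynomial (Fin n × Fin m) k))) =
        ((CAlgX.minorIdeal (Matrix.of fun (i : Fin n) (j : Fin m) =>
        (MvPolynomial.X (i, j) : MvPolynomial (Fin n × Fin m) k)) (r + 1)).map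
        (Algebra.TensorProduct.includeRight (R := k) (A := AlgebraicClosure k)
          (B := MvPolynomial (Fin n × Fin m) k)).toRingHom) := rfl
    rw [hinc, Ideal.map_map, hmap, minorIdeal_map]
    congr 1
    ext i j
    simp [genMatrix]
  have e1 := (Algebra.TensorProduct.tensorQuotientEquiv (R := k) k
    (MvPolynomial (Fin n × Fin m) k) (AlgebraicClosure k)
    (CAlgX.minorIdeal (Matrix.of fun (i : Fin n) (j : Fin m) =>
        (MvPolynomial.X (i, j) : MvPolynomial (Fin n × Fin m) k)) (r + 1))).toRingEquiv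
  have e2 := Ideal.quotientEquiv _ _ _ hIJ
  rw [ringKrullDim_eq_of_ringEquiv (e1.trans e2)]
  exact dim_det_algClosed (AlgebraicClosure k) n m r hrn hrm

end general

end Groth.Agent.H85.DetDim
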