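import Groth.Agent.H85.PlDiv
import Groth.Agent.H54.AffineDim

/-!
# Krull dimension of the cone over a Schubert variety

`dim S/J(w) = codeg w + 1`, by induction on `w`: for a Schubert divisor `ψ` of `w` the prime
`J(ψ)/J(w)` is minimal over the principal ideal `(x_w)` of the domain `S/J(w)` (because
`J(w) + (X_w) = ⋂ J(φ)` over the divisors), hence of height one, and `dim` drops by exactly one
(dimension theory of affine domains, `H54/AffineDim`).
-/

universe u

open W4bk4grassmannian MvPolynomial

namespace Groth.Agent.H85.Pl

lemma codeg_eq_zero_of_bot {d n : ℕ} (w : Idx d n) (hex : ∀ φ : Idx d n, ¬ φ < w) :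
    codeg w = 0 := by
  have hng : ∀ t : Fin d, ¬ Good w t := by
    intro t hg
    obtain ⟨φ, hφ, -⟩ := exists_divisor_at w t hg
    exact hex φ hφ.1
  have aux : ∀ k : ℕ, ∀ t : Fin d, t.val = k → (w.1 t).val = k := by
    intro k
    induction k with
    | zero =>
      intro t ht
      exact (notGood_step w t (hng t)).1 ht
    | succ k ih =>
      intro t ht
      have ht' : k < d := by have := t.isLt; omega
      have e := (notGood_step w t (hng t)).2 ⟨k, ht'⟩ (by show k + 1 = t.val; omega)
      have e' := ih ⟨k, ht'⟩ rfl
      omega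
  unfold codeg
  apply Finset.sum_eq_zero
  intro t _
  rw [aux t.val t rfl]
  exact Nat.sub_self _

/-- In an affine domain, a prime minimal over a nonzero principal ideal cuts the dimension by
exactly one. -/
lemma dim_step {K : Type u} [Field K] {A : Type u} [CommRing A] [IsDomain A] [Algebra K A]
    [Algebra.FiniteType K A] (x : A) (hx : x ≠ 0) (P : Ideal A) [P.IsPrime]
    (hmin : P ∈ (Ideal.span {x}).minimalPrimes) :
    ringKrullDim (A ⧸ P) + 1 = ringKrullDim A := by
  haveI : IsNoetherianRing A := Algebra.FiniteType.isNoetherianRing K A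
  haveI : (Ideal.span {x}).IsPrincipal := ⟨⟨x, rfl⟩⟩
  apply Groth.Agent.H54.ringKrullDim_quotient_add_one_of_height_eq_one K A P
  apply le_antisymm
  · exact Ideal.height_le_one_of_isPrincipal_of_mem_minimalPrimes (Ideal.span {x}) P hmin
  · have hP0 : P ≠ ⊥ := by
      intro h0
      have hxP : x ∈ P := hmin.1.2 (Ideal.subset_span rfl)
      rw [h0, Ideal.mem_bot] at hxP
      exact hx hxP
    rw [Order.one_le_iff_pos, pos_iff_ne_zero, Ne, Ideal.height_eq_zero_iff_eq_bot]
    exact hP0

variable {K : Type u} [Field K] [IsAlgClosed K] {d n : ℕ}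

theorem dim_schubert (hd : 0 < d) (hdn : d < n) (w : Idx d n) :
    ringKrullDim (PlRing K d n ⧸ schubertVanishing K d n w) =
      ((codeg w + 1 : ℕ) : WithBot ℕ∞) := by
  induction' hN : ssum w.1 using Nat.strong_induction_on with N ih generalizing w
  haveI hprime := isPrime_schubertVanishing (K := K) hd w
  haveI : Algebra.FiniteType K (PlRing K d n ⧸ schubertVanishing K d n w) :=
    Algebra.FiniteType.of_surjective (Ideal.Quotient.mkₐ K _) (Ideal.Quotient.mkₐ_surjective K _)
  have hx : Ideal.Quotient.mk (schubertVanishing K d n w) (X w) ≠ 0 := fun h0 =>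
    X_notMem w (Ideal.Quotient.eq_zero_iff_mem.mp h0)
  by_cases hex : ∃ φ : Idx d n, φ < w
  · have h54 := Groth.Agent.S11254.result K d n hd hdn w hex
    obtain ⟨φ, hφ⟩ := hex
    obtain ⟨ψ, hψ, -⟩ := Groth.Agent.S11268.result d n φ w hφ
    have hle : schubertVanishing K d n w ≤ schubertVanishing K d n ψ :=
      schubertVanishing_anti hψ.1.le
    have hih := ih (ssum ψ.1) (by have := divisor_ssum hψ; omega) ψ rfl
    haveI hPprime : ((schubertVanishing K d n ψ).map
        (Ideal.Quotient.mk (schubertVanishing K d n w))).IsPrime := by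
      haveI := isPrime_schubertVanishing (K := K) hd ψ
      exact Ideal.map_isPrime_of_surjective Ideal.Quotient.mk_surjective
        (by rw [Ideal.mk_ker]; exact hle)
    have hmin : (schubertVanishing K d n ψ).map (Ideal.Quotient.mk (schubertVanishing K d n w)) ∈
        (Ideal.span {Ideal.Quotient.mk (schubertVanishing K d n w) (X w)}).minimalPrimes := by
      refine ⟨⟨hPprime, ?_⟩, ?_⟩
      · rw [Ideal.span_le, Set.singleton_subset_iff]
        exact Ideal.mem_map_of_mem _ (X_mem_schubertVanishing ψ w (not_le_of_gt hψ.1))
      · rintro Q ⟨hQprime, hQle⟩ hQP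
        haveI := hQprime
        have hQ'prime : (Q.comap (Ideal.Quotient.mk (schubertVanishing K d n w))).IsPrime :=
          Ideal.comap_isPrime _ _
        have hsup : schubertVanishing K d n w ⊔ Ideal.span {(X w : PlRing K d n)} ≤
            Q.comap (Ideal.Quotient.mk (schubertVanishing K d n w)) := by
          apply sup_le
          · intro f hf
            rw [Ideal.mem_comap, Ideal.Quotient.eq_zero_iff_mem.mpr hf]
            exact Ideal.zero_mem _
          · rw [Ideal.span_le, Set.singleton_subset_iff]
            exact Ideal.mem_comap.mpr (hQle (Ideal.subset_span rfl))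
        rw [h54] at hsup
        classical
        have hfin : (Finset.univ.filter (fun θ : Idx d n => θ ∈ divisors w)).inf
            (fun θ => schubertVanishing K d n θ) ≤
            Q.comap (Ideal.Quotient.mk (schubertVanishing K d n w)) := by
          refine le_trans ?_ hsup
          exact le_iInf₂ (fun θ hθ =>
            Finset.inf_le (Finset.mem_filter.mpr ⟨Finset.mem_univ _, hθ⟩))
        obtain ⟨θ, hθmem, hθle⟩ := (Ideal.IsPrime.inf_le' hQ'prime).mp hfin
        have hθ : θ ∈ divisors w := (Finset.mem_filter.mp hθmem).2
        have hθψ : schubertVanishing K d n θ ≤ schubertVanishing K d n ψ := by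
          intro f hf
          have h1 : Ideal.Quotient.mk (schubertVanishing K d n w) f ∈ Q :=
            Ideal.mem_comap.mp (hθle hf)
          exact (Ideal.mem_quotient_iff_mem hle).mp (hQP h1)
        have hψθ : ψ ≤ θ := by
          by_contra hnle
          exact X_notMem (K := K) ψ (hθψ (X_mem_schubertVanishing θ ψ hnle))
        have heq : ψ = θ := by
          by_contra hne
          exact divisors_incomparable hψ hθ hne hψθ
        rw [heq]
        exact Ideal.map_le_iff_le_comap.mpr hθle
    have hstep := dim_step (K := K) _ hx _ hmin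
    have e : ringKrullDim ((PlRing K d n ⧸ schubertVanishing K d n w) ⧸
        (schubertVanishing K d n ψ).map (Ideal.Quotient.mk (schubertVanishing K d n w))) =
        ringKrullDim (PlRing K d n ⧸ schubertVanishing K d n ψ) :=
      ringKrullDim_eq_of_ringEquiv (DoubleQuot.quotQuotEquivQuotOfLE hle)
    rw [← hstep, e, hih]
    have h2 : codeg w + 1 = (codeg ψ + 1) + 1 := by rw [hψ.2]
    rw [h2]
    simp only [Nat.cast_add, Nat.cast_one]
  · push Not at hex
    have hker := sup_X_eq_ker_of_bot (K := K) hd w hex
    have hle : schubertVanishing K d n w ≤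
        RingHom.ker (MvPolynomial.constantCoeff : PlRing K d n →+* K) := by
      rw [← hker]
      exact le_sup_left
    have hPeq : Ideal.span {Ideal.Quotient.mk (schubertVanishing K d n w) (X w)} =
        (RingHom.ker (MvPolynomial.constantCoeff : PlRing K d n →+* K)).map
          (Ideal.Quotient.mk (schubertVanishing K d n w)) := by
      rw [← hker, Ideal.map_sup, Ideal.map_quotient_self, bot_sup_eq, Ideal.map_span,
        Set.image_singleton]
    have hp : Prime (Ideal.Quotient.mk (schubertVanishing K d n w) (X w)) := by
      rw [prime_mk_X_iff, hker]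
      exact RingHom.ker_isPrime _
    haveI hPprime : (Ideal.span {Ideal.Quotient.mk (schubertVanishing K d n w) (X w)}).IsPrime :=
      (Ideal.span_singleton_prime hx).mpr hp
    have hmin : Ideal.span {Ideal.Quotient.mk (schubertVanishing K d n w) (X w)} ∈
        (Ideal.span {Ideal.Quotient.mk (schubertVanishing K d n w) (X w)}).minimalPrimes := by
      rw [Ideal.minimalPrimes_eq_subsingleton_self]
      exact Set.mem_singleton _
    have hstep := dim_step (K := K) _ hx _ hmin
    have hsurj : Function.Surjective (MvPolynomial.constantCoeff : PlRing K d n →+* K) := by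
      intro c
      exact ⟨C c, MvPolynomial.constantCoeff_C _ c⟩
    have e : ringKrullDim ((PlRing K d n ⧸ schubertVanishing K d n w) ⧸
        Ideal.span {Ideal.Quotient.mk (schubertVanishing K d n w) (X w)}) = 0 := by
      rw [ringKrullDim_eq_of_ringEquiv ((Ideal.quotEquivOfEq hPeq).trans
        ((DoubleQuot.quotQuotEquivQuotOfLE hle).trans
          (RingHom.quotientKerEquivOfSurjective hsurj)))]
      exact ringKrullDim_eq_zero_of_field K
    rw [← hstep, e, codeg_eq_zero_of_bot w hex]
    simp

end Groth.Agent.H85.Pl
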