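import Groth.Agent.H85.CMQ
import Groth.Agent.H85.PlDim
import Groth.Agent.H71.CMField

/-!
# Schubert varieties and unions of Schubert divisors are arithmetically Cohen–Macaulay (helper85)

Induction on the dimension, using the exact sequence `0 → S/(I ∩ J) → S/I × S/J → S/(I + J) → 0`,
the identities `J(τ) + (X_τ) = ⋂_{φ divisor of τ} J(φ)` and
`J(ψ) + ⋂_{φ ∈ Φ} J(φ) = ⋂_{φ ∈ Φ} J(φ ∧ ψ)` (standard monomial theory) and the graded local–global
principle for the Cohen–Macaulay property.
-/

set_option autoImplicit false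
set_option linter.style.haveILetI false
universe u
open W4bk4grassmannian MvPolynomial

namespace Groth.Agent.H85.PlCM

open Groth.Agent.H85.Pl Groth.Agent.H85.CMQ

attribute [local instance] MvPolynomial.gradedAlgebra

noncomputable section

variable {K : Type u} [Field K] {d n : ℕ}

/-- the irrelevant ideal of the Plücker polynomial ring -/
abbrev irr (K : Type u) [Field K] (d n : ℕ) : Ideal (PlRing K d n) :=
  (HomogeneousIdeal.irrelevant (MvPolynomial.homogeneousSubmodule (Idx d n) K)).toIdeal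

theorem h0 : ∀ a ∈ MvPolynomial.homogeneousSubmodule (Idx d n) K 0,
    ∃ c : K, algebraMap K (PlRing K d n) c = a := by
  intro a ha
  rw [MvPolynomial.homogeneousSubmodule_zero, Submodule.mem_one] at ha
  exact ha

theorem decompose_eq (f : PlRing K d n) (i : ℕ) :
    ((DirectSum.decompose (MvPolynomial.homogeneousSubmodule (Idx d n) K) f i :
      MvPolynomial.homogeneousSubmodule (Idx d n) K i) : PlRing K d n) =
      MvPolynomial.homogeneousComponent i f :=
  MvPolynomial.decomposition.decompose'_apply f i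

theorem irr_eq : irr K d n = RingHom.ker (MvPolynomial.constantCoeff : PlRing K d n →+* K) := by
  ext f
  change f ∈ HomogeneousIdeal.irrelevant (MvPolynomial.homogeneousSubmodule (Idx d n) K) ↔ _
  rw [HomogeneousIdeal.mem_irrelevant_iff, GradedRing.proj_apply, decompose_eq,
    MvPolynomial.homogeneousComponent_zero, RingHom.mem_ker, MvPolynomial.constantCoeff_eq]
  exact map_eq_zero_iff _ (MvPolynomial.C_injective _ _)

theorem irr_isMaximal : (irr K d n).IsMaximal := by
  rw [irr_eq]
  exact RingHom.ker_isMaximal_of_surjective _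
    (fun c => ⟨MvPolynomial.C c, MvPolynomial.constantCoeff_C _ c⟩)

instance irr_isPrime : (irr K d n).IsPrime := irr_isMaximal.isPrime

theorem X_mem_irr (τ : Idx d n) : (X τ : PlRing K d n) ∈ irr K d n := by
  rw [irr_eq, RingHom.mem_ker, MvPolynomial.constantCoeff_X]

theorem Q_irr : Q (irr K d n) (irr K d n) 0 := by
  haveI := irr_isMaximal (K := K) (d := d) (n := n)
  letI : Field (PlRing K d n ⧸ irr K d n) := Ideal.Quotient.field _
  have hcm : LocCoh.IsCohenMacaulayRing (PlRing K d n ⧸ irr K d n) :=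
    Groth.Agent.H71.CMField.isCMRing_of_field _
  have hdim : ringKrullDim (PlRing K d n ⧸ irr K d n) = ((0 : ℕ) : WithBot ℕ∞) := by
    rw [ringKrullDim_eq_zero_of_field, Nat.cast_zero]
  exact Q_of_isCM (MvPolynomial.homogeneousSubmodule (Idx d n) K) h0 (irr K d n)
    (HomogeneousIdeal.irrelevant _).isHomogeneous 0 hcm hdim

/-! ### homogeneity of `J(τ)` -/

theorem eval_scale {σ : Type*} (p : σ → K) (c : K) {g : MvPolynomial σ K} {j : ℕ}
    (hg : g.IsHomogeneous j) :
    MvPolynomial.eval (fun θ => c * p θ) g = c ^ j * MvPolynomial.eval p g := by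
  rw [MvPolynomial.eval_eq, MvPolynomial.eval_eq, Finset.mul_sum]
  apply Finset.sum_congr rfl
  intro m hm
  have hj := hg.degree_eq_sum_deg_support hm
  have h1 : ∏ i ∈ m.support, (c * p i) ^ m i = c ^ j * ∏ i ∈ m.support, p i ^ m i := by
    rw [hj, ← Finset.prod_pow_eq_pow_sum, ← Finset.prod_mul_distrib]
    exact Finset.prod_congr rfl (fun i _ => mul_pow _ _ _)
  rw [h1]
  ring

theorem isHomogeneous_schubertVanishing [IsAlgClosed K] (hd : 0 < d) (τ : Idx d n) :
    (schubertVanishing K d n τ).IsHomogeneous (MvPolynomial.homogeneousSubmodule (Idx d n) K) := by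
  intro i f hf
  rw [decompose_eq, mem_schubertVanishing_iff]
  intro A hA
  rw [mem_schubertVanishing_iff] at hf
  have hev : ∀ (B : Matrix (Fin n) (Fin d) K) (g : PlRing K d n),
      evalMinors K d n B g =
        MvPolynomial.eval (fun θ : Idx d n => (B.submatrix θ.1 id).det) g := fun B g => rfl
  have hsc : ∀ (c : K) (θ : Idx d n),
      ((Matrix.of fun s t => c * A s t).submatrix θ.1 id).det =
        c ^ d * (A.submatrix θ.1 id).det := by
    intro c θ
    have h := scale_det A (fun _ => c) θ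
    rw [Finset.prod_const, Finset.card_univ, Fintype.card_fin] at h
    exact h
  have hscale : ∀ c : K, ∑ j ∈ Finset.range (f.totalDegree + 1), (c ^ d) ^ j *
      MvPolynomial.eval (fun θ : Idx d n => (A.submatrix θ.1 id).det)
        (MvPolynomial.homogeneousComponent j f) = 0 := by
    intro c
    have hA' : ∀ φ : Idx d n, ¬ φ ≤ τ →
        ((Matrix.of fun s t => c * A s t).submatrix φ.1 id).det = 0 := by
      intro φ hφ
      rw [hsc c φ, hA φ hφ, mul_zero]
    have h1 := hf (Matrix.of fun s t => c * A s t) hA'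
    rw [hev] at h1
    have hpc : (fun θ : Idx d n => ((Matrix.of fun s t => c * A s t).submatrix θ.1 id).det) =
        fun θ : Idx d n => c ^ d * (A.submatrix θ.1 id).det := funext (hsc c)
    rw [hpc] at h1
    have hsum := MvPolynomial.sum_homogeneousComponent f
    have h2 : MvPolynomial.eval (fun θ : Idx d n => c ^ d * (A.submatrix θ.1 id).det) f =
        ∑ j ∈ Finset.range (f.totalDegree + 1),
          MvPolynomial.eval (fun θ : Idx d n => c ^ d * (A.submatrix θ.1 id).det)
            (MvPolynomial.homogeneousComponent j f) := by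
      conv_lhs => rw [← hsum]
      rw [map_sum]
    rw [h2] at h1
    rw [← h1]
    apply Finset.sum_congr rfl
    intro j _
    exact (eval_scale _ (c ^ d) (MvPolynomial.homogeneousComponent_isHomogeneous j f)).symm
  haveI : Infinite K := inferInstance
  have hP : (∑ j ∈ Finset.range (f.totalDegree + 1),
      Polynomial.C (MvPolynomial.eval (fun θ : Idx d n => (A.submatrix θ.1 id).det)
        (MvPolynomial.homogeneousComponent j f)) * Polynomial.X ^ j : Polynomial K) = 0 := by
    apply Polynomial.zero_of_eval_zero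
    intro c'
    obtain ⟨c, rfl⟩ := IsAlgClosed.exists_pow_nat_eq c' hd
    rw [Polynomial.eval_finsetSum, ← hscale c]
    apply Finset.sum_congr rfl
    intro j _
    rw [Polynomial.eval_mul, Polynomial.eval_C, Polynomial.eval_pow, Polynomial.eval_X, mul_comm]
  rw [hev]
  by_cases hi : i < f.totalDegree + 1
  · have hc := congrArg (fun Q => Polynomial.coeff Q i) hP
    simp only [Polynomial.finsetSum_coeff, Polynomial.coeff_C_mul, Polynomial.coeff_X_pow,
      Polynomial.coeff_zero] at hc
    rw [Finset.sum_eq_single i] at hc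
    · rw [if_pos rfl, mul_one] at hc
      exact hc
    · intro j _ hji
      rw [if_neg (Ne.symm hji), mul_zero]
    · intro h
      exact absurd (Finset.mem_range.mpr hi) h
  · have h3 : MvPolynomial.homogeneousComponent i f = 0 :=
      MvPolynomial.homogeneousComponent_eq_zero _ _ (by omega)
    rw [h3, map_zero]

/-! ### regularity of `X_τ` on `S ⧸ J(τ)` -/


theorem X_regular [Infinite K] (hd : 0 < d) (τ : Idx d n) :
    IsSMulRegular (PlRing K d n ⧸ schubertVanishing K d n τ) (X τ : PlRing K d n) := by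
  haveI := isPrime_schubertVanishing (K := K) hd τ
  rw [isSMulRegular_iff_right_eq_zero_of_smul]
  intro y hy
  obtain ⟨a, rfl⟩ := Ideal.Quotient.mk_surjective y
  have h1 : (X τ : PlRing K d n) • Ideal.Quotient.mk (schubertVanishing K d n τ) a =
      Ideal.Quotient.mk (schubertVanishing K d n τ) (X τ * a) := rfl
  rw [h1, Ideal.Quotient.eq_zero_iff_mem] at hy
  rw [Ideal.Quotient.eq_zero_iff_mem]
  exact (Ideal.IsPrime.mem_or_mem inferInstance hy).resolve_left (X_notMem τ)

/-! ### combinatorics of divisors -/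

theorem inf_mem_divisors {φ ψ τ : Idx d n} (hφ : φ ∈ divisors τ) (hψ : ψ ∈ divisors τ)
    (hne : φ ≠ ψ) : W4bk4grassmannian.inf φ ψ ∈ divisors ψ := by
  have hinf_le_ψ : W4bk4grassmannian.inf φ ψ ≤ ψ := fun t => min_le_right _ _
  have hinf_le_φ : W4bk4grassmannian.inf φ ψ ≤ φ := fun t => min_le_left _ _
  have hnle : ¬ ψ ≤ φ := divisors_incomparable hψ hφ (Ne.symm hne)
  have hne' : W4bk4grassmannian.inf φ ψ ≠ ψ := by
    intro h
    apply hnle
    rw [← h]
    exact hinf_le_φ
  have hsup_le : W4bk4grassmannian.sup φ ψ ≤ τ := sup_le_of_le hφ.1.le hψ.1.le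
  have hsup_ne : φ ≠ W4bk4grassmannian.sup φ ψ := by
    intro h
    apply hnle
    rw [h]
    exact le_sup_right' φ ψ
  have e1 := ssum_lt_of_lt (le_sup_left' φ ψ) hsup_ne
  have e2 := ssum_mono hsup_le
  have e3 := divisor_ssum hφ
  have e4 := divisor_ssum hψ
  have e5 := ssum_add_of_wt (wt_sup_add_wt_inf φ ψ)
  have e6 := codeg_add (W4bk4grassmannian.inf φ ψ)
  have e7 := codeg_add ψ
  refine ⟨lt_of_le_of_ne hinf_le_ψ hne', ?_⟩
  omega

/-! ### the ideal identity -/

theorem sup_inf_eq [Infinite K] (hd : 0 < d) (Φ : Finset (Idx d n)) (hΦ : Φ.Nonempty)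
    (ψ : Idx d n) :
    schubertVanishing K d n ψ ⊔ (Φ.inf fun φ => schubertVanishing K d n φ) =
      Φ.inf fun φ => schubertVanishing K d n (W4bk4grassmannian.inf φ ψ) := by
  have h := master (K := K) hd
    (fun i : {φ : Idx d n // φ ∈ Φ} => W4bk4grassmannian.inf i.1 ψ)
    (schubertVanishing K d n ψ ⊔ (Φ.inf fun φ => schubertVanishing K d n φ)) ?_ ?_ ?_
  · rw [h, iInf_subtype, Finset.inf_eq_iInf]
  · exact le_trans (plIdealTop_le_schubertVanishing ψ) le_sup_left
  · apply le_iInf
    rintro ⟨φ, hφ⟩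
    apply sup_le
    · exact schubertVanishing_anti (fun t => min_le_right _ _)
    · exact le_trans (Finset.inf_le hφ) (schubertVanishing_anti (fun t => min_le_left _ _))
  · intro m c hanti hnot
    cases m with
    | zero =>
      exfalso
      obtain ⟨φ, hφ⟩ := hΦ
      exact hnot ⟨⟨φ, hφ⟩, fun k => k.elim0⟩
    | succ m =>
      by_cases h0 : c 0 ≤ ψ
      · apply Ideal.mem_sup_right
        rw [Submodule.mem_finsetInf]
        intro φ hφ
        apply chainMon_mem_of_X_mem _ c 0
        apply X_mem_schubertVanishing φ (c 0)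
        intro hle
        apply hnot
        refine ⟨⟨φ, hφ⟩, fun k => ?_⟩
        have hk : c k ≤ c 0 := hanti (Fin.zero_le k)
        exact fun t => le_min ((hk.trans hle) t) ((hk.trans h0) t)
      · exact Ideal.mem_sup_left
          (chainMon_mem_of_X_mem _ c 0 (X_mem_schubertVanishing ψ (c 0) h0))

/-! ### the induction -/

section Main

variable [IsAlgClosed K]

theorem U_step (hd : 0 < d) (k : ℕ)
    (hP : ∀ τ : Idx d n, codeg τ = k →
      Q (irr K d n) (schubertVanishing K d n τ) (k + 1))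
    (hU : ∀ ψ : Idx d n, codeg ψ = k → ∀ Φ : Finset (Idx d n), Φ.Nonempty →
      (∀ φ ∈ Φ, φ ∈ divisors ψ) →
        Q (irr K d n) (Φ.inf fun φ => schubertVanishing K d n φ) k) :
    ∀ τ : Idx d n, codeg τ = k + 1 → ∀ Φ : Finset (Idx d n), Φ.Nonempty →
      (∀ φ ∈ Φ, φ ∈ divisors τ) →
        Q (irr K d n) (Φ.inf fun φ => schubertVanishing K d n φ) (k + 1) := by
  classical
  intro τ hτ Φ hΦ
  induction hΦ using Finset.Nonempty.cons_induction with
  | singleton φ =>
    intro hdiv
    have hφ : φ ∈ divisors τ := hdiv φ (Finset.mem_singleton_self φ)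
    rw [Finset.inf_singleton]
    apply hP φ
    have := hφ.2
    omega
  | cons ψ Φ' hψ hΦ' ih =>
    intro hdiv
    have hψd : ψ ∈ divisors τ := hdiv ψ (Finset.mem_cons_self ψ Φ')
    have hdiv' : ∀ φ ∈ Φ', φ ∈ divisors τ :=
      fun φ hφ => hdiv φ (Finset.mem_cons.mpr (Or.inr hφ))
    have hcψ : codeg ψ = k := by
      have := hψd.2
      omega
    rw [Finset.inf_cons]
    apply Q_inf (irr K d n) _ _ (k + 1) (by omega) (hP ψ hcψ) (ih hdiv')
    rw [sup_inf_eq hd Φ' hΦ' ψ]
    have h1 : (Φ'.inf fun φ => schubertVanishing K d n (W4bk4grassmannian.inf φ ψ)) =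
        (Φ'.image fun φ => W4bk4grassmannian.inf φ ψ).inf
          fun θ => schubertVanishing K d n θ :=
      (Finset.inf_image Φ' (fun φ => W4bk4grassmannian.inf φ ψ)
        (fun θ => schubertVanishing K d n θ)).symm
    rw [h1, Nat.add_sub_cancel]
    apply hU ψ hcψ _ (hΦ'.image _)
    intro θ hθ
    obtain ⟨φ, hφ, rfl⟩ := Finset.mem_image.mp hθ
    exact inf_mem_divisors (hdiv' φ hφ) hψd (fun h => hψ (h ▸ hφ))

theorem P_zero (hd : 0 < d) :
    ∀ τ : Idx d n, codeg τ = 0 → Q (irr K d n) (schubertVanishing K d n τ) (0 + 1) := by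
  intro τ hτ
  have hex : ∀ φ : Idx d n, ¬ φ < τ := by
    intro φ hlt
    have e0 := ssum_lt_of_lt hlt.le hlt.ne
    have e1 := codeg_add φ
    have e2 := codeg_add τ
    omega
  apply Q_of_sup_span (irr K d n) _ (X τ) (X_mem_irr τ) (X_regular hd τ) 0
  rw [sup_X_eq_ker_of_bot hd τ hex, ← irr_eq]
  exact Q_irr

theorem P_step (hd : 0 < d) (hdn : d < n) (k : ℕ)
    (hU : ∀ τ : Idx d n, codeg τ = k + 1 → ∀ Φ : Finset (Idx d n), Φ.Nonempty →
      (∀ φ ∈ Φ, φ ∈ divisors τ) →
        Q (irr K d n) (Φ.inf fun φ => schubertVanishing K d n φ) (k + 1)) :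
    ∀ τ : Idx d n, codeg τ = k + 1 →
      Q (irr K d n) (schubertVanishing K d n τ) (k + 1 + 1) := by
  intro τ hτ
  have hex : ∃ φ : Idx d n, φ < τ := by
    by_contra hcon
    push Not at hcon
    have := codeg_eq_zero_of_bot τ hcon
    omega
  have h54 := Groth.Agent.S11254.result K d n hd hdn τ hex
  have hΦne : (Set.toFinite (divisors τ)).toFinset.Nonempty := by
    obtain ⟨φ0, hφ0⟩ := hex
    obtain ⟨ψ0, hψ0, _⟩ := Groth.Agent.S11268.result d n φ0 τ hφ0
    exact ⟨ψ0, (Set.Finite.mem_toFinset _).2 hψ0⟩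
  have hQ := hU τ hτ (Set.toFinite (divisors τ)).toFinset hΦne
    (fun φ hφ => (Set.Finite.mem_toFinset _).1 hφ)
  have heq : schubertVanishing K d n τ ⊔ Ideal.span {(X τ : PlRing K d n)} =
      (Set.toFinite (divisors τ)).toFinset.inf fun φ => schubertVanishing K d n φ := by
    rw [h54, Finset.inf_eq_iInf]
    apply le_antisymm
    · exact le_iInf₂ fun φ hφ => iInf₂_le φ ((Set.Finite.mem_toFinset _).1 hφ)
    · exact le_iInf₂ fun φ hφ => iInf₂_le φ ((Set.Finite.mem_toFinset _).2 hφ)
  apply Q_of_sup_span (irr K d n) _ (X τ) (X_mem_irr τ) (X_regular hd τ) (k + 1)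
  rw [heq]
  exact hQ

theorem main_PU (hd : 0 < d) (hdn : d < n) (k : ℕ) :
    (∀ τ : Idx d n, codeg τ = k → Q (irr K d n) (schubertVanishing K d n τ) (k + 1)) ∧
    (∀ τ : Idx d n, codeg τ = k + 1 → ∀ Φ : Finset (Idx d n), Φ.Nonempty →
      (∀ φ ∈ Φ, φ ∈ divisors τ) →
        Q (irr K d n) (Φ.inf fun φ => schubertVanishing K d n φ) (k + 1)) := by
  induction k with
  | zero =>
    have hP := P_zero (K := K) (n := n) hd
    refine ⟨hP, U_step hd 0 hP ?_⟩
    intro ψ hψ Φ hΦ hdiv
    exfalso
    obtain ⟨φ, hφ⟩ := hΦ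
    have := (hdiv φ hφ).2
    omega
  | succ k ih =>
    obtain ⟨-, hUk⟩ := ih
    have hP := P_step hd hdn k hUk
    exact ⟨hP, U_step hd (k + 1) hP hUk⟩

/-- Schubert varieties are arithmetically Cohen–Macaulay. -/
theorem schubert_cm (hd : 0 < d) (hdn : d < n) (τ : Idx d n) :
    LocCoh.IsCohenMacaulayRing (PlRing K d n ⧸ schubertVanishing K d n τ) := by
  have hQ := (main_PU (K := K) hd hdn (codeg τ)).1 τ rfl
  exact isCMRing_of_Q (MvPolynomial.homogeneousSubmodule (Idx d n) K) h0 _
    (isHomogeneous_schubertVanishing hd τ) _ hQ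

/-- Unions of Schubert divisors of a Schubert variety are arithmetically Cohen–Macaulay. -/
theorem union_cm (hd : 0 < d) (hdn : d < n) (τ : Idx d n) (s : ℕ) (φ : Fin s → Idx d n)
    (hφ : ∀ i, φ i ∈ divisors τ) :
    LocCoh.IsCohenMacaulayRing (PlRing K d n ⧸ ⨅ i, schubertVanishing K d n (φ i)) := by
  classical
  rcases Nat.eq_zero_or_pos s with hs | hs
  · subst hs
    have htop : (⨅ i : Fin 0, schubertVanishing K d n (φ i)) = ⊤ := iInf_of_empty _
    haveI : Subsingleton (PlRing K d n ⧸ ⨅ i : Fin 0, schubertVanishing K d n (φ i)) :=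
      Ideal.Quotient.subsingleton_iff.mpr htop
    refine ⟨fun p hp => ?_⟩
    exfalso
    exact hp.ne_top ((Ideal.eq_top_iff_one p).mpr (by
      rw [Subsingleton.elim (1 : PlRing K d n ⧸ ⨅ i : Fin 0, schubertVanishing K d n (φ i)) 0]
      exact p.zero_mem))
  · have h0' := hφ ⟨0, hs⟩
    obtain ⟨k, hk⟩ : ∃ k, codeg τ = k + 1 := ⟨codeg (φ ⟨0, hs⟩), h0'.2.symm⟩
    have hne : (Finset.univ.image φ).Nonempty :=
      ⟨φ ⟨0, hs⟩, Finset.mem_image_of_mem _ (Finset.mem_univ _)⟩
    have hQ := (main_PU (K := K) hd hdn k).2 τ hk (Finset.univ.image φ) hne (fun θ hθ => by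
      obtain ⟨i, -, rfl⟩ := Finset.mem_image.mp hθ
      exact hφ i)
    have heq : (Finset.univ.image φ).inf (fun θ => schubertVanishing K d n θ) =
        ⨅ i, schubertVanishing K d n (φ i) := by
      rw [Finset.inf_image, Finset.inf_univ_eq_iInf]
      rfl
    rw [heq] at hQ
    exact isCMRing_of_Q (MvPolynomial.homogeneousSubmodule (Idx d n) K) h0 _
      (Ideal.IsHomogeneous.iInf (fun i => isHomogeneous_schubertVanishing hd (φ i))) _ hQ

end Main

end

end Groth.Agent.H85.PlCM
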