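import Groth.Agent.H85.PlShuffle

/-!
# Linear independence of standard monomials on unions of Schubert varieties (helper85 library)
-/

set_option autoImplicit false
universe u
open W4bk4grassmannian MvPolynomial

namespace Groth.Agent.H85.Pl

noncomputable section

variable {K : Type u} [CommRing K] {d n : ℕ}

/-- variables of the matrix ring, lexicographically ordered -/
abbrev Var (d n : ℕ) := Lex (Fin n × Fin d)

lemma det_eq_zero_of_block {R : Type*} [CommRing R] (B : Matrix (Fin d) (Fin d) R) (t0 : Fin d)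
    (h : ∀ s t : Fin d, t0 ≤ s → t ≤ t0 → B s t = 0) : B.det = 0 := by
  rw [Matrix.det_apply]
  apply Finset.sum_eq_zero
  intro σ _
  have hex : ∃ t : Fin d, t ≤ t0 ∧ t0 ≤ σ t := by
    by_contra hcon
    push Not at hcon
    have hmaps : ∀ t ∈ Finset.Iic t0, σ t ∈ Finset.Iio t0 :=
      fun t ht => Finset.mem_Iio.mpr (hcon t (Finset.mem_Iic.mp ht))
    have := Finset.card_le_card_of_injOn σ hmaps (σ.injective.injOn)
    rw [Fin.card_Iic, Fin.card_Iio] at this
    omega
  obtain ⟨t, ht, hσt⟩ := hex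
  rw [Finset.prod_eq_zero (f := fun i => B (σ i) i) (Finset.mem_univ t) (h (σ t) t hσt ht), smul_zero]

lemma det_submatrix_eq_zero_of_not_le {R : Type*} [CommRing R] (τ φ : Idx d n)
    (M : Matrix (Fin n) (Fin d) R) (hM : ∀ s t, ¬ s ≤ τ.1 t → M s t = 0) (hφ : ¬ φ ≤ τ) :
    (M.submatrix φ.1 id).det = 0 := by
  have hex : ∃ t0, τ.1 t0 < φ.1 t0 := by
    by_contra hcon
    push Not at hcon
    exact hφ (fun t => hcon t)
  obtain ⟨t0, ht0⟩ := hex
  apply det_eq_zero_of_block _ t0
  intro s t hs ht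
  simp only [Matrix.submatrix_apply, id]
  apply hM
  have h1 : τ.1 t ≤ τ.1 t0 := τ.2.monotone ht
  have h2 : φ.1 t0 ≤ φ.1 s := φ.2.monotone hs
  exact not_le.mpr (lt_of_le_of_lt h1 (lt_of_lt_of_le ht0 h2))

/-- the generic matrix of shape `τ` -/
def shaped (K : Type u) [CommRing K] (τ : Idx d n) :
    Matrix (Fin n) (Fin d) (MvPolynomial (Var d n) K) :=
  Matrix.of fun s t => if s ≤ τ.1 t then X (toLex (s, t)) else 0

lemma shaped_zero (τ : Idx d n) (s : Fin n) (t : Fin d) (h : ¬ s ≤ τ.1 t) : shaped K τ s t = 0 := by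
  unfold shaped; rw [Matrix.of_apply, if_neg h]

lemma shaped_pos (τ : Idx d n) (s : Fin n) (t : Fin d) (h : s ≤ τ.1 t) :
    shaped K τ s t = X (toLex (s, t)) := by
  unfold shaped; rw [Matrix.of_apply, if_pos h]

/-- Plücker coordinates ↦ minors of the generic matrix of shape `τ` -/
def Phi (K : Type u) [CommRing K] (τ : Idx d n) : PlRing K d n →ₐ[K] MvPolynomial (Var d n) K :=
  MvPolynomial.aeval fun θ : Idx d n => ((shaped K τ).submatrix θ.1 id).det

lemma Phi_X (τ θ : Idx d n) : Phi K τ (X θ) = ((shaped K τ).submatrix θ.1 id).det := by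
  unfold Phi; rw [aeval_X]

lemma Phi_X_eq_zero (τ θ : Idx d n) (h : ¬ θ ≤ τ) : Phi K τ (X θ) = 0 := by
  rw [Phi_X]
  exact det_submatrix_eq_zero_of_not_le τ θ _ (fun s t hst => shaped_zero τ s t hst) h

lemma aeval_Phi (τ : Idx d n) (z : Var d n → K) (f : PlRing K d n) :
    MvPolynomial.aeval z (Phi K τ f) =
      evalMinors K d n ((shaped K τ).map (MvPolynomial.aeval z)) f := by
  have : (MvPolynomial.aeval z).comp (Phi K τ) =
      evalMinors K d n ((shaped K τ).map (MvPolynomial.aeval z)) := by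
    apply MvPolynomial.algHom_ext
    intro θ
    rw [AlgHom.comp_apply, Phi_X, evalMinors_X, AlgHom.map_det]
    rfl
  exact DFunLike.congr_fun this f

lemma mem_schubertVanishing_iff (τ : Idx d n) (f : PlRing K d n) :
    f ∈ schubertVanishing K d n τ ↔ ∀ A : Matrix (Fin n) (Fin d) K,
      (∀ φ : Idx d n, ¬ φ ≤ τ → (A.submatrix φ.1 id).det = 0) → evalMinors K d n A f = 0 := by
  unfold schubertVanishing
  simp only [Ideal.mem_iInf, RingHom.mem_ker]
  rfl

lemma Phi_eq_zero_of_mem [IsDomain K] [Infinite K] (τ : Idx d n) {f : PlRing K d n}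
    (hf : f ∈ schubertVanishing K d n τ) : Phi K τ f = 0 := by
  apply MvPolynomial.funext
  intro z
  rw [map_zero]
  have h1 : MvPolynomial.eval z (Phi K τ f) = MvPolynomial.aeval z (Phi K τ f) := by
    rw [← MvPolynomial.coe_aeval_eq_eval]; rfl
  rw [h1, aeval_Phi]
  apply (mem_schubertVanishing_iff τ f).mp hf
  intro φ hφ
  apply det_submatrix_eq_zero_of_not_le τ φ _ _ hφ
  intro s t hst
  rw [Matrix.map_apply, shaped_zero τ s t hst, map_zero]

/-! ### leading terms -/

/-- exponent of the product of the entries of the minor on rows `θ` along the permutation `σ` -/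
def mexp (θ : Idx d n) (σ : Equiv.Perm (Fin d)) : Var d n →₀ ℕ :=
  ∑ t : Fin d, Finsupp.single (toLex (θ.1 (σ t), t)) 1

lemma mexp_apply (θ : Idx d n) (σ : Equiv.Perm (Fin d)) (s : Fin n) (c : Fin d) :
    mexp θ σ (toLex (s, c)) = if θ.1 (σ c) = s then 1 else 0 := by
  unfold mexp
  rw [Finsupp.finsetSum_apply, Finset.sum_eq_single c]
  · rw [Finsupp.single_apply]
    by_cases h : θ.1 (σ c) = s
    · rw [if_pos h, if_pos (by rw [h])]
    · rw [if_neg h, if_neg]
      intro h'
      apply h
      have := congrArg (fun x => (ofLex x).1) h'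
      simpa using this
  · intro t _ htc
    rw [Finsupp.single_apply, if_neg]
    intro h'
    apply htc
    have := congrArg (fun x => (ofLex x).2) h'
    simpa using this
  · intro h; exact absurd (Finset.mem_univ c) h

lemma mexp_one_apply (θ : Idx d n) (s : Fin n) (c : Fin d) :
    mexp θ 1 (toLex (s, c)) = if θ.1 c = s then 1 else 0 :=
  mexp_apply θ 1 s c

lemma mexp_lt (θ : Idx d n) (σ : Equiv.Perm (Fin d)) (hσ : σ ≠ 1) :
    toLex (mexp θ σ) < toLex (mexp θ 1) := by
  have hS : (Finset.univ.filter fun t : Fin d => σ t ≠ t).Nonempty := by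
    by_contra hcon
    rw [Finset.not_nonempty_iff_eq_empty, Finset.filter_eq_empty_iff] at hcon
    apply hσ
    ext t
    have := hcon (Finset.mem_univ t)
    push Not at this
    simp [this]
  have h1 : σ ((Finset.univ.filter fun t : Fin d => σ t ≠ t).min' hS) ≠
      (Finset.univ.filter fun t : Fin d => σ t ≠ t).min' hS :=
    (Finset.mem_filter.mp (Finset.min'_mem _ hS)).2
  have h2 : ∀ t, t < (Finset.univ.filter fun t : Fin d => σ t ≠ t).min' hS → σ t = t := by
    intro t ht
    by_contra hne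
    have hmem : t ∈ Finset.univ.filter fun t : Fin d => σ t ≠ t :=
      Finset.mem_filter.mpr ⟨Finset.mem_univ t, hne⟩
    have := Finset.min'_le _ t hmem
    exact absurd ht (not_lt.mpr this)
  generalize (Finset.univ.filter fun t : Fin d => σ t ≠ t).min' hS = t1 at h1 h2
  have h3 : ∀ c, t1 ≤ c → t1 ≤ σ c := by
    intro c hc
    by_contra hlt
    have hlt' : σ c < t1 := not_le.mp hlt
    have := h2 (σ c) hlt'
    have hcc : σ c = c := σ.injective this
    rw [hcc] at hlt'
    exact absurd hc (not_le.mpr hlt')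
  show ∃ i, (∀ j, j < i → (mexp θ σ) j = (mexp θ 1) j) ∧ (mexp θ σ) i < (mexp θ 1) i
  refine ⟨toLex (θ.1 t1, t1), ?_, ?_⟩
  · intro j hj
    obtain ⟨⟨s, c⟩, rfl⟩ : ∃ p : Fin n × Fin d, toLex p = j := ⟨ofLex j, rfl⟩
    rw [Prod.Lex.toLex_lt_toLex] at hj
    rw [mexp_apply, mexp_one_apply]
    by_cases hc : c < t1
    · rw [h2 c hc]
    · have hc' : t1 ≤ c := not_lt.mp hc
      have hs : s < θ.1 t1 := by
        rcases hj with hj | ⟨_, hj⟩
        · exact hj
        · exact absurd hj hc
      have e1 : θ.1 t1 ≤ θ.1 (σ c) := θ.2.monotone (h3 c hc')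
      have e2 : θ.1 t1 ≤ θ.1 c := θ.2.monotone hc'
      rw [if_neg (fun h => by rw [h] at e1; exact absurd e1 (not_le.mpr hs)),
        if_neg (fun h => by rw [h] at e2; exact absurd e2 (not_le.mpr hs))]
  · rw [mexp_apply, mexp_one_apply]
    rw [if_neg (fun h => h1 (θ.2.injective h)), if_pos rfl]
    exact Nat.zero_lt_one

lemma prod_shaped (τ θ : Idx d n) (σ : Equiv.Perm (Fin d)) :
    (∏ t : Fin d, shaped K τ (θ.1 (σ t)) t) =
      if ∀ t, θ.1 (σ t) ≤ τ.1 t then monomial (mexp θ σ) 1 else 0 := by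
  by_cases hall : ∀ t, θ.1 (σ t) ≤ τ.1 t
  · rw [if_pos hall]
    unfold mexp
    rw [MvPolynomial.monomial_sum_one]
    apply Finset.prod_congr rfl
    intro t _
    rw [shaped_pos τ _ _ (hall t)]
    rfl
  · rw [if_neg hall]
    push Not at hall
    obtain ⟨t, ht⟩ := hall
    exact Finset.prod_eq_zero (Finset.mem_univ t) (shaped_zero τ _ _ (not_le.mpr ht))

lemma prod_shaped_one (τ θ : Idx d n) (hθ : θ ≤ τ) :
    (∏ t : Fin d, shaped K τ (θ.1 ((1 : Equiv.Perm (Fin d)) t)) t) = monomial (mexp θ 1) 1 := by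
  rw [prod_shaped]
  exact if_pos (fun t => hθ t)

lemma monic_of_coeff_support {σ : Type*} (m : MonomialOrder σ) [Nontrivial K]
    (f : MvPolynomial σ K) (D : σ →₀ ℕ)
    (h1 : f.coeff D = 1) (h2 : ∀ c ∈ f.support, m.toSyn c ≤ m.toSyn D) :
    m.Monic f ∧ m.degree f = D := by
  have hle : m.toSyn (m.degree f) ≤ m.toSyn D := MonomialOrder.degree_le_iff.mpr h2
  have hD : D ∈ f.support := by rw [MvPolynomial.mem_support_iff, h1]; exact one_ne_zero
  have hge : m.toSyn D ≤ m.toSyn (m.degree f) := MonomialOrder.le_degree hD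
  have heq : m.degree f = D := m.toSyn.injective (le_antisymm hle hge)
  refine ⟨?_, heq⟩
  show m.leadingCoeff f = 1
  unfold MonomialOrder.leadingCoeff
  rw [heq, h1]

lemma det_shaped_eq (τ θ : Idx d n) :
    ((shaped K τ).submatrix θ.1 id).det =
      ∑ σ : Equiv.Perm (Fin d), Equiv.Perm.sign σ • ∏ t : Fin d, shaped K τ (θ.1 (σ t)) t := by
  rw [Matrix.det_apply]
  rfl

lemma minor_monic [Nontrivial K] (τ θ : Idx d n) (hθ : θ ≤ τ) :
    (MonomialOrder.lex (σ := Var d n)).Monic (((shaped K τ).submatrix θ.1 id).det) ∧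
    (MonomialOrder.lex (σ := Var d n)).degree (((shaped K τ).submatrix θ.1 id).det) = mexp θ 1 := by
  apply monic_of_coeff_support
  · rw [det_shaped_eq, MvPolynomial.coeff_sum, Finset.sum_eq_single (1 : Equiv.Perm (Fin d))]
    · rw [Equiv.Perm.sign_one, one_smul, prod_shaped_one τ θ hθ, MvPolynomial.coeff_monomial,
        if_pos rfl]
    · intro σ _ hσ
      rw [Units.smul_def, MvPolynomial.coeff_smul, prod_shaped]
      split_ifs with hall
      · rw [MvPolynomial.coeff_monomial, if_neg, smul_zero]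
        intro heq
        have := mexp_lt θ σ hσ
        rw [heq] at this
        exact lt_irrefl _ this
      · rw [MvPolynomial.coeff_zero, smul_zero]
    · intro h; exact absurd (Finset.mem_univ _) h
  · intro c hc
    rw [det_shaped_eq] at hc
    have hc' := MvPolynomial.support_sum hc
    rw [Finset.mem_biUnion] at hc'
    obtain ⟨σ, _, hcσ⟩ := hc'
    rw [Units.smul_def] at hcσ
    have hcσ' := MvPolynomial.support_smul hcσ
    rw [prod_shaped] at hcσ'
    split_ifs at hcσ' with hall
    · have hceq : c = mexp θ σ := by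
        have := MvPolynomial.support_monomial_subset hcσ'
        exact Finset.mem_singleton.mp this
      rw [hceq]
      by_cases hσ : σ = 1
      · rw [hσ]
      · exact le_of_lt (mexp_lt θ σ hσ)
    · simp at hcσ'

/-- exponent of a chain -/
def cexp {m : ℕ} (c : Fin m → Idx d n) : Var d n →₀ ℕ := ∑ k, mexp (c k) 1

lemma Phi_chainMon_monic [Nontrivial K] (τ : Idx d n) {m : ℕ} (c : Fin m → Idx d n)
    (hc : ∀ k, c k ≤ τ) :
    (MonomialOrder.lex (σ := Var d n)).Monic (Phi K τ (chainMon K c)) ∧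
    (MonomialOrder.lex (σ := Var d n)).degree (Phi K τ (chainMon K c)) = cexp c := by
  unfold chainMon
  rw [map_prod]
  simp only [Phi_X]
  constructor
  · exact MonomialOrder.Monic.prod (fun k _ => (minor_monic τ (c k) (hc k)).1)
  · rw [MonomialOrder.degree_prod_of_regular]
    · unfold cexp
      exact Finset.sum_congr rfl (fun k _ => (minor_monic τ (c k) (hc k)).2)
    · intro k _
      rw [(minor_monic τ (c k) (hc k)).1.leadingCoeff_eq_one]
      exact isRegular_one

lemma Phi_chainMon_zero (τ : Idx d n) {m : ℕ} (c : Fin m → Idx d n) (hc : ¬ ∀ k, c k ≤ τ) :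
    Phi K τ (chainMon K c) = 0 := by
  push Not at hc
  obtain ⟨k, hk⟩ := hc
  unfold chainMon
  rw [map_prod]
  exact Finset.prod_eq_zero (Finset.mem_univ k) (Phi_X_eq_zero τ (c k) hk)

lemma cexp_apply {m : ℕ} (c : Fin m → Idx d n) (s : Fin n) (t : Fin d) :
    cexp c (toLex (s, t)) = (Finset.univ.filter fun k => (c k).1 t = s).card := by
  unfold cexp
  rw [Finsupp.finsetSum_apply]
  simp only [mexp_one_apply]
  rw [Finset.card_filter]

lemma eq_of_antitone_of_count {m n : ℕ} (f g : Fin m → Fin n) (hf : Antitone f) (hg : Antitone g)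
    (h : ∀ s, (Finset.univ.filter fun k => f k = s).card =
      (Finset.univ.filter fun k => g k = s).card) : f = g := by
  have hp : (List.ofFn f).Perm (List.ofFn g) := by
    rw [← Multiset.coe_eq_coe, ← Fin.univ_val_map, ← Fin.univ_val_map]
    ext s
    rw [Multiset.count_map, Multiset.count_map]
    have h1 : ∀ f : Fin m → Fin n, Multiset.card (Multiset.filter (fun a => s = f a) Finset.univ.val) =
        (Finset.univ.filter fun k => f k = s).card := by
      intro f
      rw [Finset.card_def, Finset.filter_val]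
      congr 1
      apply Multiset.filter_congr
      intro x _
      exact eq_comm
    rw [h1 f, h1 g, h s]
  exact List.ofFn_injective (List.Perm.eq_of_sortedGE hf.sortedGE_ofFn hg.sortedGE_ofFn hp)

lemma chain_eq_of_cexp_eq (hd : 0 < d) {m m' : ℕ} (c : Fin m → Idx d n) (c' : Fin m' → Idx d n)
    (hc : Antitone c) (hc' : Antitone c') (h : cexp c = cexp c') :
    (⟨m, c⟩ : Σ m : ℕ, (Fin m → Idx d n)) = ⟨m', c'⟩ := by
  have hm : ∀ {m : ℕ} (c : Fin m → Idx d n), ∑ s : Fin n, cexp c (toLex (s, ⟨0, hd⟩)) = m := by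
    intro m c
    simp only [cexp_apply]
    rw [← Finset.card_eq_sum_card_fiberwise (f := fun k => (c k).1 ⟨0, hd⟩) (s := Finset.univ)
      (t := Finset.univ) (fun _ _ => Finset.mem_univ _)]
    simp
  have hmm : m = m' := by rw [← hm c, ← hm c', h]
  subst hmm
  have : c = c' := by
    funext k
    apply Subtype.ext
    funext t
    have := eq_of_antitone_of_count (fun k => (c k).1 t) (fun k => (c' k).1 t)
      (fun a b hab => hc hab t) (fun a b hab => hc' hab t)
      (fun s => by rw [← cexp_apply, ← cexp_apply, h])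
    exact congrFun this k
  rw [this]

lemma coeff_zero_of_monic_family {σ ι : Type*} {R : Type*} [CommRing R] [Nontrivial R]
    (m : MonomialOrder σ) (s : Finset ι) (g : ι → R)
    (P : ι → MvPolynomial σ R) (hP : ∀ c ∈ s, P c = 0 ∨ m.Monic (P c))
    (hinj : ∀ c ∈ s, ∀ c' ∈ s, m.Monic (P c) → m.Monic (P c') →
      m.degree (P c) = m.degree (P c') → c = c')
    (h : ∑ c ∈ s, g c • P c = 0) : ∀ c ∈ s, m.Monic (P c) → g c = 0 := by
  classical
  by_contra hcon
  push Not at hcon
  obtain ⟨c1, hc1s, hc1m, hc1g⟩ := hcon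
  have hne : (s.filter (fun c => m.Monic (P c) ∧ g c ≠ 0)).Nonempty :=
    ⟨c1, Finset.mem_filter.mpr ⟨hc1s, hc1m, hc1g⟩⟩
  obtain ⟨c0, hc0, hmax⟩ := Finset.exists_max_image (s.filter (fun c => m.Monic (P c) ∧ g c ≠ 0))
    (fun c => m.toSyn (m.degree (P c))) hne
  obtain ⟨hc0s, hc0m, hc0g⟩ := Finset.mem_filter.mp hc0
  have hcoeff := congrArg (MvPolynomial.coeff (m.degree (P c0))) h
  rw [MvPolynomial.coeff_sum, MvPolynomial.coeff_zero, Finset.sum_eq_single c0] at hcoeff
  · rw [MvPolynomial.coeff_smul, hc0m.coeff_degree, smul_eq_mul, mul_one] at hcoeff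
    exact hc0g hcoeff
  · intro c hcs hne0
    rw [MvPolynomial.coeff_smul, smul_eq_mul]
    rcases hP c hcs with h0 | hm
    · rw [h0, MvPolynomial.coeff_zero, mul_zero]
    · by_cases hg : g c = 0
      · rw [hg, zero_mul]
      · have hcS : c ∈ s.filter (fun c => m.Monic (P c) ∧ g c ≠ 0) :=
          Finset.mem_filter.mpr ⟨hcs, hm, hg⟩
        have hle := hmax c hcS
        have hlt : m.toSyn (m.degree (P c)) < m.toSyn (m.degree (P c0)) := by
          apply lt_of_le_of_ne hle
          intro heq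
          exact hne0 (hinj c hcs c0 hc0s hm hc0m (m.toSyn.injective heq))
        rw [MonomialOrder.coeff_eq_zero_of_lt hlt, mul_zero]
  · intro h'; exact absurd hc0s h'

end

/-! ### the main theorems -/

noncomputable section

variable {K : Type u} [Field K] [Infinite K] {d n : ℕ}

lemma mk_smul' (I : Ideal (PlRing K d n)) (a : K) (x : PlRing K d n) :
    Ideal.Quotient.mk I (a • x) = a • Ideal.Quotient.mk I x :=
  map_smul (Ideal.Quotient.mkₐ K I) a x

/-- standard monomials on a union of Schubert varieties are linearly independent modulo the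
intersection of the Schubert ideals -/
theorem linearIndependent_std (hd : 0 < d) {ι : Type*} (τs : ι → Idx d n) :
    LinearIndependent K (fun c : (Σ m : ℕ, {c : Fin m → Idx d n // Antitone c ∧ ∃ i, ∀ k, c k ≤ τs i}) =>
      Ideal.Quotient.mk (⨅ i, schubertVanishing K d n (τs i)) (chainMon K c.2.1)) := by
  rw [linearIndependent_iff']
  intro s g hsum c0 hc0
  obtain ⟨i, hi⟩ := c0.2.2.2
  have hmem : ∑ c ∈ s, g c • chainMon K c.2.1 ∈ ⨅ i, schubertVanishing K d n (τs i) := by
    rw [← Ideal.Quotient.eq_zero_iff_mem, map_sum, ← hsum]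
    apply Finset.sum_congr rfl
    intro c _
    exact mk_smul' _ (g c) _
  have hmem_i := (Ideal.mem_iInf.mp hmem) i
  have hPhi := Phi_eq_zero_of_mem (τs i) hmem_i
  rw [map_sum] at hPhi
  simp only [map_smul] at hPhi
  refine coeff_zero_of_monic_family (MonomialOrder.lex) s g
    (fun c => Phi K (τs i) (chainMon K c.2.1)) ?_ ?_ hPhi c0 hc0
    (Phi_chainMon_monic (τs i) c0.2.1 hi).1
  · intro c _
    by_cases hc : ∀ k, c.2.1 k ≤ τs i
    · right; exact (Phi_chainMon_monic (τs i) c.2.1 hc).1
    · left; exact Phi_chainMon_zero (τs i) c.2.1 hc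
  · intro c _ c' _ hm hm' hdeg
    have hc : ∀ k, c.2.1 k ≤ τs i := by
      by_contra h
      rw [Phi_chainMon_zero (τs i) c.2.1 h] at hm
      exact hm.ne_zero rfl
    have hc' : ∀ k, c'.2.1 k ≤ τs i := by
      by_contra h
      rw [Phi_chainMon_zero (τs i) c'.2.1 h] at hm'
      exact hm'.ne_zero rfl
    rw [(Phi_chainMon_monic (τs i) c.2.1 hc).2, (Phi_chainMon_monic (τs i) c'.2.1 hc').2] at hdeg
    have := chain_eq_of_cexp_eq hd c.2.1 c'.2.1 c.2.2.1 c'.2.2.1 hdeg
    obtain ⟨m, cc, hcc⟩ := c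
    obtain ⟨m', cc', hcc'⟩ := c'
    simp only at this
    cases this
    rfl

end

noncomputable section

variable {K : Type u} [CommRing K] {d n : ℕ}

lemma plIdealTop_le_schubertVanishing (τ : Idx d n) :
    plIdealTop K ≤ schubertVanishing K d n τ := by
  unfold plIdealTop
  rw [Ideal.span_le]
  rintro _ ⟨i, j, r, _, rfl⟩
  rw [SetLike.mem_coe, mem_schubertVanishing_iff]
  intro A _
  exact evalMinors_shuffleRel A i j r

lemma X_mem_schubertVanishing (τ φ : Idx d n) (h : ¬ φ ≤ τ) : X φ ∈ schubertVanishing K d n τ := by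
  rw [mem_schubertVanishing_iff]
  intro A hA
  rw [evalMinors_X]
  exact hA φ h

lemma schubertVanishing_anti {φ τ : Idx d n} (h : φ ≤ τ) :
    schubertVanishing K d n τ ≤ schubertVanishing K d n φ := by
  intro f hf
  rw [mem_schubertVanishing_iff] at hf ⊢
  intro A hA
  apply hf A
  intro ψ hψ
  apply hA ψ
  intro hψφ
  exact hψ (le_trans hψφ h)

lemma chainMon_mem_of_X_mem (I : Ideal (PlRing K d n)) {m : ℕ} (c : Fin m → Idx d n) (k : Fin m)
    (h : X (c k) ∈ I) : chainMon K c ∈ I := by
  unfold chainMon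
  exact Ideal.mem_of_dvd I (Finset.dvd_prod_of_mem (fun k => (X (c k) : PlRing K d n)) (Finset.mem_univ k)) h

lemma exists_std_rep (f : PlRing K d n) :
    ∃ g ∈ Submodule.span K (Set.range fun c : (Σ m : ℕ, {c : Fin m → Idx d n // Antitone c}) =>
        chainMon K c.2.1), f - g ∈ plIdealTop (d := d) (n := n) K := by
  have h := span_std K d n
  have hrange : (Set.range fun c : (Σ m : ℕ, {c : Fin m → Idx d n // Antitone c}) =>
        Ideal.Quotient.mk (plIdealTop (d := d) (n := n) K) (chainMon K c.2.1)) =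
      (Ideal.Quotient.mkₐ K (plIdealTop K)).toLinearMap ''
        (Set.range fun c : (Σ m : ℕ, {c : Fin m → Idx d n // Antitone c}) => chainMon K c.2.1) := by
    rw [← Set.range_comp]; rfl
  rw [hrange, ← Submodule.map_span] at h
  have hf : (Ideal.Quotient.mkₐ K (plIdealTop K)).toLinearMap f ∈
      Submodule.map (Ideal.Quotient.mkₐ K (plIdealTop K)).toLinearMap
        (Submodule.span K (Set.range fun c : (Σ m : ℕ, {c : Fin m → Idx d n // Antitone c}) =>
          chainMon K c.2.1)) := by
    rw [h]; trivial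
  obtain ⟨g, hg, hgf⟩ := hf
  refine ⟨g, hg, ?_⟩
  exact Ideal.Quotient.eq.mp hgf.symm

lemma exists_good_rep (I : Ideal (PlRing K d n)) (hI : plIdealTop K ≤ I)
    (Good : (m : ℕ) → (Fin m → Idx d n) → Prop)
    (hbad : ∀ (m : ℕ) (c : Fin m → Idx d n), Antitone c → ¬ Good m c → chainMon K c ∈ I)
    (f : PlRing K d n) :
    ∃ g ∈ Submodule.span K (Set.range
        fun a : (Σ m : ℕ, {c : Fin m → Idx d n // Antitone c ∧ Good m c}) => chainMon K a.2.1),
      f - g ∈ I := by
  obtain ⟨g0, hg0, hfg0⟩ := exists_std_rep f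
  have hle : Submodule.span K (Set.range fun c : (Σ m : ℕ, {c : Fin m → Idx d n // Antitone c}) =>
        chainMon K c.2.1) ≤
      Submodule.span K (Set.range
        fun a : (Σ m : ℕ, {c : Fin m → Idx d n // Antitone c ∧ Good m c}) => chainMon K a.2.1) ⊔
        I.restrictScalars K := by
    apply Submodule.span_le.mpr
    rintro _ ⟨c, rfl⟩
    by_cases hc : Good c.1 c.2.1
    · exact Submodule.mem_sup_left (Submodule.subset_span ⟨⟨c.1, c.2.1, c.2.2, hc⟩, rfl⟩)
    · exact Submodule.mem_sup_right (show _ ∈ I.restrictScalars K from hbad c.1 c.2.1 c.2.2 hc)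
  obtain ⟨g1, hg1, g2, hg2, hsum⟩ := Submodule.mem_sup.mp (hle hg0)
  refine ⟨g1, hg1, ?_⟩
  have : f - g1 = (f - g0) + g2 := by rw [← hsum]; ring
  rw [this]
  exact I.add_mem (hI hfg0) hg2

end

noncomputable section

variable {K : Type u} [Field K] [Infinite K] {d n : ℕ}

/-- an ideal between the shuffle ideal and the ideal of a union of Schubert varieties which contains
the standard monomials not supported on the union is equal to the ideal of the union -/
theorem master (hd : 0 < d) {ι : Type*} (τs : ι → Idx d n)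
    (I : Ideal (PlRing K d n)) (hI : plIdealTop K ≤ I)
    (hIJ : I ≤ ⨅ i, schubertVanishing K d n (τs i))
    (hbad : ∀ (m : ℕ) (c : Fin m → Idx d n), Antitone c → (¬ ∃ i, ∀ k, c k ≤ τs i) →
      chainMon K c ∈ I) :
    I = ⨅ i, schubertVanishing K d n (τs i) := by
  apply le_antisymm hIJ
  intro f hf
  obtain ⟨g, hg, hfg⟩ := exists_good_rep I hI (fun m c => ∃ i, ∀ k, c k ≤ τs i) hbad f
  have hgJ : g ∈ ⨅ i, schubertVanishing K d n (τs i) := by
    have : g = f - (f - g) := by ring
    rw [this]; exact Ideal.sub_mem _ hf (hIJ hfg)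
  obtain ⟨l, hl⟩ := Finsupp.mem_span_range_iff_exists_finsupp.mp hg
  have hLI := linearIndependent_std (K := K) hd τs
  have hl0 : l = 0 := by
    apply linearIndependent_iff.mp hLI l
    rw [Finsupp.linearCombination_apply]
    have h0 : Ideal.Quotient.mk (⨅ i, schubertVanishing K d n (τs i)) g = 0 :=
      Ideal.Quotient.eq_zero_iff_mem.mpr hgJ
    rw [← hl, Finsupp.sum, map_sum] at h0
    rw [Finsupp.sum, ← h0]
    apply Finset.sum_congr rfl
    intro a _
    exact (mk_smul' _ _ _).symm
  rw [hl0] at hl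
  simp only [Finsupp.sum_zero_index] at hl
  rw [← hl, sub_zero] at hfg
  exact hfg

/-- standard monomials supported on a union of Schubert varieties span the quotient by any ideal containing
the shuffle relations and the other standard monomials -/
theorem span_std_quot {K : Type u} [CommRing K] {d n : ℕ} (I : Ideal (PlRing K d n)) (hI : plIdealTop K ≤ I)
    (Good : (m : ℕ) → (Fin m → Idx d n) → Prop)
    (hbad : ∀ (m : ℕ) (c : Fin m → Idx d n), Antitone c → ¬ Good m c → chainMon K c ∈ I) :
    Submodule.span K (Set.range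
        fun a : (Σ m : ℕ, {c : Fin m → Idx d n // Antitone c ∧ Good m c}) =>
          Ideal.Quotient.mk I (chainMon K a.2.1)) = ⊤ := by
  rw [eq_top_iff]
  rintro y -
  obtain ⟨f, rfl⟩ := Ideal.Quotient.mk_surjective y
  obtain ⟨g, hg, hfg⟩ := exists_good_rep I hI Good hbad f
  have hfg' : Ideal.Quotient.mk I f = Ideal.Quotient.mk I g := Ideal.Quotient.eq.mpr hfg
  rw [hfg']
  have hrange : (Set.range fun a : (Σ m : ℕ, {c : Fin m → Idx d n // Antitone c ∧ Good m c}) =>
        Ideal.Quotient.mk I (chainMon K a.2.1)) =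
      (Ideal.Quotient.mkₐ K I).toLinearMap ''
        (Set.range fun a : (Σ m : ℕ, {c : Fin m → Idx d n // Antitone c ∧ Good m c}) =>
          chainMon K a.2.1) := by
    rw [← Set.range_comp]; rfl
  rw [hrange, ← Submodule.map_span]
  exact ⟨g, hg, rfl⟩

end

end Groth.Agent.H85.Pl
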