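import Groth.Agent.H85.Dehom
import Groth.Agent.H85.PlCM
import Groth.Agent.H85.DetDim
import Groth.Agent.S11250

/-!
# Determinantal varieties as opposite cells of Schubert varieties (helper85)

The ring `K[x_{ij}] ⧸ I_t` of the determinantal variety is the quotient of the cone `S ⧸ J(w_t)` over
a Schubert variety of `G(n, n + m)` by `X_ι - 1`, where `ι` is the minimal Plücker index. This
transfers normality and the Cohen–Macaulay property from Schubert varieties.
-/

set_option autoImplicit false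
set_option linter.style.haveILetI false
universe u
open W4bk4grassmannian MvPolynomial

namespace Groth.Agent.H85.DetBr

open Groth.Agent.H85.Pl Groth.Agent.H85.Det

attribute [local instance] MvPolynomial.gradedAlgebra

/-! ### the Schubert index of the determinantal variety -/

/-- the entries of `w_t` -/
def wTf (m n t j : ℕ) : ℕ := if j + t ≤ n then j + t - 1 else j + m

lemma wTf_lt {m n t j : ℕ} (ht : 1 ≤ t) (hj : j < n) : wTf m n t j < n + m := by
  unfold wTf
  split_ifs <;> omega

lemma wTf_strict {m n t i j : ℕ} (ht : 1 ≤ t) (htm : t ≤ m) (hij : i < j) :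
    wTf m n t i < wTf m n t j := by
  unfold wTf
  split_ifs <;> omega

/-- the index `w_t = (t-1, …, n-1, n+m-t+1, …, n+m-1)` -/
def wT (m n t : ℕ) (ht : 1 ≤ t) (htm : t ≤ m) : Idx n (n + m) :=
  ⟨fun j => ⟨wTf m n t j.val, wTf_lt ht j.isLt⟩,
    fun _ _ hij => Fin.mk_lt_mk.mpr (wTf_strict ht htm (Fin.lt_def.mp hij))⟩

lemma gap {p N : ℕ} (f : Fin p → Fin N) (hf : StrictMono f) :
    ∀ (k : ℕ) (i : Fin p) (h : i.val + k < p), (f i).val + k ≤ (f ⟨i.val + k, h⟩).val := by
  intro k
  induction k with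
  | zero =>
    intro i h
    have h1 : (⟨i.val + 0, h⟩ : Fin p) = i := Fin.ext (Nat.add_zero _)
    rw [h1]
    omega
  | succ k ih =>
    intro i h
    have h1 := ih i (by omega)
    have h2 : f ⟨i.val + k, by omega⟩ < f ⟨i.val + (k + 1), h⟩ :=
      hf (Fin.mk_lt_mk.mpr (by omega))
    have h3 : (f ⟨i.val + k, by omega⟩).val < (f ⟨i.val + (k + 1), h⟩).val := h2
    omega

variable {m n : ℕ}

lemma le_wT_iff (t : ℕ) (ht : 1 ≤ t) (htm : t ≤ m) (htn : t ≤ n) (θ : Idx n (n + m)) :
    θ ≤ wT m n t ht htm ↔ (θ.1 ⟨n - t, by omega⟩).val < n := by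
  constructor
  · intro h
    have h1 : (θ.1 ⟨n - t, by omega⟩).val ≤ wTf m n t (n - t) :=
      Fin.le_iff_val_le_val.mp (h ⟨n - t, by omega⟩)
    unfold wTf at h1
    rw [if_pos (by omega)] at h1
    omega
  · intro h j
    rw [Fin.le_iff_val_le_val]
    show (θ.1 j).val ≤ wTf m n t j.val
    unfold wTf
    have hjn := j.isLt
    split_ifs with hj
    · have h1 := gap θ.1 θ.2 (n - t - j.val) j (by omega)
      have h2 : (⟨j.val + (n - t - j.val), by omega⟩ : Fin n) = ⟨n - t, by omega⟩ :=
        Fin.ext (by show j.val + (n - t - j.val) = n - t; omega)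
      rw [h2] at h1
      omega
    · have h1 := gap θ.1 θ.2 (n - 1 - j.val) j (by omega)
      have h3 := (θ.1 ⟨j.val + (n - 1 - j.val), by omega⟩).isLt
      omega

lemma inL_iff (t : ℕ) (ht : 1 ≤ t) (htn : t ≤ n) (θ : Idx n (n + m)) :
    inL t θ ↔ (θ.1 ⟨n - t, by omega⟩).val < n := by
  rw [lt_iff_lt_cnt θ.1 θ.2 ⟨n - t, by omega⟩ n]
  unfold inL
  show n + 1 ≤ cnt θ.1 n + t ↔ n - t < cnt θ.1 n
  omega

lemma sum_ite_range (a b A B : ℕ) :
    ∑ i ∈ Finset.range (A + B), (if i < A then a else b) = A * a + B * b := by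
  rw [Finset.sum_range_add]
  congr 1
  · rw [Finset.sum_congr rfl (fun i hi => if_pos (Finset.mem_range.mp hi)), Finset.sum_const,
      Finset.card_range, smul_eq_mul]
  · rw [Finset.sum_congr rfl (fun i _ => if_neg (by omega)), Finset.sum_const,
      Finset.card_range, smul_eq_mul]

lemma codeg_wT (t : ℕ) (ht : 1 ≤ t) (htm : t ≤ m) (htn : t ≤ n) :
    codeg (wT m n t ht htm) = (t - 1) * (m + n - t + 1) := by
  unfold codeg
  have h1 : ∀ j : Fin n, ((wT m n t ht htm).1 j).val - j.val =
      (fun i : ℕ => if i + t ≤ n then t - 1 else m) j.val := by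
    intro j
    show wTf m n t j.val - j.val = _
    unfold wTf
    simp only
    split_ifs <;> omega
  rw [Finset.sum_congr rfl (fun j _ => h1 j),
    Fin.sum_univ_eq_sum_range (fun i : ℕ => if i + t ≤ n then t - 1 else m) n]
  have h2 : ∑ i ∈ Finset.range n, (if i + t ≤ n then t - 1 else m) =
      ∑ i ∈ Finset.range ((n - t + 1) + (t - 1)), (if i < n - t + 1 then t - 1 else m) := by
    have hn : (n - t + 1) + (t - 1) = n := by omega
    rw [hn]
    apply Finset.sum_congr rfl
    intro i _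
    by_cases h : i + t ≤ n
    · rw [if_pos h, if_pos (by omega)]
    · rw [if_neg h, if_neg (by omega)]
  rw [h2, sum_ite_range]
  have h3 : m + n - t + 1 = (n - t + 1) + m := by omega
  rw [h3]
  ring

/-- `w_{r+1}` -/
abbrev wR (m n r : ℕ) (hrm : r + 1 ≤ m) : Idx n (n + m) :=
  wT m n (r + 1) (Nat.le_add_left 1 r) hrm

lemma codeg_wR (r : ℕ) (hrm : r + 1 ≤ m) (hrn : r + 1 ≤ n) :
    codeg (wR m n r hrm) = r * (n + m - r) := by
  unfold wR
  rw [codeg_wT (r + 1) (Nat.le_add_left 1 r) hrm hrn, Nat.add_sub_cancel]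
  congr 1
  omega

/-! ### the comparison map -/

noncomputable section

variable (K : Type u) [Field K]

/-- `S → K[x_{ij}] ⧸ I_t` -/
def pipsi (m n t : ℕ) : PlRing K n (n + m) →+*
    (MvPolynomial (Fin m × Fin n) K ⧸ CAlgX.minorIdeal (genMatrix K m n) t) :=
  (Ideal.Quotient.mk _).comp (psi K m n).toRingHom

lemma pipsi_apply (t : ℕ) (f : PlRing K n (n + m)) :
    pipsi K m n t f = Ideal.Quotient.mk _ (psi K m n f) := rfl

lemma pipsi_surjective (t : ℕ) : Function.Surjective (pipsi K m n t) :=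
  Ideal.Quotient.mk_surjective.comp (psi_surjective K)

variable [IsAlgClosed K]

lemma le_ker (hm : 0 < m) (hn : 0 < n) (t : ℕ) (ht : 1 ≤ t) (htm : t ≤ m) (htn : t ≤ n) :
    schubertVanishing K n (n + m) (wT m n t ht htm) ⊔
      Ideal.span {(X (iota m n) - 1 : PlRing K n (n + m))} ≤ RingHom.ker (pipsi K m n t) := by
  apply sup_le
  · rw [← Groth.Agent.S11250.result K n (n + m) hn (by omega) (wT m n t ht htm)]
    unfold plIdeal
    rw [Ideal.span_le]
    rintro f (⟨i, j, r, _, rfl⟩ | ⟨φ, hφ, rfl⟩)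
    · rw [SetLike.mem_coe, RingHom.mem_ker, pipsi_apply, psi_shuffleRel, map_zero]
    · rw [SetLike.mem_coe, RingHom.mem_ker, pipsi_apply, Ideal.Quotient.eq_zero_iff_mem]
      have hnL : ¬ inL t φ := by
        rw [inL_iff t ht htn, ← le_wT_iff t ht htm htn]
        exact hφ
      have h0 : φ ≠ iota m n := fun h => hnL (by rw [h]; exact inL_iota ht)
      obtain ⟨M, hM⟩ := exists_Theta_eq φ h0
      rw [← hM, psi_Theta]
      apply Ideal.mul_mem_left
      apply minorOf_mem
      have : ¬ (M.1 + 1 ≤ t - 1) := fun h => hnL (by rw [← hM]; exact (inL_Theta M).mpr h)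
      omega
  · rw [Ideal.span_le, Set.singleton_subset_iff, SetLike.mem_coe, RingHom.mem_ker, pipsi_apply,
      map_sub, map_one, psi_iota, sub_self, map_zero]

omit [IsAlgClosed K] in
lemma X_iota_notMem [Infinite K] (w : Idx n (n + m)) :
    (X (iota m n) : PlRing K n (n + m)) ∉ schubertVanishing K n (n + m) w := by
  intro h
  exact X_notMem (K := K) (iota m n) (schubertVanishing_anti (iota_le w) h)

lemma hom_comp (hn : 0 < n) (w : Idx n (n + m)) :
    ∀ f ∈ schubertVanishing K n (n + m) w, ∀ k,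
      homogeneousComponent k f ∈ schubertVanishing K n (n + m) w := by
  intro f hf k
  have h := Groth.Agent.H85.PlCM.isHomogeneous_schubertVanishing (K := K) hn w k hf
  rwa [Groth.Agent.H85.PlCM.decompose_eq] at h

lemma X_sub_one_notMem (hm : 0 < m) (hn : 0 < n) (w : Idx n (n + m)) :
    (X (iota m n) - 1 : PlRing K n (n + m)) ∉ schubertVanishing K n (n + m) w := by
  intro h
  have hle := ((Groth.Agent.H85.PlCM.main_PU (K := K) hn (by omega : n < n + m) (codeg w)).1 w rfl).1
  have h1 := hle h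
  rw [Groth.Agent.H85.PlCM.irr_eq, RingHom.mem_ker, map_sub, map_one,
    MvPolynomial.constantCoeff_X, zero_sub] at h1
  exact one_ne_zero (neg_eq_zero.mp h1)

lemma isSMulRegular_of_notMem {A : Type*} [CommRing A] (P : Ideal A) [P.IsPrime] (x : A)
    (hx : x ∉ P) : IsSMulRegular (A ⧸ P) x := by
  rw [isSMulRegular_iff_right_eq_zero_of_smul]
  intro y hy
  obtain ⟨a, rfl⟩ := Ideal.Quotient.mk_surjective y
  have h1 : x • Ideal.Quotient.mk P a = Ideal.Quotient.mk P (x * a) := rfl
  rw [h1, Ideal.Quotient.eq_zero_iff_mem] at hy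
  rw [Ideal.Quotient.eq_zero_iff_mem]
  exact (Ideal.IsPrime.mem_or_mem inferInstance hy).resolve_left hx

/-- the dimension of `S ⧸ (J(w) + (X_ι - 1))` -/
lemma dim_quot (hm : 0 < m) (hn : 0 < n) (w : Idx n (n + m))
    [hP : (schubertVanishing K n (n + m) w ⊔
      Ideal.span {(X (iota m n) - 1 : PlRing K n (n + m))}).IsPrime] :
    ringKrullDim (PlRing K n (n + m) ⧸ (schubertVanishing K n (n + m) w ⊔
      Ideal.span {(X (iota m n) - 1 : PlRing K n (n + m))})) + 1 =
        ((codeg w + 1 : ℕ) : WithBot ℕ∞) := by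
  haveI hprime := isPrime_schubertVanishing (K := K) hn w
  haveI : Algebra.FiniteType K (PlRing K n (n + m) ⧸ schubertVanishing K n (n + m) w) :=
    Algebra.FiniteType.of_surjective (Ideal.Quotient.mkₐ K _) (Ideal.Quotient.mkₐ_surjective K _)
  have hmapeq : (Ideal.span {(X (iota m n) - 1 : PlRing K n (n + m))}).map
      (Ideal.Quotient.mk (schubertVanishing K n (n + m) w)) =
      (schubertVanishing K n (n + m) w ⊔
        Ideal.span {(X (iota m n) - 1 : PlRing K n (n + m))}).map
          (Ideal.Quotient.mk (schubertVanishing K n (n + m) w)) := by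
    rw [Ideal.map_sup, Ideal.map_quotient_self, bot_sup_eq]
  haveI hPb : ((Ideal.span {(X (iota m n) - 1 : PlRing K n (n + m))}).map
      (Ideal.Quotient.mk (schubertVanishing K n (n + m) w))).IsPrime := by
    rw [hmapeq]
    exact Ideal.map_isPrime_of_surjective Ideal.Quotient.mk_surjective
      (by rw [Ideal.mk_ker]; exact le_sup_left)
  have hspan : (Ideal.span {(X (iota m n) - 1 : PlRing K n (n + m))}).map
      (Ideal.Quotient.mk (schubertVanishing K n (n + m) w)) =
      Ideal.span {Ideal.Quotient.mk (schubertVanishing K n (n + m) w) (X (iota m n) - 1)} := by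
    rw [Ideal.map_span, Set.image_singleton]
  have hx : Ideal.Quotient.mk (schubertVanishing K n (n + m) w) (X (iota m n) - 1) ≠ 0 := by
    rw [Ne, Ideal.Quotient.eq_zero_iff_mem]
    exact X_sub_one_notMem K hm hn w
  have hmin : (Ideal.span {(X (iota m n) - 1 : PlRing K n (n + m))}).map
      (Ideal.Quotient.mk (schubertVanishing K n (n + m) w)) ∈
      (Ideal.span {Ideal.Quotient.mk (schubertVanishing K n (n + m) w)
        (X (iota m n) - 1)}).minimalPrimes := by
    rw [← hspan, Ideal.minimalPrimes_eq_subsingleton_self]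
    exact Set.mem_singleton _
  have h1 := dim_step (K := K) _ hx _ hmin
  rw [dim_schubert hn (by omega) w] at h1
  rw [← h1, ringKrullDim_eq_of_ringEquiv
    (R := PlRing K n (n + m) ⧸ (schubertVanishing K n (n + m) w ⊔
      Ideal.span {(X (iota m n) - 1 : PlRing K n (n + m))}))
    (S := (PlRing K n (n + m) ⧸ schubertVanishing K n (n + m) w) ⧸
      (Ideal.span {(X (iota m n) - 1 : PlRing K n (n + m))}).map
        (Ideal.Quotient.mk (schubertVanishing K n (n + m) w)))
    (DoubleQuot.quotQuotEquivQuotSup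
    (schubertVanishing K n (n + m) w)
    (Ideal.span {(X (iota m n) - 1 : PlRing K n (n + m))})).symm]

/-- **the bridge**: the kernel of `S → K[x_{ij}] ⧸ I_{r+1}` is `J(w_{r+1}) + (X_ι - 1)` -/
theorem ker_pipsi (hm : 0 < m) (hn : 0 < n) (r : ℕ) (hrm : r + 1 ≤ m) (hrn : r + 1 ≤ n) :
    RingHom.ker (pipsi K m n (r + 1)) =
      schubertVanishing K n (n + m) (wR m n r hrm) ⊔
        Ideal.span {(X (iota m n) - 1 : PlRing K n (n + m))} := by
  have hJ := hom_comp K hn (wR m n r hrm)
  have hi0 := X_iota_notMem K (wR m n r hrm)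
  haveI hJp := isPrime_schubertVanishing (K := K) hn (wR m n r hrm)
  haveI hP' := Groth.Agent.H85.Dehom.isPrime_sup _ (iota m n) hJ hi0
  have hle := le_ker K hm hn (r + 1) (Nat.le_add_left 1 r) hrm hrn
  have hprime : (CAlgX.minorIdeal (genMatrix K m n) (r + 1)).IsPrime := by
    rw [← Groth.Agent.S11267.result K m r n]
    exact RingHom.ker_isPrime _
  haveI : IsDomain (MvPolynomial (Fin m × Fin n) K ⧸ CAlgX.minorIdeal (genMatrix K m n) (r + 1)) :=
    (Ideal.Quotient.isDomain_iff_prime _).mpr hprime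
  haveI hP : (RingHom.ker (pipsi K m n (r + 1))).IsPrime := RingHom.ker_isPrime _
  by_contra hne
  have hlt : schubertVanishing K n (n + m) (wR m n r hrm) ⊔
      Ideal.span {(X (iota m n) - 1 : PlRing K n (n + m))} < RingHom.ker (pipsi K m n (r + 1)) :=
    lt_of_le_of_ne hle (Ne.symm hne)
  obtain ⟨x, hxP, hxP'⟩ := SetLike.exists_of_lt hlt
  have h1 := Groth.Agent.H29.CM.ringKrullDim_quotient_succ_le_of_lt hle hxP hxP'
  have h2 := dim_quot K hm hn (wR m n r hrm)
  rw [codeg_wR r hrm hrn] at h2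
  have h3 : ringKrullDim (PlRing K n (n + m) ⧸ RingHom.ker (pipsi K m n (r + 1))) =
      ((r * (n + m - r) : ℕ) : WithBot ℕ∞) := by
    rw [ringKrullDim_eq_of_ringEquiv
      (RingHom.quotientKerEquivOfSurjective (pipsi_surjective K (r + 1)))]
    exact Groth.Agent.H85.DetDim.dim_det_algClosed K m n r (by omega) (by omega)
  rw [h3] at h1
  have h5 := Groth.Agent.H29.GenDepth.withBot_le_of_add_one_le h2.le
  have h6 := le_trans h1 h5
  have h7 : r * (n + m - r) + 1 ≤ r * (n + m - r) := by exact_mod_cast h6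
  omega

/-- Determinantal rings are normal Cohen–Macaulay domains of the expected dimension. -/
theorem main (hm : 0 < m) (hn : 0 < n) (r : ℕ) (hrm : r + 1 ≤ m) (hrn : r + 1 ≤ n) :
    IsDomain (MvPolynomial (Fin m × Fin n) K ⧸ CAlgX.minorIdeal (genMatrix K m n) (r + 1)) ∧
      IsIntegrallyClosed
        (MvPolynomial (Fin m × Fin n) K ⧸ CAlgX.minorIdeal (genMatrix K m n) (r + 1)) ∧
      LocCoh.IsCohenMacaulayRing
        (MvPolynomial (Fin m × Fin n) K ⧸ CAlgX.minorIdeal (genMatrix K m n) (r + 1)) ∧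
      ringKrullDim
        (MvPolynomial (Fin m × Fin n) K ⧸ CAlgX.minorIdeal (genMatrix K m n) (r + 1)) =
          ((r * (n + m - r) : ℕ) : WithBot ℕ∞) := by
  have hJ := hom_comp K hn (wR m n r hrm)
  have hi0 := X_iota_notMem K (wR m n r hrm)
  haveI hJp := isPrime_schubertVanishing (K := K) hn (wR m n r hrm)
  haveI hP' := Groth.Agent.H85.Dehom.isPrime_sup _ (iota m n) hJ hi0
  have hprime : (CAlgX.minorIdeal (genMatrix K m n) (r + 1)).IsPrime := by
    rw [← Groth.Agent.S11267.result K m r n]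
    exact RingHom.ker_isPrime _
  have hdom : IsDomain
      (MvPolynomial (Fin m × Fin n) K ⧸ CAlgX.minorIdeal (genMatrix K m n) (r + 1)) :=
    (Ideal.Quotient.isDomain_iff_prime _).mpr hprime
  have hker := ker_pipsi K hm hn r hrm hrn
  let e : (PlRing K n (n + m) ⧸ (schubertVanishing K n (n + m) (wR m n r hrm) ⊔
      Ideal.span {(X (iota m n) - 1 : PlRing K n (n + m))})) ≃+*
      (MvPolynomial (Fin m × Fin n) K ⧸ CAlgX.minorIdeal (genMatrix K m n) (r + 1)) :=
    (Ideal.quotEquivOfEq hker.symm).trans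
      (RingHom.quotientKerEquivOfSurjective (pipsi_surjective K (r + 1)))
  haveI hnormal := (Groth.Agent.H85.Pl.normal (K := K) hn (wR m n r hrm)).2
  haveI hic := Groth.Agent.H85.Dehom.isIntegrallyClosed_quot _ (iota m n) hJ hi0
  have hcm := Groth.Agent.H85.PlCM.schubert_cm (K := K) hn (by omega : n < n + m)
    (wR m n r hrm)
  have hcm' := Groth.Agent.H85.Dehom.isCMRing_quot_sup_span _ (X (iota m n) - 1)
    (isSMulRegular_of_notMem _ _ (X_sub_one_notMem K hm hn (wR m n r hrm))) hcm
  exact ⟨hdom, IsIntegrallyClosed.of_equiv e, Groth.Agent.S4744.isCMRing_of_ringEquiv e hcm',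
    Groth.Agent.H85.DetDim.dim_det_algClosed K m n r (by omega) (by omega)⟩

end

end Groth.Agent.H85.DetBr
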