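import Groth.Agent.H85.PlIndep

/-!
# Combinatorics of the embedding of minors into Plücker indices (helper85 library)

A minor `[A | B]` of an `m × n` matrix `Z` is, up to sign, the maximal minor of the
`(n + m) × n` matrix `[1 ; Z reversed]` on the rows `Theta [A | B]`.
-/

set_option autoImplicit false
universe u
open W4bk4grassmannian

namespace Groth.Agent.H85.Det

/-- number of values of `f` below `u` -/
def cnt {p N : ℕ} (f : Fin p → Fin N) (u : ℕ) : ℕ :=
  (Finset.univ.filter fun i : Fin p => (f i).val < u).card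

lemma cnt_le {p N : ℕ} (f : Fin p → Fin N) (u : ℕ) : cnt f u ≤ p := by
  unfold cnt
  calc _ ≤ (Finset.univ : Finset (Fin p)).card := Finset.card_filter_le _ _
    _ = p := Finset.card_fin p

lemma cnt_eq_of_le {p N : ℕ} (f : Fin p → Fin N) (u : ℕ) (hu : N ≤ u) : cnt f u = p := by
  unfold cnt
  rw [Finset.filter_true_of_mem, Finset.card_fin]
  intro i _
  exact lt_of_lt_of_le (f i).isLt hu

lemma lt_iff_lt_cnt {p N : ℕ} (f : Fin p → Fin N) (hf : StrictMono f) (j : Fin p) (u : ℕ) :
    (f j).val < u ↔ j.val < cnt f u := by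
  constructor
  · intro h
    have hsub : Finset.Iic j ⊆ Finset.univ.filter fun i : Fin p => (f i).val < u := by
      intro i hi
      rw [Finset.mem_Iic] at hi
      rw [Finset.mem_filter]
      refine ⟨Finset.mem_univ _, lt_of_le_of_lt ?_ h⟩
      exact Fin.le_iff_val_le_val.mp (hf.monotone hi)
    have := Finset.card_le_card hsub
    rw [Fin.card_Iic] at this
    unfold cnt; omega
  · intro h
    by_contra hcon
    have hsub : (Finset.univ.filter fun i : Fin p => (f i).val < u) ⊆ Finset.Iio j := by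
      intro i hi
      rw [Finset.mem_filter] at hi
      rw [Finset.mem_Iio]
      by_contra hij
      have h1 : f j ≤ f i := hf.monotone (not_lt.mp hij)
      have h2 := Fin.le_iff_val_le_val.mp h1
      omega
    have := Finset.card_le_card hsub
    rw [Fin.card_Iio] at this
    unfold cnt at h; omega

lemma cnt_le_iff {p p' N : ℕ} (f : Fin p → Fin N) (hf : StrictMono f) (f' : Fin p' → Fin N)
    (hf' : StrictMono f') :
    (∀ u, cnt f u ≤ cnt f' u) ↔
      p ≤ p' ∧ ∀ (j : Fin p) (j' : Fin p'), j.val = j'.val → f' j' ≤ f j := by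
  constructor
  · intro h
    constructor
    · have := h N
      rw [cnt_eq_of_le f N le_rfl, cnt_eq_of_le f' N le_rfl] at this
      exact this
    · intro j j' hjj'
      have h1 : (f j).val < (f j).val + 1 := Nat.lt_succ_self _
      rw [lt_iff_lt_cnt f hf] at h1
      have h2 := h ((f j).val + 1)
      have h3 : j'.val < cnt f' ((f j).val + 1) := by omega
      rw [← lt_iff_lt_cnt f' hf'] at h3
      exact Fin.le_iff_val_le_val.mpr (by omega)
  · rintro ⟨hpp, h⟩ u
    by_contra hcon
    push Not at hcon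
    have hj : cnt f' u < p := lt_of_lt_of_le hcon (cnt_le f u)
    have h1 := h ⟨cnt f' u, hj⟩ ⟨cnt f' u, by omega⟩ rfl
    have h2 : (f ⟨cnt f' u, hj⟩).val < u := (lt_iff_lt_cnt f hf _ u).mpr hcon
    have h3 : (f' ⟨cnt f' u, by omega⟩).val < u := lt_of_le_of_lt (Fin.le_iff_val_le_val.mp h1) h2
    rw [lt_iff_lt_cnt f' hf'] at h3
    exact lt_irrefl _ h3

lemma idx_le_iff {d N : ℕ} (θ θ' : Idx d N) : θ ≤ θ' ↔ ∀ u, cnt θ'.1 u ≤ cnt θ.1 u := by
  rw [cnt_le_iff θ'.1 θ'.2 θ.1 θ.2]
  constructor
  · intro h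
    refine ⟨le_rfl, fun j j' hjj' => ?_⟩
    have : j = j' := Fin.ext hjj'
    subst this
    exact h j
  · rintro ⟨-, h⟩ j
    exact h j j rfl

lemma minorGE_iff {m n : ℕ} (M M' : MinorIdx m n) :
    MinorGE M M' ↔ (∀ u, cnt M.2.1.1 u ≤ cnt M'.2.1.1 u) ∧ (∀ u, cnt M.2.2.1 u ≤ cnt M'.2.2.1 u) := by
  rw [cnt_le_iff _ M.2.1.2 _ M'.2.1.2, cnt_le_iff _ M.2.2.2 _ M'.2.2.2]
  unfold MinorGE
  constructor
  · rintro ⟨h1, h2⟩
    exact ⟨⟨by omega, fun j j' h => (h2 j j' h).1⟩, ⟨by omega, fun j j' h => (h2 j j' h).2⟩⟩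
  · rintro ⟨⟨h1, h2⟩, ⟨-, h3⟩⟩
    exact ⟨by omega, fun j j' h => ⟨h2 j j' h, h3 j j' h⟩⟩

/-- number of elements of `S` below `u` -/
def clt {N : ℕ} (S : Finset (Fin N)) (u : ℕ) : ℕ := (S.filter fun x => x.val < u).card

lemma cnt_eq_clt {p N : ℕ} (f : Fin p → Fin N) (hf : Function.Injective f) (u : ℕ) :
    cnt f u = clt (Finset.univ.image f) u := by
  unfold cnt clt
  rw [Finset.filter_image, Finset.card_image_of_injective _ hf]

lemma clt_union {N : ℕ} (S T : Finset (Fin N)) (h : Disjoint S T) (u : ℕ) :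
    clt (S ∪ T) u = clt S u + clt T u := by
  unfold clt
  rw [Finset.filter_union, Finset.card_union_of_disjoint (Finset.disjoint_filter_filter h)]

lemma clt_map {a N : ℕ} (e : Fin a ↪ Fin N) (S : Finset (Fin a)) (u : ℕ) :
    clt (S.map e) u = (S.filter fun x => (e x).val < u).card := by
  unfold clt
  rw [Finset.filter_map, Finset.card_map]
  rfl

lemma clt_add_clt_compl {N : ℕ} (S : Finset (Fin N)) (u : ℕ) : clt Sᶜ u + clt S u = min N u := by
  unfold clt
  have h1 : S.filter (fun x => x.val < u) =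
      (Finset.univ.filter fun i : Fin N => i.val < u).filter (fun x => x ∈ S) := by
    ext x; simp only [Finset.mem_filter, Finset.mem_univ, true_and]; tauto
  have h2 : Sᶜ.filter (fun x => x.val < u) =
      (Finset.univ.filter fun i : Fin N => i.val < u).filter (fun x => ¬ x ∈ S) := by
    ext x; simp only [Finset.mem_filter, Finset.mem_univ, true_and, Finset.mem_compl]; tauto
  rw [h1, h2, add_comm, Finset.card_filter_add_card_filter_not, Fin.card_filter_val_lt]

variable {m n : ℕ}

/-- the rows of the matrix `Z`, in reversed order, below the identity block -/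
def rowEmb (m n : ℕ) : Fin m ↪ Fin (n + m) :=
  ⟨fun a => Fin.natAdd n (Fin.rev a), fun _ _ h => Fin.rev_injective (Fin.natAdd_injective m n h)⟩

lemma rowEmb_val (a : Fin m) : (rowEmb m n a).val = n + (m - (a.val + 1)) := by
  show (Fin.natAdd n (Fin.rev a)).val = _
  rw [Fin.val_natAdd, Fin.val_rev]

def mkMinor (s : ℕ) (A : Idx (s + 1) m) (B : Idx (s + 1) n) : MinorIdx m n := Sigma.mk s (A, B)

def colsSet (M : MinorIdx m n) : Finset (Fin n) := Finset.univ.image M.2.2.1
def rowsSet (M : MinorIdx m n) : Finset (Fin m) := Finset.univ.image M.2.1.1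

lemma colsSet_card (M : MinorIdx m n) : (colsSet M).card = M.1 + 1 := by
  unfold colsSet
  rw [Finset.card_image_of_injective _ M.2.2.2.injective, Finset.card_fin]

lemma rowsSet_card (M : MinorIdx m n) : (rowsSet M).card = M.1 + 1 := by
  unfold rowsSet
  rw [Finset.card_image_of_injective _ M.2.1.2.injective, Finset.card_fin]

lemma size_le (M : MinorIdx m n) : M.1 + 1 ≤ n := by
  rw [← colsSet_card M]
  exact (Finset.card_le_univ _).trans (by rw [Fintype.card_fin])

/-- the rows of `[1 ; Z reversed]` giving the minor `M` -/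
def RM (M : MinorIdx m n) : Finset (Fin (n + m)) :=
  (colsSet M)ᶜ.map (Fin.castAddEmb m) ∪ (rowsSet M).map (rowEmb m n)

lemma castAdd_ne_natAdd (c : Fin n) (a : Fin m) : Fin.castAdd m c ≠ Fin.natAdd n a := by
  intro h
  have := congrArg Fin.val h
  rw [Fin.val_castAdd, Fin.val_natAdd] at this
  have := c.isLt
  omega

lemma RM_disjoint (C : Finset (Fin n)) (R : Finset (Fin m)) :
    Disjoint (C.map (Fin.castAddEmb m)) (R.map (rowEmb m n)) := by
  rw [Finset.disjoint_left]
  intro x hx hx'
  rw [Finset.mem_map] at hx hx'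
  obtain ⟨c, -, rfl⟩ := hx
  obtain ⟨a, -, h⟩ := hx'
  exact castAdd_ne_natAdd c (Fin.rev a) h.symm

lemma RM_card (M : MinorIdx m n) : (RM M).card = n := by
  unfold RM
  rw [Finset.card_union_of_disjoint (RM_disjoint _ _), Finset.card_map, Finset.card_map,
    Finset.card_compl, Fintype.card_fin, colsSet_card, rowsSet_card]
  have := size_le M
  omega

/-- the Plücker index of a minor -/
def Theta (M : MinorIdx m n) : Idx n (n + m) :=
  ⟨fun i => (RM M).orderEmbOfFin (RM_card M) i, (Finset.orderEmbOfFin _ _).strictMono⟩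

lemma image_Theta (M : MinorIdx m n) : Finset.univ.image (Theta M).1 = RM M :=
  Finset.image_orderEmbOfFin_univ _ _

lemma clt_RM_le (M : MinorIdx m n) (u : ℕ) (hu : u ≤ n) :
    clt (RM M) u + clt (colsSet M) u = u := by
  unfold RM
  rw [clt_union _ _ (RM_disjoint _ _), clt_map, clt_map]
  have h1 : ((colsSet M)ᶜ.filter fun x => ((Fin.castAddEmb m) x).val < u) =
      (colsSet M)ᶜ.filter fun x => x.val < u :=
    Finset.filter_congr (fun x _ => by rw [Fin.castAddEmb_apply, Fin.val_castAdd])
  have h2 : ((rowsSet M).filter fun x => ((rowEmb m n) x).val < u) = ∅ := by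
    rw [Finset.filter_eq_empty_iff]
    intro x _
    rw [rowEmb_val]
    omega
  rw [h1, h2, Finset.card_empty, add_zero]
  have := clt_add_clt_compl (colsSet M) u
  unfold clt at this ⊢
  omega

lemma clt_RM_gt (M : MinorIdx m n) (v : ℕ) (hv : v ≤ m) :
    clt (RM M) (n + v) + clt (rowsSet M) (m - v) = n := by
  unfold RM
  rw [clt_union _ _ (RM_disjoint _ _), clt_map, clt_map]
  have h1 : ((colsSet M)ᶜ.filter fun x => ((Fin.castAddEmb m) x).val < n + v) = (colsSet M)ᶜ := by
    apply Finset.filter_true_of_mem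
    intro x _
    rw [Fin.castAddEmb_apply, Fin.val_castAdd]
    have := x.isLt; omega
  have h2 : ((rowsSet M).filter fun x => ((rowEmb m n) x).val < n + v) =
      (rowsSet M).filter fun x => ¬ x.val < m - v := by
    apply Finset.filter_congr
    intro x _
    rw [rowEmb_val]
    have := x.isLt; omega
  rw [h1, h2, Finset.card_compl, Fintype.card_fin, colsSet_card]
  have h3 := Finset.card_filter_add_card_filter_not (s := rowsSet M) (fun x => x.val < m - v)
  rw [rowsSet_card] at h3
  have := size_le M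
  unfold clt
  omega

lemma cnt_Theta (M : MinorIdx m n) (u : ℕ) : cnt (Theta M).1 u = clt (RM M) u := by
  rw [cnt_eq_clt _ (Theta M).2.injective, image_Theta]

lemma cnt_rows (M : MinorIdx m n) (u : ℕ) : cnt M.2.1.1 u = clt (rowsSet M) u :=
  cnt_eq_clt _ M.2.1.2.injective u

lemma cnt_cols (M : MinorIdx m n) (u : ℕ) : cnt M.2.2.1 u = clt (colsSet M) u :=
  cnt_eq_clt _ M.2.2.2.injective u

/-- the embedding of minors into Plücker indices reverses the orders -/
theorem Theta_le_iff (M M' : MinorIdx m n) : Theta M ≤ Theta M' ↔ MinorGE M M' := by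
  rw [idx_le_iff, minorGE_iff]
  constructor
  · intro h
    constructor
    · have key : ∀ w, w ≤ m → cnt M.2.1.1 w ≤ cnt M'.2.1.1 w := by
        intro w hw
        have h1 := clt_RM_gt M (m - w) (Nat.sub_le _ _)
        have h2 := clt_RM_gt M' (m - w) (Nat.sub_le _ _)
        have h3 := h (n + (m - w))
        rw [cnt_Theta, cnt_Theta] at h3
        rw [cnt_rows, cnt_rows]
        have e : m - (m - w) = w := by omega
        rw [e] at h1 h2
        omega
      intro w
      by_cases hw : w ≤ m
      · exact key w hw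
      · have e1 := cnt_eq_of_le M.2.1.1 w (by omega)
        have e2 := cnt_eq_of_le M.2.1.1 m le_rfl
        have e3 := cnt_eq_of_le M'.2.1.1 w (by omega)
        have e4 := cnt_eq_of_le M'.2.1.1 m le_rfl
        have := key m le_rfl
        omega
    · have key : ∀ w, w ≤ n → cnt M.2.2.1 w ≤ cnt M'.2.2.1 w := by
        intro w hw
        have h1 := clt_RM_le M w hw
        have h2 := clt_RM_le M' w hw
        have h3 := h w
        rw [cnt_Theta, cnt_Theta] at h3
        rw [cnt_cols, cnt_cols]
        omega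
      intro w
      by_cases hw : w ≤ n
      · exact key w hw
      · have e1 := cnt_eq_of_le M.2.2.1 w (by omega)
        have e2 := cnt_eq_of_le M.2.2.1 n le_rfl
        have e3 := cnt_eq_of_le M'.2.2.1 w (by omega)
        have e4 := cnt_eq_of_le M'.2.2.1 n le_rfl
        have := key n le_rfl
        omega
  · rintro ⟨hA, hB⟩ u
    by_cases hu : u ≤ n
    · rw [cnt_Theta, cnt_Theta]
      have h1 := clt_RM_le M u hu
      have h2 := clt_RM_le M' u hu
      have h3 := hB u
      rw [cnt_cols, cnt_cols] at h3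
      omega
    · by_cases hv : u - n ≤ m
      · rw [cnt_Theta, cnt_Theta]
        have h1 := clt_RM_gt M (u - n) hv
        have h2 := clt_RM_gt M' (u - n) hv
        have e : n + (u - n) = u := by omega
        rw [e] at h1 h2
        have h3 := hA (m - (u - n))
        rw [cnt_rows, cnt_rows] at h3
        omega
      · rw [cnt_eq_of_le _ u (by omega), cnt_eq_of_le _ u (by omega)]

theorem Theta_injective : Function.Injective (Theta (m := m) (n := n)) := by
  intro M M' h
  have h1 : MinorGE M M' := (Theta_le_iff M M').mp (le_of_eq h)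
  have h2 : MinorGE M' M := (Theta_le_iff M' M).mp (le_of_eq h.symm)
  obtain ⟨s, A, B⟩ := M
  obtain ⟨s', A', B'⟩ := M'
  obtain ⟨h1s, h1⟩ := h1
  obtain ⟨h2s, h2⟩ := h2
  have hs : s = s' := le_antisymm h1s h2s
  subst hs
  have hA : A = A' := Subtype.ext (funext fun j => le_antisymm (h2 j j rfl).1 (h1 j j rfl).1)
  have hB : B = B' := Subtype.ext (funext fun j => le_antisymm (h2 j j rfl).2 (h1 j j rfl).2)
  rw [hA, hB]

/-- the index of the empty minor -/
def iota (m n : ℕ) : Idx n (n + m) := ⟨Fin.castAdd m, Fin.strictMono_castAdd m⟩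

lemma iota_le (θ : Idx n (n + m)) : iota m n ≤ θ := by
  intro j
  show Fin.castAdd m j ≤ θ.1 j
  rw [Fin.le_iff_val_le_val, Fin.val_castAdd]
  exact Pl.val_le_of_strictMono θ.1 θ.2 j

/-- the lower set of the indices of minors of size less than `t` -/
def inL (t : ℕ) (θ : Idx n (n + m)) : Prop := n + 1 ≤ cnt θ.1 n + t

lemma inL_of_le {t : ℕ} {θ θ' : Idx n (n + m)} (h : θ ≤ θ') (h' : inL t θ') : inL t θ := by
  have := (idx_le_iff θ θ').mp h n
  unfold inL at *
  omega

lemma cnt_iota : cnt (iota m n).1 n = n := by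
  unfold cnt
  rw [Finset.filter_true_of_mem, Finset.card_fin]
  intro i _
  show (Fin.castAdd m i).val < n
  rw [Fin.val_castAdd]
  exact i.isLt

lemma inL_iota {t : ℕ} (ht : 1 ≤ t) : inL t (iota m n) := by
  unfold inL
  rw [cnt_iota]
  omega

lemma cnt_Theta_n (M : MinorIdx m n) : cnt (Theta M).1 n + (M.1 + 1) = n := by
  have h := clt_RM_le M n le_rfl
  rw [← cnt_Theta, ← cnt_cols, cnt_eq_of_le M.2.2.1 n le_rfl] at h
  exact h

lemma inL_Theta {t : ℕ} (M : MinorIdx m n) : inL t (Theta M) ↔ M.1 + 1 ≤ t - 1 := by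
  have := cnt_Theta_n M
  unfold inL
  omega

lemma Theta_ne_iota (M : MinorIdx m n) : Theta M ≠ iota m n := by
  intro h
  have := cnt_Theta_n M
  rw [h, cnt_iota] at this
  omega

lemma card_big_le {t : ℕ} (τ : Idx n (n + m)) (h : inL t τ) :
    Fintype.card {j : Fin n // n ≤ (τ.1 j).val} ≤ t - 1 := by
  rw [Fintype.card_subtype]
  have h3 := Finset.card_filter_add_card_filter_not (s := (Finset.univ : Finset (Fin n)))
    (fun j => (τ.1 j).val < n)
  rw [Finset.card_fin] at h3
  have h4 : (Finset.univ.filter fun j : Fin n => ¬ (τ.1 j).val < n) =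
      Finset.univ.filter fun j : Fin n => n ≤ (τ.1 j).val :=
    Finset.filter_congr (fun x _ => not_lt)
  rw [h4] at h3
  unfold inL cnt at h
  omega

theorem exists_Theta_eq (θ : Idx n (n + m)) (hθ : θ ≠ iota m n) :
    ∃ M : MinorIdx m n, Theta M = θ := by
  classical
  have hScard : (Finset.univ.image θ.1).card = n := by
    rw [Finset.card_image_of_injective _ θ.2.injective, Finset.card_fin]
  generalize hS : Finset.univ.image θ.1 = S at hScard
  have hθS : ∀ x, θ.1 x ∈ S := fun x => by
    rw [← hS]; exact Finset.mem_image_of_mem _ (Finset.mem_univ x)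
  generalize hR : (Finset.univ.filter (fun a : Fin m => Fin.natAdd n (Fin.rev a) ∈ S)) = R
  generalize hC : (Finset.univ.filter (fun c : Fin n => Fin.castAdd m c ∉ S)) = C
  have hSeq : S = Cᶜ.map (Fin.castAddEmb m) ∪ R.map (rowEmb m n) := by
    ext x
    rw [Finset.mem_union, Finset.mem_map, Finset.mem_map]
    induction x using Fin.addCases with
    | left c =>
      have hc : c ∈ Cᶜ ↔ Fin.castAdd m c ∈ S := by
        rw [← hC, Finset.mem_compl, Finset.mem_filter]
        simp
      constructor
      · intro hx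
        exact Or.inl ⟨c, hc.mpr hx, rfl⟩
      · rintro (⟨c', hc', h⟩ | ⟨a, _, h⟩)
        · rw [Fin.castAddEmb_apply] at h
          have e : c' = c := Fin.castAdd_injective n m h
          rw [← e]
          have hc'' : c' ∈ Cᶜ ↔ Fin.castAdd m c' ∈ S := by
            rw [← hC, Finset.mem_compl, Finset.mem_filter]
            simp
          exact hc''.mp hc'
        · exact absurd h.symm (castAdd_ne_natAdd c (Fin.rev a))
    | right a =>
      have ha : Fin.rev a ∈ R ↔ Fin.natAdd n a ∈ S := by
        rw [← hR, Finset.mem_filter, Fin.rev_rev]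
        simp
      constructor
      · intro hx
        refine Or.inr ⟨Fin.rev a, ha.mpr hx, ?_⟩
        show Fin.natAdd n (Fin.rev (Fin.rev a)) = _
        rw [Fin.rev_rev]
      · rintro (⟨c', _, h⟩ | ⟨a', ha', h⟩)
        · rw [Fin.castAddEmb_apply] at h
          exact absurd h (castAdd_ne_natAdd c' a)
        · have h' : Fin.natAdd n (Fin.rev a') = Fin.natAdd n a := h
          rw [← h']
          rw [← hR, Finset.mem_filter] at ha'
          exact ha'.2
  have hcard : n = (n - C.card) + R.card := by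
    have := congrArg Finset.card hSeq
    rw [hScard, Finset.card_union_of_disjoint (RM_disjoint _ _), Finset.card_map, Finset.card_map,
      Finset.card_compl, Fintype.card_fin] at this
    exact this
  have hCle : C.card ≤ n := (Finset.card_le_univ C).trans (by rw [Fintype.card_fin])
  have hRpos : 0 < R.card := by
    by_contra h0
    have hC0 : C = ∅ := Finset.card_eq_zero.mp (by omega)
    apply hθ
    apply Subtype.ext
    have h1 : θ.1 = S.orderEmbOfFin hScard := Finset.orderEmbOfFin_unique hScard hθS θ.2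
    have h2 : (iota m n).1 = S.orderEmbOfFin hScard := by
      refine Finset.orderEmbOfFin_unique hScard (fun x => ?_) (iota m n).2
      by_contra hx
      have hxC : x ∈ C := by
        rw [← hC]; exact Finset.mem_filter.mpr ⟨Finset.mem_univ _, hx⟩
      rw [hC0] at hxC
      simp at hxC
    rw [h1, h2]
  obtain ⟨s, hs⟩ : ∃ s, R.card = s + 1 := ⟨R.card - 1, by omega⟩
  have hCs : C.card = s + 1 := by omega
  have hrows : rowsSet (mkMinor s ⟨fun j => R.orderEmbOfFin hs j, (R.orderEmbOfFin hs).strictMono⟩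
      ⟨fun j => C.orderEmbOfFin hCs j, (C.orderEmbOfFin hCs).strictMono⟩) = R :=
    Finset.image_orderEmbOfFin_univ R hs
  have hcols : colsSet (mkMinor s ⟨fun j => R.orderEmbOfFin hs j, (R.orderEmbOfFin hs).strictMono⟩
      ⟨fun j => C.orderEmbOfFin hCs j, (C.orderEmbOfFin hCs).strictMono⟩) = C :=
    Finset.image_orderEmbOfFin_univ C hCs
  refine ⟨mkMinor s ⟨fun j => R.orderEmbOfFin hs j, (R.orderEmbOfFin hs).strictMono⟩
      ⟨fun j => C.orderEmbOfFin hCs j, (C.orderEmbOfFin hCs).strictMono⟩, ?_⟩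
  have hRM : RM (mkMinor s ⟨fun j => R.orderEmbOfFin hs j, (R.orderEmbOfFin hs).strictMono⟩
      ⟨fun j => C.orderEmbOfFin hCs j, (C.orderEmbOfFin hCs).strictMono⟩) = S := by
    unfold RM
    rw [hrows, hcols, ← hSeq]
  apply Subtype.ext
  have h1 : θ.1 = (RM (mkMinor s ⟨fun j => R.orderEmbOfFin hs j, (R.orderEmbOfFin hs).strictMono⟩
      ⟨fun j => C.orderEmbOfFin hCs j, (C.orderEmbOfFin hCs).strictMono⟩)).orderEmbOfFin (RM_card _) :=
    Finset.orderEmbOfFin_unique _ (fun x => by rw [hRM]; exact hθS x) θ.2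
  rw [h1]
  rfl

end Groth.Agent.H85.Det
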