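import Groth.Agent.H85.DetInv

/-!
# First fundamental theorem for `SL_d`: the basis argument (helper85 library)
-/

set_option autoImplicit false
universe u
open W4bk4grassmannian MvPolynomial

namespace Groth.Agent.H85.Inv

open Groth.Agent.H85.Det

noncomputable section

variable {K : Type u} [Field K] {n e : ℕ}

lemma minorIdeal_eq_bot : CAlgX.minorIdeal (genMatrix K n (e + 1)) (e + 1 + 1) = ⊥ := by
  unfold CAlgX.minorIdeal
  rw [Ideal.span_eq_bot]
  rintro _ ⟨⟨f', g'⟩, rfl⟩
  obtain ⟨i, j, hij, hg⟩ : ∃ i j, i ≠ j ∧ g' i = g' j := by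
    by_contra hcon
    push Not at hcon
    have hinj : Function.Injective g' := fun i j h => by_contra fun hne => hcon i j hne h
    have := Fintype.card_le_of_injective g' hinj
    simp at this
  exact Matrix.det_zero_of_column_eq hij (fun k => by
    show (genMatrix K n (e + 1)) (f' k) (g' i) = (genMatrix K n (e + 1)) (f' k) (g' j)
    rw [hg])

lemma bt_li [Infinite K] : LinearIndependent K (fun c : BT n (e + 1) (e + 1 + 1) =>
    (∏ i, minorOf K (c.2.1 i) : MvPolynomial (Fin n × Fin (e + 1)) K)) := by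
  rw [linearIndependent_iff']
  intro s g hsum c hc
  exact indep (Nat.succ_pos e) rfl s g (fun U₀ W₀ => by rw [hsum, map_zero]) c hc

lemma bt_span : ⊤ ≤ Submodule.span K (Set.range fun c : BT n (e + 1) (e + 1 + 1) =>
    (∏ i, minorOf K (c.2.1 i) : MvPolynomial (Fin n × Fin (e + 1)) K)) := by
  intro f _
  have hspan := span_BT K n (e + 1) (e + 1 + 1) (by omega)
  have hmem : Ideal.Quotient.mk (CAlgX.minorIdeal (genMatrix K n (e + 1)) (e + 1 + 1)) f ∈
      Submodule.span K (Set.range fun c : BT n (e + 1) (e + 1 + 1) =>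
        Ideal.Quotient.mk (CAlgX.minorIdeal (genMatrix K n (e + 1)) (e + 1 + 1))
          (∏ i, minorOf K (c.2.1 i))) := by
    rw [hspan]; trivial
  obtain ⟨l, hl⟩ := Finsupp.mem_span_range_iff_exists_finsupp.mp hmem
  have hG : f - ∑ c ∈ l.support, l c • ∏ i, minorOf K (c.2.1 i) ∈
      CAlgX.minorIdeal (genMatrix K n (e + 1)) (e + 1 + 1) := by
    rw [← Ideal.Quotient.eq, ← hl, Finsupp.sum, map_sum]
    apply Finset.sum_congr rfl
    intro c _
    exact (map_smul (Ideal.Quotient.mkₐ K _) (l c) _).symm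
  rw [minorIdeal_eq_bot, Ideal.mem_bot, sub_eq_zero] at hG
  rw [hG]
  exact Submodule.sum_mem _ (fun c _ => Submodule.smul_mem _ _ (Submodule.subset_span ⟨c, rfl⟩))

/-- the basis of standard bitableaux of the polynomial ring -/
def btBasis [Infinite K] : Module.Basis (BT n (e + 1) (e + 1 + 1)) K (MvPolynomial (Fin n × Fin (e + 1)) K) :=
  Module.Basis.mk bt_li bt_span

lemma btBasis_apply [Infinite K] (T : BT n (e + 1) (e + 1 + 1)) :
    btBasis (K := K) T = ∏ i, minorOf K (T.2.1 i) :=
  Module.Basis.mk_apply _ _ T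

/-- the maximal minor on the rows `θ` -/
def maxMinor (θ : Idx (e + 1) n) : MinorIdx n (e + 1) := mkMinor e θ ⟨id, strictMono_id⟩

lemma minorOf_maxMinor (θ : Idx (e + 1) n) : minorOf K (maxMinor θ) = minor K (e + 1) n θ.1 := by
  rw [minor_eq]
  rfl

lemma minorGE_bottom (h : e + 1 < n) (M : MinorIdx n (e + 1)) : MinorGE M (maxMinor (iotaF h)) := by
  refine ⟨?_, fun j j' hjj' => ⟨?_, ?_⟩⟩
  · have := size_le M
    show M.1 ≤ e
    omega
  · rw [Fin.le_iff_val_le_val]
    show j'.val ≤ _
    rw [← hjj']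
    exact Pl.val_le_of_strictMono _ M.2.1.2 j
  · rw [Fin.le_iff_val_le_val]
    show j'.val ≤ _
    rw [← hjj']
    exact Pl.val_le_of_strictMono _ M.2.2.2 j

/-- append the least maximal minor to a bitableau -/
def app (h : e + 1 < n) (T : BT n (e + 1) (e + 1 + 1)) : BT n (e + 1) (e + 1 + 1) :=
  ⟨T.1 + 1, Fin.snoc (α := fun _ => MinorIdx n (e + 1)) T.2.1 (maxMinor (iotaF h)), by
    constructor
    · intro i
      have := size_le (Fin.snoc (α := fun _ => MinorIdx n (e + 1)) T.2.1 (maxMinor (iotaF h)) i)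
      omega
    · intro i j hij
      induction j using Fin.lastCases with
      | last => rw [Fin.snoc_last]; exact minorGE_bottom h _
      | cast j' =>
        induction i using Fin.lastCases with
        | last => exact absurd hij (not_lt.mpr (Fin.le_last _))
        | cast i' =>
          rw [Fin.snoc_castSucc, Fin.snoc_castSucc]
          exact T.2.2.2 i' j' (Fin.castSucc_lt_castSucc_iff.mp hij)⟩

lemma app_castSucc (h : e + 1 < n) (T : BT n (e + 1) (e + 1 + 1)) (i : Fin T.1) :
    (app h T).2.1 (Fin.castSucc i) = T.2.1 i := by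
  show Fin.snoc (α := fun _ => MinorIdx n (e + 1)) T.2.1 (maxMinor (iotaF h)) (Fin.castSucc i) = _
  rw [Fin.snoc_castSucc]

lemma prod_app (h : e + 1 < n) (T : BT n (e + 1) (e + 1 + 1)) :
    (∏ i, minorOf K ((app h T).2.1 i) : MvPolynomial (Fin n × Fin (e + 1)) K) =
      ((genMatrix K n (e + 1)).submatrix (iotaF h).1 id).det * ∏ i, minorOf K (T.2.1 i) := by
  show (∏ i : Fin (T.1 + 1), minorOf K
    (Fin.snoc (α := fun _ => MinorIdx n (e + 1)) T.2.1 (maxMinor (iotaF h)) i)) = _
  rw [Fin.prod_univ_castSucc]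
  simp only [Fin.snoc_castSucc, Fin.snoc_last]
  rw [minorOf_maxMinor, minor_eq, mul_comm]

lemma app_injective (h : e + 1 < n) : Function.Injective (app (n := n) (e := e) h) := by
  intro T T' hTT
  obtain ⟨k, c, hc⟩ := T
  obtain ⟨k', c', hc'⟩ := T'
  have hk : k + 1 = k' + 1 := congrArg Sigma.fst hTT
  have hk' : k = k' := by omega
  subst hk'
  have h2 := eq_of_heq (Sigma.mk.inj_iff.mp hTT).2
  have h3 : Fin.snoc (α := fun _ => MinorIdx n (e + 1)) c (maxMinor (iotaF h)) =
      Fin.snoc (α := fun _ => MinorIdx n (e + 1)) c' (maxMinor (iotaF h)) := congrArg Subtype.val h2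
  have h4 : c = c' := by
    funext i
    have := congrFun h3 (Fin.castSucc i)
    rw [Fin.snoc_castSucc, Fin.snoc_castSucc] at this
    exact this
  subst h4
  rfl

/-- bitableaux of maximal minors -/
def isMax (T : BT n (e + 1) (e + 1 + 1)) : Prop :=
  ∃ c : Fin T.1 → Idx (e + 1) n, ∀ i, T.2.1 i = maxMinor (c i)

lemma isMax_of_app (h : e + 1 < n) (T : BT n (e + 1) (e + 1 + 1)) (hT : isMax (app h T)) : isMax T := by
  obtain ⟨c', hc'⟩ := hT
  refine ⟨fun i => c' (Fin.castSucc i), fun i => ?_⟩
  rw [← app_castSucc h T i]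
  exact hc' (Fin.castSucc i)

variable [Infinite K]

lemma repr_mul (h : e + 1 < n) (f : MvPolynomial (Fin n × Fin (e + 1)) K) (T : BT n (e + 1) (e + 1 + 1)) :
    (btBasis (K := K)).repr (((genMatrix K n (e + 1)).submatrix (iotaF h).1 id).det * f) (app h T) =
      (btBasis (K := K)).repr f T := by
  have h1 : ((genMatrix K n (e + 1)).submatrix (iotaF h).1 id).det * f =
      Finsupp.linearCombination K (btBasis (K := K))
        (Finsupp.mapDomain (app h) ((btBasis (K := K)).repr f)) := by
    rw [Finsupp.linearCombination_mapDomain]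
    conv_lhs => rw [← (btBasis (K := K)).linearCombination_repr f]
    rw [Finsupp.linearCombination_apply, Finsupp.linearCombination_apply, Finsupp.sum, Finsupp.sum,
      Finset.mul_sum]
    apply Finset.sum_congr rfl
    intro T _
    rw [Function.comp_apply, btBasis_apply, btBasis_apply, prod_app, mul_smul_comm]
  rw [h1, Module.Basis.repr_linearCombination, Finsupp.mapDomain_apply (app_injective h)]

lemma mem_span_of_mul (h : e + 1 < n) (f : MvPolynomial (Fin n × Fin (e + 1)) K)
    (hf : ((genMatrix K n (e + 1)).submatrix (iotaF h).1 id).det * f ∈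
      Submodule.span K ((btBasis (K := K)) '' {T | isMax T})) :
    f ∈ Submodule.span K ((btBasis (K := K)) '' {T | isMax T}) := by
  rw [Module.Basis.mem_span_image] at hf ⊢
  intro T hT
  have hT' : (btBasis (K := K)).repr f T ≠ 0 := Finsupp.mem_support_iff.mp hT
  rw [← repr_mul h f T] at hT'
  have := hf (Finsupp.mem_support_iff.mpr hT')
  exact isMax_of_app h T this

lemma mem_span_of_pow_mul (h : e + 1 < n) (N : ℕ) (f : MvPolynomial (Fin n × Fin (e + 1)) K)
    (hf : ((genMatrix K n (e + 1)).submatrix (iotaF h).1 id).det ^ N * f ∈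
      Submodule.span K ((btBasis (K := K)) '' {T | isMax T})) :
    f ∈ Submodule.span K ((btBasis (K := K)) '' {T | isMax T}) := by
  induction N with
  | zero => rwa [pow_zero, one_mul] at hf
  | succ N ih =>
    apply ih
    apply mem_span_of_mul h
    rw [← mul_assoc, ← pow_succ']
    exact hf

lemma span_le_Amin :
    Submodule.span K ((btBasis (K := K)) '' {T : BT n (e + 1) (e + 1 + 1) | isMax T}) ≤
      Subalgebra.toSubmodule (Amin K (e + 1) n) := by
  rw [Submodule.span_le]
  rintro _ ⟨T, ⟨c, hc⟩, rfl⟩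
  rw [btBasis_apply]
  show _ ∈ Amin K (e + 1) n
  apply Subalgebra.prod_mem
  intro i _
  rw [hc i, minorOf_maxMinor]
  exact Algebra.subset_adjoin ⟨c i, rfl⟩

lemma Amin_le_span {a : MvPolynomial (Fin n × Fin (e + 1)) K} (ha : a ∈ Amin K (e + 1) n) :
    a ∈ Submodule.span K ((btBasis (K := K)) '' {T : BT n (e + 1) (e + 1 + 1) | isMax T}) := by
  rw [Amin_eq_range] at ha
  obtain ⟨F, rfl⟩ := ha
  obtain ⟨G, hG, hFG⟩ := Pl.exists_std_rep F
  have hFG' : pluckerMap K (e + 1) n F = pluckerMap K (e + 1) n G := by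
    have := pluckerMap_plIdealTop hFG
    rw [map_sub, sub_eq_zero] at this
    exact this
  show pluckerMap K (e + 1) n F ∈ _
  rw [hFG']
  have hle : Submodule.span K (Set.range fun c : (Σ m : ℕ, {c : Fin m → Idx (e + 1) n // Antitone c}) =>
      chainMon K c.2.1) ≤ Submodule.comap (pluckerMap K (e + 1) n).toLinearMap
        (Submodule.span K ((btBasis (K := K)) '' {T : BT n (e + 1) (e + 1 + 1) | isMax T})) := by
    rw [Submodule.span_le]
    rintro _ ⟨c, rfl⟩
    rw [SetLike.mem_coe, Submodule.mem_comap]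
    show pluckerMap K (e + 1) n (chainMon K c.2.1) ∈ _
    rw [pluckerMap_chainMon]
    apply Submodule.subset_span
    refine ⟨⟨c.1, fun i => maxMinor (c.2.1 i), ?_, ?_⟩, ⟨c.2.1, fun i => rfl⟩, ?_⟩
    · intro i
      show e + 1 ≤ e + 1 + 1 - 1
      omega
    · intro i j hij
      refine ⟨le_rfl, fun j1 j2 h12 => ?_⟩
      have hj : j1 = j2 := Fin.ext h12
      subst hj
      exact ⟨c.2.2 (le_of_lt hij) j1, le_rfl⟩
    · rw [btBasis_apply]
      exact Finset.prod_congr rfl (fun i _ => minorOf_maxMinor (c.2.1 i))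
  exact hle hG

/-- **First fundamental theorem for `SL`**, the hard direction -/
theorem mem_Amin_of_invariant (h : e + 1 < n) (f : MatRing K (e + 1) n)
    (hf : ∀ g : Matrix.SpecialLinearGroup (Fin (e + 1)) K, rightTranslate K (e + 1) n g f = f) :
    f ∈ Amin K (e + 1) n := by
  obtain ⟨N, hN⟩ := exists_pow_mul_mem h f hf
  exact span_le_Amin (mem_span_of_pow_mul h N f (Amin_le_span hN))

end

end Groth.Agent.H85.Inv
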