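import Groth.Agent.H85.DetMinor

/-!
# Standard bitableaux and determinantal ideals (helper85 library)
-/

set_option autoImplicit false
universe u
open W4bk4grassmannian MvPolynomial

namespace Groth.Agent.H85.Det

noncomputable section

/-! ### products through a small inner dimension -/

lemma E_mul_transpose {R : Type*} [CommRing R] {ι' : Type*} [Fintype ι'] [DecidableEq ι'] {r : ℕ}
    (e : ι' ↪ Fin r) :
    (Matrix.of fun (j : ι') (k : Fin r) => if e j = k then (1 : R) else 0) *
      (Matrix.of fun (j : ι') (k : Fin r) => if e j = k then (1 : R) else 0).transpose = 1 := by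
  ext j j'
  rw [Matrix.mul_apply, Matrix.one_apply]
  rw [Finset.sum_eq_single (e j)]
  · rw [Matrix.of_apply, if_pos rfl, one_mul, Matrix.transpose_apply, Matrix.of_apply]
    by_cases h : j = j'
    · rw [if_pos h, if_pos (by rw [h])]
    · rw [if_neg h, if_neg (fun h' => h (e.injective h').symm)]
  · intro k _ hk
    rw [Matrix.of_apply, if_neg (fun h' => hk h'.symm), zero_mul]
  · intro h; exact absurd (Finset.mem_univ _) h

lemma det_mul_eq_zero_of_lt {R : Type*} [CommRing R] {r t : ℕ} (h : r < t)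
    (X' : Matrix (Fin t) (Fin r) R) (Y' : Matrix (Fin r) (Fin t) R) : (X' * Y').det = 0 := by
  have hE := E_mul_transpose (R := R) (⟨Fin.castLE h.le, Fin.castLE_injective h.le⟩ : Fin r ↪ Fin t)
  generalize hEdef : (Matrix.of fun (j : Fin r) (k : Fin t) =>
    if (⟨Fin.castLE h.le, Fin.castLE_injective h.le⟩ : Fin r ↪ Fin t) j = k then (1 : R) else 0) = E at hE
  have hfac : X' * Y' = (X' * E) * (E.transpose * Y') := by
    rw [Matrix.mul_assoc X' E, ← Matrix.mul_assoc E, hE, Matrix.one_mul]
  rw [hfac, Matrix.det_mul]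
  have h0 : (X' * E).det = 0 := by
    apply Matrix.det_eq_zero_of_column_eq_zero ⟨r, h⟩
    intro i
    rw [Matrix.mul_apply]
    apply Finset.sum_eq_zero
    intro j _
    rw [← hEdef, Matrix.of_apply, if_neg, mul_zero]
    intro heq
    have h1 : j.val = r := congrArg Fin.val heq
    have := j.isLt
    omega
  rw [h0, zero_mul]

lemma exists_factor_fin {K : Type*} [CommRing K] {m n r : ℕ} {ι' : Type*} [Fintype ι'] [DecidableEq ι']
    (h : Fintype.card ι' ≤ r) (U₀ : Matrix (Fin m) ι' K) (W₀ : Matrix ι' (Fin n) K) :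
    ∃ (U₁ : Matrix (Fin m) (Fin r) K) (W₁ : Matrix (Fin r) (Fin n) K), U₀ * W₀ = U₁ * W₁ := by
  obtain ⟨e⟩ : Nonempty (ι' ↪ Fin r) :=
    Function.Embedding.nonempty_of_card_le (by rw [Fintype.card_fin]; exact h)
  have hE := E_mul_transpose (R := K) e
  generalize (Matrix.of fun (j : ι') (k : Fin r) => if e j = k then (1 : K) else 0) = E at hE
  refine ⟨U₀ * E, E.transpose * W₀, ?_⟩
  rw [Matrix.mul_assoc U₀ E, ← Matrix.mul_assoc E, hE, Matrix.one_mul]

/-- polynomials in the ideal of `t`-minors vanish at products through an inner dimension less than `t` -/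
lemma aeval_eq_zero_of_mem (K : Type u) [CommRing K] {m n r t : ℕ} (hr : r < t)
    (U₀ : Matrix (Fin m) (Fin r) K) (W₀ : Matrix (Fin r) (Fin n) K)
    {f : MvPolynomial (Fin m × Fin n) K} (hf : f ∈ CAlgX.minorIdeal (genMatrix K m n) t) :
    MvPolynomial.aeval (fun p : Fin m × Fin n => (U₀ * W₀) p.1 p.2) f = 0 := by
  have hle : CAlgX.minorIdeal (genMatrix K m n) t ≤ RingHom.ker
      (MvPolynomial.aeval (fun p : Fin m × Fin n => (U₀ * W₀) p.1 p.2) :
        MvPolynomial (Fin m × Fin n) K →ₐ[K] K).toRingHom := by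
    unfold CAlgX.minorIdeal
    rw [Ideal.span_le]
    rintro _ ⟨⟨f', g'⟩, rfl⟩
    rw [SetLike.mem_coe, RingHom.mem_ker]
    show MvPolynomial.aeval _ (Matrix.det _) = 0
    rw [AlgHom.map_det]
    have : (MvPolynomial.aeval (fun p : Fin m × Fin n => (U₀ * W₀) p.1 p.2) :
        MvPolynomial (Fin m × Fin n) K →ₐ[K] K).mapMatrix ((genMatrix K m n).submatrix f' g') =
        (U₀.submatrix f' id) * (W₀.submatrix id g') := by
      ext i j
      rw [AlgHom.mapMatrix_apply, Matrix.map_apply, Matrix.submatrix_apply]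
      unfold genMatrix
      rw [Matrix.of_apply, aeval_X, Matrix.mul_apply, Matrix.mul_apply]
      rfl
    rw [this]
    exact det_mul_eq_zero_of_lt hr _ _
  exact hle hf

/-! ### spanning -/

/-- standard bitableaux of minors of size less than `t` -/
abbrev BT (m n t : ℕ) : Type :=
  Σ k : ℕ, {c : Fin k → MinorIdx m n // (∀ i, (c i).1 + 1 ≤ t - 1) ∧ ∀ i j, i < j → MinorGE (c i) (c j)}

lemma psi_chainMon_eq (K : Type u) [CommRing K] {m n t : ℕ} (ht : 1 ≤ t) :
    ∀ (k : ℕ) (e : Fin k → Idx n (n + m)), Antitone e → (∀ i, inL t (e i)) →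
    ∃ (k' : ℕ) (c : Fin k' → MinorIdx m n)
      (_ : (∀ i, (c i).1 + 1 ≤ t - 1) ∧ ∀ i j, i < j → MinorGE (c i) (c j)) (ε : K),
      (∀ i, ∃ j, Theta (c i) = e j) ∧ psi K m n (chainMon K e) = C ε * ∏ i, minorOf K (c i) := by
  intro k
  induction k with
  | zero =>
    intro e _ _
    refine ⟨0, fun i => i.elim0, ⟨fun i => i.elim0, fun i => i.elim0⟩, 1, fun i => i.elim0, ?_⟩
    unfold chainMon
    simp
  | succ k ih =>
    intro e he hL
    obtain ⟨k', c', hc', ε', h1, h2⟩ := ih (Fin.tail e)
      (fun a b hab => he (Fin.succ_le_succ_iff.mpr hab)) (fun i => hL i.succ)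
    have hcm : psi K m n (chainMon K e) =
        psi K m n (X (e 0)) * psi K m n (chainMon K (Fin.tail e)) := by
      rw [Pl.chainMon_head_tail, map_mul]
    by_cases h0 : e 0 = iota m n
    · refine ⟨k', c', hc', ε', fun i => ?_, ?_⟩
      · obtain ⟨j, hj⟩ := h1 i
        exact ⟨j.succ, hj⟩
      · rw [hcm, h0, psi_iota, one_mul, h2]
    · obtain ⟨M0, hM0⟩ := exists_Theta_eq (e 0) h0
      have hsize : M0.1 + 1 ≤ t - 1 := (inL_Theta M0).mp (by rw [hM0]; exact hL 0)
      have hbound : ∀ i, MinorGE (c' i) M0 := by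
        intro i
        obtain ⟨j, hj⟩ := h1 i
        rw [← Theta_le_iff, hj, hM0]
        exact he (Fin.zero_le _)
      refine ⟨k' + 1, Fin.snoc (α := fun _ => MinorIdx m n) c' M0, ⟨?_, ?_⟩, ε' * epsK K M0, ?_, ?_⟩
      · intro i
        induction i using Fin.lastCases with
        | last => rw [Fin.snoc_last]; exact hsize
        | cast i' => rw [Fin.snoc_castSucc]; exact hc'.1 i'
      · intro i j hij
        induction j using Fin.lastCases with
        | last =>
          induction i using Fin.lastCases with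
          | last => exact absurd hij (lt_irrefl _)
          | cast i' => rw [Fin.snoc_castSucc, Fin.snoc_last]; exact hbound i'
        | cast j' =>
          induction i using Fin.lastCases with
          | last => exact absurd hij (not_lt.mpr (Fin.le_last _))
          | cast i' =>
            rw [Fin.snoc_castSucc, Fin.snoc_castSucc]
            exact hc'.2 i' j' (Fin.castSucc_lt_castSucc_iff.mp hij)
      · intro i
        induction i using Fin.lastCases with
        | last => exact ⟨0, by rw [Fin.snoc_last]; exact hM0⟩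
        | cast i' =>
          obtain ⟨j, hj⟩ := h1 i'
          exact ⟨j.succ, by rw [Fin.snoc_castSucc]; exact hj⟩
      · rw [hcm, ← hM0, psi_Theta, h2, Fin.prod_univ_castSucc]
        simp only [Fin.snoc_castSucc, Fin.snoc_last]
        rw [map_mul]
        ring

/-- the standard bitableaux of minors of size less than `t` span modulo the `t`-minors -/
theorem span_BT (K : Type u) [CommRing K] (m n t : ℕ) (ht : 1 ≤ t) :
    Submodule.span K (Set.range fun c : BT m n t =>
      Ideal.Quotient.mk (CAlgX.minorIdeal (genMatrix K m n) t) (∏ i, minorOf K (c.2.1 i))) = ⊤ := by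
  rw [eq_top_iff]
  rintro y -
  obtain ⟨f, rfl⟩ := Ideal.Quotient.mk_surjective y
  obtain ⟨F, rfl⟩ := psi_surjective K (m := m) (n := n) f
  have hItop : plIdealTop K ≤
      Ideal.comap (psi K m n).toRingHom (CAlgX.minorIdeal (genMatrix K m n) t) := by
    intro F' hF'
    rw [Ideal.mem_comap]
    show psi K m n F' ∈ _
    rw [psi_plIdealTop K hF']
    exact Ideal.zero_mem _
  have hbad : ∀ (k : ℕ) (e : Fin k → Idx n (n + m)), Antitone e → ¬ (∀ i, inL t (e i)) →
      chainMon K e ∈ Ideal.comap (psi K m n).toRingHom (CAlgX.minorIdeal (genMatrix K m n) t) := by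
    intro k e _ hne
    push Not at hne
    obtain ⟨i, hi⟩ := hne
    apply Pl.chainMon_mem_of_X_mem _ e i
    rw [Ideal.mem_comap]
    show psi K m n (X (e i)) ∈ _
    have h0 : e i ≠ iota m n := fun h => hi (by rw [h]; exact inL_iota ht)
    obtain ⟨M, hM⟩ := exists_Theta_eq (e i) h0
    rw [← hM, psi_Theta]
    apply Ideal.mul_mem_left
    apply minorOf_mem
    have : ¬ (M.1 + 1 ≤ t - 1) := fun h => hi (by rw [← hM]; exact (inL_Theta M).mpr h)
    omega
  obtain ⟨g, hg, hFg⟩ := Pl.exists_good_rep _ hItop (fun k e => ∀ i, inL t (e i)) hbad F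
  have hmk : Ideal.Quotient.mk (CAlgX.minorIdeal (genMatrix K m n) t) (psi K m n F) =
      Ideal.Quotient.mk _ (psi K m n g) := by
    rw [Ideal.Quotient.eq, ← map_sub]
    exact Ideal.mem_comap.mp hFg
  rw [hmk]
  have hle : Submodule.span K (Set.range fun a : (Σ k : ℕ, {c : Fin k → Idx n (n + m) //
        Antitone c ∧ ∀ i, inL t (c i)}) => chainMon K a.2.1) ≤
      Submodule.comap ((Ideal.Quotient.mkₐ K (CAlgX.minorIdeal (genMatrix K m n) t)).toLinearMap.comp
        (psi K m n).toLinearMap)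
        (Submodule.span K (Set.range fun c : BT m n t =>
          Ideal.Quotient.mk (CAlgX.minorIdeal (genMatrix K m n) t) (∏ i, minorOf K (c.2.1 i)))) := by
    rw [Submodule.span_le]
    rintro _ ⟨a, rfl⟩
    rw [SetLike.mem_coe, Submodule.mem_comap]
    obtain ⟨k', c, hc, ε, -, heq⟩ := psi_chainMon_eq K ht a.1 a.2.1 a.2.2.1 a.2.2.2
    show Ideal.Quotient.mk _ (psi K m n (chainMon K a.2.1)) ∈ _
    rw [heq, C_mul']
    have hsm : Ideal.Quotient.mk (CAlgX.minorIdeal (genMatrix K m n) t) (ε • ∏ i, minorOf K (c i)) =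
        ε • Ideal.Quotient.mk (CAlgX.minorIdeal (genMatrix K m n) t) (∏ i, minorOf K (c i)) :=
      map_smul (Ideal.Quotient.mkₐ K _) ε _
    rw [hsm]
    apply Submodule.smul_mem
    exact Submodule.subset_span ⟨⟨k', c, hc⟩, rfl⟩
  exact hle hg

/-! ### independence -/

lemma prod_rev {M : Type*} [CommMonoid M] {k : ℕ} (g : Fin k → M) : ∏ i, g (Fin.rev i) = ∏ i, g i :=
  Equiv.prod_comp Fin.revPerm g

/-- the chain of Plücker indices of a bitableau, padded by the bottom index -/
def padc {m n t : ℕ} (D : ℕ) (c : BT m n t) : Fin (c.1 + (D - c.1)) → Idx n (n + m) :=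
  Fin.append (fun i => Theta (c.2.1 (Fin.rev i))) (fun _ => iota m n)

/-- the sign of a bitableau -/
def epsC (K : Type u) [CommRing K] {m n t : ℕ} (c : BT m n t) : K := ∏ i, epsK K (c.2.1 i)

lemma epsC_mul_self (K : Type u) [CommRing K] {m n t : ℕ} (c : BT m n t) :
    epsC K c * epsC K c = 1 := by
  unfold epsC
  rw [← Finset.prod_mul_distrib]
  exact Finset.prod_eq_one (fun i _ => epsK_mul_self K _)

lemma antitone_padc {m n t : ℕ} (D : ℕ) (c : BT m n t) : Antitone (padc D c) := by
  intro x y hxy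
  unfold padc
  induction y using Fin.addCases with
  | left j =>
    induction x using Fin.addCases with
    | left i =>
      rw [Fin.append_left, Fin.append_left]
      have hij : i ≤ j := by
        have := Fin.le_iff_val_le_val.mp hxy
        rw [Fin.val_castAdd, Fin.val_castAdd] at this
        exact Fin.le_iff_val_le_val.mpr this
      rcases eq_or_lt_of_le hij with h | h
      · rw [h]
      · rw [Theta_le_iff]
        exact c.2.2.2 _ _ (Fin.rev_lt_rev.mpr h)
    | right i =>
      exfalso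
      have := Fin.le_iff_val_le_val.mp hxy
      rw [Fin.val_natAdd, Fin.val_castAdd] at this
      have := j.isLt
      omega
  | right j =>
    rw [Fin.append_right]
    exact iota_le _

lemma filter_pad {α : Type*} [DecidableEq α] (ι0 : α) {k r : ℕ} (e : Fin k → α)
    (he : ∀ i, e i ≠ ι0) :
    (List.ofFn (Fin.append e (fun _ : Fin r => ι0))).filter (fun x => decide (x ≠ ι0)) =
      List.ofFn e := by
  rw [List.ofFn_fin_append, List.filter_append]
  have h1 : (List.ofFn e).filter (fun x => decide (x ≠ ι0)) = List.ofFn e := by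
    rw [List.filter_eq_self]
    intro a ha
    simp only [List.mem_ofFn] at ha
    obtain ⟨i, rfl⟩ := ha
    simpa using he i
  have h2 : (List.ofFn (fun _ : Fin r => ι0)).filter (fun x => decide (x ≠ ι0)) = [] := by
    rw [List.filter_eq_nil_iff]
    intro a ha
    simp only [List.mem_ofFn] at ha
    obtain ⟨i, rfl⟩ := ha
    simp
  rw [h1, h2, List.append_nil]

lemma padc_injective {m n t : ℕ} (D : ℕ) (c c' : BT m n t)
    (h : (⟨_, padc D c⟩ : Σ k : ℕ, (Fin k → Idx n (n + m))) = ⟨_, padc D c'⟩) : c = c' := by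
  classical
  have h1 := congrArg (fun x : (Σ k : ℕ, (Fin k → Idx n (n + m))) =>
    (List.ofFn x.2).filter (fun y => decide (y ≠ iota m n))) h
  simp only at h1
  unfold padc at h1
  rw [filter_pad _ _ (fun i => Theta_ne_iota _), filter_pad _ _ (fun i => Theta_ne_iota _),
    List.ofFn_inj'] at h1
  obtain ⟨k, cc, hcc⟩ := c
  obtain ⟨k', cc', hcc'⟩ := c'
  have hk : k = k' := congrArg Sigma.fst h1
  subst hk
  have h2 := eq_of_heq (Sigma.mk.inj_iff.mp h1).2
  have h3 : cc = cc' := by
    funext i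
    have := congrFun h2 (Fin.rev i)
    simp only [Fin.rev_rev] at this
    exact Theta_injective this
  subst h3
  rfl

variable {K : Type u} [Field K]

/-- the matrix whose graph has the Plücker coordinates of `A` -/
def Z0 {m n : ℕ} (A : Matrix (Fin (n + m)) (Fin n) K) : Matrix (Fin m) (Fin n) K :=
  (A.submatrix (fun a => Fin.natAdd n (Fin.rev a)) id) * (A.submatrix (Fin.castAdd m) id)⁻¹

lemma Nmat_Z0_mul {m n : ℕ} (A : Matrix (Fin (n + m)) (Fin n) K)
    (hT : (A.submatrix (Fin.castAdd m) id).det ≠ 0) :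
    Nmat (Z0 A) * (A.submatrix (Fin.castAdd m) id) = A := by
  have h2 : Z0 A * (A.submatrix (Fin.castAdd m) id) =
      A.submatrix (fun a => Fin.natAdd n (Fin.rev a)) id := by
    unfold Z0
    exact Matrix.nonsing_inv_mul_cancel_right _ _ (isUnit_iff_ne_zero.mpr hT)
  ext x j
  induction x using Fin.addCases with
  | left c =>
    rw [Matrix.mul_apply]
    simp only [Nmat_castAdd, ite_mul, one_mul, zero_mul, Finset.sum_ite_eq, Finset.mem_univ,
      if_true, Matrix.submatrix_apply, id]
  | right a =>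
    have h3 : (Nmat (Z0 A) * (A.submatrix (Fin.castAdd m) id)) (Fin.natAdd n a) j =
        (Z0 A * (A.submatrix (Fin.castAdd m) id)) (Fin.rev a) j := by
      rw [Matrix.mul_apply, Matrix.mul_apply]
      simp only [Nmat_natAdd]
    rw [h3, h2, Matrix.submatrix_apply, Fin.rev_rev]
    rfl

lemma det_submatrix_eq {m n : ℕ} (A : Matrix (Fin (n + m)) (Fin n) K)
    (hT : (A.submatrix (Fin.castAdd m) id).det ≠ 0) (θ : Idx n (n + m)) :
    (A.submatrix θ.1 id).det =
      ((Nmat (Z0 A)).submatrix θ.1 id).det * (A.submatrix (Fin.castAdd m) id).det := by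
  rw [← Matrix.det_mul]
  congr 1
  conv_lhs => rw [← Nmat_Z0_mul A hT]
  ext i j
  rw [Matrix.submatrix_apply, Matrix.mul_apply, Matrix.mul_apply]
  rfl

lemma evalMinors_chain {m n : ℕ} (A : Matrix (Fin (n + m)) (Fin n) K)
    (hT : (A.submatrix (Fin.castAdd m) id).det ≠ 0) {D : ℕ} (e : Fin D → Idx n (n + m)) :
    evalMinors K n (n + m) A (chainMon K e) =
      (A.submatrix (Fin.castAdd m) id).det ^ D *
        evalMinors K n (n + m) (Nmat (Z0 A)) (chainMon K e) := by
  unfold chainMon
  rw [map_prod, map_prod]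
  simp only [Pl.evalMinors_X]
  rw [Finset.prod_congr rfl (fun i _ => det_submatrix_eq A hT (e i)), Finset.prod_mul_distrib,
    Finset.prod_const, Finset.card_univ, Fintype.card_fin, mul_comm]

lemma evalMinors_Theta {m n : ℕ} (Z₀ : Matrix (Fin m) (Fin n) K) (M : MinorIdx m n) :
    evalMinors K n (n + m) (Nmat Z₀) (X (Theta M)) =
      epsK K M * MvPolynomial.aeval (fun p : Fin m × Fin n => Z₀ p.1 p.2) (minorOf K M) := by
  rw [Pl.evalMinors_X, det_Theta K Z₀ M, aeval_minorOf]

lemma evalMinors_iota {m n : ℕ} (Z₀ : Matrix (Fin m) (Fin n) K) :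
    evalMinors K n (n + m) (Nmat Z₀) (X (iota m n)) = 1 := by
  rw [Pl.evalMinors_X, Nmat_iota, Matrix.det_one]

lemma evalMinors_padc {m n t : ℕ} (Z₀ : Matrix (Fin m) (Fin n) K) (D : ℕ) (c : BT m n t) :
    evalMinors K n (n + m) (Nmat Z₀) (chainMon K (padc D c)) =
      epsC K c * MvPolynomial.aeval (fun p : Fin m × Fin n => Z₀ p.1 p.2)
        (∏ i, minorOf K (c.2.1 i)) := by
  unfold chainMon padc
  rw [Fin.prod_univ_add]
  simp only [Fin.append_left, Fin.append_right, map_mul, map_prod]
  simp only [evalMinors_iota, evalMinors_Theta, Finset.prod_const_one, mul_one]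
  rw [prod_rev (fun i => epsK K (c.2.1 i) *
    MvPolynomial.aeval (fun p : Fin m × Fin n => Z₀ p.1 p.2) (minorOf K (c.2.1 i))),
    Finset.prod_mul_distrib]
  rfl

lemma Z0_factor {m n r : ℕ} (τ : Idx n (n + m))
    (hcard : Fintype.card {j : Fin n // n ≤ (τ.1 j).val} ≤ r)
    (A : Matrix (Fin (n + m)) (Fin n) K) (hA : ∀ x j, ¬ x ≤ τ.1 j → A x j = 0) :
    ∃ (U₀ : Matrix (Fin m) (Fin r) K) (W₀ : Matrix (Fin r) (Fin n) K), Z0 A = U₀ * W₀ := by
  have hB : ∀ a j, ¬ n ≤ (τ.1 j).val → A (Fin.natAdd n (Fin.rev a)) j = 0 := by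
    intro a j hj
    apply hA
    rw [Fin.le_iff_val_le_val, Fin.val_natAdd]
    omega
  obtain ⟨Bm, hBm⟩ : ∃ Bm : Matrix (Fin m) (Fin n) K,
      Bm = A.submatrix (fun a => Fin.natAdd n (Fin.rev a)) id := ⟨_, rfl⟩
  obtain ⟨Ti, hTi⟩ : ∃ Ti : Matrix (Fin n) (Fin n) K,
      Ti = (A.submatrix (Fin.castAdd m) id)⁻¹ := ⟨_, rfl⟩
  have hBz : ∀ a j, ¬ n ≤ (τ.1 j).val → Bm a j = 0 := by
    intro a j hj
    rw [hBm, Matrix.submatrix_apply]
    exact hB a j hj
  have hfac : Z0 A = (Bm.submatrix id (Subtype.val : {j : Fin n // n ≤ (τ.1 j).val} → Fin n)) *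
      (Ti.submatrix Subtype.val id) := by
    unfold Z0
    rw [← hBm, ← hTi]
    ext a k
    have hL : ((Bm * Ti : Matrix (Fin m) (Fin n) K) a k) = ∑ j, Bm a j * Ti j k := Matrix.mul_apply
    have hR : ((Bm.submatrix id (Subtype.val : {j : Fin n // n ≤ (τ.1 j).val} → Fin n)) *
        (Ti.submatrix Subtype.val id) : Matrix (Fin m) (Fin n) K) a k =
        ∑ j : {j : Fin n // n ≤ (τ.1 j).val}, Bm a j.1 * Ti j.1 k := Matrix.mul_apply
    rw [hL, hR]
    have h1 : ∑ j : {j : Fin n // n ≤ (τ.1 j).val}, Bm a j.1 * Ti j.1 k =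
        ∑ j ∈ Finset.univ.filter (fun j : Fin n => n ≤ (τ.1 j).val), Bm a j * Ti j k :=
      (Finset.sum_subtype _ (by intro x; simp) (fun j => Bm a j * Ti j k)).symm
    have h2 : ∑ j ∈ Finset.univ.filter (fun j : Fin n => n ≤ (τ.1 j).val), Bm a j * Ti j k =
        ∑ j, Bm a j * Ti j k := by
      apply Finset.sum_filter_of_ne
      intro j _ hne
      by_contra hj
      apply hne
      rw [hBz a j hj, zero_mul]
    exact (h1.trans h2).symm
  obtain ⟨U₁, W₁, h⟩ := exists_factor_fin hcard
    (Bm.submatrix id (Subtype.val : {j : Fin n // n ≤ (τ.1 j).val} → Fin n))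
    (Ti.submatrix Subtype.val id)
  exact ⟨U₁, W₁, hfac.trans h⟩

/-- **independence of the standard bitableaux** on the matrices of rank less than `t` -/
theorem indep [Infinite K] {m n t r : ℕ} (hn : 0 < n) (htr : t = r + 1) (s : Finset (BT m n t))
    (g : BT m n t → K)
    (hG : ∀ (U₀ : Matrix (Fin m) (Fin r) K) (W₀ : Matrix (Fin r) (Fin n) K),
      MvPolynomial.aeval (fun p : Fin m × Fin n => (U₀ * W₀) p.1 p.2)
        (∑ c ∈ s, g c • ∏ i, minorOf K (c.2.1 i)) = 0) :
    ∀ c ∈ s, g c = 0 := by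
  classical
  intro c0 hc0
  obtain ⟨D, hD⟩ : ∃ D, ∀ c ∈ s, c.1 ≤ D :=
    ⟨s.sup (fun c => c.1), fun c hc => Finset.le_sup (f := fun c : BT m n t => c.1) hc⟩
  obtain ⟨τ, hτL, hτ⟩ : ∃ τ : Idx n (n + m), inL t τ ∧ ∀ k, padc D c0 k ≤ τ := by
    by_cases hk : 0 < c0.1
    · refine ⟨Theta (c0.2.1 ⟨c0.1 - 1, by omega⟩), (inL_Theta _).mpr (c0.2.2.1 _), fun k => ?_⟩
      unfold padc
      induction k using Fin.addCases with
      | left i =>
        rw [Fin.append_left]
        by_cases hi : Fin.rev i = ⟨c0.1 - 1, by omega⟩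
        · rw [hi]
        · rw [Theta_le_iff]
          apply c0.2.2.2
          have h1 : (Fin.rev i).val ≠ c0.1 - 1 := fun h => hi (Fin.ext h)
          have h2 := (Fin.rev i).isLt
          show (Fin.rev i).val < c0.1 - 1
          omega
      | right i =>
        rw [Fin.append_right]
        exact iota_le _
    · refine ⟨iota m n, inL_iota (by omega), fun k => ?_⟩
      unfold padc
      induction k using Fin.addCases with
      | left i => exact absurd i.isLt (by omega)
      | right i => rw [Fin.append_right]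
  have hPhi : Pl.Phi K τ (∑ c ∈ s, (g c * epsC K c) • chainMon K (padc D c)) = 0 := by
    have hδ : Pl.Phi K τ (X (iota m n)) ≠ 0 := by
      rw [Pl.Phi_X]
      exact (Pl.minor_monic τ (iota m n) (iota_le τ)).1.ne_zero
    have hmul : Pl.Phi K τ (X (iota m n)) ^ (D + 1) *
        Pl.Phi K τ (∑ c ∈ s, (g c * epsC K c) • chainMon K (padc D c)) = 0 := by
      apply MvPolynomial.funext
      intro z
      rw [map_zero, map_mul, map_pow]
      have h1 : ∀ f : PlRing K n (n + m), MvPolynomial.eval z (Pl.Phi K τ f) =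
          evalMinors K n (n + m) ((Pl.shaped K τ).map (MvPolynomial.aeval z)) f := by
        intro f
        have : MvPolynomial.eval z (Pl.Phi K τ f) = MvPolynomial.aeval z (Pl.Phi K τ f) := by
          rw [← MvPolynomial.coe_aeval_eq_eval]; rfl
        rw [this, Pl.aeval_Phi]
      rw [h1, h1]
      generalize hA : (Pl.shaped K τ).map (MvPolynomial.aeval z) = A
      have hAz : ∀ x j, ¬ x ≤ τ.1 j → A x j = 0 := by
        intro x j hxj
        rw [← hA, Matrix.map_apply, Pl.shaped_zero τ x j hxj, map_zero]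
      rw [Pl.evalMinors_X]
      show (A.submatrix (Fin.castAdd m) id).det ^ (D + 1) * _ = 0
      by_cases hT : (A.submatrix (Fin.castAdd m) id).det = 0
      · rw [hT, zero_pow (Nat.succ_ne_zero D), zero_mul]
      · have hcard : Fintype.card {j : Fin n // n ≤ (τ.1 j).val} ≤ r := by
          have := card_big_le τ hτL
          omega
        obtain ⟨U₀, W₀, hZ⟩ := Z0_factor τ hcard A hAz
        have hG0 := hG U₀ W₀
        rw [← hZ] at hG0
        have hsum : evalMinors K n (n + m) A (∑ c ∈ s, (g c * epsC K c) • chainMon K (padc D c)) =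
            (A.submatrix (Fin.castAdd m) id).det ^ D *
              MvPolynomial.aeval (fun p : Fin m × Fin n => (Z0 A) p.1 p.2)
                (∑ c ∈ s, g c • ∏ i, minorOf K (c.2.1 i)) := by
          rw [map_sum, map_sum, Finset.mul_sum]
          apply Finset.sum_congr rfl
          intro c hc
          rw [map_smul, map_smul, evalMinors_chain A hT, evalMinors_padc, smul_eq_mul, smul_eq_mul]
          have e1 : c.1 + (D - c.1) = D := by have := hD c hc; omega
          rw [e1]
          have e2 := epsC_mul_self K c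
          generalize (A.submatrix (Fin.castAdd m) id).det = δ
          generalize (MvPolynomial.aeval (fun p : Fin m × Fin n => (Z0 A) p.1 p.2)
            (∏ i, minorOf K (c.2.1 i))) = v
          linear_combination (g c * δ ^ D * v) * e2
        rw [hsum, hG0, mul_zero, mul_zero]
    exact (mul_eq_zero.mp hmul).resolve_left (pow_ne_zero _ hδ)
  rw [map_sum] at hPhi
  simp only [map_smul] at hPhi
  have hmon0 := Pl.Phi_chainMon_monic (K := K) τ (padc D c0) hτ
  have hP : ∀ c ∈ s, Pl.Phi K τ (chainMon K (padc D c)) = 0 ∨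
      (MonomialOrder.lex (σ := Pl.Var n (n + m))).Monic (Pl.Phi K τ (chainMon K (padc D c))) := by
    intro c _
    by_cases hc : ∀ k, padc D c k ≤ τ
    · right; exact (Pl.Phi_chainMon_monic τ _ hc).1
    · left; exact Pl.Phi_chainMon_zero τ _ hc
  have hinj : ∀ c ∈ s, ∀ c' ∈ s,
      (MonomialOrder.lex (σ := Pl.Var n (n + m))).Monic (Pl.Phi K τ (chainMon K (padc D c))) →
      (MonomialOrder.lex (σ := Pl.Var n (n + m))).Monic (Pl.Phi K τ (chainMon K (padc D c'))) →
      (MonomialOrder.lex (σ := Pl.Var n (n + m))).degree (Pl.Phi K τ (chainMon K (padc D c))) =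
        (MonomialOrder.lex (σ := Pl.Var n (n + m))).degree (Pl.Phi K τ (chainMon K (padc D c'))) →
      c = c' := by
    intro c _ c' _ hm hm' hdeg
    have hc : ∀ k, padc D c k ≤ τ := by
      by_contra h
      rw [Pl.Phi_chainMon_zero τ _ h] at hm
      exact hm.ne_zero rfl
    have hc' : ∀ k, padc D c' k ≤ τ := by
      by_contra h
      rw [Pl.Phi_chainMon_zero τ _ h] at hm'
      exact hm'.ne_zero rfl
    rw [(Pl.Phi_chainMon_monic τ _ hc).2, (Pl.Phi_chainMon_monic τ _ hc').2] at hdeg
    exact padc_injective D c c'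
      (Pl.chain_eq_of_cexp_eq hn _ _ (antitone_padc D c) (antitone_padc D c') hdeg)
  have key := Pl.coeff_zero_of_monic_family (MonomialOrder.lex) s (fun c => g c * epsC K c)
    (fun c => Pl.Phi K τ (chainMon K (padc D c))) hP hinj hPhi c0 hc0 hmon0.1
  have e2 := epsC_mul_self K c0
  have e3 : g c0 = g c0 * epsC K c0 * epsC K c0 := by rw [mul_assoc, e2, mul_one]
  have key' : g c0 * epsC K c0 = 0 := key
  rw [e3, key', zero_mul]

/-- a polynomial vanishing at all products through the inner dimension `t - 1` lies in the ideal of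
`t`-minors -/
theorem mem_of_vanish [Infinite K] {m n t r : ℕ} (hn : 0 < n) (htr : t = r + 1)
    (f : MvPolynomial (Fin m × Fin n) K)
    (hf : ∀ (U₀ : Matrix (Fin m) (Fin r) K) (W₀ : Matrix (Fin r) (Fin n) K),
      MvPolynomial.aeval (fun p : Fin m × Fin n => (U₀ * W₀) p.1 p.2) f = 0) :
    f ∈ CAlgX.minorIdeal (genMatrix K m n) t := by
  have hspan := span_BT K m n t (by omega)
  have hmem : Ideal.Quotient.mk (CAlgX.minorIdeal (genMatrix K m n) t) f ∈
      Submodule.span K (Set.range fun c : BT m n t =>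
        Ideal.Quotient.mk (CAlgX.minorIdeal (genMatrix K m n) t) (∏ i, minorOf K (c.2.1 i))) := by
    rw [hspan]; trivial
  obtain ⟨l, hl⟩ := Finsupp.mem_span_range_iff_exists_finsupp.mp hmem
  have hG : f - ∑ c ∈ l.support, l c • ∏ i, minorOf K (c.2.1 i) ∈
      CAlgX.minorIdeal (genMatrix K m n) t := by
    rw [← Ideal.Quotient.eq, ← hl, Finsupp.sum, map_sum]
    apply Finset.sum_congr rfl
    intro c _
    exact (map_smul (Ideal.Quotient.mkₐ K _) (l c) _).symm
  have hzero : ∀ c ∈ l.support, l c = 0 := by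
    apply indep hn htr l.support (fun c => l c)
    intro U₀ W₀
    have h1 := aeval_eq_zero_of_mem K (by omega : r < t) U₀ W₀ hG
    rw [map_sub, hf U₀ W₀, zero_sub, neg_eq_zero] at h1
    exact h1
  have h0 : ∑ c ∈ l.support, l c • ∏ i, minorOf K (c.2.1 i) = 0 :=
    Finset.sum_eq_zero (fun c hc => by rw [hzero c hc, zero_smul])
  rw [h0, sub_zero] at hG
  exact hG

end

end Groth.Agent.H85.Det
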