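import Groth.Agent.H85.DetMain

/-!
# Smooth locus of generic determinantal rings

`B = k[x_{ij}]/I_{r+1}`.  A prime `P` of `B` is a smooth point over `k` iff `P` does not contain all
`r × r` minors.

* If an `r`-minor `δ` is not in `P`, then `B_δ` is formally smooth over `k`: we verify the
  infinitesimal lifting criterion by hand, lifting the entries in the rows and columns of `δ`
  arbitrarily and defining the other entries through the rank factorization
  `Z = Z_{•g} · A⁻¹ · Z_{f•}`.
* If all `r`-minors are in `P`, the conormal map `I/I² → Ω ⊗ B_P` of the presentation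
  `S_Q → B_P` has image in `𝔪 · (Ω ⊗ B_P)` (the partial derivatives of an `(r+1)`-minor are
  combinations of `r`-minors), so a retraction forces `I S_Q = 0` by Nakayama, which is absurd.
-/

set_option autoImplicit false
universe u

open MvPolynomial TensorProduct

namespace Groth.Agent.H85.DetSmooth

/-- the generic matrix -/
noncomputable abbrev gm (k : Type u) [CommRing k] (n m : ℕ) :
    Matrix (Fin n) (Fin m) (MvPolynomial (Fin n × Fin m) k) :=
  Matrix.of fun (i : Fin n) (j : Fin m) => (X (i, j) : MvPolynomial (Fin n × Fin m) k)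

section fact

variable {R : Type*} [CommRing R] {n m r : ℕ}

/-- rank factorization: if all `(r+1)`-minors vanish and the `(f, g)`-minor is invertible, every
entry is determined by the rows `f` and the columns `g`. -/
lemma entry_eq_of_minors_zero (Y : Matrix (Fin n) (Fin m) R) (f : Fin r → Fin n)
    (g : Fin r → Fin m) (e : R) (he : e * (Y.submatrix f g).det = 1)
    (hY : ∀ (F : Fin (r + 1) → Fin n) (G : Fin (r + 1) → Fin m), (Y.submatrix F G).det = 0)
    (i : Fin n) (j : Fin m) :
    Y i j = e * ∑ b : Fin r,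
      (∑ a : Fin r, Y i (g a) * (Y.submatrix f g).adjugate a b) * Y (f b) j := by
  classical
  have hinv : (e • (Y.submatrix f g).adjugate) * (Y.submatrix f g) = 1 := by
    rw [Matrix.smul_mul, Matrix.adjugate_mul, smul_smul, he, one_smul]
  let _ : Invertible (Y.submatrix f g) := invertibleOfLeftInverse _ _ hinv
  have hinvOf : ⅟(Y.submatrix f g) = e • (Y.submatrix f g).adjugate := invOf_eq_left_inv hinv
  have hblock : Matrix.fromBlocks (Y.submatrix f g)
      (Matrix.of fun (a : Fin r) (_ : Fin 1) => Y (f a) j)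
      (Matrix.of fun (_ : Fin 1) (a : Fin r) => Y i (g a))
      (Matrix.of fun (_ : Fin 1) (_ : Fin 1) => Y i j) =
      Y.submatrix (Sum.elim f (fun _ : Fin 1 => i)) (Sum.elim g (fun _ : Fin 1 => j)) := by
    ext (a | a) (b | b) <;> rfl
  have hdet0 : (Matrix.fromBlocks (Y.submatrix f g)
      (Matrix.of fun (a : Fin r) (_ : Fin 1) => Y (f a) j)
      (Matrix.of fun (_ : Fin 1) (a : Fin r) => Y i (g a))
      (Matrix.of fun (_ : Fin 1) (_ : Fin 1) => Y i j)).det = 0 := by
    rw [hblock]
    have h1 := hY (Sum.elim f (fun _ : Fin 1 => i) ∘ (finSumFinEquiv (m := r) (n := 1)).symm)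
      (Sum.elim g (fun _ : Fin 1 => j) ∘ (finSumFinEquiv (m := r) (n := 1)).symm)
    have h2 := Matrix.det_submatrix_equiv_self (finSumFinEquiv (m := r) (n := 1))
      (Y.submatrix (Sum.elim f (fun _ : Fin 1 => i) ∘ (finSumFinEquiv (m := r) (n := 1)).symm)
        (Sum.elim g (fun _ : Fin 1 => j) ∘ (finSumFinEquiv (m := r) (n := 1)).symm))
    rw [h1, Matrix.submatrix_submatrix] at h2
    have e1 : (Sum.elim f (fun _ : Fin 1 => i) ∘ (finSumFinEquiv (m := r) (n := 1)).symm) ∘
        (finSumFinEquiv (m := r) (n := 1)) = Sum.elim f (fun _ : Fin 1 => i) := by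
      funext x
      simp
    have e2 : (Sum.elim g (fun _ : Fin 1 => j) ∘ (finSumFinEquiv (m := r) (n := 1)).symm) ∘
        (finSumFinEquiv (m := r) (n := 1)) = Sum.elim g (fun _ : Fin 1 => j) := by
      funext x
      simp
    rw [e1, e2] at h2
    exact h2
  rw [Matrix.det_fromBlocks₁₁, Matrix.det_fin_one] at hdet0
  have h2 : ((Matrix.of fun (_ : Fin 1) (_ : Fin 1) => Y i j) -
      (Matrix.of fun (_ : Fin 1) (a : Fin r) => Y i (g a)) * ⅟(Y.submatrix f g) *
        (Matrix.of fun (a : Fin r) (_ : Fin 1) => Y (f a) j)) 0 0 = 0 := by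
    have h3 := congrArg (fun t => e * t) hdet0
    simp only [mul_zero] at h3
    rw [← mul_assoc, he, one_mul] at h3
    exact h3
  rw [Matrix.sub_apply, sub_eq_zero] at h2
  have hz : (Matrix.of fun (_ : Fin 1) (_ : Fin 1) => Y i j) 0 0 = Y i j := rfl
  rw [hz] at h2
  rw [h2, hinvOf, Matrix.mul_apply, Finset.mul_sum]
  apply Finset.sum_congr rfl
  intro b _
  rw [Matrix.mul_apply]
  have h3 : ∑ a : Fin r, (Matrix.of fun (_ : Fin 1) (a : Fin r) => Y i (g a)) 0 a *
      (e • (Y.submatrix f g).adjugate) a b =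
      e * ∑ a : Fin r, Y i (g a) * (Y.submatrix f g).adjugate a b := by
    rw [Finset.mul_sum]
    apply Finset.sum_congr rfl
    intro a _
    show Y i (g a) * (e * (Y.submatrix f g).adjugate a b) =
      e * (Y i (g a) * (Y.submatrix f g).adjugate a b)
    ring
  rw [h3]
  show e * _ * Y (f b) j = _
  ring

lemma minor_mul_eq_zero (U : Matrix (Fin n) (Fin r) R) (W : Matrix (Fin r) (Fin m) R)
    (F : Fin (r + 1) → Fin n) (G : Fin (r + 1) → Fin m) : ((U * W).submatrix F G).det = 0 := by
  have h : (U * W).submatrix F G = U.submatrix F id * W.submatrix id G := by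
    ext a b
    simp [Matrix.mul_apply]
  rw [h]
  exact Groth.Agent.H85.Det.det_mul_eq_zero_of_lt (Nat.lt_succ_self r) _ _

lemma isUnit_of_isUnit_mk {C : Type*} [CommRing C] (N : Ideal C) (hN : N ^ 2 = ⊥) (d : C)
    (h : IsUnit (Ideal.Quotient.mk N d)) : IsUnit d := by
  obtain ⟨e', he'⟩ := h.exists_right_inv
  obtain ⟨e, rfl⟩ := Ideal.Quotient.mk_surjective e'
  rw [← map_mul, ← map_one (Ideal.Quotient.mk N), Ideal.Quotient.eq] at he'
  have hsq : (d * e - 1) * (d * e - 1) = 0 := by
    have h1 : (d * e - 1) * (d * e - 1) ∈ N ^ 2 := by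
      rw [pow_two]
      exact Ideal.mul_mem_mul he' he'
    rw [hN] at h1
    exact h1
  apply IsUnit.of_mul_eq_one (e * (2 - d * e))
  linear_combination (-1 : C) * hsq

end fact

section smooth

variable (k : Type u) [CommRing k] (n m r : ℕ)

set_option maxHeartbeats 800000 in
theorem formallySmooth_away (f : Fin r → Fin n) (g : Fin r → Fin m) :
    Algebra.FormallySmooth k (Localization.Away
      (Ideal.Quotient.mk (CAlgX.minorIdeal (gm k n m) (r + 1))
        ((gm k n m).submatrix f g).det)) := by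
  apply Algebra.FormallySmooth.of_comp_surjective
  intro C _ _ N hN φ
  have hι : ∀ x : MvPolynomial (Fin n × Fin m) k,
      ((φ.comp (IsScalarTower.toAlgHom k (MvPolynomial (Fin n × Fin m) k ⧸
        CAlgX.minorIdeal (gm k n m) (r + 1)) _)).comp
        (Ideal.Quotient.mkₐ k (CAlgX.minorIdeal (gm k n m) (r + 1)))) x =
      φ (algebraMap _ _ (Ideal.Quotient.mk (CAlgX.minorIdeal (gm k n m) (r + 1)) x)) :=
    fun x => rfl
  generalize hψ : ((φ.comp (IsScalarTower.toAlgHom k (MvPolynomial (Fin n × Fin m) k ⧸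
        CAlgX.minorIdeal (gm k n m) (r + 1)) _)).comp
        (Ideal.Quotient.mkₐ k (CAlgX.minorIdeal (gm k n m) (r + 1)))) = ψ at hι
  -- the matrix of images of the variables
  have hψdet : ∀ {t : ℕ} (F : Fin t → Fin n) (G : Fin t → Fin m),
      ((Matrix.of fun i j => ψ (X (i, j)) : Matrix (Fin n) (Fin m) (C ⧸ N)).submatrix F G).det =
        ψ ((gm k n m).submatrix F G).det := by
    intro t F G
    rw [AlgHom.map_det]
    rfl
  have hZb0 : ∀ (F : Fin (r + 1) → Fin n) (G : Fin (r + 1) → Fin m),
      ((Matrix.of fun i j => ψ (X (i, j)) : Matrix (Fin n) (Fin m) (C ⧸ N)).submatrix F G).det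
        = 0 := by
    intro F G
    rw [hψdet, hι]
    have h0 : Ideal.Quotient.mk (CAlgX.minorIdeal (gm k n m) (r + 1))
        ((gm k n m).submatrix F G).det = 0 :=
      Ideal.Quotient.eq_zero_iff_mem.mpr (Ideal.subset_span ⟨(F, G), rfl⟩)
    rw [h0, map_zero, map_zero]
  have hZbu : IsUnit
      ((Matrix.of fun i j => ψ (X (i, j)) : Matrix (Fin n) (Fin m) (C ⧸ N)).submatrix f g).det := by
    rw [hψdet, hι]
    exact (IsLocalization.Away.algebraMap_isUnit _).map φ
  generalize hZbdef : (Matrix.of fun i j => ψ (X (i, j)) : Matrix (Fin n) (Fin m) (C ⧸ N)) = Zb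
    at hψdet hZb0 hZbu
  have hZbX : ∀ p : Fin n × Fin m, ψ (X p) = Zb p.1 p.2 := by
    intro p
    rw [← hZbdef]
    rfl
  -- lifts of the entries
  have hex : ∃ Zh : Matrix (Fin n) (Fin m) C, ∀ i j, Ideal.Quotient.mk N (Zh i j) = Zb i j :=
    ⟨Matrix.of fun i j => Function.surjInv (Ideal.Quotient.mk_surjective (I := N)) (Zb i j),
      fun i j => Function.surjInv_eq _ _⟩
  obtain ⟨Zh, hZh⟩ := hex
  have hmapsub : ∀ {t : ℕ} (F : Fin t → Fin n) (G : Fin t → Fin m),
      (Ideal.Quotient.mk N) (Zh.submatrix F G).det = (Zb.submatrix F G).det := by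
    intro t F G
    rw [RingHom.map_det]
    congr 1
    ext a b
    exact hZh _ _
  have hdu : IsUnit (Zh.submatrix f g).det := by
    apply isUnit_of_isUnit_mk N hN
    rw [hmapsub]
    exact hZbu
  obtain ⟨ec, hec⟩ := hdu.exists_left_inv
  have hadj : ∀ a b, Ideal.Quotient.mk N ((Zh.submatrix f g).adjugate a b) =
      (Zb.submatrix f g).adjugate a b := by
    intro a b
    have h := RingHom.map_adjugate (Ideal.Quotient.mk N) (Zh.submatrix f g)
    have h2 : (Ideal.Quotient.mk N).mapMatrix (Zh.submatrix f g) = Zb.submatrix f g := by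
      ext a b
      exact hZh _ _
    rw [h2] at h
    exact congrFun (congrFun h a) b
  -- the lifted matrix
  have hexZ : ∃ Z : Matrix (Fin n) (Fin m) C,
      (∀ (F : Fin (r + 1) → Fin n) (G : Fin (r + 1) → Fin m), (Z.submatrix F G).det = 0) ∧
      ∀ i j, Ideal.Quotient.mk N (Z i j) = Zb i j := by
    refine ⟨(ec • (Zh.submatrix id g * (Zh.submatrix f g).adjugate)) * Zh.submatrix f id,
      fun F G => minor_mul_eq_zero _ _ F G, ?_⟩
    intro i j
    have hfact := entry_eq_of_minors_zero Zb f g (Ideal.Quotient.mk N ec)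
      (by rw [← hmapsub, ← map_mul, hec, map_one]) hZb0 i j
    rw [hfact, Matrix.mul_apply, map_sum, Finset.mul_sum]
    apply Finset.sum_congr rfl
    intro b _
    show Ideal.Quotient.mk N ((ec * ∑ a : Fin r, Zh i (g a) * (Zh.submatrix f g).adjugate a b) *
      Zh (f b) j) = _
    rw [map_mul, map_mul, map_sum, hZh, mul_assoc]
    congr 2
    apply Finset.sum_congr rfl
    intro a _
    rw [map_mul, hZh, hadj]
  obtain ⟨Z, hZ0, hZmk⟩ := hexZ
  -- the lift on the polynomial ring
  have hΦ₀det : ∀ {t : ℕ} (F : Fin t → Fin n) (G : Fin t → Fin m),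
      (MvPolynomial.aeval (R := k) fun p : Fin n × Fin m => Z p.1 p.2)
        ((gm k n m).submatrix F G).det = (Z.submatrix F G).det := by
    intro t F G
    rw [AlgHom.map_det]
    congr 1
    ext a b
    show (MvPolynomial.aeval (R := k) fun p : Fin n × Fin m => Z p.1 p.2) (X (F a, G b)) =
      Z (F a) (G b)
    rw [MvPolynomial.aeval_X]
  have hΦ₀I : ∀ x ∈ CAlgX.minorIdeal (gm k n m) (r + 1),
      (MvPolynomial.aeval (R := k) fun p : Fin n × Fin m => Z p.1 p.2) x = 0 := by
    have hle : CAlgX.minorIdeal (gm k n m) (r + 1) ≤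
        RingHom.ker (MvPolynomial.aeval (R := k) fun p : Fin n × Fin m => Z p.1 p.2).toRingHom := by
      unfold CAlgX.minorIdeal
      rw [Ideal.span_le]
      rintro _ ⟨⟨F, G⟩, rfl⟩
      show (MvPolynomial.aeval (R := k) fun p : Fin n × Fin m => Z p.1 p.2) _ = 0
      rw [hΦ₀det, hZ0]
    intro x hx
    exact hle hx
  have hΦ₁u : ∀ y : Submonoid.powers (Ideal.Quotient.mk (CAlgX.minorIdeal (gm k n m) (r + 1))
      ((gm k n m).submatrix f g).det),
      IsUnit ((Ideal.Quotient.liftₐ (CAlgX.minorIdeal (gm k n m) (r + 1))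
        (MvPolynomial.aeval (R := k) fun p : Fin n × Fin m => Z p.1 p.2) hΦ₀I) y) := by
    rintro ⟨_, t, rfl⟩
    rw [map_pow]
    apply IsUnit.pow
    show IsUnit ((MvPolynomial.aeval (R := k) fun p : Fin n × Fin m => Z p.1 p.2)
      ((gm k n m).submatrix f g).det)
    rw [hΦ₀det]
    apply isUnit_of_isUnit_mk N hN
    rw [RingHom.map_det]
    have h3 : (Ideal.Quotient.mk N).mapMatrix (Z.submatrix f g) = Zb.submatrix f g := by
      ext a b
      exact hZmk _ _
    rw [h3]
    exact hZbu
  refine ⟨(IsLocalization.liftAlgHom hΦ₁u : Localization.Away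
      (Ideal.Quotient.mk (CAlgX.minorIdeal (gm k n m) (r + 1))
        ((gm k n m).submatrix f g).det) →ₐ[k] C), ?_⟩
  have key : (((Ideal.Quotient.mkₐ k N).comp (IsLocalization.liftAlgHom hΦ₁u : Localization.Away
      (Ideal.Quotient.mk (CAlgX.minorIdeal (gm k n m) (r + 1))
        ((gm k n m).submatrix f g).det) →ₐ[k] C)).comp
      (IsScalarTower.toAlgHom k (MvPolynomial (Fin n × Fin m) k ⧸
        CAlgX.minorIdeal (gm k n m) (r + 1)) _)).comp
        (Ideal.Quotient.mkₐ k (CAlgX.minorIdeal (gm k n m) (r + 1))) = ψ := by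
    apply MvPolynomial.algHom_ext
    intro p
    show Ideal.Quotient.mk N (IsLocalization.lift hΦ₁u (algebraMap _ _
      (Ideal.Quotient.mk (CAlgX.minorIdeal (gm k n m) (r + 1)) (X p)))) = ψ (X p)
    rw [IsLocalization.lift_eq]
    show Ideal.Quotient.mk N
      ((MvPolynomial.aeval (R := k) fun p : Fin n × Fin m => Z p.1 p.2) (X p)) = ψ (X p)
    rw [MvPolynomial.aeval_X, hZmk, hZbX]
  rw [← hψ] at key
  have h2 := (AlgHom.cancel_right (Ideal.Quotient.mkₐ_surjective k
    (CAlgX.minorIdeal (gm k n m) (r + 1)))).mp key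
  apply AlgHom.coe_ringHom_injective
  refine IsLocalization.ringHom_ext (Submonoid.powers (Ideal.Quotient.mk
    (CAlgX.minorIdeal (gm k n m) (r + 1)) ((gm k n m).submatrix f g).det))
    (RingHom.ext fun b => ?_)
  exact DFunLike.congr_fun h2 b

end smooth

section deriv

lemma derivation_prod {k S : Type*} [CommRing k] [CommRing S] [Algebra k S] (D : Derivation k S S)
    {ι : Type*} [DecidableEq ι] (s : Finset ι) (h : ι → S) :
    D (∏ a ∈ s, h a) = ∑ a ∈ s, (∏ b ∈ s.erase a, h b) * D (h a) := by
  induction s using Finset.induction_on with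
  | empty => simp
  | insert a s ha ih =>
    rw [Finset.prod_insert ha, Derivation.leibniz, ih, Finset.sum_insert ha,
      Finset.erase_insert ha, smul_eq_mul, smul_eq_mul, Finset.mul_sum, add_comm]
    congr 1
    apply Finset.sum_congr rfl
    intro b hb
    have hba : a ≠ b := fun h' => ha (h' ▸ hb)
    rw [Finset.erase_insert_of_ne hba,
      Finset.prod_insert (fun h' => ha (Finset.mem_of_mem_erase h'))]
    ring

lemma derivation_det {k S : Type*} [CommRing k] [CommRing S] [Algebra k S] (D : Derivation k S S)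
    {t : ℕ} (N : Matrix (Fin t) (Fin t) S) :
    D N.det = ∑ a : Fin t, (N.updateCol a (fun c => D (N c a))).det := by
  have hL : D N.det = ∑ σ : Equiv.Perm (Fin t), ∑ a : Fin t,
      ((Equiv.Perm.sign σ : ℤ) •
        ((∏ b ∈ Finset.univ.erase a, N (σ b) b) * D (N (σ a) a))) := by
    rw [Matrix.det_apply, map_sum]
    apply Finset.sum_congr rfl
    intro σ _
    rw [Units.smul_def, map_zsmul, derivation_prod, Finset.smul_sum]
  have hR : ∀ a : Fin t, (N.updateCol a (fun c => D (N c a))).det =
      ∑ σ : Equiv.Perm (Fin t), ((Equiv.Perm.sign σ : ℤ) •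
        ((∏ b ∈ Finset.univ.erase a, N (σ b) b) * D (N (σ a) a))) := by
    intro a
    rw [Matrix.det_apply]
    apply Finset.sum_congr rfl
    intro σ _
    rw [Units.smul_def]
    congr 1
    rw [← Finset.mul_prod_erase Finset.univ _ (Finset.mem_univ a), Matrix.updateCol_self,
      mul_comm]
    congr 1
    apply Finset.prod_congr rfl
    intro b hb
    rw [Matrix.updateCol_ne (Finset.ne_of_mem_erase hb)]
  rw [hL, Finset.sum_comm]
  apply Finset.sum_congr rfl
  intro a _
  rw [hR]

lemma det_updateCol_mem {R : Type u} [CommRing R] {n m r : ℕ} (Y : Matrix (Fin n) (Fin m) R)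
    (F : Fin (r + 1) → Fin n) (G : Fin (r + 1) → Fin m) (a : Fin (r + 1))
    (w : Fin (r + 1) → R) :
    ((Y.submatrix F G).updateCol a w).det ∈ CAlgX.minorIdeal Y r := by
  rw [Matrix.det_succ_column _ a]
  apply Ideal.sum_mem
  intro c _
  apply Ideal.mul_mem_left
  have h : ((Y.submatrix F G).updateCol a w).submatrix c.succAbove a.succAbove =
      Y.submatrix (F ∘ c.succAbove) (G ∘ a.succAbove) := by
    ext x y
    rw [Matrix.submatrix_apply, Matrix.updateCol_ne (Fin.succAbove_ne a y)]
    rfl
  rw [h]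
  exact Ideal.subset_span ⟨(F ∘ c.succAbove, G ∘ a.succAbove), rfl⟩

lemma pderiv_minor_mem (k : Type u) [CommRing k] (n m r : ℕ) (F : Fin (r + 1) → Fin n)
    (G : Fin (r + 1) → Fin m) (v : Fin n × Fin m) :
    MvPolynomial.pderiv v ((gm k n m).submatrix F G).det ∈ CAlgX.minorIdeal (gm k n m) r := by
  rw [derivation_det]
  apply Ideal.sum_mem
  intro a _
  exact det_updateCol_mem _ F G a _

lemma D_eq_sum (k : Type u) [CommRing k] {σ : Type} [Fintype σ] (x : MvPolynomial σ k) :
    KaehlerDifferential.D k (MvPolynomial σ k) x =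
      ∑ v : σ, MvPolynomial.pderiv v x • KaehlerDifferential.D k (MvPolynomial σ k) (X v) := by
  have h := (KaehlerDifferential.mvPolynomialBasis k σ).sum_repr
    (KaehlerDifferential.D k (MvPolynomial σ k) x)
  conv_lhs => rw [← h]
  apply Finset.sum_congr rfl
  intro v _
  rw [KaehlerDifferential.mvPolynomialBasis_repr_apply, KaehlerDifferential.mvPolynomialBasis_apply]

lemma minor_ne_zero (k : Type u) [CommRing k] [Nontrivial k] {n m t : ℕ} (htn : t ≤ n)
    (htm : t ≤ m) : ((gm k n m).submatrix (Fin.castLE htn) (Fin.castLE htm)).det ≠ 0 := by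
  intro h0
  have h1 := congrArg (MvPolynomial.eval
    (fun p : Fin n × Fin m => if p.1.val = p.2.val then (1 : k) else 0)) h0
  rw [RingHom.map_det, map_zero] at h1
  have h2 : (MvPolynomial.eval
      (fun p : Fin n × Fin m => if p.1.val = p.2.val then (1 : k) else 0)).mapMatrix
      ((gm k n m).submatrix (Fin.castLE htn) (Fin.castLE htm)) = 1 := by
    ext a b
    rw [RingHom.mapMatrix_apply, Matrix.map_apply, Matrix.submatrix_apply]
    show MvPolynomial.eval (fun p : Fin n × Fin m => if p.1.val = p.2.val then (1 : k) else 0)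
      (X (Fin.castLE htn a, Fin.castLE htm b)) = _
    rw [MvPolynomial.eval_X, Matrix.one_apply]
    show (if (Fin.castLE htn a).val = (Fin.castLE htm b).val then (1 : k) else 0) = _
    by_cases hab : a = b
    · rw [if_pos hab, if_pos (by rw [hab]; rfl)]
    · rw [if_neg hab, if_neg]
      intro h
      exact hab (Fin.ext h)
  rw [h2, Matrix.det_one] at h1
  exact one_ne_zero h1

end deriv

section nonsmooth

/-- abstract core: a surjection `A → B` from a formally smooth local Noetherian `k`-algebra onto a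
formally smooth `k`-algebra whose conormal map has image in `𝔪 · (B ⊗ Ω)` is injective. -/
theorem ker_eq_bot_of_smooth {k A B : Type u} [CommRing k] [CommRing A] [CommRing B]
    [Algebra k A] [Algebra k B] [Algebra A B] [IsScalarTower k A B] [IsLocalRing A]
    [IsNoetherianRing A] [Algebra.FormallySmooth k A] [Nontrivial B]
    (hsurj : Function.Surjective (algebraMap A B)) (hs : Algebra.FormallySmooth k B)
    (hmem : ∀ x ∈ RingHom.ker (algebraMap A B),
      (1 : B) ⊗ₜ[A] KaehlerDifferential.D k A x ∈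
        IsLocalRing.maximalIdeal A • (⊤ : Submodule A (B ⊗[A] Ω[A⁄k]))) :
    RingHom.ker (algebraMap A B) = ⊥ := by
  obtain ⟨l, hl⟩ := (Algebra.FormallySmooth.iff_split_injection (R := k) (P := A) (A := B)
    hsurj).mp hs
  have hjac : IsLocalRing.maximalIdeal A ≤ Ideal.jacobson ⊥ :=
    (IsLocalRing.jacobson_eq_maximalIdeal ⊥ bot_ne_top).ge
  have htop : (⊤ : Submodule A (RingHom.ker (algebraMap A B)).Cotangent) ≤
      IsLocalRing.maximalIdeal A • ⊤ := by
    intro c _
    obtain ⟨x, rfl⟩ := Ideal.toCotangent_surjective _ c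
    have h1 : l (KaehlerDifferential.kerCotangentToTensor k A B (Ideal.toCotangent _ x)) =
        Ideal.toCotangent _ x := LinearMap.congr_fun hl _
    rw [KaehlerDifferential.kerCotangentToTensor_toCotangent] at h1
    rw [← h1]
    have h3 : l ((1 : B) ⊗ₜ[A] KaehlerDifferential.D k A x.1) ∈
        (IsLocalRing.maximalIdeal A • (⊤ : Submodule A (B ⊗[A] Ω[A⁄k]))).map l :=
      Submodule.mem_map_of_mem (hmem x.1 x.2)
    rw [Submodule.map_smul''] at h3
    exact Submodule.smul_mono le_rfl le_top h3
  have : Module.Finite A (RingHom.ker (algebraMap A B)).Cotangent :=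
    Module.Finite.of_surjective (Ideal.toCotangent _) (Ideal.toCotangent_surjective _)
  have hbot := Submodule.eq_bot_of_le_smul_of_le_jacobson_bot _ _ Module.Finite.fg_top htop hjac
  have hsub : Subsingleton (RingHom.ker (algebraMap A B)).Cotangent := by
    refine ⟨fun a b => ?_⟩
    have ha : a ∈ (⊤ : Submodule A (RingHom.ker (algebraMap A B)).Cotangent) := Submodule.mem_top
    have hb : b ∈ (⊤ : Submodule A (RingHom.ker (algebraMap A B)).Cotangent) := Submodule.mem_top
    rw [hbot, Submodule.mem_bot] at ha hb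
    rw [ha, hb]
  have hidem : IsIdempotentElem (RingHom.ker (algebraMap A B)) :=
    (Ideal.cotangent_subsingleton_iff _).mp hsub
  have hle : RingHom.ker (algebraMap A B) ≤ IsLocalRing.maximalIdeal A :=
    IsLocalRing.le_maximalIdeal (RingHom.ker_ne_top _)
  apply Submodule.eq_bot_of_le_smul_of_le_jacobson_bot (IsLocalRing.maximalIdeal A) _
    (IsNoetherian.noetherian _) ?_ hjac
  rw [smul_eq_mul]
  calc RingHom.ker (algebraMap A B) = RingHom.ker (algebraMap A B) * RingHom.ker (algebraMap A B) :=
        hidem.symm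
    _ ≤ IsLocalRing.maximalIdeal A * RingHom.ker (algebraMap A B) := Ideal.mul_mono_left hle

set_option maxHeartbeats 1000000 in
theorem ideal_eq_bot_of_smooth {k S : Type u} [CommRing k] [CommRing S] [Algebra k S] [IsDomain S]
    [IsNoetherianRing S] [Algebra.FormallySmooth k S] (I 𝔯 : Ideal S) (G : Set S)
    (hG : I = Ideal.span G)
    (hD : ∀ g ∈ G, KaehlerDifferential.D k S g ∈ 𝔯 • (⊤ : Submodule S (Ω[S⁄k])))
    (P : Ideal (S ⧸ I)) [P.IsPrime] (hP : 𝔯.map (Ideal.Quotient.mk I) ≤ P)
    (hs : Algebra.FormallySmooth k (Localization.AtPrime P)) : I = ⊥ := by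
  classical
  have hQp : (P.comap (Ideal.Quotient.mk I)).IsPrime := Ideal.comap_isPrime _ _
  generalize hQ : P.comap (Ideal.Quotient.mk I) = Q at hQp
  have hQmem : ∀ x : S, x ∈ Q ↔ Ideal.Quotient.mk I x ∈ P := by
    intro x
    rw [← hQ]
    rfl
  have hIQ : I ≤ Q := by
    intro x hx
    rw [hQmem, Ideal.Quotient.eq_zero_iff_mem.mpr hx]
    exact Ideal.zero_mem _
  have hrQ : 𝔯 ≤ Q := by
    intro x hx
    rw [hQmem]
    exact hP (Ideal.mem_map_of_mem _ hx)
  letI alg : Algebra (Localization.AtPrime Q) (Localization.AtPrime P) :=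
    (Localization.localRingHom Q P (Ideal.Quotient.mk I) hQ.symm).toAlgebra
  have halg : ∀ x : Localization.AtPrime Q,
      algebraMap (Localization.AtPrime Q) (Localization.AtPrime P) x =
        Localization.localRingHom Q P (Ideal.Quotient.mk I) hQ.symm x := fun x => rfl
  have tower : IsScalarTower k (Localization.AtPrime Q) (Localization.AtPrime P) := by
    apply IsScalarTower.of_algebraMap_eq
    intro c
    rw [halg, IsScalarTower.algebraMap_apply k S (Localization.AtPrime Q),
      Localization.localRingHom_to_map,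
      IsScalarTower.algebraMap_apply k (S ⧸ I) (Localization.AtPrime P)]
    rfl
  have hsurj : Function.Surjective
      (algebraMap (Localization.AtPrime Q) (Localization.AtPrime P)) := by
    intro y
    obtain ⟨b, s, rfl⟩ := IsLocalization.exists_mk'_eq P.primeCompl y
    obtain ⟨b', rfl⟩ := Ideal.Quotient.mk_surjective b
    obtain ⟨s', hs'⟩ := Ideal.Quotient.mk_surjective (s : S ⧸ I)
    have hs'Q : s' ∈ Q.primeCompl := by
      show s' ∉ Q
      rw [hQmem, hs']
      exact s.2
    refine ⟨IsLocalization.mk' (Localization.AtPrime Q) b' ⟨s', hs'Q⟩, ?_⟩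
    rw [halg, Localization.localRingHom_mk']
    congr 1
    exact Subtype.ext hs'
  have : IsNoetherianRing (Localization.AtPrime Q) :=
    IsLocalization.isNoetherianRing Q.primeCompl _ inferInstance
  have hmapQ : ∀ x : S, algebraMap S (Localization.AtPrime Q) x ∈
      IsLocalRing.maximalIdeal (Localization.AtPrime Q) ↔ x ∈ Q :=
    fun x => IsLocalization.AtPrime.to_map_mem_maximal_iff (Localization.AtPrime Q) Q x
  have hGm : Ideal.span ((algebraMap S (Localization.AtPrime Q)) '' G) ≤
      IsLocalRing.maximalIdeal (Localization.AtPrime Q) := by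
    rw [Ideal.span_le]
    rintro _ ⟨g, hg, rfl⟩
    refine (hmapQ g).mpr (hIQ ?_)
    rw [hG]
    exact Ideal.subset_span hg
  have hImap : I.map (algebraMap S (Localization.AtPrime Q)) =
      Ideal.span ((algebraMap S (Localization.AtPrime Q)) '' G) := by
    rw [hG, Ideal.map_span]
  have hker : RingHom.ker (algebraMap (Localization.AtPrime Q) (Localization.AtPrime P)) ≤
      I.map (algebraMap S (Localization.AtPrime Q)) := by
    intro x hx
    obtain ⟨a, s, rfl⟩ := IsLocalization.exists_mk'_eq Q.primeCompl x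
    rw [RingHom.mem_ker, halg, Localization.localRingHom_mk', IsLocalization.mk'_eq_zero_iff] at hx
    obtain ⟨t, ht⟩ := hx
    obtain ⟨t', ht'⟩ := Ideal.Quotient.mk_surjective (t : S ⧸ I)
    have ht'Q : t' ∈ Q.primeCompl := by
      show t' ∉ Q
      rw [hQmem, ht']
      exact t.2
    have hta : a * t' ∈ I := by
      rw [← Ideal.Quotient.eq_zero_iff_mem, map_mul, ht', mul_comm]
      exact ht
    rw [← IsLocalization.mk'_cancel (M := Q.primeCompl) a s ⟨t', ht'Q⟩,
      IsLocalization.mk'_eq_mul_mk'_one]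
    exact Ideal.mul_mem_right _ _ (Ideal.mem_map_of_mem _ hta)
  have hkerge : I.map (algebraMap S (Localization.AtPrime Q)) ≤
      RingHom.ker (algebraMap (Localization.AtPrime Q) (Localization.AtPrime P)) := by
    rw [Ideal.map_le_iff_le_comap]
    intro x hx
    rw [Ideal.mem_comap, RingHom.mem_ker, halg, Localization.localRingHom_to_map,
      Ideal.Quotient.eq_zero_iff_mem.mpr hx, map_zero]
  have hgen : ∀ ω ∈ 𝔯 • (⊤ : Submodule S (Ω[S⁄k])),
      (1 : Localization.AtPrime P) ⊗ₜ[Localization.AtPrime Q]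
        (KaehlerDifferential.map k k S (Localization.AtPrime Q) ω) ∈
      IsLocalRing.maximalIdeal (Localization.AtPrime Q) •
        (⊤ : Submodule (Localization.AtPrime Q)
          ((Localization.AtPrime P) ⊗[Localization.AtPrime Q] (Ω[Localization.AtPrime Q⁄k]))) := by
    intro ω hω
    refine Submodule.smul_induction_on hω ?_ ?_
    · intro a ha ω' _
      rw [map_smul, ← algebraMap_smul (Localization.AtPrime Q) a, TensorProduct.tmul_smul]
      exact Submodule.smul_mem_smul ((hmapQ a).mpr (hrQ ha)) Submodule.mem_top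
    · intro x y hx hy
      rw [map_add, TensorProduct.tmul_add]
      exact Submodule.add_mem _ hx hy
  have hmem : ∀ x ∈ RingHom.ker (algebraMap (Localization.AtPrime Q) (Localization.AtPrime P)),
      (1 : Localization.AtPrime P) ⊗ₜ[Localization.AtPrime Q]
        (KaehlerDifferential.D k (Localization.AtPrime Q) x) ∈
      IsLocalRing.maximalIdeal (Localization.AtPrime Q) •
        (⊤ : Submodule (Localization.AtPrime Q)
          ((Localization.AtPrime P) ⊗[Localization.AtPrime Q] (Ω[Localization.AtPrime Q⁄k]))) := by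
    intro x hx
    have hx' : x ∈ Ideal.span ((algebraMap S (Localization.AtPrime Q)) '' G) := by
      rw [← hImap]
      exact hker hx
    refine Submodule.span_induction
      (p := fun x _ => (1 : Localization.AtPrime P) ⊗ₜ[Localization.AtPrime Q]
        (KaehlerDifferential.D k (Localization.AtPrime Q) x) ∈
          IsLocalRing.maximalIdeal (Localization.AtPrime Q) •
            (⊤ : Submodule (Localization.AtPrime Q)
              ((Localization.AtPrime P) ⊗[Localization.AtPrime Q]
                (Ω[Localization.AtPrime Q⁄k])))) ?_ ?_ ?_ ?_ hx'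
    · rintro _ ⟨g, hg, rfl⟩
      rw [← KaehlerDifferential.map_D k k S (Localization.AtPrime Q)]
      exact hgen _ (hD g hg)
    · rw [map_zero, TensorProduct.tmul_zero]
      exact Submodule.zero_mem _
    · intro x y _ _ hx hy
      rw [map_add, TensorProduct.tmul_add]
      exact Submodule.add_mem _ hx hy
    · intro a x hxs hx
      rw [smul_eq_mul, Derivation.leibniz, TensorProduct.tmul_add, TensorProduct.tmul_smul,
        TensorProduct.tmul_smul]
      exact Submodule.add_mem _ (Submodule.smul_mem _ _ hx)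
        (Submodule.smul_mem_smul (hGm hxs) Submodule.mem_top)
  have hker0 := ker_eq_bot_of_smooth (k := k) hsurj hs hmem
  rw [eq_bot_iff]
  intro x hx
  have h1 : algebraMap S (Localization.AtPrime Q) x ∈
      RingHom.ker (algebraMap (Localization.AtPrime Q) (Localization.AtPrime P)) :=
    hkerge (Ideal.mem_map_of_mem _ hx)
  rw [hker0, Ideal.mem_bot] at h1
  have hinj : Function.Injective (algebraMap S (Localization.AtPrime Q)) :=
    IsLocalization.injective _ Q.primeCompl_le_nonZeroDivisors
  rw [Ideal.mem_bot]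
  exact hinj (by rw [h1, map_zero])

variable (k : Type u) [Field k] (n m r : ℕ)

theorem not_smooth (hrn : r + 1 ≤ n) (hrm : r + 1 ≤ m)
    (P : Ideal (MvPolynomial (Fin n × Fin m) k ⧸ CAlgX.minorIdeal (gm k n m) (r + 1)))
    [P.IsPrime]
    (hJ : (CAlgX.minorIdeal (gm k n m) r).map
      (Ideal.Quotient.mk (CAlgX.minorIdeal (gm k n m) (r + 1))) ≤ P)
    (hs : Algebra.FormallySmooth k (Localization.AtPrime P)) : False := by
  have h0 := ideal_eq_bot_of_smooth (k := k) (CAlgX.minorIdeal (gm k n m) (r + 1))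
    (CAlgX.minorIdeal (gm k n m) r)
    (Set.range fun fg : (Fin (r + 1) → Fin n) × (Fin (r + 1) → Fin m) =>
      Matrix.det ((gm k n m).submatrix fg.1 fg.2)) rfl ?_ P hJ hs
  · apply minor_ne_zero k hrn hrm
    have hmem : ((gm k n m).submatrix (Fin.castLE hrn) (Fin.castLE hrm)).det ∈
        CAlgX.minorIdeal (gm k n m) (r + 1) :=
      Ideal.subset_span ⟨(Fin.castLE hrn, Fin.castLE hrm), rfl⟩
    rw [h0, Ideal.mem_bot] at hmem
    exact hmem
  · rintro _ ⟨⟨F, G⟩, rfl⟩
    rw [D_eq_sum]
    apply Submodule.sum_mem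
    intro v _
    exact Submodule.smul_mem_smul (pderiv_minor_mem k n m r F G v) Submodule.mem_top

theorem mem_smoothLocus_iff (hr : r < min n m)
    (P : PrimeSpectrum (MvPolynomial (Fin n × Fin m) k ⧸
      CAlgX.minorIdeal (gm k n m) (r + 1))) :
    P ∈ Algebra.smoothLocus k (MvPolynomial (Fin n × Fin m) k ⧸
        CAlgX.minorIdeal (gm k n m) (r + 1)) ↔
      ¬ (CAlgX.minorIdeal (gm k n m) r).map
          (Ideal.Quotient.mk (CAlgX.minorIdeal (gm k n m) (r + 1))) ≤ P.asIdeal := by
  have hrn : r + 1 ≤ n := (lt_min_iff.mp hr).1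
  have hrm : r + 1 ≤ m := (lt_min_iff.mp hr).2
  constructor
  · intro hP hJ
    exact not_smooth k n m r hrn hrm P.asIdeal hJ hP
  · intro hJ
    have hex : ∃ (f : Fin r → Fin n) (g : Fin r → Fin m),
        Ideal.Quotient.mk (CAlgX.minorIdeal (gm k n m) (r + 1))
          ((gm k n m).submatrix f g).det ∉ P.asIdeal := by
      by_contra hcon
      push Not at hcon
      apply hJ
      rw [Ideal.map_le_iff_le_comap]
      unfold CAlgX.minorIdeal
      rw [Ideal.span_le]
      rintro _ ⟨⟨f, g⟩, rfl⟩
      exact hcon f g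
    obtain ⟨f, g, hfg⟩ := hex
    have hfs := formallySmooth_away k n m r f g
    have : Algebra.FiniteType k (MvPolynomial (Fin n × Fin m) k ⧸
        CAlgX.minorIdeal (gm k n m) (r + 1)) :=
      Algebra.FiniteType.of_surjective (Ideal.Quotient.mkₐ k _)
        (Ideal.Quotient.mkₐ_surjective k _)
    have : Algebra.FinitePresentation k (MvPolynomial (Fin n × Fin m) k ⧸
        CAlgX.minorIdeal (gm k n m) (r + 1)) :=
      Algebra.FinitePresentation.of_finiteType.mp inferInstance
    exact (Algebra.basicOpen_subset_smoothLocus_iff.mpr hfs) hfg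

end nonsmooth

end Groth.Agent.H85.DetSmooth
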