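import Groth.Agent.H85.FEtColim_PQRcore
import Groth.Agent.H84.FEtColim_UE1

/-!
# (PQR) for helper69's S0285 squad, exact statement.
-/

set_option autoImplicit false
universe u
open TensorProduct
open CategoryTheory CategoryTheory.Limits
open Groth.Agent.H69.FEtColim

namespace Groth.Agent.H85.FEtColim_PQR

theorem isEq_of_isPushout {R R' E A B E' A' B' : CommRingCat.{u}} (ρ : R ⟶ R')
    (sE : R ⟶ E) (sA : R ⟶ A) (sB : R ⟶ B) (sE' : R' ⟶ E') (sA' : R' ⟶ A') (sB' : R' ⟶ B')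
    (tE : E ⟶ E') (tA : A ⟶ A') (tB : B ⟶ B')
    (hE : IsPushout sE ρ tE sE') (hA : IsPushout sA ρ tA sA') (hB : IsPushout sB ρ tB sB')
    (ι : E ⟶ A) (φ ψ : A ⟶ B) (ι' : E' ⟶ A') (φ' ψ' : A' ⟶ B')
    (hι : sE ≫ ι = sA) (hφ : sA ≫ φ = sB) (hψ : sA ≫ ψ = sB)
    (hι' : sE' ≫ ι' = sA') (hφ' : sA' ≫ φ' = sB') (hψ' : sA' ≫ ψ' = sB')
    (hιt : tE ≫ ι' = ι ≫ tA) (hφt : tA ≫ φ' = φ ≫ tB) (hψt : tA ≫ ψ' = ψ ≫ tB)
    (hfA : sA.hom.Finite ∧ sA.hom.Etale) (hfB : sB.hom.Finite ∧ sB.hom.Etale)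
    (hinj : Function.Injective ι.hom)
    (heq : ∀ a, φ.hom a = ψ.hom a ↔ a ∈ Set.range ι.hom) :
    Function.Injective ι'.hom ∧ ∀ a', φ'.hom a' = ψ'.hom a' ↔ a' ∈ Set.range ι'.hom :=
  isEq_of_isPushout_of (fun h => Groth.Agent.H84.FEtColim_UE1.uIsEq_of_isEq h)
    ρ sE sA sB sE' sA' sB' tE tA tB hE hA hB ι φ ψ ι' φ' ψ'
    hι hφ hψ hι' hφ' hψ' hιt hφt hψt hfA hfB hinj heq

end Groth.Agent.H85.FEtColim_PQR
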