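import Groth.Agent.H85.DetInv
import Groth.Agent.S11267

/-!
# First fundamental theorem for `GL_n`: evaluation, the easy direction and the chart (helper85)
-/

set_option autoImplicit false
universe u
open W4bk4grassmannian MvPolynomial

namespace Groth.Agent.H85.FFT

noncomputable section

variable {K : Type u} [Field K] {n m q : ℕ}

/-- evaluation at a pair of matrices -/
def evP (U : Matrix (Fin m) (Fin n) K) (W : Matrix (Fin n) (Fin q) K) : PairRing K n m q →ₐ[K] K :=
  MvPolynomial.aeval (Sum.elim (fun p : Fin m × Fin n => U p.1 p.2)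
    (fun p : Fin n × Fin q => W p.1 p.2))

/-- evaluation at a matrix -/
def evZ (Z : Matrix (Fin m) (Fin q) K) : MvPolynomial (Fin m × Fin q) K →ₐ[K] K :=
  MvPolynomial.aeval (fun p : Fin m × Fin q => Z p.1 p.2)

lemma evP_inl (U : Matrix (Fin m) (Fin n) K) (W : Matrix (Fin n) (Fin q) K) (s : Fin m)
    (k : Fin n) : evP U W (X (Sum.inl (s, k))) = U s k := by
  unfold evP
  rw [aeval_X]
  rfl

lemma evP_inr (U : Matrix (Fin m) (Fin n) K) (W : Matrix (Fin n) (Fin q) K) (k : Fin n)
    (j : Fin q) : evP U W (X (Sum.inr (k, j))) = W k j := by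
  unfold evP
  rw [aeval_X]
  rfl

lemma evP_C (U : Matrix (Fin m) (Fin n) K) (W : Matrix (Fin n) (Fin q) K) (c : K) :
    evP U W (C c) = c := by
  unfold evP
  rw [aeval_C]
  rfl

lemma evZ_X (Z : Matrix (Fin m) (Fin q) K) (i : Fin m) (j : Fin q) : evZ Z (X (i, j)) = Z i j := by
  unfold evZ
  rw [aeval_X]

lemma evZ_C (Z : Matrix (Fin m) (Fin q) K) (c : K) : evZ Z (C c) = c := by
  unfold evZ
  rw [aeval_C]
  rfl

lemma evP_pairing (U : Matrix (Fin m) (Fin n) K) (W : Matrix (Fin n) (Fin q) K)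
    (g : MvPolynomial (Fin m × Fin q) K) :
    evP U W (pairingMap K n m q g) = evZ (U * W) g := by
  have h : (evP U W).comp (pairingMap K n m q) = evZ (U * W) := by
    apply MvPolynomial.algHom_ext
    rintro ⟨i, j⟩
    rw [AlgHom.comp_apply]
    unfold pairingMap
    rw [aeval_X, map_sum, evZ_X, Matrix.mul_apply]
    apply Finset.sum_congr rfl
    intro k _
    rw [map_mul, evP_inl, evP_inr]
  rw [← h, AlgHom.comp_apply]

lemma evP_gl (U : Matrix (Fin m) (Fin n) K) (W : Matrix (Fin n) (Fin q) K) (A : GL (Fin n) K)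
    (f : PairRing K n m q) :
    evP U W (glTranslate K n m q A f) =
      evP (U * ((A⁻¹ : GL (Fin n) K) : Matrix (Fin n) (Fin n) K))
        ((A : Matrix (Fin n) (Fin n) K) * W) f := by
  have h : (evP U W).comp (glTranslate K n m q A) =
      evP (U * ((A⁻¹ : GL (Fin n) K) : Matrix (Fin n) (Fin n) K))
        ((A : Matrix (Fin n) (Fin n) K) * W) := by
    apply MvPolynomial.algHom_ext
    rintro (⟨s, k⟩ | ⟨k, j⟩)
    · rw [AlgHom.comp_apply, evP_inl]
      unfold glTranslate
      rw [aeval_X]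
      show evP U W (∑ l, X (Sum.inl (s, l)) *
        C (((A⁻¹ : GL (Fin n) K) : Matrix (Fin n) (Fin n) K) l k)) = _
      rw [map_sum, Matrix.mul_apply]
      apply Finset.sum_congr rfl
      intro l _
      rw [map_mul, evP_inl, evP_C]
    · rw [AlgHom.comp_apply, evP_inr]
      unfold glTranslate
      rw [aeval_X]
      show evP U W (∑ l, C ((A : Matrix (Fin n) (Fin n) K) k l) * X (Sum.inr (l, j))) = _
      rw [map_sum, Matrix.mul_apply]
      apply Finset.sum_congr rfl
      intro l _
      rw [map_mul, evP_inr, evP_C]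
  rw [← h, AlgHom.comp_apply]

lemma pair_funext [Infinite K] {f g : PairRing K n m q}
    (h : ∀ (U : Matrix (Fin m) (Fin n) K) (W : Matrix (Fin n) (Fin q) K), evP U W f = evP U W g) :
    f = g := by
  apply MvPolynomial.funext
  intro x
  have hx : (Sum.elim
      (fun p : Fin m × Fin n => (Matrix.of fun s k => x (Sum.inl (s, k)) :
        Matrix (Fin m) (Fin n) K) p.1 p.2)
      (fun p : Fin n × Fin q => (Matrix.of fun k j => x (Sum.inr (k, j)) :
        Matrix (Fin n) (Fin q) K) p.1 p.2)) = x := by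
    funext i
    rcases i with ⟨s, k⟩ | ⟨k, j⟩ <;> rfl
  have h1 := h (Matrix.of fun s k => x (Sum.inl (s, k))) (Matrix.of fun k j => x (Sum.inr (k, j)))
  unfold evP at h1
  rw [hx] at h1
  exact h1

/-- the easy direction -/
lemma gl_pairing [Infinite K] (A : GL (Fin n) K) (g : MvPolynomial (Fin m × Fin q) K) :
    glTranslate K n m q A (pairingMap K n m q g) = pairingMap K n m q g := by
  apply pair_funext
  intro U W
  rw [evP_gl, evP_pairing, evP_pairing]
  congr 1
  have h1 : ((A⁻¹ : GL (Fin n) K) : Matrix (Fin n) (Fin n) K) * (A : Matrix (Fin n) (Fin n) K) = 1 := by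
    rw [← Units.val_mul, inv_mul_cancel, Units.val_one]
  rw [Matrix.mul_assoc, ← Matrix.mul_assoc ((A⁻¹ : GL (Fin n) K) : Matrix (Fin n) (Fin n) K), h1,
    Matrix.one_mul]

lemma evZ_det (Z : Matrix (Fin m) (Fin q) K) {k : ℕ} (a : Fin k → Fin m) (b : Fin k → Fin q) :
    evZ Z (((genMatrix K m q).submatrix a b).det) = (Z.submatrix a b).det := by
  rw [AlgHom.map_det]
  congr 1
  ext s t
  rw [AlgHom.mapMatrix_apply, Matrix.map_apply, Matrix.submatrix_apply, Matrix.submatrix_apply]
  unfold genMatrix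
  rw [Matrix.of_apply, evZ_X]

lemma det_sub_mul (U : Matrix (Fin m) (Fin n) K) (W : Matrix (Fin n) (Fin q) K)
    (a : Fin n → Fin m) (b : Fin n → Fin q) :
    ((U * W).submatrix a b).det = (U.submatrix a id).det * (W.submatrix id b).det := by
  rw [Matrix.submatrix_mul U W a id b Function.bijective_id, Matrix.det_mul]

/-- the minor `δ_{a,b}` of the generic matrix -/
def dlt (K : Type u) [Field K] (a : Fin n → Fin m) (b : Fin n → Fin q) :
    MvPolynomial (Fin m × Fin q) K :=
  ((genMatrix K m q).submatrix a b).det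

lemma dlt_ev (U : Matrix (Fin m) (Fin n) K) (W : Matrix (Fin n) (Fin q) K)
    (a : Fin n → Fin m) (b : Fin n → Fin q) :
    evZ (U * W) (dlt K a b) = (U.submatrix a id).det * (W.submatrix id b).det := by
  unfold dlt
  rw [evZ_det, det_sub_mul]

lemma chart (a : Fin n → Fin m) (b : Fin n → Fin q) (f : PairRing K n m q) :
    ∃ (N : ℕ) (g : MvPolynomial (Fin m × Fin q) K),
      ∀ (U : Matrix (Fin m) (Fin n) K) (W : Matrix (Fin n) (Fin q) K),
        (U.submatrix a id).det ≠ 0 → (W.submatrix id b).det ≠ 0 →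
        evZ (U * W) g = ((U.submatrix a id).det * (W.submatrix id b).det) ^ N *
          evP (U * (U.submatrix a id)⁻¹) (U.submatrix a id * W) f := by
  refine MvPolynomial.induction_on (motive := fun f => ∃ (N : ℕ)
      (g : MvPolynomial (Fin m × Fin q) K),
      ∀ (U : Matrix (Fin m) (Fin n) K) (W : Matrix (Fin n) (Fin q) K),
        (U.submatrix a id).det ≠ 0 → (W.submatrix id b).det ≠ 0 →
        evZ (U * W) g = ((U.submatrix a id).det * (W.submatrix id b).det) ^ N *
          evP (U * (U.submatrix a id)⁻¹) (U.submatrix a id * W) f) f ?_ ?_ ?_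
  · intro c
    exact ⟨0, C c, fun U W _ _ => by rw [pow_zero, one_mul, evP_C, evZ_C]⟩
  · rintro p p' ⟨N, g, hg⟩ ⟨N', g', hg'⟩
    refine ⟨N + N', dlt K a b ^ N' * g + dlt K a b ^ N * g', fun U W h1 h2 => ?_⟩
    rw [map_add, map_mul, map_mul, map_pow, map_pow, dlt_ev, hg U W h1 h2, hg' U W h1 h2, map_add]
    ring
  · rintro p i ⟨N, g, hg⟩
    rcases i with ⟨s, k⟩ | ⟨k, j⟩
    · refine ⟨N + 1, g * dlt K (Function.update a k s) b, fun U W h1 h2 => ?_⟩
      rw [map_mul, map_mul, hg U W h1 h2, dlt_ev, evP_inl]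
      have hinv : (U * (U.submatrix a id)⁻¹) s k =
          (U.submatrix a id).det⁻¹ * (U.submatrix (Function.update a k s) id).det := by
        rw [Matrix.inv_def, Ring.inverse_eq_inv', Matrix.mul_smul, Matrix.smul_apply, smul_eq_mul,
          Groth.Agent.H85.Inv.mul_adjugate_apply]
      rw [hinv, pow_succ]
      field_simp
    · refine ⟨N, g * X (a k, j), fun U W h1 h2 => ?_⟩
      rw [map_mul, map_mul, hg U W h1 h2, evZ_X, evP_inr]
      have h3 : (U.submatrix a id * W) k j = (U * W) (a k) j := by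
        rw [Matrix.mul_apply, Matrix.mul_apply]
        rfl
      rw [h3, mul_assoc]

/-- an invariant polynomial times a power of `δ_{a,b}(UW)` is a polynomial in the entries of `UW` -/
lemma exists_pow_mul_eq [Infinite K] (a : Fin n → Fin m) (b : Fin n → Fin q)
    (f : PairRing K n m q) (hf : ∀ A : GL (Fin n) K, glTranslate K n m q A f = f) :
    ∃ (N : ℕ) (g : MvPolynomial (Fin m × Fin q) K),
      pairingMap K n m q (dlt K a b) ^ N * f = pairingMap K n m q g := by
  by_cases hδ : pairingMap K n m q (dlt K a b) = 0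
  · exact ⟨1, 0, by rw [hδ, pow_one, zero_mul, map_zero]⟩
  obtain ⟨N, g, hg⟩ := chart a b f
  refine ⟨N, g, ?_⟩
  apply mul_left_cancel₀ hδ
  apply pair_funext
  intro U W
  rw [map_mul, map_mul, map_mul, map_pow, evP_pairing, evP_pairing, dlt_ev]
  by_cases h1 : (U.submatrix a id).det = 0
  · rw [h1, zero_mul, zero_mul, zero_mul]
  by_cases h2 : (W.submatrix id b).det = 0
  · rw [h2, mul_zero, zero_mul, zero_mul]
  rw [hg U W h1 h2]
  have hinv := evP_gl U W (Matrix.GeneralLinearGroup.mkOfDetNeZero (U.submatrix a id) h1) f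
  rw [hf] at hinv
  have hc1 : ((Matrix.GeneralLinearGroup.mkOfDetNeZero (U.submatrix a id) h1 : GL (Fin n) K) :
      Matrix (Fin n) (Fin n) K) = U.submatrix a id := rfl
  have hc2 : (((Matrix.GeneralLinearGroup.mkOfDetNeZero (U.submatrix a id) h1)⁻¹ :
      GL (Fin n) K) : Matrix (Fin n) (Fin n) K) = (U.submatrix a id)⁻¹ := by
    rw [Matrix.coe_units_inv, hc1]
  rw [hc1, hc2] at hinv
  rw [← hinv]

end

end Groth.Agent.H85.FFT
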