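import Groth.Agent.H85.FFTPad
import Groth.Agent.H85.DetBridge
import Groth.Agent.S11269
import Groth.Agent.H26.Liaison
import Groth.Agent.H54.AffineDim

/-!
# First fundamental theorem of invariant theory for `GL_n` (helper85)

`K[U, W]^{GL_n} = K[U W]`.  After padding we may assume `m, q ≥ n + 1`.  An invariant `f` becomes a
polynomial in the entries of `UW` after multiplication by a power of any `n`-minor `δ_{a,b}(UW)`
(`exists_pow_mul_eq`).  The ring `S₀ = K[Z] ⧸ I_{n+1}` is a Cohen–Macaulay domain, hence satisfies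
`(S₂)`; so the associated primes of `S₀ ⧸ (δ₁)` have height one, and cannot contain all `n`-minors
(which cut out a locus of codimension `≥ 2`).  This removes the denominator.
-/

set_option autoImplicit false
set_option linter.style.haveILetI false
universe u
open W4bk4grassmannian MvPolynomial

namespace Groth.Agent.H85.FFT

noncomputable section

variable (K : Type u) [Field K] [IsAlgClosed K]

omit [IsAlgClosed K] in
lemma pairing_dlt_ne_zero {n m q : ℕ} (hm : n ≤ m) (hq : n ≤ q) :
    pairingMap K n m q (dlt K (Fin.castLE hm) (Fin.castLE hq)) ≠ 0 := by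
  intro h0
  have h1 := evP_pairing
    (Matrix.of fun (s : Fin m) (k : Fin n) => if s.val = k.val then (1 : K) else 0)
    (Matrix.of fun (k : Fin n) (j : Fin q) => if k.val = j.val then (1 : K) else 0)
    (dlt K (Fin.castLE hm) (Fin.castLE hq))
  rw [h0, map_zero, dlt_ev] at h1
  have hU : (Matrix.of fun (s : Fin m) (k : Fin n) =>
      if s.val = k.val then (1 : K) else 0).submatrix (Fin.castLE hm) id = 1 := by
    ext k k'
    rw [Matrix.submatrix_apply, Matrix.of_apply, Matrix.one_apply]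
    simp [Fin.ext_iff]
  have hW : (Matrix.of fun (k : Fin n) (j : Fin q) =>
      if k.val = j.val then (1 : K) else 0).submatrix id (Fin.castLE hq) = 1 := by
    ext k k'
    rw [Matrix.submatrix_apply, Matrix.of_apply, Matrix.one_apply]
    simp [Fin.ext_iff]
  rw [hU, hW, Matrix.det_one, mul_one] at h1
  exact zero_ne_one h1

lemma key_step {r m q : ℕ} (hm1 : r + 1 ≤ m) (hq1 : r + 1 ≤ q) (hm : r + 1 + 1 ≤ m)
    (hq : r + 1 + 1 ≤ q) (f : PairRing K (r + 1) m q)
    (hf : ∀ A : GL (Fin (r + 1)) K, glTranslate K (r + 1) m q A f = f)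
    (g : MvPolynomial (Fin m × Fin q) K)
    (hg : pairingMap K (r + 1) m q (dlt K (Fin.castLE hm1) (Fin.castLE hq1)) * f =
      pairingMap K (r + 1) m q g) :
    f ∈ (pairingMap K (r + 1) m q).range := by
  classical
  have hδne := pairing_dlt_ne_zero K hm1 hq1
  have hker : RingHom.ker (pairingMap K (r + 1) m q).toRingHom =
      CAlgX.minorIdeal (genMatrix K m q) (r + 1 + 1) := Groth.Agent.S11267.result K m (r + 1) q
  obtain ⟨hdom, -, hcm, hdim⟩ := Groth.Agent.H85.DetBr.main K (m := m) (n := q)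
    (lt_of_lt_of_le (Nat.succ_pos _) hm) (lt_of_lt_of_le (Nat.succ_pos _) hq) (r + 1) hm hq
  haveI := hdom
  haveI := hcm
  haveI : Algebra.FiniteType K
      (MvPolynomial (Fin m × Fin q) K ⧸ CAlgX.minorIdeal (genMatrix K m q) (r + 1 + 1)) :=
    Algebra.FiniteType.of_surjective (Ideal.Quotient.mkₐ K _) (Ideal.Quotient.mkₐ_surjective K _)
  have hmem : ∀ p : MvPolynomial (Fin m × Fin q) K,
      Ideal.Quotient.mk (CAlgX.minorIdeal (genMatrix K m q) (r + 1 + 1)) p = 0 ↔
        pairingMap K (r + 1) m q p = 0 := by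
    intro p
    rw [Ideal.Quotient.eq_zero_iff_mem, ← hker, RingHom.mem_ker]
    rfl
  have hδ0 : Ideal.Quotient.mk (CAlgX.minorIdeal (genMatrix K m q) (r + 1 + 1))
      (dlt K (Fin.castLE hm1) (Fin.castLE hq1)) ≠ 0 := fun h => hδne ((hmem _).mp h)
  by_cases hx : Ideal.Quotient.mk (Ideal.span
      {Ideal.Quotient.mk (CAlgX.minorIdeal (genMatrix K m q) (r + 1 + 1))
        (dlt K (Fin.castLE hm1) (Fin.castLE hq1))})
      (Ideal.Quotient.mk (CAlgX.minorIdeal (genMatrix K m q) (r + 1 + 1)) g) = 0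
  · rw [Ideal.Quotient.eq_zero_iff_mem, Ideal.mem_span_singleton'] at hx
    obtain ⟨s, hs⟩ := hx
    obtain ⟨g', rfl⟩ := Ideal.Quotient.mk_surjective s
    have h1 : Ideal.Quotient.mk (CAlgX.minorIdeal (genMatrix K m q) (r + 1 + 1))
        (g' * dlt K (Fin.castLE hm1) (Fin.castLE hq1) - g) = 0 := by
      rw [map_sub, map_mul, hs, sub_self]
    have h2 := (hmem _).mp h1
    rw [map_sub, map_mul, sub_eq_zero] at h2
    refine (AlgHom.mem_range _).mpr ⟨g', ?_⟩
    apply mul_left_cancel₀ hδne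
    rw [hg, ← h2, mul_comm]
  · exfalso
    obtain ⟨P, hP, hle⟩ := exists_le_isAssociatedPrime_of_isNoetherianRing
      (MvPolynomial (Fin m × Fin q) K ⧸ CAlgX.minorIdeal (genMatrix K m q) (r + 1 + 1)) _ hx
    haveI hPp : P.IsPrime := hP.isPrime
    have hht : P.height = 1 :=
      (Groth.Agent.S11269.result
        (MvPolynomial (Fin m × Fin q) K ⧸ CAlgX.minorIdeal (genMatrix K m q) (r + 1 + 1))).mp
        (Groth.Agent.H26.Liaison.hasSk_of_cm _ 2) _ hδ0 P hP
    have hminor : ∀ (a : Fin (r + 1) → Fin m) (b : Fin (r + 1) → Fin q),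
        Ideal.Quotient.mk (CAlgX.minorIdeal (genMatrix K m q) (r + 1 + 1)) (dlt K a b) ∈ P := by
      intro a b
      obtain ⟨M, gab, hgab⟩ := exists_pow_mul_eq a b f hf
      have h1 : pairingMap K (r + 1) m q
          (dlt K a b ^ M * g - dlt K (Fin.castLE hm1) (Fin.castLE hq1) * gab) = 0 := by
        rw [map_sub, map_mul, map_mul, map_pow, ← hg, ← hgab]
        ring
      have h2 := (hmem _).mpr h1
      rw [map_sub, map_mul, map_mul, map_pow, sub_eq_zero] at h2
      have h4 : Ideal.Quotient.mk (CAlgX.minorIdeal (genMatrix K m q) (r + 1 + 1)) (dlt K a b) ^ M ∈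
          (⊥ : Submodule
            (MvPolynomial (Fin m × Fin q) K ⧸ CAlgX.minorIdeal (genMatrix K m q) (r + 1 + 1))
            ((MvPolynomial (Fin m × Fin q) K ⧸ CAlgX.minorIdeal (genMatrix K m q) (r + 1 + 1)) ⧸
              Ideal.span {Ideal.Quotient.mk (CAlgX.minorIdeal (genMatrix K m q) (r + 1 + 1))
                (dlt K (Fin.castLE hm1) (Fin.castLE hq1))})).colon
            {Ideal.Quotient.mk (Ideal.span
              {Ideal.Quotient.mk (CAlgX.minorIdeal (genMatrix K m q) (r + 1 + 1))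
                (dlt K (Fin.castLE hm1) (Fin.castLE hq1))})
              (Ideal.Quotient.mk (CAlgX.minorIdeal (genMatrix K m q) (r + 1 + 1)) g)} := by
        rw [Submodule.mem_colon_singleton, Submodule.mem_bot]
        show Ideal.Quotient.mk _
          (Ideal.Quotient.mk (CAlgX.minorIdeal (genMatrix K m q) (r + 1 + 1)) (dlt K a b) ^ M *
            Ideal.Quotient.mk (CAlgX.minorIdeal (genMatrix K m q) (r + 1 + 1)) g) = 0
        rw [h2, Ideal.Quotient.eq_zero_iff_mem]
        exact Ideal.mul_mem_right _ _ (Ideal.mem_span_singleton_self _)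
      exact hPp.mem_of_pow_mem M (hle h4)
    have hH : ∀ a ∈ CAlgX.minorIdeal (genMatrix K m q) (r + 1),
        ((Ideal.Quotient.mk P).comp
          (Ideal.Quotient.mk (CAlgX.minorIdeal (genMatrix K m q) (r + 1 + 1)))) a = 0 := by
      have hsub : Ideal.span (Set.range
          fun fg : (Fin (r + 1) → Fin m) × (Fin (r + 1) → Fin q) =>
            Matrix.det ((genMatrix K m q).submatrix fg.1 fg.2)) ≤
          RingHom.ker ((Ideal.Quotient.mk P).comp
            (Ideal.Quotient.mk (CAlgX.minorIdeal (genMatrix K m q) (r + 1 + 1)))) := by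
        rw [Ideal.span_le]
        rintro _ ⟨fg, rfl⟩
        rw [SetLike.mem_coe, RingHom.mem_ker, RingHom.comp_apply, Ideal.Quotient.eq_zero_iff_mem]
        exact hminor fg.1 fg.2
      intro a ha
      exact RingHom.mem_ker.mp (hsub ha)
    have hsurj : Function.Surjective (Ideal.Quotient.lift
        (CAlgX.minorIdeal (genMatrix K m q) (r + 1)) _ hH) := by
      apply Ideal.Quotient.lift_surjective_of_surjective
      rw [RingHom.coe_comp]
      exact Ideal.Quotient.mk_surjective.comp Ideal.Quotient.mk_surjective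
    have hd1 := ringKrullDim_le_of_surjective _ hsurj
    have hd2 := Groth.Agent.H85.DetDim.dim_det_algClosed K m q r
      (le_trans (Nat.le_succ r) hm1) (le_trans (Nat.le_succ r) hq1)
    have hd3 := Groth.Agent.H54.ringKrullDim_quotient_add_one_of_height_eq_one K
      (MvPolynomial (Fin m × Fin q) K ⧸ CAlgX.minorIdeal (genMatrix K m q) (r + 1 + 1)) P hht
    rw [hdim] at hd3
    rw [hd2] at hd1
    have h5 : (((r + 1) * (q + m - (r + 1)) : ℕ) : WithBot ℕ∞) ≤
        ((r * (q + m - r) : ℕ) : WithBot ℕ∞) + 1 := by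
      rw [← hd3]
      gcongr
    have h6 : (r + 1) * (q + m - (r + 1)) ≤ r * (q + m - r) + 1 := by exact_mod_cast h5
    obtain ⟨t, ht⟩ : ∃ t, q + m - (r + 1) = t + r + 2 := ⟨q + m - (r + 1) - r - 2, by omega⟩
    have ht2 : q + m - r = t + r + 3 := by omega
    rw [ht, ht2] at h6
    have h7 : (r + 1) * (t + r + 2) = r * (t + r + 3) + 1 + (t + 1) := by ring
    rw [h7] at h6
    omega

lemma claim {r m q : ℕ} (hm1 : r + 1 ≤ m) (hq1 : r + 1 ≤ q) (hm : r + 1 + 1 ≤ m)
    (hq : r + 1 + 1 ≤ q) (N : ℕ) :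
    ∀ f : PairRing K (r + 1) m q,
      (∀ A : GL (Fin (r + 1)) K, glTranslate K (r + 1) m q A f = f) →
      (∃ g : MvPolynomial (Fin m × Fin q) K,
        pairingMap K (r + 1) m q (dlt K (Fin.castLE hm1) (Fin.castLE hq1)) ^ N * f =
          pairingMap K (r + 1) m q g) →
      f ∈ (pairingMap K (r + 1) m q).range := by
  induction N with
  | zero =>
    rintro f - ⟨g, hg⟩
    refine (AlgHom.mem_range _).mpr ⟨g, ?_⟩
    rw [← hg, pow_zero, one_mul]
  | succ N ih =>
    rintro f hf ⟨g, hg⟩
    have hinv : ∀ A : GL (Fin (r + 1)) K, glTranslate K (r + 1) m q A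
        (pairingMap K (r + 1) m q (dlt K (Fin.castLE hm1) (Fin.castLE hq1)) ^ N * f) =
        pairingMap K (r + 1) m q (dlt K (Fin.castLE hm1) (Fin.castLE hq1)) ^ N * f := by
      intro A
      rw [map_mul, map_pow, gl_pairing, hf A]
    have h1 : pairingMap K (r + 1) m q (dlt K (Fin.castLE hm1) (Fin.castLE hq1)) *
        (pairingMap K (r + 1) m q (dlt K (Fin.castLE hm1) (Fin.castLE hq1)) ^ N * f) =
        pairingMap K (r + 1) m q g := by
      rw [← hg, pow_succ]
      ring
    obtain ⟨g', hg'⟩ := (AlgHom.mem_range _).mp (key_step K hm1 hq1 hm hq _ hinv g h1)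
    exact ih f hf ⟨g', hg'.symm⟩

lemma core {r m q : ℕ} (hm1 : r + 1 ≤ m) (hq1 : r + 1 ≤ q) (hm : r + 1 + 1 ≤ m)
    (hq : r + 1 + 1 ≤ q) (f : PairRing K (r + 1) m q)
    (hf : ∀ A : GL (Fin (r + 1)) K, glTranslate K (r + 1) m q A f = f) :
    f ∈ (pairingMap K (r + 1) m q).range := by
  obtain ⟨N, g, hg⟩ := exists_pow_mul_eq (Fin.castLE hm1) (Fin.castLE hq1) f hf
  exact claim K hm1 hq1 hm hq N f hf ⟨g, hg⟩

/-- **First fundamental theorem for `GL_n`.** -/
theorem fft (m n q : ℕ) (f : PairRing K n m q) :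
    (∀ A : GL (Fin n) K, glTranslate K n m q A f = f) ↔ f ∈ (pairingMap K n m q).range := by
  constructor
  · intro hf
    cases n with
    | zero =>
      refine (AlgHom.mem_range _).mpr ⟨C (f.coeff 0), ?_⟩
      unfold pairingMap
      rw [aeval_C, MvPolynomial.algebraMap_eq]
      exact (eq_C_of_isEmpty f).symm
    | succ r =>
      exact of_padded (r + 1 + 1) (r + 1 + 1)
        (fun f' hf' => core K (r := r) (m := m + (r + 1 + 1)) (q := q + (r + 1 + 1))
          (by omega) (by omega) (by omega) (by omega) f' hf') f hf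
  · rintro ⟨g, rfl⟩ A
    exact gl_pairing A g

end

end Groth.Agent.H85.FFT
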