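import Groth.Agent.H85.FFTChart

/-!
# First fundamental theorem for `GL_n`: padding the matrices by zero rows and columns (helper85)
-/

set_option autoImplicit false
universe u
open W4bk4grassmannian MvPolynomial

namespace Groth.Agent.H85.FFT

noncomputable section

variable {K : Type u} [Field K] {n m q : ℕ}

/-- the inclusion of variables `u_{sk} ↦ u_{sk}`, `ξ_{kj} ↦ ξ_{kj}` into the padded ring -/
def padVar (e e' : ℕ) :
    (Fin m × Fin n) ⊕ (Fin n × Fin q) → (Fin (m + e) × Fin n) ⊕ (Fin n × Fin (q + e'))
  | Sum.inl p => Sum.inl (Fin.castAdd e p.1, p.2)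
  | Sum.inr p => Sum.inr (p.1, Fin.castAdd e' p.2)

/-- pull back along the projection forgetting the extra rows of `U` and the extra columns of `W` -/
def padE (e e' : ℕ) : PairRing K n m q →ₐ[K] PairRing K n (m + e) (q + e') :=
  MvPolynomial.rename (padVar e e')

/-- restrict to pairs whose extra rows and columns are zero -/
def padRes (e e' : ℕ) : PairRing K n (m + e) (q + e') →ₐ[K] PairRing K n m q :=
  MvPolynomial.aeval (Sum.elim
    (fun p : Fin (m + e) × Fin n =>
      (Fin.addCases (fun s : Fin m => (X (Sum.inl (s, p.2)) : PairRing K n m q))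
        (fun _ : Fin e => (0 : PairRing K n m q)) p.1 : PairRing K n m q))
    (fun p : Fin n × Fin (q + e') =>
      (Fin.addCases (fun j : Fin q => (X (Sum.inr (p.1, j)) : PairRing K n m q))
        (fun _ : Fin e' => (0 : PairRing K n m q)) p.2 : PairRing K n m q)))

/-- restrict to matrices whose extra rows and columns are zero -/
def padResZ (e e' : ℕ) :
    MvPolynomial (Fin (m + e) × Fin (q + e')) K →ₐ[K] MvPolynomial (Fin m × Fin q) K :=
  MvPolynomial.aeval (fun p : Fin (m + e) × Fin (q + e') =>
    (Fin.addCases (fun i : Fin m =>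
        (Fin.addCases (fun j : Fin q => (X (i, j) : MvPolynomial (Fin m × Fin q) K))
          (fun _ : Fin e' => (0 : MvPolynomial (Fin m × Fin q) K)) p.2 :
          MvPolynomial (Fin m × Fin q) K))
      (fun _ : Fin e => (0 : MvPolynomial (Fin m × Fin q) K)) p.1 :
      MvPolynomial (Fin m × Fin q) K))

lemma padE_inl (e e' : ℕ) (s : Fin m) (k : Fin n) :
    padE (K := K) (q := q) e e' (X (Sum.inl (s, k))) = X (Sum.inl (Fin.castAdd e s, k)) := by
  unfold padE
  rw [rename_X]
  rfl

lemma padE_inr (e e' : ℕ) (k : Fin n) (j : Fin q) :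
    padE (K := K) (m := m) e e' (X (Sum.inr (k, j))) = X (Sum.inr (k, Fin.castAdd e' j)) := by
  unfold padE
  rw [rename_X]
  rfl

lemma padE_C (e e' : ℕ) (c : K) :
    padE (K := K) (n := n) (m := m) (q := q) e e' (C c) = C c := by
  unfold padE
  rw [rename_C]

lemma padRes_inl_left (e e' : ℕ) (s : Fin m) (k : Fin n) :
    padRes (K := K) (q := q) e e' (X (Sum.inl (Fin.castAdd e s, k))) = X (Sum.inl (s, k)) := by
  unfold padRes
  rw [aeval_X]
  show (Fin.addCases (fun s : Fin m => (X (Sum.inl (s, k)) : PairRing K n m q))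
    (fun _ : Fin e => (0 : PairRing K n m q)) (Fin.castAdd e s) : PairRing K n m q) = _
  rw [Fin.addCases_left]

lemma padRes_inl_right (e e' : ℕ) (s : Fin e) (k : Fin n) :
    padRes (K := K) (m := m) (q := q) e e' (X (Sum.inl (Fin.natAdd m s, k))) = 0 := by
  unfold padRes
  rw [aeval_X]
  show (Fin.addCases (fun s : Fin m => (X (Sum.inl (s, k)) : PairRing K n m q))
    (fun _ : Fin e => (0 : PairRing K n m q)) (Fin.natAdd m s) : PairRing K n m q) = _
  rw [Fin.addCases_right]

lemma padRes_inr_left (e e' : ℕ) (k : Fin n) (j : Fin q) :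
    padRes (K := K) (m := m) e e' (X (Sum.inr (k, Fin.castAdd e' j))) = X (Sum.inr (k, j)) := by
  unfold padRes
  rw [aeval_X]
  show (Fin.addCases (fun j : Fin q => (X (Sum.inr (k, j)) : PairRing K n m q))
    (fun _ : Fin e' => (0 : PairRing K n m q)) (Fin.castAdd e' j) : PairRing K n m q) = _
  rw [Fin.addCases_left]

lemma padRes_inr_right (e e' : ℕ) (k : Fin n) (j : Fin e') :
    padRes (K := K) (m := m) (q := q) e e' (X (Sum.inr (k, Fin.natAdd q j))) = 0 := by
  unfold padRes
  rw [aeval_X]
  show (Fin.addCases (fun j : Fin q => (X (Sum.inr (k, j)) : PairRing K n m q))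
    (fun _ : Fin e' => (0 : PairRing K n m q)) (Fin.natAdd q j) : PairRing K n m q) = _
  rw [Fin.addCases_right]

lemma padResZ_ll (e e' : ℕ) (i : Fin m) (j : Fin q) :
    padResZ (K := K) e e' (X (Fin.castAdd e i, Fin.castAdd e' j)) = X (i, j) := by
  unfold padResZ
  rw [aeval_X]
  show (Fin.addCases (fun i : Fin m =>
        (Fin.addCases (fun j : Fin q => (X (i, j) : MvPolynomial (Fin m × Fin q) K))
          (fun _ : Fin e' => (0 : MvPolynomial (Fin m × Fin q) K)) (Fin.castAdd e' j) :
          MvPolynomial (Fin m × Fin q) K))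
      (fun _ : Fin e => (0 : MvPolynomial (Fin m × Fin q) K)) (Fin.castAdd e i) :
      MvPolynomial (Fin m × Fin q) K) = _
  rw [Fin.addCases_left, Fin.addCases_left]

lemma padResZ_lr (e e' : ℕ) (i : Fin m) (j : Fin e') :
    padResZ (K := K) (q := q) e e' (X (Fin.castAdd e i, Fin.natAdd q j)) = 0 := by
  unfold padResZ
  rw [aeval_X]
  show (Fin.addCases (fun i : Fin m =>
        (Fin.addCases (fun j : Fin q => (X (i, j) : MvPolynomial (Fin m × Fin q) K))
          (fun _ : Fin e' => (0 : MvPolynomial (Fin m × Fin q) K)) (Fin.natAdd q j) :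
          MvPolynomial (Fin m × Fin q) K))
      (fun _ : Fin e => (0 : MvPolynomial (Fin m × Fin q) K)) (Fin.castAdd e i) :
      MvPolynomial (Fin m × Fin q) K) = _
  rw [Fin.addCases_left, Fin.addCases_right]

lemma padResZ_r (e e' : ℕ) (i : Fin e) (j : Fin (q + e')) :
    padResZ (K := K) (m := m) (q := q) e e' (X (Fin.natAdd m i, j)) = 0 := by
  unfold padResZ
  rw [aeval_X]
  show (Fin.addCases (fun i : Fin m =>
        (Fin.addCases (fun j : Fin q => (X (i, j) : MvPolynomial (Fin m × Fin q) K))
          (fun _ : Fin e' => (0 : MvPolynomial (Fin m × Fin q) K)) j :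
          MvPolynomial (Fin m × Fin q) K))
      (fun _ : Fin e => (0 : MvPolynomial (Fin m × Fin q) K)) (Fin.natAdd m i) :
      MvPolynomial (Fin m × Fin q) K) = _
  rw [Fin.addCases_right]

lemma padRes_padE (e e' : ℕ) (f : PairRing K n m q) : padRes e e' (padE e e' f) = f := by
  have h : (padRes (K := K) (n := n) (m := m) (q := q) e e').comp (padE e e') =
      AlgHom.id K (PairRing K n m q) := by
    apply MvPolynomial.algHom_ext
    rintro (⟨s, k⟩ | ⟨k, j⟩)
    · rw [AlgHom.comp_apply, padE_inl, padRes_inl_left, AlgHom.id_apply]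
    · rw [AlgHom.comp_apply, padE_inr, padRes_inr_left, AlgHom.id_apply]
  have h2 := congrArg (fun φ : PairRing K n m q →ₐ[K] PairRing K n m q => φ f) h
  exact h2

lemma glTranslate_inl (A : GL (Fin n) K) (s : Fin m) (k : Fin n) :
    glTranslate K n m q A (X (Sum.inl (s, k))) =
      ∑ l, X (Sum.inl (s, l)) * C (((A⁻¹ : GL (Fin n) K) : Matrix (Fin n) (Fin n) K) l k) := by
  unfold glTranslate
  rw [aeval_X]
  rfl

lemma glTranslate_inr (A : GL (Fin n) K) (k : Fin n) (j : Fin q) :
    glTranslate K n m q A (X (Sum.inr (k, j))) =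
      ∑ l, C ((A : Matrix (Fin n) (Fin n) K) k l) * X (Sum.inr (l, j)) := by
  unfold glTranslate
  rw [aeval_X]
  rfl

lemma padE_gl (e e' : ℕ) (A : GL (Fin n) K) (f : PairRing K n m q) :
    padE e e' (glTranslate K n m q A f) = glTranslate K n (m + e) (q + e') A (padE e e' f) := by
  have h : (padE (K := K) (n := n) (m := m) (q := q) e e').comp (glTranslate K n m q A) =
      (glTranslate K n (m + e) (q + e') A).comp (padE e e') := by
    apply MvPolynomial.algHom_ext
    rintro (⟨s, k⟩ | ⟨k, j⟩)
    · rw [AlgHom.comp_apply, AlgHom.comp_apply, padE_inl, glTranslate_inl, glTranslate_inl,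
        map_sum]
      apply Finset.sum_congr rfl
      intro l _
      rw [map_mul, padE_inl, padE_C]
    · rw [AlgHom.comp_apply, AlgHom.comp_apply, padE_inr, glTranslate_inr, glTranslate_inr,
        map_sum]
      apply Finset.sum_congr rfl
      intro l _
      rw [map_mul, padE_inr, padE_C]
  have h2 := congrArg
    (fun φ : PairRing K n m q →ₐ[K] PairRing K n (m + e) (q + e') => φ f) h
  exact h2

lemma pairingMap_X (i : Fin m) (j : Fin q) :
    pairingMap K n m q (X (i, j)) = ∑ k, X (Sum.inl (i, k)) * X (Sum.inr (k, j)) := by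
  unfold pairingMap
  rw [aeval_X]

lemma padRes_pairing (e e' : ℕ) (g : MvPolynomial (Fin (m + e) × Fin (q + e')) K) :
    padRes e e' (pairingMap K n (m + e) (q + e') g) = pairingMap K n m q (padResZ e e' g) := by
  have h : (padRes (K := K) (n := n) (m := m) (q := q) e e').comp
      (pairingMap K n (m + e) (q + e')) = (pairingMap K n m q).comp (padResZ e e') := by
    apply MvPolynomial.algHom_ext
    rintro ⟨i', j'⟩
    rw [AlgHom.comp_apply, AlgHom.comp_apply, pairingMap_X, map_sum]
    induction i' using Fin.addCases with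
    | left i =>
      induction j' using Fin.addCases with
      | left j =>
        rw [padResZ_ll, pairingMap_X]
        apply Finset.sum_congr rfl
        intro k _
        rw [map_mul, padRes_inl_left, padRes_inr_left]
      | right j =>
        rw [padResZ_lr, map_zero]
        apply Finset.sum_eq_zero
        intro k _
        rw [map_mul, padRes_inr_right, mul_zero]
    | right i =>
      rw [padResZ_r, map_zero]
      apply Finset.sum_eq_zero
      intro k _
      rw [map_mul, padRes_inl_right, zero_mul]
  have h2 := congrArg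
    (fun φ : MvPolynomial (Fin (m + e) × Fin (q + e')) K →ₐ[K] PairRing K n m q => φ g) h
  exact h2

/-- the first fundamental theorem for `(m, q)` follows from the one for `(m + e, q + e')` -/
lemma of_padded (e e' : ℕ)
    (H : ∀ f' : PairRing K n (m + e) (q + e'),
      (∀ A : GL (Fin n) K, glTranslate K n (m + e) (q + e') A f' = f') →
        f' ∈ (pairingMap K n (m + e) (q + e')).range)
    (f : PairRing K n m q) (hf : ∀ A : GL (Fin n) K, glTranslate K n m q A f = f) :
    f ∈ (pairingMap K n m q).range := by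
  have h1 : ∀ A : GL (Fin n) K,
      glTranslate K n (m + e) (q + e') A (padE e e' f) = padE e e' f := by
    intro A
    rw [← padE_gl, hf A]
  obtain ⟨g', hg'⟩ := H (padE e e' f) h1
  refine ⟨padResZ e e' g', ?_⟩
  show pairingMap K n m q (padResZ e e' g') = f
  rw [← padRes_pairing]
  have h3 : pairingMap K n (m + e) (q + e') g' = padE e e' f := hg'
  rw [h3, padRes_padE]

end

end Groth.Agent.H85.FFT
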