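import Mathlib

/-!
# Finite type points: ring-level lemma (Stacks 00FY / 01TA)

If `D` is a domain with fraction field `L` and `K ⊇ L` is a field which is a finitely generated
`D`-algebra, then `K` is finite over `L` and `L = D[1/f]` for some nonzero `f ∈ D`
(so `L` is a finitely generated `D`-algebra).
-/

namespace Groth.Agent.H85.FtPoint

open Polynomial

theorem goldman {D L K : Type*} [CommRing D] [IsDomain D] [Field L] [Field K]
    [Algebra D L] [IsFractionRing D L] [Algebra D K] [Algebra L K] [IsScalarTower D L K]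
    [Algebra.FiniteType D K] :
    Module.Finite L K ∧ ∃ f : D, f ≠ 0 ∧ Algebra.adjoin D {(algebraMap D L f)⁻¹} = ⊤ := by
  haveI : Algebra.FiniteType L K := Algebra.FiniteType.of_restrictScalars_finiteType D L K
  haveI hfin : Module.Finite L K := finite_of_finite_type_of_isJacobsonRing L K
  refine ⟨hfin, ?_⟩
  haveI : Algebra.IsAlgebraic L K := Algebra.IsAlgebraic.of_finite L K
  haveI : Algebra.IsAlgebraic D K :=
    (IsFractionRing.comap_isAlgebraic_iff (A := D) (K := L) (C := K)).mpr inferInstance
  obtain ⟨S, hS⟩ := (Algebra.FiniteType.out : (⊤ : Subalgebra D K).FG)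
  obtain ⟨f, hf0, hfS⟩ := Algebra.IsAlgebraic.exists_integral_multiples D S
  refine ⟨f, hf0, ?_⟩
  have hfL : algebraMap D L f ≠ 0 := by
    rw [Ne, map_eq_zero_iff _ (IsFractionRing.injective D L)]; exact hf0
  have hgB : (algebraMap D L f)⁻¹ ∈ Algebra.adjoin D {(algebraMap D L f)⁻¹} :=
    Algebra.subset_adjoin rfl
  have hint : ∀ x : K, IsIntegral (Algebra.adjoin D {(algebraMap D L f)⁻¹}) x := by
    intro x
    have hx : x ∈ (⊤ : Subalgebra D K) := trivial
    rw [← hS] at hx
    induction hx using Algebra.adjoin_induction with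
    | mem s hs =>
      have h1 : IsIntegral (Algebra.adjoin D {(algebraMap D L f)⁻¹}) (f • s) :=
        (hfS s hs).tower_top
      have h2 : s = (⟨(algebraMap D L f)⁻¹, hgB⟩ : Algebra.adjoin D {(algebraMap D L f)⁻¹})
          • (f • s) := by
        show s = (algebraMap D L f)⁻¹ • (f • s)
        rw [← algebraMap_smul L f s, smul_smul, inv_mul_cancel₀ hfL, one_smul]
      rw [h2]
      exact h1.smul _
    | algebraMap r =>
      rw [IsScalarTower.algebraMap_apply D (Algebra.adjoin D {(algebraMap D L f)⁻¹}) K]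
      exact isIntegral_algebraMap
    | add x y _ _ hx hy => exact hx.add hy
    | mul x y _ _ hx hy => exact hx.mul hy
  haveI : Algebra.IsIntegral (Algebra.adjoin D {(algebraMap D L f)⁻¹}) K := ⟨hint⟩
  have hinj : Function.Injective (algebraMap (Algebra.adjoin D {(algebraMap D L f)⁻¹}) K) := by
    intro x y hxy
    apply Subtype.ext
    apply (algebraMap L K).injective
    exact hxy
  have hBfield : IsField (Algebra.adjoin D {(algebraMap D L f)⁻¹}) :=
    isField_of_isIntegral_of_isField hinj (Field.toIsField K)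
  rw [eq_top_iff]
  rintro x -
  obtain ⟨a, b, hb, rfl⟩ := IsFractionRing.div_surjective (A := D) x
  have hb0 : algebraMap D L b ≠ 0 := by
    rw [Ne, map_eq_zero_iff _ (IsFractionRing.injective D L)]
    exact nonZeroDivisors.ne_zero hb
  -- the inverse of `b` in the field `B`
  have hbB : (⟨algebraMap D L b, Subalgebra.algebraMap_mem _ b⟩ :
      Algebra.adjoin D {(algebraMap D L f)⁻¹}) ≠ 0 := by
    intro h
    exact hb0 (congrArg Subtype.val h)
  obtain ⟨c, hc⟩ := hBfield.mul_inv_cancel hbB
  have hc' : algebraMap D L b * (c : L) = 1 := congrArg Subtype.val hc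
  have hcinv : (c : L) = (algebraMap D L b)⁻¹ := eq_inv_of_mul_eq_one_right hc'
  rw [div_eq_mul_inv, ← hcinv]
  exact Subalgebra.mul_mem _ (Subalgebra.algebraMap_mem _ a) c.2

/-- `L = Frac D` is a finitely generated `D`-algebra when some field `K ⊇ L` is. -/
theorem finiteType_fractionRing {D L K : Type*} [CommRing D] [IsDomain D] [Field L] [Field K]
    [Algebra D L] [IsFractionRing D L] [Algebra D K] [Algebra L K] [IsScalarTower D L K]
    [Algebra.FiniteType D K] : Algebra.FiniteType D L := by
  obtain ⟨-, f, -, hf⟩ := goldman (D := D) (L := L) (K := K)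
  exact ⟨⟨{(algebraMap D L f)⁻¹}, by simpa using hf⟩⟩

/-- Stacks 00FY/01TA form: if `φ : A →+* K` is of finite type with `K` a field, then for some `f`
with `φ f ≠ 0` the induced map `A_f → K` is finite. -/
theorem exists_away_finite {A K : Type*} [CommRing A] [Field K] (φ : A →+* K)
    (hφ : φ.FiniteType) :
    ∃ (f : A) (hf : IsUnit (φ f)),
      (IsLocalization.Away.lift (S := Localization.Away f) f hf :
        Localization.Away f →+* K).Finite := by
  classical
  haveI : (RingHom.ker φ).IsPrime := RingHom.ker_isPrime φ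
  haveI : IsDomain (A ⧸ RingHom.ker φ) := Ideal.Quotient.isDomain _
  have hφ'inj : Function.Injective (RingHom.kerLift φ) := RingHom.kerLift_injective φ
  letI : Algebra (A ⧸ RingHom.ker φ) K := (RingHom.kerLift φ).toAlgebra
  have hinj : Function.Injective (algebraMap (A ⧸ RingHom.ker φ) K) := hφ'inj
  letI : Algebra (FractionRing (A ⧸ RingHom.ker φ)) K :=
    (IsFractionRing.lift (K := FractionRing (A ⧸ RingHom.ker φ)) hinj).toAlgebra
  haveI : IsScalarTower (A ⧸ RingHom.ker φ) (FractionRing (A ⧸ RingHom.ker φ)) K :=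
    IsScalarTower.of_algebraMap_eq (fun x => (IsFractionRing.lift_algebraMap hinj x).symm)
  haveI : Algebra.FiniteType (A ⧸ RingHom.ker φ) K := by
    have h1 : φ = (RingHom.kerLift φ).comp (Ideal.Quotient.mk (RingHom.ker φ)) := by
      ext a; exact (RingHom.kerLift_mk φ a).symm
    have h2 : ((RingHom.kerLift φ).comp (Ideal.Quotient.mk (RingHom.ker φ))).FiniteType := by
      rw [← h1]; exact hφ
    exact RingHom.FiniteType.of_comp_finiteType h2
  obtain ⟨hfin, f', hf'0, hf'⟩ := goldman (D := A ⧸ RingHom.ker φ)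
    (L := FractionRing (A ⧸ RingHom.ker φ)) (K := K)
  obtain ⟨f, rfl⟩ := Ideal.Quotient.mk_surjective f'
  have hfu : IsUnit (φ f) := by
    apply IsUnit.mk0
    intro h0
    exact hf'0 (Ideal.Quotient.eq_zero_iff_mem.mpr (RingHom.mem_ker.mpr h0))
  refine ⟨f, hfu, ?_⟩
  have hfL0 : algebraMap (A ⧸ RingHom.ker φ) (FractionRing (A ⧸ RingHom.ker φ))
      (Ideal.Quotient.mk (RingHom.ker φ) f) ≠ 0 := by
    rw [Ne, map_eq_zero_iff _ (IsFractionRing.injective _ _)]; exact hf'0
  have hfuL : IsUnit (((algebraMap (A ⧸ RingHom.ker φ) (FractionRing (A ⧸ RingHom.ker φ))).comp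
      (Ideal.Quotient.mk (RingHom.ker φ))) f) := IsUnit.mk0 _ hfL0
  have hχψ : (IsLocalization.Away.lift (S := Localization.Away f) f hfu :
        Localization.Away f →+* K) =
      (algebraMap (FractionRing (A ⧸ RingHom.ker φ)) K).comp
        (IsLocalization.Away.lift (S := Localization.Away f) f hfuL) := by
    apply IsLocalization.ringHom_ext (Submonoid.powers f)
    ext a
    rw [RingHom.comp_apply, RingHom.comp_apply, RingHom.comp_apply,
      IsLocalization.Away.lift_eq, IsLocalization.Away.lift_eq, RingHom.comp_apply,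
      ← IsScalarTower.algebraMap_apply]
    exact (RingHom.kerLift_mk φ a).symm
  have hχsurj : Function.Surjective
      (IsLocalization.Away.lift (S := Localization.Away f) f hfuL :
        Localization.Away f →+* FractionRing (A ⧸ RingHom.ker φ)) := by
    intro x
    have hx : x ∈ Algebra.adjoin (A ⧸ RingHom.ker φ)
        {(algebraMap (A ⧸ RingHom.ker φ) (FractionRing (A ⧸ RingHom.ker φ))
          (Ideal.Quotient.mk (RingHom.ker φ) f))⁻¹} := by rw [hf']; trivial
    induction hx using Algebra.adjoin_induction with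
    | mem y hy =>
      rw [Set.mem_singleton_iff] at hy
      refine ⟨IsLocalization.Away.invSelf f, ?_⟩
      rw [hy]
      apply eq_inv_of_mul_eq_one_right
      have h1 := congrArg (IsLocalization.Away.lift (S := Localization.Away f) f hfuL)
        (IsLocalization.Away.mul_invSelf (S := Localization.Away f) f)
      rw [map_mul, map_one, IsLocalization.Away.lift_eq] at h1
      exact h1
    | algebraMap r =>
      obtain ⟨a, rfl⟩ := Ideal.Quotient.mk_surjective r
      exact ⟨algebraMap A (Localization.Away f) a, IsLocalization.Away.lift_eq f hfuL a⟩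
    | add x y _ _ hx hy =>
      obtain ⟨x', rfl⟩ := hx
      obtain ⟨y', rfl⟩ := hy
      exact ⟨x' + y', map_add _ _ _⟩
    | mul x y _ _ hx hy =>
      obtain ⟨x', rfl⟩ := hx
      obtain ⟨y', rfl⟩ := hy
      exact ⟨x' * y', map_mul _ _ _⟩
  rw [hχψ]
  exact RingHom.Finite.comp (RingHom.finite_algebraMap.mpr hfin)
    (RingHom.Finite.of_surjective _ hχsurj)

end Groth.Agent.H85.FtPoint
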