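import Mathlib

/-!
# Idempotents of `L ⊗[k] A` for a finite Galois extension `L/k` (helper85)

`exists_intermediateField_algHom`: if `A` is a `k`-algebra with only trivial idempotents and
`L ⊗[k] A` has a nontrivial idempotent (`L/k` finite Galois), then some intermediate field
`F ≠ k` of `L/k` admits a `k`-algebra homomorphism `F → A`.

Ingredients: Galois descent of invariants (`exists_of_fixed`), an "atom" among the products of
Galois translates of an idempotent (`exists_atom`), and the orbit sum over `G ⧸ Stab`.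
-/

set_option autoImplicit false

open scoped TensorProduct

namespace Groth.Agent.H85.GalIdem

universe u v w

variable {k : Type u} {L : Type v} {A : Type w} [Field k] [Field L] [Algebra k L] [CommRing A]
  [Algebra k A]

/-- the action of the Galois group on `L ⊗[k] A` through the first factor -/
noncomputable def act (σ : L ≃ₐ[k] L) : L ⊗[k] A →ₐ[k] L ⊗[k] A :=
  Algebra.TensorProduct.map (σ : L →ₐ[k] L) (AlgHom.id k A)

noncomputable def inl : L →ₐ[k] L ⊗[k] A := Algebra.TensorProduct.includeLeft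

noncomputable def inr : A →ₐ[k] L ⊗[k] A := Algebra.TensorProduct.includeRight

@[simp] theorem act_tmul (σ : L ≃ₐ[k] L) (l : L) (a : A) :
    act σ (l ⊗ₜ[k] a) = σ l ⊗ₜ[k] a := by
  simp [act]

theorem act_inl (σ : L ≃ₐ[k] L) (l : L) : act σ (inl (A := A) l) = inl (σ l) := by
  show act σ (l ⊗ₜ[k] (1 : A)) = σ l ⊗ₜ[k] (1 : A)
  exact act_tmul σ l 1

theorem act_inr (σ : L ≃ₐ[k] L) (a : A) : act σ (inr (L := L) a) = inr a := by
  show act σ ((1 : L) ⊗ₜ[k] a) = (1 : L) ⊗ₜ[k] a
  rw [act_tmul, map_one]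

theorem act_mul (σ τ : L ≃ₐ[k] L) (p : L ⊗[k] A) : act (σ * τ) p = act σ (act τ p) := by
  induction p using TensorProduct.induction_on with
  | zero => simp
  | tmul l a => simp [AlgEquiv.mul_apply]
  | add x y hx hy => rw [map_add, map_add, map_add, hx, hy]

theorem act_one (p : L ⊗[k] A) : act (1 : L ≃ₐ[k] L) p = p := by
  induction p using TensorProduct.induction_on with
  | zero => simp
  | tmul l a => simp
  | add x y hx hy => rw [map_add, hx, hy]

theorem act_inv_act (σ : L ≃ₐ[k] L) (p : L ⊗[k] A) : act σ⁻¹ (act σ p) = p := by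
  rw [← act_mul, inv_mul_cancel, act_one]

theorem inr_injective : Function.Injective (inr : A → L ⊗[k] A) :=
  Algebra.TensorProduct.includeRight_injective (algebraMap k L).injective

/-- Galois descent of invariants. -/
theorem exists_of_fixed [FiniteDimensional k L] [IsGalois k L] (p : L ⊗[k] A)
    (hp : ∀ σ : L ≃ₐ[k] L, act σ p = p) : ∃ a : A, p = inr a := by
  classical
  let b := Module.Free.chooseBasis k A
  let B := Algebra.TensorProduct.basis L b
  have hrepr : ∀ (σ : L ≃ₐ[k] L) (q : L ⊗[k] A) i, B.repr (act σ q) i = σ (B.repr q i) := by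
    intro σ q i
    induction q using TensorProduct.induction_on with
    | zero => simp
    | tmul l a =>
      rw [act_tmul]
      simp only [B, Algebra.TensorProduct.basis_repr_tmul, Finsupp.smul_apply,
        Finsupp.mapRange_apply, smul_eq_mul, map_mul, AlgEquiv.commutes]
    | add x y hx hy => simp only [map_add, Finsupp.add_apply, hx, hy]
  have hfix : ∀ i, B.repr p i ∈ (⊥ : IntermediateField k L) := by
    intro i
    rw [IsGalois.mem_bot_iff_fixed]
    intro σ
    rw [← hrepr σ p i, hp σ]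
  have hd : ∀ i, ∃ d : k, algebraMap k L d = B.repr p i :=
    fun i => IntermediateField.mem_bot.mp (hfix i)
  choose d hd using hd
  refine ⟨∑ i ∈ (B.repr p).support, d i • b i, ?_⟩
  conv_lhs => rw [← B.linearCombination_repr p]
  rw [Finsupp.linearCombination_apply, Finsupp.sum, map_sum]
  refine Finset.sum_congr rfl (fun i _ => ?_)
  rw [← hd i, Algebra.TensorProduct.basis_apply, map_smul, algebraMap_smul]
  rfl

section Atom

variable [FiniteDimensional k L]

/-- an "atom" among products of Galois translates of a nonzero idempotent -/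
theorem exists_atom (e : L ⊗[k] A) (he : IsIdempotentElem e) (h0 : e ≠ 0) :
    ∃ ε : L ⊗[k] A, IsIdempotentElem ε ∧ ε ≠ 0 ∧ (∃ σ₀ : L ≃ₐ[k] L, ε * act σ₀ e = ε) ∧
      ∀ τ : L ≃ₐ[k] L, act τ ε = ε ∨ act τ ε * ε = 0 := by
  classical
  have idem : ∀ σ : L ≃ₐ[k] L, IsIdempotentElem (act σ e) := fun σ => he.map (act σ)
  have p_idem : ∀ S : Finset (L ≃ₐ[k] L), IsIdempotentElem (∏ σ ∈ S, act σ e) := by
    intro S
    exact Finset.prod_induction _ IsIdempotentElem (fun a b ha hb => ha.mul hb)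
      IsIdempotentElem.one (fun σ _ => idem σ)
  have absorb : ∀ (S : Finset (L ≃ₐ[k] L)) (σ : L ≃ₐ[k] L), σ ∈ S →
      act σ e * ∏ x ∈ S, act x e = ∏ x ∈ S, act x e := by
    intro S σ hσ
    rw [← Finset.mul_prod_erase S _ hσ, ← mul_assoc, (idem σ).eq]
  have union : ∀ S T : Finset (L ≃ₐ[k] L),
      (∏ x ∈ S, act x e) * (∏ x ∈ T, act x e) = ∏ x ∈ S ∪ T, act x e := by
    intro S T
    induction T using Finset.induction_on with
    | empty => simp
    | insert t T ht ih =>
      rw [Finset.prod_insert ht, mul_left_comm, ih]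
      by_cases hts : t ∈ S ∪ T
      · rw [Finset.union_insert, Finset.insert_eq_of_mem hts, absorb _ _ hts]
      · rw [Finset.union_insert, Finset.prod_insert hts]
  have translate : ∀ (τ : L ≃ₐ[k] L) (S : Finset (L ≃ₐ[k] L)),
      act τ (∏ x ∈ S, act x e) = ∏ x ∈ S.image (fun x => τ * x), act x e := by
    intro τ S
    rw [map_prod, Finset.prod_image (fun x _ y _ h => mul_left_cancel h)]
    exact Finset.prod_congr rfl (fun σ _ => (act_mul τ σ e).symm)
  have hne : (Finset.univ.filter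
      (fun S : Finset (L ≃ₐ[k] L) => ∏ σ ∈ S, act σ e ≠ 0)).Nonempty := by
    refine ⟨{1}, ?_⟩
    rw [Finset.mem_filter]
    refine ⟨Finset.mem_univ _, ?_⟩
    rw [Finset.prod_singleton, act_one]
    exact h0
  obtain ⟨S, hS, hmax⟩ := Finset.exists_max_image _ Finset.card hne
  rw [Finset.mem_filter] at hS
  have hScard : 1 ≤ S.card := by
    have h1 : ({1} : Finset (L ≃ₐ[k] L)) ∈ Finset.univ.filter
        (fun S : Finset (L ≃ₐ[k] L) => ∏ σ ∈ S, act σ e ≠ 0) := by
      rw [Finset.mem_filter]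
      refine ⟨Finset.mem_univ _, ?_⟩
      rw [Finset.prod_singleton, act_one]
      exact h0
    have := hmax _ h1
    rwa [Finset.card_singleton] at this
  obtain ⟨σ₀, hσ₀⟩ : S.Nonempty := Finset.card_pos.mp hScard
  refine ⟨∏ σ ∈ S, act σ e, p_idem S, hS.2, ⟨σ₀, ?_⟩, ?_⟩
  · rw [mul_comm, absorb S σ₀ hσ₀]
  · intro τ
    have hcard : (S.image (fun x => τ * x)).card = S.card :=
      Finset.card_image_of_injective _ (mul_right_injective τ)
    rw [translate, union]
    by_cases hz : ∏ x ∈ S.image (fun x => τ * x) ∪ S, act x e = 0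
    · right; exact hz
    · left
      have hmem : (S.image (fun x => τ * x) ∪ S) ∈ Finset.univ.filter
          (fun S : Finset (L ≃ₐ[k] L) => ∏ σ ∈ S, act σ e ≠ 0) := by
        rw [Finset.mem_filter]
        exact ⟨Finset.mem_univ _, hz⟩
      have hle := hmax _ hmem
      have hSeq : S = S.image (fun x => τ * x) ∪ S :=
        Finset.eq_of_subset_of_card_le Finset.subset_union_right hle
      have hTS : S.image (fun x => τ * x) ⊆ S := by
        intro x hx
        rw [hSeq]
        exact Finset.mem_union_left _ hx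
      have hTeq : S.image (fun x => τ * x) = S :=
        Finset.eq_of_subset_of_card_le hTS (le_of_eq hcard.symm)
      rw [hTeq]

end Atom

/-- the stabilizer of an element of `L ⊗[k] A` -/
noncomputable def stab (ε : L ⊗[k] A) : Subgroup (L ≃ₐ[k] L) where
  carrier := {τ | act τ ε = ε}
  mul_mem' := fun {a b} ha hb => by
    have ha' : act a ε = ε := ha
    have hb' : act b ε = ε := hb
    show act (a * b) ε = ε
    rw [act_mul, hb', ha']
  one_mem' := act_one ε
  inv_mem' := fun {a} ha => by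
    have ha' : act a ε = ε := ha
    show act a⁻¹ ε = ε
    have h := act_inv_act a ε
    rwa [ha'] at h

theorem mem_stab {ε : L ⊗[k] A} {τ : L ≃ₐ[k] L} : τ ∈ stab ε ↔ act τ ε = ε := Iff.rfl

/-- the translate of `f ε` by a coset of the stabilizer of `ε` (`f` fixed by the stabilizer) -/
noncomputable def Psi (ε : L ⊗[k] A) (f : IntermediateField.fixedField (stab ε))
    (q : (L ≃ₐ[k] L) ⧸ stab ε) : L ⊗[k] A :=
  Quotient.liftOn' q (fun τ => act τ (inl (f : L) * ε)) (by
    intro a b hab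
    have hh : a⁻¹ * b ∈ stab ε := QuotientGroup.leftRel_apply.mp hab
    have e1 : act b (inl (f : L) * ε) = act a (act (a⁻¹ * b) (inl (f : L) * ε)) := by
      rw [← act_mul, mul_inv_cancel_left]
    show act a (inl (f : L) * ε) = act b (inl (f : L) * ε)
    rw [e1, map_mul (act (a⁻¹ * b)), act_inl,
      (IntermediateField.mem_fixedField_iff _ _).mp f.2 _ hh, mem_stab.mp hh])

theorem Psi_mk (ε : L ⊗[k] A) (f : IntermediateField.fixedField (stab ε)) (τ : L ≃ₐ[k] L) :
    Psi ε f (QuotientGroup.mk τ) = act τ (inl (f : L) * ε) := rfl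

theorem act_Psi (ε : L ⊗[k] A) (f : IntermediateField.fixedField (stab ε)) (ρ : L ≃ₐ[k] L)
    (q : (L ≃ₐ[k] L) ⧸ stab ε) : act ρ (Psi ε f q) = Psi ε f (ρ • q) := by
  refine QuotientGroup.induction_on q (fun τ => ?_)
  rw [MulAction.Quotient.smul_mk, Psi_mk, Psi_mk, smul_eq_mul, act_mul]

theorem Psi_add (ε : L ⊗[k] A) (f f' : IntermediateField.fixedField (stab ε))
    (q : (L ≃ₐ[k] L) ⧸ stab ε) : Psi ε (f + f') q = Psi ε f q + Psi ε f' q := by
  refine QuotientGroup.induction_on q (fun τ => ?_)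
  rw [Psi_mk, Psi_mk, Psi_mk, ← map_add]
  congr 1
  rw [show ((f + f' : IntermediateField.fixedField (stab ε)) : L) = (f : L) + (f' : L) from rfl,
    map_add, add_mul]

theorem Psi_zero (ε : L ⊗[k] A) (q : (L ≃ₐ[k] L) ⧸ stab ε) :
    Psi ε (0 : IntermediateField.fixedField (stab ε)) q = 0 := by
  refine QuotientGroup.induction_on q (fun τ => ?_)
  rw [Psi_mk, show ((0 : IntermediateField.fixedField (stab ε)) : L) = 0 from rfl, map_zero,
    zero_mul, map_zero]

theorem Psi_smul (ε : L ⊗[k] A) (c : k) (f : IntermediateField.fixedField (stab ε))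
    (q : (L ≃ₐ[k] L) ⧸ stab ε) : Psi ε (c • f) q = c • Psi ε f q := by
  refine QuotientGroup.induction_on q (fun τ => ?_)
  rw [Psi_mk, Psi_mk, show ((c • f : IntermediateField.fixedField (stab ε)) : L) = c • (f : L)
    from rfl, map_smul, smul_mul_assoc, map_smul]

theorem Psi_mul_Psi (ε : L ⊗[k] A) (hε : IsIdempotentElem ε)
    (horth : ∀ τ : L ≃ₐ[k] L, act τ ε = ε ∨ act τ ε * ε = 0)
    [DecidableEq ((L ≃ₐ[k] L) ⧸ stab ε)]
    (f f' : IntermediateField.fixedField (stab ε)) (q q' : (L ≃ₐ[k] L) ⧸ stab ε) :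
    Psi ε f q * Psi ε f' q' = if q = q' then Psi ε (f * f') q else 0 := by
  refine QuotientGroup.induction_on q (fun τ => ?_)
  refine QuotientGroup.induction_on q' (fun τ' => ?_)
  by_cases h : (QuotientGroup.mk τ : (L ≃ₐ[k] L) ⧸ stab ε) = QuotientGroup.mk τ'
  · rw [if_pos h, ← h, Psi_mk, Psi_mk, Psi_mk, ← map_mul]
    congr 1
    rw [show ((f * f' : IntermediateField.fixedField (stab ε)) : L) = (f : L) * (f' : L) from rfl,
      map_mul]
    calc inl (f : L) * ε * (inl (f' : L) * ε) = inl (f : L) * inl (f' : L) * (ε * ε) := by ring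
      _ = inl (f : L) * inl (f' : L) * ε := by rw [hε.eq]
  · rw [if_neg h, Psi_mk, Psi_mk]
    have hn : ¬ act (τ⁻¹ * τ') ε = ε := fun hh => h (QuotientGroup.eq.mpr (mem_stab.mpr hh))
    have h0 : act (τ⁻¹ * τ') ε * ε = 0 := (horth _).resolve_left hn
    have e1 : act τ' (inl (f' : L) * ε) = act τ (act (τ⁻¹ * τ') (inl (f' : L) * ε)) := by
      rw [← act_mul, mul_inv_cancel_left]
    rw [e1, ← map_mul, map_mul (act (τ⁻¹ * τ')), act_inl]
    have e2 : inl (f : L) * ε * (inl ((τ⁻¹ * τ') (f' : L)) * act (τ⁻¹ * τ') ε) =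
        inl (f : L) * inl ((τ⁻¹ * τ') (f' : L)) * (act (τ⁻¹ * τ') ε * ε) := by ring
    rw [e2, h0, mul_zero, map_zero]

/-- **Main algebraic theorem.** -/
theorem exists_intermediateField_algHom [FiniteDimensional k L] [IsGalois k L]
    (hA : ∀ a : A, IsIdempotentElem a → a = 0 ∨ a = 1)
    (e : L ⊗[k] A) (he : IsIdempotentElem e) (h0 : e ≠ 0) (h1 : e ≠ 1) :
    ∃ F : IntermediateField k L, F ≠ ⊥ ∧ Nonempty (F →ₐ[k] A) := by
  classical
  obtain ⟨ε, hε, hε0, ⟨σ₀, hσ₀⟩, horth⟩ := exists_atom e he h0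
  letI : Fintype ((L ≃ₐ[k] L) ⧸ stab ε) := Fintype.ofFinite _
  -- idempotent invariants are trivial
  have hinv01 : ∀ p : L ⊗[k] A, IsIdempotentElem p → (∀ σ, act σ p = p) → p = 0 ∨ p = 1 := by
    intro p hp hfix
    obtain ⟨a, rfl⟩ := exists_of_fixed p hfix
    have ha : IsIdempotentElem a := by
      show a * a = a
      apply inr_injective (L := L) (k := k)
      rw [map_mul]
      exact hp
    rcases hA a ha with rfl | rfl
    · left; exact map_zero _
    · right; exact map_one _
  have hHtop : stab ε ≠ ⊤ := by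
    intro htop
    have hfix : ∀ σ, act σ ε = ε := fun σ => by
      have : σ ∈ stab ε := by rw [htop]; exact Subgroup.mem_top σ
      exact this
    rcases hinv01 ε hε hfix with h | h
    · exact hε0 h
    · rw [h, one_mul] at hσ₀
      apply h1
      have h2 := act_inv_act σ₀ e
      rw [hσ₀, map_one] at h2
      exact h2.symm
  have hFbot : IntermediateField.fixedField (stab ε) ≠ ⊥ := by
    intro hF
    apply hHtop
    have h2 := IntermediateField.fixingSubgroup_fixedField (stab ε)
    rw [hF, IntermediateField.fixingSubgroup_bot] at h2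
    exact h2.symm
  -- the orbit sum
  have hΦmul : ∀ f f' : IntermediateField.fixedField (stab ε),
      ∑ q : (L ≃ₐ[k] L) ⧸ stab ε, Psi ε (f * f') q =
        (∑ q : (L ≃ₐ[k] L) ⧸ stab ε, Psi ε f q) * ∑ q : (L ≃ₐ[k] L) ⧸ stab ε, Psi ε f' q := by
    intro f f'
    rw [Finset.sum_mul_sum]
    refine Finset.sum_congr rfl (fun q _ => ?_)
    rw [Finset.sum_congr rfl (fun q' _ => Psi_mul_Psi ε hε horth f f' q q'), Finset.sum_ite_eq,
      if_pos (Finset.mem_univ q)]
  have hΦadd : ∀ f f' : IntermediateField.fixedField (stab ε),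
      ∑ q : (L ≃ₐ[k] L) ⧸ stab ε, Psi ε (f + f') q =
        (∑ q : (L ≃ₐ[k] L) ⧸ stab ε, Psi ε f q) + ∑ q : (L ≃ₐ[k] L) ⧸ stab ε, Psi ε f' q := by
    intro f f'
    rw [← Finset.sum_add_distrib]
    exact Finset.sum_congr rfl (fun q _ => Psi_add ε f f' q)
  have hΦ0 : ∑ q : (L ≃ₐ[k] L) ⧸ stab ε, Psi ε 0 q = 0 :=
    Finset.sum_eq_zero (fun q _ => Psi_zero ε q)
  have hΦinv : ∀ (ρ : L ≃ₐ[k] L) (f : IntermediateField.fixedField (stab ε)),
      act ρ (∑ q : (L ≃ₐ[k] L) ⧸ stab ε, Psi ε f q) =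
        ∑ q : (L ≃ₐ[k] L) ⧸ stab ε, Psi ε f q := by
    intro ρ f
    rw [map_sum]
    rw [Finset.sum_congr rfl (fun q _ => act_Psi ε f ρ q)]
    exact Fintype.sum_equiv (MulAction.toPerm ρ) _ _ (fun q => rfl)
  have hε1 : Psi ε (1 : IntermediateField.fixedField (stab ε)) (QuotientGroup.mk 1) = ε := by
    rw [Psi_mk, act_one,
      show ((1 : IntermediateField.fixedField (stab ε)) : L) = 1 from rfl, map_one, one_mul]
  have hΦ1 : ∑ q : (L ≃ₐ[k] L) ⧸ stab ε, Psi ε 1 q = 1 := by
    have hidem : IsIdempotentElem (∑ q : (L ≃ₐ[k] L) ⧸ stab ε, Psi ε 1 q) := by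
      show _ * _ = _
      rw [← hΦmul, mul_one]
    have hterm : ∀ q : (L ≃ₐ[k] L) ⧸ stab ε,
        Psi ε 1 q * ε = if q = QuotientGroup.mk 1 then ε else 0 := by
      intro q
      have h3 := Psi_mul_Psi ε hε horth 1 1 q (QuotientGroup.mk 1)
      rw [hε1] at h3
      rw [h3]
      split_ifs with h
      · rw [h, mul_one, hε1]
      · rfl
    have hsε : (∑ q : (L ≃ₐ[k] L) ⧸ stab ε, Psi ε 1 q) * ε = ε := by
      rw [Finset.sum_mul, Finset.sum_congr rfl (fun q _ => hterm q), Finset.sum_ite_eq',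
        if_pos (Finset.mem_univ _)]
    rcases hinv01 _ hidem (fun σ => hΦinv σ 1) with h | h
    · rw [h, zero_mul] at hsε
      exact absurd hsε.symm hε0
    · exact h
  have hΦc : ∀ c : k, ∑ q : (L ≃ₐ[k] L) ⧸ stab ε,
      Psi ε (algebraMap k (IntermediateField.fixedField (stab ε)) c) q =
        algebraMap k (L ⊗[k] A) c := by
    intro c
    rw [Algebra.algebraMap_eq_smul_one, Finset.sum_congr rfl (fun q _ => Psi_smul ε c 1 q),
      ← Finset.smul_sum, hΦ1, Algebra.algebraMap_eq_smul_one]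
  let ΦA : IntermediateField.fixedField (stab ε) →ₐ[k] L ⊗[k] A :=
    { toFun := fun f => ∑ q : (L ≃ₐ[k] L) ⧸ stab ε, Psi ε f q
      map_one' := hΦ1
      map_mul' := hΦmul
      map_zero' := hΦ0
      map_add' := hΦadd
      commutes' := hΦc }
  have hrange : ∀ f, ΦA f ∈ (inr : A →ₐ[k] L ⊗[k] A).range := by
    intro f
    obtain ⟨a, ha⟩ := exists_of_fixed (ΦA f) (fun σ => hΦinv σ f)
    exact (AlgHom.mem_range _).mpr ⟨a, ha.symm⟩
  exact ⟨IntermediateField.fixedField (stab ε), hFbot,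
    ⟨((AlgEquiv.ofInjective (inr : A →ₐ[k] L ⊗[k] A) inr_injective).symm : _ →ₐ[k] A).comp
      (ΦA.codRestrict _ hrange)⟩⟩

end Groth.Agent.H85.GalIdem
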