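import Mathlib
import Groth.Agent.S17746

/-!
# Factorization through `Spec F` when the Galois base change is disconnected (helper85)

Version of `Groth.Agent.S17746.exists_factorization` for an arbitrary finite Galois extension `L/k`
(not presented as an intermediate field of a bigger field).
-/

set_option autoImplicit false
universe u
open CategoryTheory AlgebraicGeometry CategoryTheory.Limits TensorProduct

namespace Groth.Agent.H85.GalFactor

open Groth.Agent.S17746

theorem exists_factorization_field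
    (k : Type u) [Field k] (L : Type u) [Field L] [Algebra k L] [FiniteDimensional k L]
    [IsGalois k L]
    (X : Scheme.{u}) [X.Over (Spec (CommRingCat.of k))]
    [QuasiSeparated (X ↘ Spec (CommRingCat.of k))]
    [QuasiCompact (X ↘ Spec (CommRingCat.of k))]
    [ConnectedSpace X] (hdisc : ¬ ConnectedSpace ↥(Curv2.bc k X L)) :
    ∃ (F : IntermediateField k L) (_ : F ≠ ⊥) (g : X ⟶ Spec (CommRingCat.of F)),
      g ≫ Spec.map (CommRingCat.ofHom (algebraMap k F)) = X ↘ Spec (CommRingCat.of k) := by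
  classical
  obtain ⟨f0, hf0⟩ : ∃ f0 : X ⟶ Spec (CommRingCat.of k), f0 = X ↘ Spec (CommRingCat.of k) :=
    ⟨_, rfl⟩
  obtain ⟨jm, hjm⟩ : ∃ jm : Spec (CommRingCat.of L) ⟶ Spec (CommRingCat.of k),
      jm = Spec.map (CommRingCat.ofHom (algebraMap k L)) := ⟨_, rfl⟩
  have : QuasiSeparated f0 := hf0 ▸ inferInstance
  have : QuasiCompact f0 := hf0 ▸ inferInstance
  have : CompactSpace X := QuasiCompact.compactSpace_of_compactSpace f0
  have : QuasiSeparatedSpace X := quasiSeparatedSpace_of_quasiSeparated f0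
  have : Flat jm := by
    rw [hjm]
    exact Flat.SpecMap_iff.mpr (RingHom.Flat.of_isField (Field.toIsField k) _)
  have hdisc' : ¬ ConnectedSpace ↥(pullback f0 jm) := by
    rw [hf0, hjm]; exact hdisc
  have : Subsingleton ↥(Spec (CommRingCat.of k)) :=
    inferInstanceAs (Subsingleton (PrimeSpectrum k))
  have : Nonempty ↥(Spec (CommRingCat.of L)) :=
    inferInstanceAs (Nonempty (PrimeSpectrum L))
  have : Nonempty ↥(pullback f0 jm) := by
    obtain ⟨x⟩ : Nonempty X := inferInstance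
    obtain ⟨y⟩ : Nonempty ↥(Spec (CommRingCat.of L)) := inferInstance
    obtain ⟨z, -, -⟩ := Scheme.Pullback.exists_preimage_pullback (f := f0) (g := jm) x y
      (Subsingleton.elim _ _)
    exact ⟨z⟩
  obtain ⟨ε, hε, hε0, hε1⟩ := exists_idem_of_not_connected _ hdisc'
  have hpo := isPushout_appTop_of_flat (IsPullback.of_hasPullback f0 jm)
  have hpo2 : IsPushout ((Scheme.ΓSpecIso (CommRingCat.of k)).inv ≫ f0.appTop)
      (CommRingCat.ofHom (algebraMap k L)) (pullback.fst f0 jm).appTop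
      ((Scheme.ΓSpecIso (CommRingCat.of L)).inv ≫ (pullback.snd f0 jm).appTop) := by
    refine hpo.of_iso (Scheme.ΓSpecIso (CommRingCat.of k)) (Iso.refl _)
      (Scheme.ΓSpecIso (CommRingCat.of L)) (Iso.refl _) ?_ ?_ ?_ ?_
    · simp
    · rw [hjm]; exact Scheme.ΓSpecIso_naturality _
    · simp
    · simp
  let algA : Algebra k Γ(X, ⊤) :=
    ((Scheme.ΓSpecIso (CommRingCat.of k)).inv ≫ f0.appTop).hom.toAlgebra
  have hpo3 := CommRingCat.isPushout_tensorProduct k Γ(X, ⊤) L
  have hpo2' : IsPushout (CommRingCat.ofHom (algebraMap k Γ(X, ⊤)))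
      (CommRingCat.ofHom (algebraMap k L)) (pullback.fst f0 jm).appTop
      ((Scheme.ΓSpecIso (CommRingCat.of L)).inv ≫ (pullback.snd f0 jm).appTop) := hpo2
  let θ : Γ(X, ⊤) ⊗[k] L ≃+* Γ(pullback f0 jm, ⊤) :=
    (hpo3.isoIsPushout _ _ hpo2').commRingCatIsoToRingEquiv
  let θ' : L ⊗[k] Γ(X, ⊤) ≃+* Γ(pullback f0 jm, ⊤) :=
    (Algebra.TensorProduct.comm k L Γ(X, ⊤)).toRingEquiv.trans θ
  have he : IsIdempotentElem (θ'.symm ε) := hε.map θ'.symm
  have he0 : θ'.symm ε ≠ 0 := fun h => hε0 (by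
    have := congrArg θ' h
    rwa [RingEquiv.apply_symm_apply, map_zero] at this)
  have he1 : θ'.symm ε ≠ 1 := fun h => hε1 (by
    have := congrArg θ' h
    rwa [RingEquiv.apply_symm_apply, map_one] at this)
  obtain ⟨F, hF, ⟨φ⟩⟩ := Groth.Agent.H85.GalIdem.exists_intermediateField_algHom
    (k := k) (L := L) (A := Γ(X, ⊤)) (idem_trivial_of_connected X) (θ'.symm ε) he he0 he1
  refine ⟨F, hF, X.toSpecΓ ≫ Spec.map (CommRingCat.ofHom φ.toRingHom), ?_⟩
  rw [Category.assoc, ← Spec.map_comp, ← hf0]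
  have h1 : CommRingCat.ofHom (algebraMap k F) ≫ CommRingCat.ofHom φ.toRingHom =
      (Scheme.ΓSpecIso (CommRingCat.of k)).inv ≫ f0.appTop := by
    ext c
    show φ (algebraMap k F c) = algebraMap k Γ(X, ⊤) c
    exact φ.commutes c
  rw [h1, Spec.map_comp, ← Scheme.toSpecΓ_naturality_assoc, toSpecΓ_SpecMap_ΓSpecIso_inv,
    Category.comp_id]

end Groth.Agent.H85.GalFactor
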