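import Mathlib

/-!
# Restricting a proper flat family of closed subschemes to opens (HO1)
-/

set_option autoImplicit false
universe u
open CategoryTheory CategoryTheory.Limits AlgebraicGeometry

namespace Groth.Agent.H85.HilbOpen1

/-- (HO1) restricting a proper flat family of closed subschemes to opens. -/
theorem hilb_restrict {P P' H H' : Scheme.{u}} (I : P.IdealSheafData) (q : P ⟶ H)
    (m : P' ⟶ P) [IsOpenImmersion m] (q' : P' ⟶ H') (ι : H' ⟶ H) [IsOpenImmersion ι]
    (hsq : m ≫ q = q' ≫ ι)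
    (hrange : ∀ z : I.subscheme,
      (I.subschemeι ≫ q) z ∈ Set.range ι → I.subschemeι z ∈ Set.range m)
    (hp : IsProper (I.subschemeι ≫ q)) (hf : Flat (I.subschemeι ≫ q)) :
    IsProper ((I.comap m).subschemeι ≫ q') ∧ Flat ((I.comap m).subschemeι ≫ q') := by
  -- reduce to the fibre product
  have h0 : (I.comap m).subschemeι ≫ q' =
      (I.comapIso m).hom ≫ (pullback.fst m I.subschemeι ≫ q') := by
    rw [← Category.assoc, Scheme.IdealSheafData.comapIso_hom_fst]
  -- the open of `I.subscheme` lying over `range ι`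
  have hrg : Set.range ⇑(pullback.snd m I.subschemeι) =
      Set.range ⇑((I.subschemeι ≫ q) ⁻¹ᵁ ι.opensRange).ι := by
    rw [Scheme.Pullback.range_snd, Scheme.Opens.range_ι]
    ext z
    constructor
    · rintro ⟨x, hx⟩
      show (I.subschemeι ≫ q) z ∈ Set.range ⇑ι
      rw [Scheme.Hom.comp_apply, ← hx, ← Scheme.Hom.comp_apply, hsq, Scheme.Hom.comp_apply]
      exact ⟨_, rfl⟩
    · intro hz
      exact hrange z hz
  have hfac := IsOpenImmersion.isoOfRangeEq_hom_fac (pullback.snd m I.subschemeι)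
    ((I.subschemeι ≫ q) ⁻¹ᵁ ι.opensRange).ι hrg
  have h1 : (pullback.fst m I.subschemeι ≫ q') ≫ ι.isoOpensRange.hom =
      (IsOpenImmersion.isoOfRangeEq (pullback.snd m I.subschemeι)
        ((I.subschemeι ≫ q) ⁻¹ᵁ ι.opensRange).ι hrg).hom ≫
        ((I.subschemeι ≫ q) ∣_ ι.opensRange) := by
    rw [← cancel_mono ι.opensRange.ι]
    simp only [Category.assoc]
    rw [Scheme.Hom.isoOpensRange_hom_ι, morphismRestrict_ι, ← Category.assoc _ _ (I.subschemeι ≫ q),
      hfac, ← hsq, ← Category.assoc, pullback.condition, Category.assoc]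
  have h2 : pullback.fst m I.subschemeι ≫ q' =
      (IsOpenImmersion.isoOfRangeEq (pullback.snd m I.subschemeι)
        ((I.subschemeι ≫ q) ⁻¹ᵁ ι.opensRange).ι hrg).hom ≫
        ((I.subschemeι ≫ q) ∣_ ι.opensRange) ≫ ι.isoOpensRange.inv := by
    rw [← Category.assoc, ← h1, Category.assoc, Iso.hom_inv_id, Category.comp_id]
  rw [h0, h2]
  exact ⟨inferInstance, inferInstance⟩

end Groth.Agent.H85.HilbOpen1
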