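import Groth.Prelude.Def_Isoc

set_option autoImplicit false
set_option linter.unusedSectionVars false

open scoped Pointwise Isocrystal
open Isoc

universe u v

namespace Groth.Agent.H85

section Basic

variable {p : ℕ} [Fact p.Prime] {k : Type u} [Field k] [CharP k p]
variable {N : Type v} [AddCommGroup N] [Module (WittVector p k) N] [Module K(p, k) N]
  [IsScalarTower (WittVector p k) K(p, k) N]
variable {τ : K(p, k) →+* K(p, k)}

theorem pL_ne_zero : (p : K(p, k)) ≠ 0 := WittVector.FractionRing.p_nonzero p k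

theorem mem_pPow_iff_exists (r : ℤ) (M : Submodule (WittVector p k) N) (x : N) :
    x ∈ pPow r M ↔ ∃ y ∈ M, ((p : K(p, k)) ^ r) • y = x :=
  Submodule.mem_smul_pointwise_iff_exists x _ M

theorem mem_pPow_iff (r : ℤ) (M : Submodule (WittVector p k) N) (x : N) :
    x ∈ pPow r M ↔ ((p : K(p, k)) ^ (-r)) • x ∈ M := by
  rw [mem_pPow_iff_exists]
  have hp : (p : K(p, k)) ^ r ≠ 0 := zpow_ne_zero _ pL_ne_zero
  constructor
  · rintro ⟨y, hy, rfl⟩
    rw [smul_smul, ← zpow_add₀ pL_ne_zero, neg_add_cancel, zpow_zero, one_smul]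
    exact hy
  · intro h
    refine ⟨_, h, ?_⟩
    rw [smul_smul, ← zpow_add₀ pL_ne_zero, add_neg_cancel, zpow_zero, one_smul]

theorem smul_mem_pPow (r : ℤ) (M : Submodule (WittVector p k) N) {x : N} (hx : x ∈ M) :
    ((p : K(p, k)) ^ r) • x ∈ pPow r M :=
  (mem_pPow_iff_exists r M _).mpr ⟨x, hx, rfl⟩

@[simp] theorem pPow_zero (M : Submodule (WittVector p k) N) : pPow 0 M = M := by
  ext x; rw [mem_pPow_iff]; simp

theorem pPow_pPow (r s : ℤ) (M : Submodule (WittVector p k) N) :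
    pPow r (pPow s M) = pPow (r + s) M := by
  ext x
  rw [mem_pPow_iff, mem_pPow_iff, mem_pPow_iff, smul_smul, ← zpow_add₀ pL_ne_zero, neg_add_rev]

theorem pPow_mono (r : ℤ) {M M' : Submodule (WittVector p k) N} (h : M ≤ M') :
    pPow r M ≤ pPow r M' := by
  intro x hx
  rw [mem_pPow_iff] at hx ⊢
  exact h hx

theorem pPow_le_pPow_iff (r : ℤ) {M M' : Submodule (WittVector p k) N} :
    pPow r M ≤ pPow r M' ↔ M ≤ M' := by
  refine ⟨fun h => ?_, pPow_mono r⟩
  have := pPow_mono (-r) h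
  rwa [pPow_pPow, pPow_pPow, neg_add_cancel, pPow_zero, pPow_zero] at this

theorem pPow_le_iff (r : ℤ) {M M' : Submodule (WittVector p k) N} :
    pPow r M ≤ M' ↔ M ≤ pPow (-r) M' := by
  rw [← pPow_le_pPow_iff (-r), pPow_pPow, neg_add_cancel, pPow_zero]

theorem natpow_smul_mem (c : ℕ) (M : Submodule (WittVector p k) N) {x : N} (hx : x ∈ M) :
    ((p : K(p, k)) ^ c) • x ∈ M := by
  have : ((p : K(p, k)) ^ c) • x = ((p : WittVector p k) ^ c) • x := by
    rw [← algebraMap_smul K(p, k) ((p : WittVector p k) ^ c) x, map_pow, map_natCast]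
  rw [this]
  exact M.smul_mem _ hx

theorem pPow_natCast_le (c : ℕ) (M : Submodule (WittVector p k) N) : pPow (c : ℤ) M ≤ M := by
  intro x hx
  obtain ⟨y, hy, rfl⟩ := (mem_pPow_iff_exists _ _ _).mp hx
  rw [zpow_natCast]
  exact natpow_smul_mem c M hy

theorem pPow_anti {r s : ℤ} (h : s ≤ r) (M : Submodule (WittVector p k) N) :
    pPow r M ≤ pPow s M := by
  obtain ⟨c, hc⟩ := Int.eq_ofNat_of_zero_le (sub_nonneg.mpr h)
  have : r = s + c := by omega
  rw [this, ← pPow_pPow]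
  exact pPow_mono s (pPow_natCast_le c M)

theorem latImg_le_iff (F : N →ₛₗ[τ] N) (s : ℕ) (M M' : Submodule (WittVector p k) N) :
    latImg F s M ≤ M' ↔ ∀ x ∈ M, (⇑F)^[s] x ∈ M' := by
  rw [latImg, Submodule.span_le]
  constructor
  · intro h x hx; exact h ⟨x, hx, rfl⟩
  · rintro h _ ⟨x, hx, rfl⟩; exact h x hx

theorem latImg_mono (F : N →ₛₗ[τ] N) (s : ℕ) {M M' : Submodule (WittVector p k) N} (h : M ≤ M') :
    latImg F s M ≤ latImg F s M' :=
  Submodule.span_mono (Set.image_mono h)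

theorem iterate_mem_latImg (F : N →ₛₗ[τ] N) (s : ℕ) (M : Submodule (WittVector p k) N) {x : N}
    (hx : x ∈ M) : (⇑F)^[s] x ∈ latImg F s M :=
  Submodule.subset_span ⟨x, hx, rfl⟩

theorem map_p_zpow (r : ℤ) : τ ((p : K(p, k)) ^ r) = (p : K(p, k)) ^ r := by
  rw [map_zpow₀, map_natCast]

theorem iterate_zpow_smul (F : N →ₛₗ[τ] N) (s : ℕ) (r : ℤ) (x : N) :
    (⇑F)^[s] (((p : K(p, k)) ^ r) • x) = ((p : K(p, k)) ^ r) • (⇑F)^[s] x := by
  induction s with
  | zero => rfl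
  | succ s ih =>
    rw [Function.iterate_succ', Function.comp_apply, Function.comp_apply, ih, map_smulₛₗ, map_p_zpow]

theorem latImg_pPow (F : N →ₛₗ[τ] N) (s : ℕ) (r : ℤ) (M : Submodule (WittVector p k) N) :
    latImg F s (pPow r M) = pPow r (latImg F s M) := by
  apply le_antisymm
  · rw [latImg_le_iff]
    intro x hx
    obtain ⟨y, hy, rfl⟩ := (mem_pPow_iff_exists _ _ _).mp hx
    rw [iterate_zpow_smul]
    exact smul_mem_pPow r _ (iterate_mem_latImg F s M hy)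
  · rw [pPow_le_iff, latImg_le_iff]
    intro x hx
    rw [mem_pPow_iff, neg_neg, ← iterate_zpow_smul]
    exact iterate_mem_latImg F s _ (smul_mem_pPow r M hx)

theorem latImg_le_pPow_comp (F : N →ₛₗ[τ] N) (s t : ℕ) (a b : ℤ) (M : Submodule (WittVector p k) N)
    (hs : latImg F s M ≤ pPow a M) (ht : latImg F t M ≤ pPow b M) :
    latImg F (s + t) M ≤ pPow (a + b) M := by
  rw [latImg_le_iff] at hs ht ⊢
  intro x hx
  rw [Function.iterate_add_apply]
  obtain ⟨y, hy, hxy⟩ := (mem_pPow_iff_exists _ _ _).mp (ht x hx)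
  rw [← hxy, iterate_zpow_smul, add_comm, ← pPow_pPow]
  exact smul_mem_pPow b _ (hs y hy)

end Basic

section Lattice

variable {p : ℕ} [Fact p.Prime] {k : Type u} [Field k] [CharP k p] [PerfectRing k p]
variable {N : Type v} [AddCommGroup N] [Module (WittVector p k) N] [Module K(p, k) N]
  [IsScalarTower (WittVector p k) K(p, k) N]
variable {τ : K(p, k) →+* K(p, k)}

theorem exists_pow_mul_eq_algebraMap (l : K(p, k)) :
    ∃ (c : ℕ) (w : WittVector p k), (p : K(p, k)) ^ c * l = algebraMap (WittVector p k) K(p, k) w := by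
  obtain ⟨a, b, hb, rfl⟩ := IsFractionRing.div_surjective (A := WittVector p k) l
  have hb0 : b ≠ 0 := nonZeroDivisors.ne_zero hb
  obtain ⟨m, u, hu⟩ := WittVector.exists_eq_pow_p_mul' b hb0
  refine ⟨m, a * (↑u⁻¹ : WittVector p k), ?_⟩
  have hbL : algebraMap (WittVector p k) K(p, k) b ≠ 0 := by
    intro h
    exact hb0 ((IsFractionRing.injective (WittVector p k) K(p, k)) (by rw [h, map_zero]))
  rw [mul_div_assoc', div_eq_iff hbL, ← map_mul]
  have hb' : a * (↑u⁻¹ : WittVector p k) * b = (p : WittVector p k) ^ m * a := by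
    rw [hu]
    calc a * (↑u⁻¹ : WittVector p k) * ((p : WittVector p k) ^ m * ↑u)
        = (p : WittVector p k) ^ m * a * ((↑u⁻¹ : WittVector p k) * ↑u) := by ring
      _ = (p : WittVector p k) ^ m * a := by rw [Units.inv_mul, mul_one]
  rw [hb', map_mul, map_pow, map_natCast]

theorem exists_natpow_smul_mem (M : Submodule (WittVector p k) N)
    (hspan : Submodule.span K(p, k) (M : Set N) = ⊤) (x : N) :
    ∃ c : ℕ, ((p : K(p, k)) ^ c) • x ∈ M := by
  have hx : x ∈ Submodule.span K(p, k) (M : Set N) := by rw [hspan]; trivial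
  induction hx using Submodule.span_induction with
  | mem x hx => exact ⟨0, by simpa using hx⟩
  | zero => exact ⟨0, by simp⟩
  | add x y _ _ ihx ihy =>
    obtain ⟨c₁, h₁⟩ := ihx
    obtain ⟨c₂, h₂⟩ := ihy
    refine ⟨c₁ + c₂, ?_⟩
    rw [smul_add]
    refine M.add_mem ?_ ?_
    · rw [add_comm, pow_add, mul_smul]; exact natpow_smul_mem c₂ M h₁
    · rw [pow_add, mul_smul]; exact natpow_smul_mem c₁ M h₂
  | smul l x _ ih =>
    obtain ⟨c, hc⟩ := ih
    obtain ⟨c', w, hw⟩ := exists_pow_mul_eq_algebraMap (p := p) (k := k) l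
    refine ⟨c' + c, ?_⟩
    have : ((p : K(p, k)) ^ (c' + c)) • l • x = w • (((p : K(p, k)) ^ c) • x) := by
      rw [← algebraMap_smul K(p, k) w, ← hw, smul_smul, smul_smul, pow_add]
      congr 1; ring
    rw [this]
    exact M.smul_mem _ hc

theorem exists_pPow_le (M₁ M₂ : Submodule (WittVector p k) N) (h₁ : M₁.FG)
    (h₂ : Submodule.span K(p, k) (M₂ : Set N) = ⊤) : ∃ c : ℕ, pPow (c : ℤ) M₁ ≤ M₂ := by
  classical
  obtain ⟨S, rfl⟩ := h₁
  choose f hf using fun x : N => exists_natpow_smul_mem M₂ h₂ x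
  refine ⟨S.sup f, ?_⟩
  rw [pPow_le_iff, Submodule.span_le]
  intro x hx
  rw [SetLike.mem_coe, mem_pPow_iff, neg_neg, zpow_natCast]
  have hle : f x ≤ S.sup f := Finset.le_sup hx
  obtain ⟨d, hd⟩ := Nat.exists_eq_add_of_le hle
  rw [hd, add_comm, pow_add, mul_smul]
  exact natpow_smul_mem d M₂ (hf x)

theorem le_of_isOrd (F : N →ₛₗ[τ] N) (M : Submodule (WittVector p k) N) (n : ℕ) (r r' : ℤ)
    (h : IsOrd M F n r) (h' : latImg F n M ≤ pPow r' M) : r' ≤ r := by
  by_contra hlt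
  push Not at hlt
  exact h.2 (h'.trans (pPow_anti (by omega) M))

theorem isOrd_unique (F : N →ₛₗ[τ] N) (M : Submodule (WittVector p k) N) (n : ℕ) (r r' : ℤ)
    (h : IsOrd M F n r) (h' : IsOrd M F n r') : r = r' :=
  le_antisymm (le_of_isOrd F M n r' r h' h.1) (le_of_isOrd F M n r r' h h'.1)

theorem latImg_le_of_commensurable (F : N →ₛₗ[τ] N) (M₁ M₂ : Submodule (WittVector p k) N)
    (c₁ c₂ : ℕ) (h₁ : pPow (c₁ : ℤ) M₁ ≤ M₂) (h₂ : pPow (c₂ : ℤ) M₂ ≤ M₁) (n : ℕ) (r : ℤ)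
    (h : latImg F n M₁ ≤ pPow r M₁) : latImg F n M₂ ≤ pPow (r - c₁ - c₂) M₂ := by
  have e1 : M₂ = pPow (-(c₂ : ℤ)) (pPow (c₂ : ℤ) M₂) := by
    rw [pPow_pPow, neg_add_cancel, pPow_zero]
  have e2 : M₁ ≤ pPow (-(c₁ : ℤ)) M₂ := (pPow_le_iff _).mp h₁
  calc latImg F n M₂ = pPow (-(c₂ : ℤ)) (latImg F n (pPow (c₂ : ℤ) M₂)) := by
        conv_lhs => rw [e1]
        rw [latImg_pPow]
    _ ≤ pPow (-(c₂ : ℤ)) (latImg F n M₁) := pPow_mono _ (latImg_mono F n h₂)
    _ ≤ pPow (-(c₂ : ℤ)) (pPow r M₁) := pPow_mono _ h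
    _ ≤ pPow (-(c₂ : ℤ)) (pPow r (pPow (-(c₁ : ℤ)) M₂)) := pPow_mono _ (pPow_mono _ e2)
    _ = pPow (r - c₁ - c₂) M₂ := by
        rw [pPow_pPow, pPow_pPow]; congr 1; ring

end Lattice

end Groth.Agent.H85
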