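import Groth.Agent.H85.IsocSum
import Mathlib.LinearAlgebra.Dimension.Finite
import Mathlib.LinearAlgebra.FiniteDimensional.Lemmas

set_option autoImplicit false
set_option linter.unusedSectionVars false

open scoped Pointwise Isocrystal
open Isoc

universe u v

namespace Groth.Agent.H85

section Chain

variable {p : ℕ} [Fact p.Prime] {k : Type u} [Field k] [CharP k p] [PerfectRing k p]
variable {N : Type v} [AddCommGroup N] [Module (WittVector p k) N] [Module K(p, k) N]
  [IsScalarTower (WittVector p k) K(p, k) N]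
variable {τ : K(p, k) →+* K(p, k)}

theorem exists_normalize {ι : Type*} [Fintype ι] (g : ι → K(p, k)) (hg : ∃ i, g i ≠ 0) :
    ∃ (n : ℤ) (w : ι → WittVector p k),
      (∀ i, (p : K(p, k)) ^ n * g i = algebraMap (WittVector p k) K(p, k) (w i)) ∧
        ∃ i, IsUnit (w i) := by
  classical
  have hv : ∀ i, ∃ v : ℤ, g i ≠ 0 → IsOrdP (g i) v := by
    intro i
    by_cases h : g i = 0
    · exact ⟨0, fun h' => absurd h h'⟩
    · obtain ⟨v, hv⟩ := exists_isOrdP h
      exact ⟨v, fun _ => hv⟩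
  choose v hv using hv
  have hT : (Finset.univ.filter fun i => g i ≠ 0).Nonempty := by
    obtain ⟨i, hi⟩ := hg
    exact ⟨i, Finset.mem_filter.mpr ⟨Finset.mem_univ _, hi⟩⟩
  obtain ⟨i₀, hi₀, hmin⟩ := Finset.exists_min_image _ v hT
  have hi₀' : g i₀ ≠ 0 := (Finset.mem_filter.mp hi₀).2
  have hw : ∀ i, ∃ w : WittVector p k,
      (p : K(p, k)) ^ (-v i₀) * g i = algebraMap (WittVector p k) K(p, k) w ∧
        (i = i₀ → IsUnit w) := by
    intro i
    by_cases h : g i = 0
    · refine ⟨0, by rw [h, mul_zero, map_zero], fun hi => ?_⟩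
      exact absurd (hi ▸ h) hi₀'
    · obtain ⟨u, hu⟩ := hv i h
      have hle : v i₀ ≤ v i := hmin i (Finset.mem_filter.mpr ⟨Finset.mem_univ _, h⟩)
      obtain ⟨m, hm⟩ := Int.eq_ofNat_of_zero_le (sub_nonneg.mpr hle)
      refine ⟨(p : WittVector p k) ^ m * u, ?_, ?_⟩
      · rw [hu, ← mul_assoc, ← zpow_add₀ pL_ne_zero, map_mul, map_pow, map_natCast,
          ← zpow_natCast, ← hm]
        congr 2
        ring
      · intro hi
        have hm0 : m = 0 := by
          rw [hi] at hm
          omega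
        rw [hm0, pow_zero, one_mul]
        exact u.isUnit
  choose w hw using hw
  exact ⟨-v i₀, w, fun i => (hw i).1, i₀, (hw i₀).2 rfl⟩

theorem exists_eq_p_mul_of_not_isUnit {w : WittVector p k} (h : ¬ IsUnit w) :
    ∃ w' : WittVector p k, w = (p : WittVector p k) * w' := by
  by_cases h0 : w = 0
  · exact ⟨0, by rw [h0, mul_zero]⟩
  · obtain ⟨m, u, hu⟩ := WittVector.exists_eq_pow_p_mul' w h0
    rcases m with _ | m
    · exfalso
      apply h
      rw [hu, pow_zero, one_mul]
      exact u.isUnit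
    · exact ⟨(p : WittVector p k) ^ m * u, by rw [hu, pow_succ']; ring⟩

theorem p_smul_eq (x : N) : (p : WittVector p k) • x = ((p : K(p, k)) ^ (1 : ℤ)) • x := by
  rw [zpow_one, ← algebraMap_smul K(p, k) (p : WittVector p k) x, map_natCast]

/-- The pigeonhole principle for chains of `W`-submodules between `p Y` and `Y`. -/
theorem chain_lemma [Module.Finite K(p, k) N] (h : ℕ) (hh : Module.finrank K(p, k) N = h)
    (Y : ℕ → Submodule (WittVector p k) N) (hmono : Monotone Y)
    (hp : pPow 1 (Y (h + 1)) ≤ Y 0) : ∃ i, i ≤ h ∧ Y i = Y (i + 1) := by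
  classical
  by_contra hcon
  push Not at hcon
  have hy : ∀ i : Fin (h + 1), ∃ y, y ∈ Y (i.val + 1) ∧ y ∉ Y i.val := by
    intro i
    have hi := i.isLt
    have hlt : Y i.val < Y (i.val + 1) :=
      lt_of_le_of_ne (hmono (Nat.le_succ _)) (hcon i.val (by omega))
    exact SetLike.exists_of_lt hlt
  choose y hy1 hy2 using hy
  have hdep : ¬ LinearIndependent K(p, k) y := by
    intro hli
    have := hli.fintype_card_le_finrank
    rw [Fintype.card_fin, hh] at this
    omega
  rw [Fintype.not_linearIndependent_iff] at hdep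
  obtain ⟨g, hg0, hgne⟩ := hdep
  obtain ⟨n, w, hw, hunit⟩ := exists_normalize g hgne
  have hsum : ∑ i, w i • y i = 0 := by
    have hterm : ∀ i, w i • y i = ((p : K(p, k)) ^ n) • (g i • y i) := by
      intro i
      rw [← algebraMap_smul K(p, k) (w i) (y i), ← hw i, mul_smul]
    rw [Finset.sum_congr rfl (fun i _ => hterm i), ← Finset.smul_sum, hg0, smul_zero]
  have hSne : (Finset.univ.filter fun i => IsUnit (w i)).Nonempty := by
    obtain ⟨i, hi⟩ := hunit
    exact ⟨i, Finset.mem_filter.mpr ⟨Finset.mem_univ _, hi⟩⟩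
  obtain ⟨j, hjS, hjmax⟩ := Finset.exists_max_image _ (fun i : Fin (h + 1) => i.val) hSne
  have hju : IsUnit (w j) := (Finset.mem_filter.mp hjS).2
  have hterm : ∀ i ∈ Finset.univ.erase j, w i • y i ∈ Y j.val := by
    intro i hi
    have hij : i ≠ j := Finset.ne_of_mem_erase hi
    have hij' : i.val ≠ j.val := fun h' => hij (Fin.ext h')
    have hil := i.isLt
    rcases lt_or_gt_of_ne hij' with hlt | hgt
    · exact (Y j.val).smul_mem _ (hmono (by omega) (hy1 i))
    · have hnu : ¬ IsUnit (w i) := by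
        intro hu
        have := hjmax i (Finset.mem_filter.mpr ⟨Finset.mem_univ _, hu⟩)
        omega
      obtain ⟨w', hw'⟩ := exists_eq_p_mul_of_not_isUnit hnu
      rw [hw', mul_comm, mul_smul]
      refine (Y j.val).smul_mem _ ?_
      have h1 : (p : WittVector p k) • y i ∈ pPow 1 (Y (i.val + 1)) := by
        rw [p_smul_eq]
        exact smul_mem_pPow 1 _ (hy1 i)
      have h2 : pPow 1 (Y (i.val + 1)) ≤ Y j.val :=
        (pPow_mono 1 (hmono (by omega))).trans (hp.trans (hmono (Nat.zero_le _)))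
      exact h2 h1
  have hj : w j • y j ∈ Y j.val := by
    have := Finset.add_sum_erase Finset.univ (fun i => w i • y i) (Finset.mem_univ j)
    rw [hsum] at this
    have e : w j • y j = -∑ i ∈ Finset.univ.erase j, w i • y i := eq_neg_of_add_eq_zero_left this
    rw [e]
    exact (Y j.val).neg_mem ((Y j.val).sum_mem hterm)
  obtain ⟨u, hu⟩ := hju
  have hyj : y j = ((u⁻¹ : (WittVector p k)ˣ) : WittVector p k) • (w j • y j) := by
    rw [← hu, smul_smul, Units.inv_mul, one_smul]
  apply hy2 j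
  rw [hyj]
  exact (Y j.val).smul_mem _ hj

theorem pPow_fg (r : ℤ) (M : Submodule (WittVector p k) N) (h : M.FG) : (pPow r M).FG := by
  obtain ⟨S, rfl⟩ := h
  have : pPow r (Submodule.span (WittVector p k) (S : Set N)) =
      Submodule.span (WittVector p k) (((p : K(p, k)) ^ r) • (S : Set N)) :=
    Submodule.smul_span _ _
  rw [this]
  exact Submodule.fg_span (S.finite_toSet.smul_set)

theorem isLattice_of_le {M M' : Submodule (WittVector p k) N} (hM : M.IsLattice K(p, k))
    (hle : M ≤ M') (hfg : M'.FG) : M'.IsLattice K(p, k) :=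
  ⟨hfg, eq_top_iff.mpr (by
    rw [← hM.span_eq_top]
    exact Submodule.span_mono (fun x hx => hle hx))⟩

/-- `M + F M + ... + F^n M`. -/
noncomputable def orb (F : N →ₛₗ[τ] N) (n : ℕ) (M : Submodule (WittVector p k) N) :
    Submodule (WittVector p k) N :=
  ⨆ j : Fin (n + 1), latImg F j.val M

theorem latImg_le_orb (F : N →ₛₗ[τ] N) {n j : ℕ} (hj : j ≤ n) (M : Submodule (WittVector p k) N) :
    latImg F j M ≤ orb F n M :=
  le_iSup (fun j : Fin (n + 1) => latImg F j.val M) ⟨j, by omega⟩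

theorem le_orb (F : N →ₛₗ[τ] N) (n : ℕ) (M : Submodule (WittVector p k) N) : M ≤ orb F n M := by
  have := latImg_le_orb F (Nat.zero_le n) M
  rwa [latImg_zero] at this

theorem orb_le (F : N →ₛₗ[τ] N) (n : ℕ) (M X : Submodule (WittVector p k) N)
    (h : ∀ j, j ≤ n → latImg F j M ≤ X) : orb F n M ≤ X :=
  iSup_le fun j => h j.val (by have := j.isLt; omega)

theorem orb_mono_n (F : N →ₛₗ[τ] N) {m n : ℕ} (h : m ≤ n) (M : Submodule (WittVector p k) N) :
    orb F m M ≤ orb F n M :=
  orb_le F m M _ fun _ hj => latImg_le_orb F (hj.trans h) M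

theorem orb_zero (F : N →ₛₗ[τ] N) (M : Submodule (WittVector p k) N) : orb F 0 M = M := by
  apply le_antisymm
  · refine orb_le F 0 M M fun j hj => ?_
    have : j = 0 := by omega
    rw [this, latImg_zero]
  · exact le_orb F 0 M

theorem latImg_orb_le (hτ : PresW τ) (F : N →ₛₗ[τ] N) (i n : ℕ)
    (M X : Submodule (WittVector p k) N) (h : ∀ j, j ≤ n → latImg F (i + j) M ≤ X) :
    latImg F i (orb F n M) ≤ X :=
  latImg_iSup_le F i _ X fun j =>
    (latImg_latImg_le hτ F i j.val M).trans (h j.val (by have := j.isLt; omega))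

theorem latImg_one_orb_le (hτ : PresW τ) (F : N →ₛₗ[τ] N) (n : ℕ)
    (M : Submodule (WittVector p k) N) : latImg F 1 (orb F n M) ≤ orb F (n + 1) M :=
  latImg_orb_le hτ F 1 n M _ fun _ _ => latImg_le_orb F (by omega) M

theorem orb_fg (hτ : PresW τ) (F : N →ₛₗ[τ] N) (n : ℕ) (M : Submodule (WittVector p k) N)
    (h : M.FG) : (orb F n M).FG :=
  Submodule.fg_iSup _ fun j => latImg_fg hτ F j.val M h

theorem orb_isLattice (hτ : PresW τ) (F : N →ₛₗ[τ] N) (n : ℕ) (M : Submodule (WittVector p k) N)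
    (hM : M.IsLattice K(p, k)) : (orb F n M).IsLattice K(p, k) :=
  isLattice_of_le hM (le_orb F n M) (orb_fg hτ F n M hM.fg)

/-- Key lemma: if `F^(h+1) M ⊆ p^(-1) M` with `h = dim N`, then some lattice is `F`-stable. -/
theorem exists_stable_lattice (hτ : PresW τ) [Module.Finite K(p, k) N] (F : N →ₛₗ[τ] N) (h : ℕ)
    (hh : Module.finrank K(p, k) N = h) (M : Submodule (WittVector p k) N)
    (hM : M.IsLattice K(p, k)) (hFM : latImg F (h + 1) M ≤ pPow (-1) M) :
    ∃ M'' : Submodule (WittVector p k) N, M''.IsLattice K(p, k) ∧ latImg F 1 M'' ≤ M'' := by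
  set O := orb F h M with hO
  set Mt := M ⊔ pPow 1 O with hMt
  have hMtfg : Mt.FG := hM.fg.sup (pPow_fg 1 O (orb_fg hτ F h M hM.fg))
  have hMtlat : Mt.IsLattice K(p, k) := isLattice_of_le hM le_sup_left hMtfg
  have hMt_le : Mt ≤ pPow (-1) Mt := by
    have := pPow_anti (by omega : (-1 : ℤ) ≤ 0) Mt
    rwa [pPow_zero] at this
  have hO_le : O ≤ pPow (-1) Mt := (pPow_le_iff 1).mp le_sup_right
  have hM_le : M ≤ Mt := le_sup_left
  have hclaim : ∀ i, i ≤ h + 1 → latImg F i Mt ≤ pPow (-1) Mt := by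
    intro i hi
    rw [hMt, latImg_sup, latImg_pPow, ← hMt]
    apply sup_le
    · by_cases hih : i ≤ h
      · exact (latImg_le_orb F hih M).trans hO_le
      · have : i = h + 1 := by omega
        rw [this]
        exact hFM.trans (pPow_mono (-1) hM_le)
    · rw [pPow_le_iff]
      refine latImg_orb_le hτ F i h M _ fun j hj => ?_
      by_cases hij : i + j ≤ h
      · exact (latImg_le_orb F hij M).trans (hO_le.trans (pPow_mono (-1) hMt_le))
      · have e : i + j = (i + j - (h + 1)) + (h + 1) := by omega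
        rw [e, latImg_add hτ]
        calc latImg F (i + j - (h + 1)) (latImg F (h + 1) M)
            ≤ latImg F (i + j - (h + 1)) (pPow (-1) M) := latImg_mono F _ hFM
          _ = pPow (-1) (latImg F (i + j - (h + 1)) M) := latImg_pPow F _ _ M
          _ ≤ pPow (-1) O := pPow_mono (-1) (latImg_le_orb F (by omega) M)
          _ ≤ pPow (-1) (pPow (-1) Mt) := pPow_mono (-1) hO_le
  have hmono : Monotone fun i => orb F i Mt := fun i j hij => orb_mono_n F hij Mt
  have hp : pPow 1 (orb F (h + 1) Mt) ≤ orb F 0 Mt := by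
    rw [orb_zero, pPow_le_iff]
    exact orb_le F (h + 1) Mt _ hclaim
  obtain ⟨i, -, hi⟩ := chain_lemma h hh (fun i => orb F i Mt) hmono hp
  refine ⟨orb F i Mt, orb_isLattice hτ F i Mt hMtlat, ?_⟩
  calc latImg F 1 (orb F i Mt) ≤ orb F (i + 1) Mt := latImg_one_orb_le hτ F i Mt
    _ = orb F i Mt := hi.symm

/-- If `Φ^j M ⊆ p^c M` (`c ≥ 0`, `j ≥ 1`) then `M + Φ M + ... + Φ^(j-1) M` is `Φ`-stable and
still satisfies the same inclusion. -/
theorem exists_stable_of_iter_le (hτ : PresW τ) (Φ : N →ₛₗ[τ] N)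
    (M : Submodule (WittVector p k) N) (hM : M.IsLattice K(p, k)) (j : ℕ) (hj : 1 ≤ j) (c : ℕ)
    (h : latImg Φ j M ≤ pPow (c : ℤ) M) :
    ∃ M'' : Submodule (WittVector p k) N, M''.IsLattice K(p, k) ∧ latImg Φ 1 M'' ≤ M'' ∧
      latImg Φ j M'' ≤ pPow (c : ℤ) M'' := by
  refine ⟨orb Φ (j - 1) M, orb_isLattice hτ Φ (j - 1) M hM, ?_, ?_⟩
  · refine latImg_orb_le hτ Φ 1 (j - 1) M _ fun i hi => ?_
    by_cases hij : 1 + i ≤ j - 1
    · exact latImg_le_orb Φ hij M
    · have : 1 + i = j := by omega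
      rw [this]
      exact (h.trans (pPow_natCast_le c M)).trans (le_orb Φ (j - 1) M)
  · refine latImg_orb_le hτ Φ j (j - 1) M _ fun i hi => ?_
    rw [add_comm, latImg_add hτ]
    calc latImg Φ i (latImg Φ j M) ≤ latImg Φ i (pPow (c : ℤ) M) := latImg_mono Φ i h
      _ = pPow (c : ℤ) (latImg Φ i M) := latImg_pPow Φ i _ M
      _ ≤ pPow (c : ℤ) (orb Φ (j - 1) M) := pPow_mono _ (latImg_le_orb Φ hi M)

theorem latImg_le_of_stable (hτ : PresW τ) (Φ : N →ₛₗ[τ] N) (M : Submodule (WittVector p k) N)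
    (hst : latImg Φ 1 M ≤ M) (t : ℕ) : latImg Φ (t + 1) M ≤ latImg Φ t M := by
  rw [latImg_add hτ]
  exact latImg_mono Φ t hst

theorem latImg_le_self_of_stable (hτ : PresW τ) (Φ : N →ₛₗ[τ] N)
    (M : Submodule (WittVector p k) N) (hst : latImg Φ 1 M ≤ M) (t : ℕ) : latImg Φ t M ≤ M := by
  induction t with
  | zero => rw [latImg_zero]
  | succ t ih => exact (latImg_le_of_stable hτ Φ M hst t).trans ih

theorem latImg_le_pPow_of_ge (hτ : PresW τ) (Φ : N →ₛₗ[τ] N) (M : Submodule (WittVector p k) N)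
    (hst : latImg Φ 1 M ≤ M) (j : ℕ) (c : ℤ) (hj : latImg Φ j M ≤ pPow c M) (t : ℕ) (ht : j ≤ t) :
    latImg Φ t M ≤ pPow c M := by
  have e : t = (t - j) + j := by omega
  rw [e, latImg_add hτ]
  calc latImg Φ (t - j) (latImg Φ j M) ≤ latImg Φ (t - j) (pPow c M) := latImg_mono Φ _ hj
    _ = pPow c (latImg Φ (t - j) M) := latImg_pPow Φ _ _ M
    _ ≤ pPow c M := pPow_mono c (latImg_le_self_of_stable hτ Φ M hst _)

/-- Semilinear Katz lemma: a stable lattice on which some power of `Φ` is divisible by `p` has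
`Φ^h` divisible by `p`, `h = dim N`. -/
theorem latImg_height_le_pPow_one (hτ : PresW τ) [Module.Finite K(p, k) N] (Φ : N →ₛₗ[τ] N)
    (h : ℕ) (hh : Module.finrank K(p, k) N = h) (M : Submodule (WittVector p k) N)
    (hst : latImg Φ 1 M ≤ M) (j : ℕ) (hj : latImg Φ j M ≤ pPow 1 M) :
    latImg Φ h M ≤ pPow 1 M := by
  set Z : ℕ → Submodule (WittVector p k) N := fun i => latImg Φ i M ⊔ pPow 1 M with hZ
  have hpM : pPow 1 M ≤ M := by
    have := pPow_natCast_le 1 M
    simpa using this
  have hZsucc : ∀ i, Z (i + 1) = latImg Φ 1 (Z i) ⊔ pPow 1 M := by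
    intro i
    simp only [hZ]
    rw [latImg_sup, ← latImg_add hτ, latImg_pPow, sup_assoc,
      sup_eq_right.mpr (pPow_mono 1 hst), add_comm]
  have hZanti : Antitone Z := by
    apply antitone_nat_of_succ_le
    intro i
    exact sup_le_sup_right (latImg_le_of_stable hτ Φ M hst i) _
  have hmono : Monotone fun i => Z (h + 1 - i) := by
    intro i i' hii'
    exact hZanti (by omega)
  have hp : pPow 1 (Z (h + 1 - (h + 1))) ≤ Z (h + 1 - 0) := by
    have e0 : Z (h + 1 - (h + 1)) = M := by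
      simp only [hZ, Nat.sub_self, latImg_zero]
      exact sup_eq_left.mpr hpM
    rw [e0]
    exact le_sup_right
  obtain ⟨i, hi, hZi⟩ := chain_lemma h hh (fun i => Z (h + 1 - i)) hmono hp
  have hm : Z (h - i + 1) = Z (h - i) := by
    have e1 : h + 1 - i = h - i + 1 := by omega
    have e2 : h + 1 - (i + 1) = h - i := by omega
    simp only [e1, e2] at hZi
    exact hZi
  have hstab : ∀ t, Z (h - i + t) = Z (h - i) := by
    intro t
    induction t with
    | zero => rfl
    | succ t ih =>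
      have : h - i + (t + 1) = (h - i + t) + 1 := by ring
      rw [this, hZsucc, ih, ← hZsucc, hm]
  have hfin : Z (h - i + j) = pPow 1 M := by
    simp only [hZ]
    exact sup_eq_right.mpr (latImg_le_pPow_of_ge hτ Φ M hst j 1 hj _ (by omega))
  have hle : latImg Φ (h - i) M ≤ pPow 1 M := by
    have : latImg Φ (h - i) M ≤ Z (h - i) := le_sup_left
    rwa [← hstab j, hfin] at this
  exact latImg_le_pPow_of_ge hτ Φ M hst (h - i) 1 hle h (by omega)

end Chain

end Groth.Agent.H85
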