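import Groth.Agent.H85.IsocHom
import Mathlib.LinearAlgebra.Matrix.Basis
import Mathlib.LinearAlgebra.Matrix.NonsingularInverse

set_option autoImplicit false
set_option linter.unusedSectionVars false

open scoped Pointwise Isocrystal
open Isoc

universe u v

namespace Groth.Agent.H85

section OrdP

variable {p : ℕ} [Fact p.Prime] {k : Type u} [Field k] [CharP k p] [PerfectRing k p]
variable {τ : K(p, k) →+* K(p, k)}

theorem algebraMap_W_injective :
    Function.Injective (algebraMap (WittVector p k) K(p, k)) :=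
  IsFractionRing.injective (WittVector p k) K(p, k)

theorem isOrdP_zpow (r : ℤ) : IsOrdP ((p : K(p, k)) ^ r) r :=
  ⟨1, by rw [Units.val_one, map_one, mul_one]⟩

theorem isOrdP_one : IsOrdP (1 : K(p, k)) 0 :=
  ⟨1, by rw [Units.val_one, map_one, mul_one, zpow_zero]⟩

theorem isOrdP_mul {c c' : K(p, k)} {r r' : ℤ} (h : IsOrdP c r) (h' : IsOrdP c' r') :
    IsOrdP (c * c') (r + r') := by
  obtain ⟨u, rfl⟩ := h
  obtain ⟨u', rfl⟩ := h'
  refine ⟨u * u', ?_⟩
  rw [zpow_add₀ pL_ne_zero, Units.val_mul, map_mul]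
  ring

theorem isOrdP_ne_zero {c : K(p, k)} {r : ℤ} (h : IsOrdP c r) : c ≠ 0 := by
  obtain ⟨u, rfl⟩ := h
  refine mul_ne_zero (zpow_ne_zero _ pL_ne_zero) ?_
  intro h0
  have : (u : WittVector p k) = 0 := algebraMap_W_injective (by rw [h0, map_zero])
  exact u.ne_zero this

theorem isOrdP_inv {c : K(p, k)} {r : ℤ} (h : IsOrdP c r) : IsOrdP c⁻¹ (-r) := by
  obtain ⟨u, rfl⟩ := h
  refine ⟨u⁻¹, ?_⟩
  have h1 : algebraMap (WittVector p k) K(p, k) ((u⁻¹ : (WittVector p k)ˣ) : WittVector p k) *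
      algebraMap (WittVector p k) K(p, k) (u : WittVector p k) = 1 := by
    rw [← map_mul, Units.inv_mul, map_one]
  rw [mul_inv, zpow_neg, eq_inv_of_mul_eq_one_left h1]

theorem isOrdP_le_of {c : K(p, k)} {r r' : ℤ} (h : IsOrdP c r) (h' : IsOrdP c r') : r ≤ r' := by
  by_contra hlt
  push Not at hlt
  obtain ⟨u, hu⟩ := h
  obtain ⟨u', hu'⟩ := h'
  obtain ⟨m, hm⟩ := Int.eq_ofNat_of_zero_le (by omega : 0 ≤ r - r' - 1)
  have hr : r = r' + ((m + 1 : ℕ) : ℤ) := by push_cast; omega
  rw [hu, hr, zpow_add₀ pL_ne_zero, mul_assoc, zpow_natCast] at hu'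
  have h2 := mul_left_cancel₀ (zpow_ne_zero r' pL_ne_zero) hu'
  have h3 : ((p : WittVector p k)) ^ (m + 1) * (u : WittVector p k) = u' := by
    apply algebraMap_W_injective
    rw [map_mul, map_pow, map_natCast]
    exact h2
  have h4 : IsUnit ((p : WittVector p k) ^ (m + 1)) := by
    have : (p : WittVector p k) ^ (m + 1) = ((u' * u⁻¹ : (WittVector p k)ˣ) : WittVector p k) := by
      rw [Units.val_mul, ← h3, mul_assoc, Units.mul_inv, mul_one]
    rw [this]
    exact Units.isUnit _
  exact (WittVector.irreducible p).not_isUnit ((isUnit_pow_iff (Nat.succ_ne_zero m)).mp h4)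

theorem isOrdP_unique {c : K(p, k)} {r r' : ℤ} (h : IsOrdP c r) (h' : IsOrdP c r') : r = r' :=
  le_antisymm (isOrdP_le_of h h') (isOrdP_le_of h' h)

theorem exists_isOrdP_algebraMap {w : WittVector p k} (hw : w ≠ 0) :
    ∃ m : ℕ, IsOrdP (algebraMap (WittVector p k) K(p, k) w) m := by
  obtain ⟨m, u, hu⟩ := WittVector.exists_eq_pow_p_mul' w hw
  exact ⟨m, u, by rw [hu, map_mul, map_pow, map_natCast, zpow_natCast]⟩

theorem exists_isOrdP {c : K(p, k)} (hc : c ≠ 0) : ∃ r : ℤ, IsOrdP c r := by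
  obtain ⟨a, b, hb, rfl⟩ := IsFractionRing.div_surjective (A := WittVector p k) c
  have hb0 : b ≠ 0 := nonZeroDivisors.ne_zero hb
  have ha0 : a ≠ 0 := by
    rintro rfl
    apply hc
    rw [map_zero, zero_div]
  obtain ⟨m, hm⟩ := exists_isOrdP_algebraMap (p := p) (k := k) ha0
  obtain ⟨m', hm'⟩ := exists_isOrdP_algebraMap (p := p) (k := k) hb0
  exact ⟨m + -m', by rw [div_eq_mul_inv]; exact isOrdP_mul hm (isOrdP_inv hm')⟩

theorem presW_map_unit (hτ : PresW τ) (u : (WittVector p k)ˣ) :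
    ∃ u' : (WittVector p k)ˣ, τ (algebraMap (WittVector p k) K(p, k) (u : WittVector p k)) =
      algebraMap (WittVector p k) K(p, k) (u' : WittVector p k) := by
  obtain ⟨w, hw⟩ := hτ u
  obtain ⟨w', hw'⟩ := hτ ((u⁻¹ : (WittVector p k)ˣ) : WittVector p k)
  have h1 : w * w' = 1 := by
    apply algebraMap_W_injective (p := p) (k := k)
    rw [map_mul, ← hw, ← hw', ← map_mul, ← map_mul, Units.mul_inv, map_one, map_one]
  exact ⟨Units.mkOfMulEqOne w w' h1, hw⟩

theorem isOrdP_map (hτ : PresW τ) {c : K(p, k)} {r : ℤ} (h : IsOrdP c r) : IsOrdP (τ c) r := by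
  obtain ⟨u, rfl⟩ := h
  obtain ⟨u', hu'⟩ := presW_map_unit hτ u
  exact ⟨u', by rw [map_mul, map_p_zpow, hu']⟩

theorem isOrdP_algebraMap_nonneg {w : WittVector p k} {r : ℤ}
    (h : IsOrdP (algebraMap (WittVector p k) K(p, k) w) r) : 0 ≤ r := by
  have hw : w ≠ 0 := by
    rintro rfl
    exact isOrdP_ne_zero h (map_zero _)
  obtain ⟨m, hm⟩ := exists_isOrdP_algebraMap (p := p) (k := k) hw
  rw [isOrdP_unique h hm]
  exact Int.natCast_nonneg m

theorem isUnit_of_isOrdP_zero {w : WittVector p k}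
    (h : IsOrdP (algebraMap (WittVector p k) K(p, k) w) 0) : IsUnit w := by
  obtain ⟨u, hu⟩ := h
  rw [zpow_zero, one_mul] at hu
  rw [algebraMap_W_injective hu]
  exact u.isUnit

theorem presW_pow (hτ : PresW τ) (n : ℕ) : PresW (τ ^ n) := by
  intro w
  rw [RingHom.coe_pow]
  induction n with
  | zero => exact ⟨w, rfl⟩
  | succ n ih =>
    obtain ⟨w₁, h₁⟩ := ih
    obtain ⟨w₂, h₂⟩ := hτ w₁
    exact ⟨w₂, by rw [Function.iterate_succ', Function.comp_apply, h₁, h₂]⟩

theorem surjW_pow (hτ : SurjW τ) (n : ℕ) : SurjW (τ ^ n) := by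
  intro w
  rw [RingHom.coe_pow]
  induction n generalizing w with
  | zero => exact ⟨w, rfl⟩
  | succ n ih =>
    obtain ⟨w₁, h₁⟩ := hτ w
    obtain ⟨w₂, h₂⟩ := ih w₁
    exact ⟨w₂, by rw [Function.iterate_succ', Function.comp_apply, h₂, h₁]⟩

end OrdP

section Mat

variable {p : ℕ} [Fact p.Prime] {k : Type u} [Field k] [CharP k p] [PerfectRing k p]
variable {N : Type v} [AddCommGroup N] [Module K(p, k) N]
variable {τ : K(p, k) →+* K(p, k)}
variable {ι : Type*} [Fintype ι] [DecidableEq ι]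

/-- The matrix of a semilinear endomorphism in a basis. -/
noncomputable def smat (b : Module.Basis ι K(p, k) N) (F : N →ₛₗ[τ] N) : Matrix ι ι K(p, k) :=
  Matrix.of fun i j => b.repr (F (b j)) i

theorem smat_apply (b : Module.Basis ι K(p, k) N) (F : N →ₛₗ[τ] N) (i j : ι) :
    smat b F i j = b.repr (F (b j)) i := rfl

theorem detCoeff_eq_det_smat {n : ℕ} (b : Module.Basis (Fin n) K(p, k) N) (F : N →ₛₗ[τ] N) :
    detCoeff b F = (smat b F).det := rfl

theorem repr_semilinear (b : Module.Basis ι K(p, k) N) (F : N →ₛₗ[τ] N) (x : N) (i : ι) :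
    b.repr (F x) i = ∑ l, smat b F i l * τ (b.repr x l) := by
  conv_lhs => rw [← b.sum_repr x]
  rw [map_sum, map_sum, Finsupp.finsetSum_apply]
  refine Finset.sum_congr rfl fun l _ => ?_
  rw [map_smulₛₗ, map_smul, Finsupp.smul_apply, smul_eq_mul, mul_comm]
  rfl

theorem toMatrix_mul_smat (b e : Module.Basis ι K(p, k) N) (F : N →ₛₗ[τ] N) :
    b.toMatrix e * smat e F = smat b F * (b.toMatrix e).map τ := by
  ext i j
  rw [Matrix.mul_apply, Matrix.mul_apply]
  have h1 : ∑ l, b.toMatrix e i l * smat e F l j = b.repr (F (e j)) i :=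
    b.sum_repr_mul_repr e (F (e j)) i
  rw [h1, repr_semilinear b F (e j) i]
  rfl

theorem det_map_ringHom (A : Matrix ι ι K(p, k)) : (A.map τ).det = τ A.det := by
  rw [RingHom.map_det]
  rfl

theorem det_toMatrix_mul_det_smat (b e : Module.Basis ι K(p, k) N) (F : N →ₛₗ[τ] N) :
    (b.toMatrix e).det * (smat e F).det = (smat b F).det * τ (b.toMatrix e).det := by
  rw [← Matrix.det_mul, toMatrix_mul_smat, Matrix.det_mul, det_map_ringHom]

theorem det_toMatrix_ne_zero (b e : Module.Basis ι K(p, k) N) : (b.toMatrix e).det ≠ 0 := by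
  intro h
  have := congrArg Matrix.det (b.toMatrix_mul_toMatrix_flip e)
  rw [Matrix.det_mul, h, zero_mul, Matrix.det_one] at this
  exact zero_ne_one this

theorem isOrdP_det_smat_basis (hτ : PresW τ) (b e : Module.Basis ι K(p, k) N) (F : N →ₛₗ[τ] N)
    (d : ℤ) (h : IsOrdP (smat b F).det d) : IsOrdP (smat e F).det d := by
  have h0 : (b.toMatrix e).det ≠ 0 := det_toMatrix_ne_zero b e
  obtain ⟨t, ht⟩ := exists_isOrdP h0
  have key := det_toMatrix_mul_det_smat b e F
  have e1 : (smat e F).det =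
      (smat b F).det * τ (b.toMatrix e).det * ((b.toMatrix e).det)⁻¹ :=
    (eq_mul_inv_iff_mul_eq₀ h0).mpr ((mul_comm _ _).trans key)
  rw [e1]
  have := isOrdP_mul (isOrdP_mul h (isOrdP_map hτ ht)) (isOrdP_inv ht)
  have e2 : d + t + -t = d := by ring
  rwa [e2] at this

theorem smat_iter_zero (b : Module.Basis ι K(p, k) N) (F : N →ₛₗ[τ] N) :
    smat b (iter F 0) = 1 := by
  have : smat b (iter F 0) = b.toMatrix b := rfl
  rw [this, Module.Basis.toMatrix_self]

theorem smat_iter_succ (b : Module.Basis ι K(p, k) N) (F : N →ₛₗ[τ] N) (s : ℕ) :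
    smat b (iter F (s + 1)) = smat b F * (smat b (iter F s)).map τ := by
  ext i j
  rw [Matrix.mul_apply]
  have h1 : smat b (iter F (s + 1)) i j = b.repr (F ((⇑F)^[s] (b j))) i := by
    rw [smat_apply, iter_apply, Function.iterate_succ', Function.comp_apply]
  rw [h1, repr_semilinear b F]
  rfl

theorem isOrdP_det_smat_iter (hτ : PresW τ) (b : Module.Basis ι K(p, k) N) (F : N →ₛₗ[τ] N)
    (d : ℤ) (h : IsOrdP (smat b F).det d) (s : ℕ) :
    IsOrdP (smat b (iter F s)).det ((s : ℤ) * d) := by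
  induction s with
  | zero =>
    rw [smat_iter_zero, Matrix.det_one, Nat.cast_zero, zero_mul]
    exact isOrdP_one
  | succ s ih =>
    rw [smat_iter_succ, Matrix.det_mul, det_map_ringHom]
    have := isOrdP_mul h (isOrdP_map hτ ih)
    have e : d + (s : ℤ) * d = ((s + 1 : ℕ) : ℤ) * d := by push_cast; ring
    rwa [e] at this

theorem det_smat_ne_zero_of_iter (b : Module.Basis ι K(p, k) N) (F : N →ₛₗ[τ] N) (s : ℕ)
    (h : (smat b (iter F (s + 1))).det ≠ 0) : (smat b F).det ≠ 0 := by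
  intro h0
  apply h
  rw [smat_iter_succ, Matrix.det_mul, h0, zero_mul]

theorem det_smul_map (C : Matrix ι ι (WittVector p k)) (r : ℤ) :
    (((p : K(p, k)) ^ r) • C.map (algebraMap (WittVector p k) K(p, k))).det =
      (p : K(p, k)) ^ (r * (Fintype.card ι : ℤ)) *
        algebraMap (WittVector p k) K(p, k) C.det := by
  rw [Matrix.det_smul, ← zpow_natCast, ← zpow_mul, RingHom.map_det]
  rfl

end Mat

section LatBasis

variable {p : ℕ} [Fact p.Prime] {k : Type u} [Field k] [CharP k p] [PerfectRing k p]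
variable {N : Type v} [AddCommGroup N] [Module (WittVector p k) N] [Module K(p, k) N]
  [IsScalarTower (WittVector p k) K(p, k) N]
variable {τ : K(p, k) →+* K(p, k)}
variable {ι : Type*} [Fintype ι] [DecidableEq ι]

theorem exists_lattice_basis {n : ℕ} (b : Module.Basis (Fin n) K(p, k) N)
    (M : Submodule (WittVector p k) N) (hM : M.IsLattice K(p, k)) :
    ∃ e : Module.Basis (Fin n) K(p, k) N,
      M = Submodule.span (WittVector p k) (Set.range e) := by
  have := hM
  let b₀ := Module.Free.chooseBasis (WittVector p k) M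
  let e₀ : Module.Basis _ K(p, k) N := b₀.extendOfIsLattice K(p, k)
  have hcard : Fintype.card (Module.Free.ChooseBasisIndex (WittVector p k) M) = n := by
    rw [← Module.finrank_eq_card_basis e₀, Module.finrank_eq_card_basis b, Fintype.card_fin]
  refine ⟨e₀.reindex (Fintype.equivFinOfCardEq hcard), ?_⟩
  rw [Module.Basis.range_reindex]
  have hrange : Set.range e₀ = M.subtype '' Set.range b₀ := by
    rw [← Set.range_comp]
    congr 1
    ext i
    exact Module.Basis.extendOfIsLattice_apply K(p, k) b₀ i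
  rw [hrange, ← Submodule.map_span, b₀.span_eq, Submodule.map_subtype_top]

theorem mem_span_range_basis_iff (e : Module.Basis ι K(p, k) N) (x : N) :
    x ∈ Submodule.span (WittVector p k) (Set.range e) ↔
      ∀ i, ∃ w : WittVector p k, e.repr x i = algebraMap (WittVector p k) K(p, k) w := by
  rw [e.mem_span_iff_repr_mem (WittVector p k)]
  exact forall_congr' fun i => ⟨fun ⟨w, hw⟩ => ⟨w, hw.symm⟩, fun ⟨w, hw⟩ => ⟨w, hw.symm⟩⟩

theorem mem_pPow_span_range_basis_iff (e : Module.Basis ι K(p, k) N) (r : ℤ) (x : N) :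
    x ∈ pPow r (Submodule.span (WittVector p k) (Set.range e)) ↔
      ∀ i, ∃ w : WittVector p k,
        e.repr x i = (p : K(p, k)) ^ r * algebraMap (WittVector p k) K(p, k) w := by
  rw [mem_pPow_iff, mem_span_range_basis_iff]
  refine forall_congr' fun i => exists_congr fun w => ?_
  rw [map_smul, Finsupp.smul_apply, smul_eq_mul, zpow_neg]
  have hp : (p : K(p, k)) ^ r ≠ 0 := zpow_ne_zero _ pL_ne_zero
  constructor
  · intro h
    rw [← h, ← mul_assoc, mul_inv_cancel₀ hp, one_mul]
  · intro h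
    rw [h, ← mul_assoc, inv_mul_cancel₀ hp, one_mul]

theorem exists_matrix_of_le (e : Module.Basis ι K(p, k) N) (Φ : N →ₛₗ[τ] N) (r : ℤ)
    (h : ∀ x ∈ Submodule.span (WittVector p k) (Set.range e),
      Φ x ∈ pPow r (Submodule.span (WittVector p k) (Set.range e))) :
    ∃ C : Matrix ι ι (WittVector p k),
      smat e Φ = ((p : K(p, k)) ^ r) • C.map (algebraMap (WittVector p k) K(p, k)) := by
  have h1 : ∀ j i, ∃ w : WittVector p k,
      e.repr (Φ (e j)) i = (p : K(p, k)) ^ r * algebraMap (WittVector p k) K(p, k) w := fun j =>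
    (mem_pPow_span_range_basis_iff e r _).mp (h _ (Submodule.subset_span (Set.mem_range_self j)))
  choose C hC using h1
  refine ⟨Matrix.of fun i j => C j i, ?_⟩
  ext i j
  rw [smat_apply, hC j i]
  rfl

theorem mul_card_le_of_le (e : Module.Basis ι K(p, k) N) (Φ : N →ₛₗ[τ] N) (r D : ℤ)
    (h : ∀ x ∈ Submodule.span (WittVector p k) (Set.range e),
      Φ x ∈ pPow r (Submodule.span (WittVector p k) (Set.range e)))
    (hD : IsOrdP (smat e Φ).det D) : r * (Fintype.card ι : ℤ) ≤ D := by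
  obtain ⟨C, hC⟩ := exists_matrix_of_le e Φ r h
  rw [hC, det_smul_map] at hD
  have h2 := isOrdP_mul (isOrdP_inv (isOrdP_zpow (p := p) (k := k) (r * (Fintype.card ι : ℤ)))) hD
  rw [← mul_assoc, inv_mul_cancel₀ (zpow_ne_zero _ pL_ne_zero), one_mul] at h2
  have := isOrdP_algebraMap_nonneg h2
  omega

theorem isOrdP_det_of_eq (hτ : PresW τ) (e : Module.Basis ι K(p, k) N) (Φ : N →ₛₗ[τ] N) (r : ℤ)
    (h : ∀ x ∈ Submodule.span (WittVector p k) (Set.range e),
      Φ x ∈ pPow r (Submodule.span (WittVector p k) (Set.range e)))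
    (h' : ∀ x ∈ Submodule.span (WittVector p k) (Set.range e),
      ∃ y ∈ Submodule.span (WittVector p k) (Set.range e), Φ y = ((p : K(p, k)) ^ r) • x) :
    IsOrdP (smat e Φ).det (r * (Fintype.card ι : ℤ)) := by
  obtain ⟨C, hC⟩ := exists_matrix_of_le e Φ r h
  have hy : ∀ l : ι, ∃ y ∈ Submodule.span (WittVector p k) (Set.range e),
      Φ y = ((p : K(p, k)) ^ r) • e l :=
    fun l => h' _ (Submodule.subset_span (Set.mem_range_self l))
  choose y hyM hyΦ using hy
  have hY' : ∀ l j, ∃ w : WittVector p k,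
      e.repr (y l) j = algebraMap (WittVector p k) K(p, k) w :=
    fun l => (mem_span_range_basis_iff e (y l)).mp (hyM l)
  choose Y' hY' using hY'
  have hY : ∀ l j, ∃ w : WittVector p k,
      τ (algebraMap (WittVector p k) K(p, k) (Y' l j)) = algebraMap (WittVector p k) K(p, k) w :=
    fun l j => hτ (Y' l j)
  choose Y hY using hY
  have hCZ : C * (Matrix.of fun j l => Y l j) = 1 := by
    refine Matrix.ext fun i l => ?_
    apply algebraMap_W_injective (p := p) (k := k)
    have h1 := repr_semilinear e Φ (y l) i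
    rw [hyΦ l, map_smul, Finsupp.smul_apply, e.repr_self, Finsupp.single_apply, smul_eq_mul] at h1
    have h2 : ∑ j, smat e Φ i j * τ (e.repr (y l) j) =
        (p : K(p, k)) ^ r * algebraMap (WittVector p k) K(p, k) (∑ j, C i j * Y l j) := by
      rw [map_sum, Finset.mul_sum]
      refine Finset.sum_congr rfl fun j _ => ?_
      rw [hC, hY' l j, hY l j, map_mul]
      simp only [Matrix.smul_apply, Matrix.map_apply, smul_eq_mul]
      ring
    rw [h2] at h1
    have h3 := mul_left_cancel₀ (zpow_ne_zero r pL_ne_zero) h1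
    rw [Matrix.mul_apply, Matrix.one_apply]
    simp only [Matrix.of_apply]
    rw [← h3]
    by_cases hil : i = l
    · subst hil
      simp
    · have : ¬ l = i := fun h => hil h.symm
      simp [hil, this]
  have hu : IsUnit C.det := Matrix.isUnit_det_of_right_inverse hCZ
  rw [hC, det_smul_map]
  obtain ⟨u, hu'⟩ := hu
  exact ⟨u, by rw [hu']⟩

theorem exists_preimage_of_isOrdP (hτ' : SurjW τ) (e : Module.Basis ι K(p, k) N)
    (Φ : N →ₛₗ[τ] N) (r : ℤ)
    (h : ∀ x ∈ Submodule.span (WittVector p k) (Set.range e),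
      Φ x ∈ pPow r (Submodule.span (WittVector p k) (Set.range e)))
    (hD : IsOrdP (smat e Φ).det (r * (Fintype.card ι : ℤ))) :
    ∀ x ∈ Submodule.span (WittVector p k) (Set.range e),
      ∃ y ∈ Submodule.span (WittVector p k) (Set.range e), Φ y = ((p : K(p, k)) ^ r) • x := by
  intro x hx
  obtain ⟨C, hC⟩ := exists_matrix_of_le e Φ r h
  have hu : IsUnit C.det := by
    rw [hC, det_smul_map] at hD
    have h2 := isOrdP_mul (isOrdP_inv (isOrdP_zpow (p := p) (k := k) (r * (Fintype.card ι : ℤ)))) hD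
    rw [← mul_assoc, inv_mul_cancel₀ (zpow_ne_zero _ pL_ne_zero), one_mul, neg_add_cancel] at h2
    exact isUnit_of_isOrdP_zero h2
  have hX := (mem_span_range_basis_iff e x).mp hx
  choose X hX using hX
  set z : ι → WittVector p k := C⁻¹.mulVec X with hz
  have hz' : ∀ j, ∃ w : WittVector p k,
      τ (algebraMap (WittVector p k) K(p, k) w) = algebraMap (WittVector p k) K(p, k) (z j) :=
    fun j => hτ' (z j)
  choose z' hz' using hz'
  let y : N := e.equivFun.symm (fun j => algebraMap (WittVector p k) K(p, k) (z' j))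
  have hyrepr : ∀ j, e.repr y j = algebraMap (WittVector p k) K(p, k) (z' j) := by
    intro j
    exact congrFun (e.equivFun.apply_symm_apply
      (fun j => algebraMap (WittVector p k) K(p, k) (z' j))) j
  refine ⟨y, (mem_span_range_basis_iff e y).mpr fun j => ⟨z' j, hyrepr j⟩, ?_⟩
  apply e.repr.injective
  ext i
  rw [repr_semilinear e Φ y i, map_smul, Finsupp.smul_apply, smul_eq_mul, hX i]
  have hCz : C.mulVec z = X := by
    rw [hz, Matrix.mulVec_mulVec, Matrix.mul_nonsing_inv C hu, Matrix.one_mulVec]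
  calc ∑ j, smat e Φ i j * τ (e.repr y j)
      = ∑ j, (p : K(p, k)) ^ r * algebraMap (WittVector p k) K(p, k) (C i j * z j) := by
        refine Finset.sum_congr rfl fun j _ => ?_
        rw [hyrepr j, hz' j, hC, map_mul]
        simp only [Matrix.smul_apply, Matrix.map_apply, smul_eq_mul]
        ring
    _ = (p : K(p, k)) ^ r * algebraMap (WittVector p k) K(p, k) ((C.mulVec z) i) := by
        rw [← Finset.mul_sum, ← map_sum]
        rfl
    _ = (p : K(p, k)) ^ r * algebraMap (WittVector p k) K(p, k) (X i) := by rw [hCz]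

end LatBasis

section Wrap

variable {p : ℕ} [Fact p.Prime] {k : Type u} [Field k] [CharP k p] [PerfectRing k p]
variable {N : Type v} [AddCommGroup N] [Module (WittVector p k) N] [Module K(p, k) N]
  [IsScalarTower (WittVector p k) K(p, k) N]
variable {τ : K(p, k) →+* K(p, k)}

/-- `ord_M(F^s) ≥ r` forces `r · h ≤ s · orddet(F)`. -/
theorem mul_height_le_of_latImg_le (hτ : PresW τ) {n : ℕ} (b : Module.Basis (Fin n) K(p, k) N)
    (F : N →ₛₗ[τ] N) (d : ℤ) (hd : IsOrdP (detCoeff b F) d)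
    (M : Submodule (WittVector p k) N) (hM : M.IsLattice K(p, k)) (s : ℕ) (r : ℤ)
    (h : latImg F s M ≤ pPow r M) : r * n ≤ s * d := by
  obtain ⟨e, rfl⟩ := exists_lattice_basis b M hM
  have hd' : IsOrdP (smat e F).det d := isOrdP_det_smat_basis hτ b e F d hd
  have hD := isOrdP_det_smat_iter hτ e F d hd' s
  have := mul_card_le_of_le e (iter F s) r _
    (fun x hx => (latImg_le_iff F s _ _).mp h x hx) hD
  rwa [Fintype.card_fin] at this

/-- `F^s M = p^r M` forces `r · h = s · orddet(F)`. -/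
theorem mul_height_eq_of_latImg_eq (hτ : PresW τ) (hτ' : SurjW τ) {n : ℕ}
    (b : Module.Basis (Fin n) K(p, k) N)
    (F : N →ₛₗ[τ] N) (d : ℤ) (hd : IsOrdP (detCoeff b F) d)
    (M : Submodule (WittVector p k) N) (hM : M.IsLattice K(p, k)) (s : ℕ) (r : ℤ)
    (h : latImg F s M = pPow r M) : r * n = s * d := by
  obtain ⟨e, rfl⟩ := exists_lattice_basis b M hM
  have hd' : IsOrdP (smat e F).det d := isOrdP_det_smat_basis hτ b e F d hd
  have hD := isOrdP_det_smat_iter hτ e F d hd' s
  have hD' := isOrdP_det_of_eq (presW_pow hτ s) e (iter F s) r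
    (fun x hx => (latImg_le_iff F s _ _).mp h.le x hx)
    (fun x hx => by
      have h1 : ((p : K(p, k)) ^ r) • x ∈ latImg F s (Submodule.span (WittVector p k) (Set.range e)) := by
        rw [h]; exact smul_mem_pPow r _ hx
      obtain ⟨y, hy, hyx⟩ := (mem_latImg_iff hτ' F s _ _).mp h1
      exact ⟨y, hy, hyx⟩)
  have := isOrdP_unique hD' hD
  rwa [Fintype.card_fin] at this

/-- `F^s M ⊆ p^r M` together with `r · h = s · orddet(F)` forces `F^s M = p^r M`. -/
theorem latImg_eq_of_le_of_mul_eq (hτ : PresW τ) (hτ' : SurjW τ) {n : ℕ}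
    (b : Module.Basis (Fin n) K(p, k) N)
    (F : N →ₛₗ[τ] N) (d : ℤ) (hd : IsOrdP (detCoeff b F) d)
    (M : Submodule (WittVector p k) N) (hM : M.IsLattice K(p, k)) (s : ℕ) (r : ℤ)
    (h : latImg F s M ≤ pPow r M) (hrs : r * n = s * d) : latImg F s M = pPow r M := by
  obtain ⟨e, rfl⟩ := exists_lattice_basis b M hM
  have hd' : IsOrdP (smat e F).det d := isOrdP_det_smat_basis hτ b e F d hd
  have hD := isOrdP_det_smat_iter hτ e F d hd' s
  rw [← hrs] at hD
  have hD2 : IsOrdP (smat e (iter F s)).det (r * (Fintype.card (Fin n) : ℤ)) := by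
    rwa [Fintype.card_fin]
  have key := exists_preimage_of_isOrdP (surjW_pow hτ' s) e (iter F s) r
    (fun x hx => (latImg_le_iff F s _ _).mp h x hx) hD2
  apply le_antisymm h
  intro x hx
  obtain ⟨z, hz, rfl⟩ := (mem_pPow_iff_exists _ _ _).mp hx
  obtain ⟨y, hy, hyz⟩ := key z hz
  rw [← hyz]
  exact iterate_mem_latImg F s _ hy

end Wrap

end Groth.Agent.H85
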