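import Groth.Agent.H85.IsocFix
import Groth.Agent.S17153

set_option autoImplicit false
set_option linter.unusedSectionVars false

open scoped Pointwise Isocrystal
open Isoc

universe u v

namespace Groth.Agent.H85

section DM

variable {p : ℕ} [Fact p.Prime] {k : Type u} [Field k] [CharP k p] [PerfectRing k p]

theorem slopePart_eq_of_le_of_iSup_eq_top {N : Type v} [AddCommGroup N]
    [Module (WittVector p k) N] [Module K(p, k) N] [IsScalarTower (WittVector p k) K(p, k) N]
    {τ : K(p, k) →+* K(p, k)} (F : N →ₛₗ[τ] N)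
    (hind : iSupIndep (fun μ : ℚ => slopePart F μ)) (A : ℚ → Submodule K(p, k) N)
    (hle : ∀ μ, A μ ≤ slopePart F μ) (htop : ⨆ μ, A μ = ⊤) (μ : ℚ) : slopePart F μ = A μ := by
  apply le_antisymm _ (hle μ)
  intro x hx
  have hx' : x ∈ ⨆ ν, A ν := by rw [htop]; trivial
  rw [iSup_split_single A μ] at hx'
  obtain ⟨a', ha', b, hb, rfl⟩ := Submodule.mem_sup.mp hx'
  have hb' : b ∈ ⨆ (ν : ℚ) (_ : ν ≠ μ), slopePart F ν :=
    (iSup₂_mono fun ν _ => hle ν) hb
  have hbμ : b ∈ slopePart F μ := by
    have h1 : b = (a' + b) - a' := by abel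
    rw [h1]
    exact Submodule.sub_mem _ hx (hle μ ha')
  have hb0 : b = 0 := (Submodule.disjoint_def.mp (hind μ)) b hbμ hb'
  rw [hb0, add_zero]
  exact ha'

/-- The Dieudonné–Manin classification, by induction on the height. -/
theorem dieudonne_manin [IsAlgClosed k] (a : ℤ) (ha : a ≠ 0) :
    ∀ (n : ℕ) (N : Type v) [AddCommGroup N] [Module (WittVector p k) N] [Module K(p, k) N]
      [IsScalarTower (WittVector p k) K(p, k) N] (F : N →ₛₗ[frob p k a] N) (_ : IsIsoc F),
      Module.finrank K(p, k) N = n →
      ∃ (t : ℕ) (d : Fin t → ℤ) (h : Fin t → ℕ)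
        (e : N ≃ₗ[K(p, k)] ((i : Fin t) → (Fin (h i) → K(p, k)))),
        (∀ i, 0 < h i ∧ Int.gcd (d i) (h i) = 1) ∧
        (∀ (x : N) (i : Fin t), e (F x) i = stdIsoc (frob p k a) (d i) (h i) (e x i)) ∧
        ∀ μ : ℚ, newtonMult F μ =
          ∑ i : Fin t, (if ((d i : ℚ) / (h i : ℚ)) = μ then h i else 0) := by
  intro n
  induction n using Nat.strong_induction_on with
  | _ n ih =>
    intro N _ _ _ _ F hF hn
    have hfin := hF.finite
    have hτ := presW_frob (p := p) (k := k) a
    have hτ' := surjW_frob (p := p) (k := k) a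
    have hτb := frob_bijective (p := p) (k := k) a
    by_cases hsub : Subsingleton N
    · refine ⟨0, fun i => i.elim0, fun i => i.elim0, LinearEquiv.ofSubsingleton _ _,
        fun i => i.elim0, fun x i => i.elim0, fun μ => ?_⟩
      rw [Finset.univ_eq_empty, Finset.sum_empty]
      unfold newtonMult
      have h1 := Submodule.finrank_le (slopePart F μ)
      have h2 : Module.finrank K(p, k) N = 0 := Module.finrank_zero_of_subsingleton
      omega
    · haveI : Nontrivial N := not_subsingleton_iff_nontrivial.mp hsub
      have htop := iSup_slopePart_eq_top hτ hτ' hτb F hF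
      obtain ⟨μ, hμ⟩ : ∃ μ : ℚ, slopePart F μ ≠ ⊥ := by
        by_contra hcon
        push Not at hcon
        have h1 : (⨆ μ : ℚ, slopePart F μ) = ⊥ := by rw [iSup_eq_bot]; exact hcon
        rw [h1] at htop
        exact bot_ne_top htop
      have hP₀ := slopePart_stable F μ
      have hiso₀ := isIsoclinic_restrict_of_isoOn hτ' F _ hP₀ μ (isoOn_slopePart hτ hτ' F μ)
      have hF₀ := isIsoc_restrict hτb F hF _ hP₀
      haveI : Nontrivial (slopePart F μ) := Submodule.nontrivial_iff_ne_bot.mpr hμ
      obtain ⟨x₀, hx₀ne, hx₀⟩ := exists_eigen_of_isIsoclinic a ha (F.restrict hP₀) hF₀ μ hiso₀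
      have hx : (⇑F)^[μ.den] (x₀ : N) = ((p : K(p, k)) ^ μ.num) • (x₀ : N) := by
        rw [← coe_iterate_restrict F _ hP₀, hx₀]
        rfl
      have hxne : (x₀ : N) ≠ 0 := fun h => hx₀ne (Subtype.ext h)
      obtain ⟨g, hgF, hgapp⟩ := exists_std_hom F μ.num μ.den μ.den_pos (x₀ : N) hx
      have hg0 : g (Pi.single ⟨0, μ.den_pos⟩ 1) = (x₀ : N) := by
        rw [hgapp, Finset.sum_eq_single ⟨0, μ.den_pos⟩]
        · rw [Pi.single_eq_same, one_smul]
          rfl
        · intro i _ hi
          rw [Pi.single_eq_of_ne hi, zero_smul]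
        · intro h
          exact absurd (Finset.mem_univ _) h
      have hker : LinearMap.ker g = ⊥ := by
        have hst : ∀ c ∈ LinearMap.ker g,
            stdIsoc (frob p k a) μ.num μ.den c ∈ LinearMap.ker g := by
          intro c hc
          rw [LinearMap.mem_ker] at hc ⊢
          rw [hgF, hc, map_zero]
        rcases Groth.Agent.S17153.result p k a μ.num μ.den μ.den_pos μ.reduced
          (LinearMap.ker g) hst with h | h
        · exact h
        · exfalso
          have h2 : Pi.single ⟨0, μ.den_pos⟩ (1 : K(p, k)) ∈ LinearMap.ker g := by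
            rw [h]; trivial
          rw [LinearMap.mem_ker, hg0] at h2
          exact hxne h2
      have hginj : Function.Injective g := LinearMap.ker_eq_bot.mp hker
      have hPst : ∀ y ∈ LinearMap.range g, F y ∈ LinearMap.range g := by
        rintro _ ⟨c, rfl⟩
        exact ⟨_, hgF c⟩
      obtain ⟨Q, hQ, hPQ⟩ := exists_stable_compl a ha F hF (LinearMap.range g) hPst
      have hfinP : Module.finrank K(p, k) (LinearMap.range g) = μ.den := by
        rw [LinearMap.finrank_range_of_inj hginj, Module.finrank_fin_fun]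
      have hfinQ : Module.finrank K(p, k) Q < n := by
        have h1 := Submodule.finrank_add_eq_of_isCompl hPQ
        rw [hfinP, hn] at h1
        have h2 := μ.den_pos
        omega
      have hFQ := isIsoc_restrict hτb F hF Q hQ
      obtain ⟨t', d', h', e', c1, c2, c3⟩ := ih _ hfinQ Q (F.restrict hQ) hFQ rfl
      -- the slope parts of `N`
      have hind := iSupIndep_slopePart hτ hτ' F hF
      have hPle : LinearMap.range g ≤ slopePart F μ := by
        rintro _ ⟨c, rfl⟩
        rw [hgapp]
        refine Submodule.sum_mem _ fun i _ => Submodule.smul_mem _ _ ?_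
        have h1 : ∀ j : ℕ, (⇑F)^[j] (x₀ : N) ∈ slopePart F μ := by
          intro j
          induction j with
          | zero => exact x₀.2
          | succ j ihj =>
            rw [Function.iterate_succ_apply']
            exact hP₀ _ ihj
        exact h1 i.val
      have hQle : ∀ ν : ℚ, (slopePart (F.restrict hQ) ν).map Q.subtype ≤ slopePart F ν := by
        intro ν
        have hstab : ∀ y ∈ (slopePart (F.restrict hQ) ν).map Q.subtype,
            F y ∈ (slopePart (F.restrict hQ) ν).map Q.subtype := by
          rintro _ ⟨y, hy, rfl⟩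
          exact ⟨F.restrict hQ y, slopePart_stable (F.restrict hQ) ν y hy, rfl⟩
        have hFQfin := hFQ.finite
        have h1 := isoOn_map_subtype hτ' F Q hQ _ ν (isoOn_slopePart hτ hτ' (F.restrict hQ) ν)
        exact le_slopePart F ν _ hstab (isIsoclinic_restrict_of_isoOn hτ' F _ hstab ν h1)
      obtain ⟨A, hA⟩ : ∃ A : ℚ → Submodule K(p, k) N, ∀ ν, A ν =
          (if μ = ν then LinearMap.range g else ⊥) ⊔
            (slopePart (F.restrict hQ) ν).map Q.subtype := ⟨_, fun ν => rfl⟩
      have hAle : ∀ ν, A ν ≤ slopePart F ν := by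
        intro ν
        rw [hA]
        refine sup_le ?_ (hQle ν)
        by_cases hμν : μ = ν
        · rw [if_pos hμν, ← hμν]
          exact hPle
        · rw [if_neg hμν]
          exact bot_le
      have hAtop : ⨆ ν, A ν = ⊤ := by
        rw [eq_top_iff, ← hPQ.sup_eq_top]
        refine sup_le ?_ ?_
        · refine le_trans ?_ (le_iSup A μ)
          rw [hA, if_pos rfl]
          exact le_sup_left
        · have hQtop := iSup_slopePart_eq_top hτ hτ' hτb (F.restrict hQ) hFQ
          have h1 : Q = ⨆ ν : ℚ, (slopePart (F.restrict hQ) ν).map Q.subtype := by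
            rw [← Submodule.map_iSup, hQtop, Submodule.map_subtype_top]
          refine h1.le.trans (iSup_mono fun ν => ?_)
          rw [hA]
          exact le_sup_right
      have hslope : ∀ ν, slopePart F ν = A ν :=
        slopePart_eq_of_le_of_iSup_eq_top F hind A hAle hAtop
      have hmult : ∀ ν : ℚ, newtonMult F ν =
          (if μ = ν then μ.den else 0) + newtonMult (F.restrict hQ) ν := by
        intro ν
        unfold newtonMult
        rw [hslope ν, hA ν]
        by_cases hμν : μ = ν
        · rw [if_pos hμν, if_pos hμν]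
          have hinf : LinearMap.range g ⊓ (slopePart (F.restrict hQ) ν).map Q.subtype = ⊥ :=
            eq_bot_iff.mpr (le_trans (inf_le_inf le_rfl (Submodule.map_subtype_le Q _))
              hPQ.inf_eq_bot.le)
          have h1 := Submodule.finrank_sup_add_finrank_inf_eq (LinearMap.range g)
            ((slopePart (F.restrict hQ) ν).map Q.subtype)
          rw [hinf, finrank_bot, add_zero, Submodule.finrank_map_subtype_eq, hfinP] at h1
          exact h1
        · rw [if_neg hμν, if_neg hμν, bot_sup_eq, Submodule.finrank_map_subtype_eq, zero_add]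
      -- the isomorphism
      have he₁ : ∀ x : N, (((Submodule.prodEquivOfIsCompl _ _ hPQ).symm x).1 : N) +
          (((Submodule.prodEquivOfIsCompl _ _ hPQ).symm x).2 : N) = x := by
        intro x
        have h1 := (Submodule.prodEquivOfIsCompl _ _ hPQ).apply_symm_apply x
        rwa [Submodule.coe_prodEquivOfIsCompl'] at h1
      have he₁F : ∀ x : N, (Submodule.prodEquivOfIsCompl _ _ hPQ).symm (F x) =
          (F.restrict hPst ((Submodule.prodEquivOfIsCompl _ _ hPQ).symm x).1,
            F.restrict hQ ((Submodule.prodEquivOfIsCompl _ _ hPQ).symm x).2) := by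
        intro x
        rw [LinearEquiv.symm_apply_eq, Submodule.coe_prodEquivOfIsCompl']
        show F x = F (((Submodule.prodEquivOfIsCompl _ _ hPQ).symm x).1 : N) +
          F (((Submodule.prodEquivOfIsCompl _ _ hPQ).symm x).2 : N)
        rw [← map_add, he₁ x]
      have he₂g : ∀ z : LinearMap.range g,
          g ((LinearEquiv.ofInjective g hginj).symm z) = (z : N) := by
        intro z
        have h1 := (LinearEquiv.ofInjective g hginj).apply_symm_apply z
        exact congrArg Subtype.val h1
      have he₂F : ∀ z : LinearMap.range g,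
          (LinearEquiv.ofInjective g hginj).symm (F.restrict hPst z) =
            stdIsoc (frob p k a) μ.num μ.den ((LinearEquiv.ofInjective g hginj).symm z) := by
        intro z
        apply hginj
        rw [he₂g, hgF, he₂g]
        rfl
      obtain ⟨e, he0, hes⟩ : ∃ e : N ≃ₗ[K(p, k)] ((i : Fin (t' + 1)) →
          (Fin ((Fin.cons μ.den h' : Fin (t' + 1) → ℕ) i) → K(p, k))),
          (∀ x, e x 0 = (LinearEquiv.ofInjective g hginj).symm
            ((Submodule.prodEquivOfIsCompl _ _ hPQ).symm x).1) ∧
          (∀ x i, e x (Fin.succ i) = e' ((Submodule.prodEquivOfIsCompl _ _ hPQ).symm x).2 i) :=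
        ⟨(Submodule.prodEquivOfIsCompl _ _ hPQ).symm ≪≫ₗ
          ((LinearEquiv.ofInjective g hginj).symm.prodCongr e') ≪≫ₗ
          Fin.consLinearEquiv K(p, k) (fun i : Fin (t' + 1) =>
            (Fin ((Fin.cons μ.den h' : Fin (t' + 1) → ℕ) i) → K(p, k))),
          fun x => rfl, fun x i => rfl⟩
      refine ⟨t' + 1, Fin.cons μ.num d', Fin.cons μ.den h', e, ?_, ?_, ?_⟩
      · intro i
        refine Fin.cases ?_ (fun j => ?_) i
        · exact ⟨μ.den_pos, μ.reduced⟩
        · exact c1 j
      · intro x i
        refine Fin.cases ?_ (fun j => ?_) i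
        · show e (F x) 0 = stdIsoc (frob p k a) μ.num μ.den (e x 0)
          rw [he0, he0, he₁F]
          exact he₂F _
        · show e (F x) j.succ = stdIsoc (frob p k a) (d' j) (h' j) (e x j.succ)
          rw [hes, hes, he₁F]
          exact c2 _ j
      · intro ν
        rw [Fin.sum_univ_succ]
        show newtonMult F ν = (if ((μ.num : ℚ) / (μ.den : ℚ)) = ν then μ.den else 0) +
          ∑ i : Fin t', (if ((d' i : ℚ) / (h' i : ℚ)) = ν then h' i else 0)
        rw [hmult ν, c3 ν, Rat.num_div_den]

end DM

end Groth.Agent.H85
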