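import Groth.Agent.H85.IsocFit

set_option autoImplicit false
set_option linter.unusedSectionVars false

open scoped Pointwise Isocrystal
open Isoc

universe u v

namespace Groth.Agent.H85

section Decomp

variable {p : ℕ} [Fact p.Prime] {k : Type u} [Field k] [CharP k p] [PerfectRing k p]
variable {N : Type v} [AddCommGroup N] [Module (WittVector p k) N] [Module K(p, k) N]
  [IsScalarTower (WittVector p k) K(p, k) N]
variable {τ σ : K(p, k) →+* K(p, k)}

theorem exists_natpow_smul_mem_of_mem_span (M : Submodule (WittVector p k) N) {x : N}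
    (hx : x ∈ Submodule.span K(p, k) (M : Set N)) : ∃ c : ℕ, ((p : K(p, k)) ^ c) • x ∈ M := by
  induction hx using Submodule.span_induction with
  | mem x hx => exact ⟨0, by simpa using hx⟩
  | zero => exact ⟨0, by simp⟩
  | add x y _ _ ihx ihy =>
    obtain ⟨c₁, h₁⟩ := ihx
    obtain ⟨c₂, h₂⟩ := ihy
    refine ⟨c₁ + c₂, ?_⟩
    rw [smul_add]
    refine M.add_mem ?_ ?_
    · rw [add_comm, pow_add, mul_smul]; exact natpow_smul_mem c₂ M h₁
    · rw [pow_add, mul_smul]; exact natpow_smul_mem c₁ M h₂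
  | smul l x _ ih =>
    obtain ⟨c, hc⟩ := ih
    obtain ⟨c', w, hw⟩ := exists_pow_mul_eq_algebraMap (p := p) (k := k) l
    refine ⟨c' + c, ?_⟩
    have : ((p : K(p, k)) ^ (c' + c)) • l • x = w • (((p : K(p, k)) ^ c) • x) := by
      rw [← algebraMap_smul K(p, k) w, ← hw, smul_smul, smul_smul, pow_add]
      congr 1; ring
    rw [this]
    exact M.smul_mem _ hc

theorem exists_pPow_le_of_le_span (M₁ M₂ : Submodule (WittVector p k) N) (h₁ : M₁.FG)
    (h₂ : ∀ x ∈ M₁, x ∈ Submodule.span K(p, k) (M₂ : Set N)) :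
    ∃ c : ℕ, pPow (c : ℤ) M₁ ≤ M₂ := by
  classical
  obtain ⟨S, rfl⟩ := h₁
  have hf : ∀ x : N, ∃ c : ℕ, x ∈ (S : Set N) → ((p : K(p, k)) ^ c) • x ∈ M₂ := by
    intro x
    by_cases hx : x ∈ (S : Set N)
    · obtain ⟨c, hc⟩ := exists_natpow_smul_mem_of_mem_span M₂ (h₂ x (Submodule.subset_span hx))
      exact ⟨c, fun _ => hc⟩
    · exact ⟨0, fun h => absurd h hx⟩
  choose f hf using hf
  refine ⟨S.sup f, ?_⟩
  rw [pPow_le_iff, Submodule.span_le]
  intro x hx
  rw [SetLike.mem_coe, mem_pPow_iff, neg_neg, zpow_natCast]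
  have hle : f x ≤ S.sup f := Finset.le_sup hx
  obtain ⟨d, hd⟩ := Nat.exists_eq_add_of_le hle
  rw [hd, add_comm, pow_add, mul_smul]
  exact natpow_smul_mem d M₂ (hf x hx)

/-- Topologically nilpotent elements of a `Φ`-stable lattice. -/
noncomputable def nilPart (hσ : PresW σ) (Φ : N →ₛₗ[σ] N) (M : Submodule (WittVector p k) N)
    (hst : latImg Φ 1 M ≤ M) : Submodule (WittVector p k) N where
  carrier := {x | x ∈ M ∧ ∀ c : ℕ, ∃ n, (⇑Φ)^[n] x ∈ pPow (c : ℤ) M}
  add_mem' := by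
    rintro x y ⟨hx, hx'⟩ ⟨hy, hy'⟩
    refine ⟨M.add_mem hx hy, fun c => ?_⟩
    obtain ⟨n₁, h₁⟩ := hx' c
    obtain ⟨n₂, h₂⟩ := hy' c
    refine ⟨n₂ + n₁, ?_⟩
    rw [iterate_add']
    refine (pPow _ M).add_mem ?_ ?_
    · rw [Function.iterate_add_apply]
      exact iterate_mem_pPow_of_stable hσ Φ M hst n₂ _ h₁
    · rw [add_comm, Function.iterate_add_apply]
      exact iterate_mem_pPow_of_stable hσ Φ M hst n₁ _ h₂
  zero_mem' := ⟨M.zero_mem, fun c => ⟨0, (pPow _ M).zero_mem⟩⟩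
  smul_mem' := by
    rintro w x ⟨hx, hx'⟩
    refine ⟨M.smul_mem w hx, fun c => ?_⟩
    obtain ⟨n, hn⟩ := hx' c
    obtain ⟨w', hw'⟩ := iterate_smul_W hσ Φ n w x
    exact ⟨n, by rw [hw']; exact (pPow _ M).smul_mem w' hn⟩

theorem mem_nilPart (hσ : PresW σ) (Φ : N →ₛₗ[σ] N) (M : Submodule (WittVector p k) N)
    (hst : latImg Φ 1 M ≤ M) (x : N) :
    x ∈ nilPart hσ Φ M hst ↔ x ∈ M ∧ ∀ c : ℕ, ∃ n, (⇑Φ)^[n] x ∈ pPow (c : ℤ) M := Iff.rfl

/-- The intersection of all `Φ^n M`. -/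
noncomputable def unitPart (Φ : N →ₛₗ[σ] N) (M : Submodule (WittVector p k) N) :
    Submodule (WittVector p k) N := ⨅ n : ℕ, latImg Φ n M

theorem mem_unitPart (Φ : N →ₛₗ[σ] N) (M : Submodule (WittVector p k) N) (x : N) :
    x ∈ unitPart Φ M ↔ ∀ n, x ∈ latImg Φ n M := Submodule.mem_iInf _

theorem unitPart_le (Φ : N →ₛₗ[σ] N) (M : Submodule (WittVector p k) N) : unitPart Φ M ≤ M := by
  intro x hx
  have := (mem_unitPart Φ M x).mp hx 0
  rwa [latImg_zero] at this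

theorem latImg_one_unitPart (hσ : PresW σ) (hσ' : SurjW σ) (Φ : N →ₛₗ[σ] N)
    (hinj : Function.Injective Φ) (M : Submodule (WittVector p k) N)
    (hst : latImg Φ 1 M ≤ M) : latImg Φ 1 (unitPart Φ M) = unitPart Φ M := by
  apply le_antisymm
  · rw [latImg_le_iff]
    intro x hx
    rw [mem_unitPart] at hx ⊢
    intro n
    have h1 : (⇑Φ)^[1] x ∈ latImg Φ 1 (latImg Φ n M) := iterate_mem_latImg Φ 1 _ (hx n)
    rw [← latImg_add hσ] at h1
    exact latImg_antitone_of_stable hσ Φ M hst (Nat.le_add_left n 1) h1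
  · intro x hx
    rw [mem_unitPart] at hx
    have hy : ∀ n, ∃ y ∈ M, (⇑Φ)^[n + 1] y = x :=
      fun n => (mem_latImg_iff hσ' Φ (n + 1) M x).mp (hx (n + 1))
    choose y hyM hyx using hy
    have hz : ∀ n, (⇑Φ)^[n] (y n) = y 0 := by
      intro n
      apply hinj
      have h0 : Φ (y 0) = x := hyx 0
      have hn := hyx n
      rw [Function.iterate_succ_apply'] at hn
      rw [hn, h0]
    have hz0 : y 0 ∈ unitPart Φ M := by
      rw [mem_unitPart]
      intro n
      rw [← hz n]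
      exact iterate_mem_latImg Φ n M (hyM n)
    have h1 : (⇑Φ)^[1] (y 0) = x := hyx 0
    rw [← h1]
    exact iterate_mem_latImg Φ 1 _ hz0

theorem span_stable_of (F : N →ₛₗ[τ] N) (A : Submodule (WittVector p k) N) (b₀ : ℕ)
    (h : ∀ x ∈ A, ((p : K(p, k)) ^ (b₀ : ℤ)) • F x ∈ A) :
    ∀ x ∈ Submodule.span K(p, k) (A : Set N), F x ∈ Submodule.span K(p, k) (A : Set N) := by
  intro x hx
  induction hx using Submodule.span_induction with
  | mem x hx =>
    have := Submodule.smul_mem (Submodule.span K(p, k) (A : Set N))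
      ((p : K(p, k)) ^ (-(b₀ : ℤ))) (Submodule.subset_span (h x hx))
    rwa [smul_smul, ← zpow_add₀ pL_ne_zero, neg_add_cancel, zpow_zero, one_smul] at this
  | zero => rw [map_zero]; exact Submodule.zero_mem _
  | add x y _ _ ihx ihy => rw [map_add]; exact Submodule.add_mem _ ihx ihy
  | smul l x _ ih => rw [map_smulₛₗ]; exact Submodule.smul_mem _ _ ih

theorem fitting_summands (hσ : PresW σ) (hσ' : SurjW σ) [Module.Finite K(p, k) N]
    (F : N →ₛₗ[τ] N) (Φ : N →ₛₗ[σ] N)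
    (hΦinj : Function.Injective Φ) (hΦsurj : Function.Surjective Φ)
    (M : Submodule (WittVector p k) N) (hM : M.IsLattice K(p, k)) (hst : latImg Φ 1 M ≤ M)
    (hnonnil : ∀ n, ¬ latImg Φ n M ≤ pPow 1 M)
    (hcomm : ∀ n x, F ((⇑Φ)^[n] x) = (⇑Φ)^[n] (F x)) (b₀ : ℕ)
    (hFM : ∀ x ∈ M, ((p : K(p, k)) ^ (b₀ : ℤ)) • F x ∈ M) :
    ∃ Mu : Submodule (WittVector p k) N, Mu.FG ∧ latImg Φ 1 Mu = Mu ∧
      ∃ N'' : Submodule K(p, k) N,
        (∀ x ∈ Submodule.span K(p, k) (Mu : Set N), F x ∈ Submodule.span K(p, k) (Mu : Set N)) ∧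
        (∀ x ∈ N'', F x ∈ N'') ∧ Submodule.span K(p, k) (Mu : Set N) ⊔ N'' = ⊤ ∧ N'' ≠ ⊤ := by
  have hN : IsNoetherian (WittVector p k) M := isNoetherian_of_fg_of_noetherian M hM.fg
  refine ⟨unitPart Φ M, isNoetherian_submodule.mp hN _ (unitPart_le Φ M),
    latImg_one_unitPart hσ hσ' Φ hΦinj M hst,
    Submodule.span K(p, k) (nilPart hσ Φ M hst : Set N), ?_, ?_, ?_, ?_⟩
  · apply span_stable_of F _ b₀
    intro x hx
    rw [mem_unitPart] at hx ⊢
    intro n
    obtain ⟨y, hy, rfl⟩ := (mem_latImg_iff hσ' Φ n M x).mp (hx n)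
    rw [hcomm, ← iterate_zpow_smul]
    exact iterate_mem_latImg Φ n M (hFM y hy)
  · apply span_stable_of F _ b₀
    intro x hx
    rw [mem_nilPart] at hx ⊢
    refine ⟨hFM x hx.1, fun c => ?_⟩
    obtain ⟨n, hn⟩ := hx.2 c
    refine ⟨n, ?_⟩
    obtain ⟨m, hm, hmx⟩ := (mem_pPow_iff_exists _ _ _).mp hn
    rw [iterate_zpow_smul, ← hcomm, ← hmx, map_smulₛₗ, map_p_zpow, smul_comm]
    exact smul_mem_pPow _ M (hFM m hm)
  · rw [eq_top_iff, ← hM.span_eq_top, Submodule.span_le]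
    intro x hx
    obtain ⟨u, v, rfl, hu, hv, hv'⟩ := fitting_decomp hσ hσ' Φ hΦsurj M hM hst x hx
    refine Submodule.add_mem_sup (Submodule.subset_span ?_) (Submodule.subset_span ?_)
    · exact (mem_unitPart Φ M u).mpr hu
    · exact ⟨hv, fun c => ⟨_, hv' c⟩⟩
  · intro htop
    classical
    obtain ⟨S, hS⟩ := hM.fg
    have h1 : ∀ g : N, ∃ n : ℕ, g ∈ M → (⇑Φ)^[n] g ∈ pPow 1 M := by
      intro g
      by_cases hg : g ∈ M
      · obtain ⟨a, ha⟩ := exists_natpow_smul_mem (nilPart hσ Φ M hst) htop g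
        obtain ⟨n, hn⟩ := ha.2 (a + 1)
        refine ⟨n, fun _ => ?_⟩
        rw [← zpow_natCast, iterate_zpow_smul, mem_pPow_iff, smul_smul,
          ← zpow_add₀ pL_ne_zero] at hn
        rw [mem_pPow_iff]
        have e : -(((a + 1 : ℕ) : ℤ)) + (a : ℤ) = -1 := by push_cast; ring
        rwa [e] at hn
      · exact ⟨0, fun h => absurd h hg⟩
    choose nn hnn using h1
    apply hnonnil (S.sup nn)
    rw [latImg_le_iff]
    intro x hx
    rw [← hS] at hx
    refine iterate_mem_of_mem_span hσ Φ (S.sup nn) (S : Set N) (pPow 1 M) ?_ hx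
    intro g hg
    have hgM : g ∈ M := hS ▸ Submodule.subset_span hg
    have hle : nn g ≤ S.sup nn := Finset.le_sup hg
    have e : S.sup nn = (S.sup nn - nn g) + nn g := by omega
    rw [e, Function.iterate_add_apply]
    exact iterate_mem_pPow_of_stable hσ Φ M hst _ 1 (hnn g hgM)

/-- Key step of the slope decomposition: a non-zero isocrystal is the sum of two `F`-stable
subspaces, one isoclinic and one proper. -/
theorem exists_isoclinic_summand (hτ : PresW τ) (hτ' : SurjW τ) (F : N →ₛₗ[τ] N) (hF : IsIsoc F)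
    [Nontrivial N] :
    ∃ (N' N'' : Submodule K(p, k) N) (μ : ℚ), (∀ x ∈ N', F x ∈ N') ∧ (∀ x ∈ N'', F x ∈ N'') ∧
      N' ⊔ N'' = ⊤ ∧ N'' ≠ ⊤ ∧ IsoOn F N' μ := by
  have hfin := hF.finite
  have hM₀ : (Submodule.span (WittVector p k)
      (Set.range (Module.finBasis K(p, k) N))).IsLattice K(p, k) :=
    ⟨Submodule.fg_span (Set.finite_range _), by
      rw [Submodule.span_span_of_tower]; exact (Module.finBasis K(p, k) N).span_eq⟩
  obtain ⟨o, ho, lam, hlim, -⟩ := exists_ordSeq hτ F hF _ hM₀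
  have hlam : IsFirstSlope F lam := ⟨_, hM₀, o, fun n _ => ho n, hlim⟩
  obtain ⟨r, s, hs, -, hrs⟩ := exists_slope_eq_div hτ F hF lam hlam _ rfl
  obtain ⟨M, hM, hle⟩ := exists_lattice_of_le hτ F hF lam hlam r s hs hrs.ge
  have hτs := presW_pow hτ s
  have hτs' := surjW_pow hτ' s
  have hΦapp : ∀ x, (((p : K(p, k)) ^ (-r)) • iter F s) x = ((p : K(p, k)) ^ (-r)) • (⇑F)^[s] x :=
    fun x => rfl
  have hst : latImg (((p : K(p, k)) ^ (-r)) • iter F s) 1 M ≤ M :=
    (latImg_twist_one_le_iff F r s M).mpr hle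
  have hpr : ((p : K(p, k)) ^ (-r)) ≠ 0 := zpow_ne_zero _ pL_ne_zero
  have hΦinj : Function.Injective (((p : K(p, k)) ^ (-r)) • iter F s) := by
    intro x y hxy
    rw [hΦapp, hΦapp] at hxy
    exact hF.bijective.injective.iterate s (smul_right_injective N hpr hxy)
  have hΦsurj : Function.Surjective (((p : K(p, k)) ^ (-r)) • iter F s) := by
    intro y
    obtain ⟨x, hx⟩ := hF.bijective.surjective.iterate s (((p : K(p, k)) ^ r) • y)
    refine ⟨x, ?_⟩
    rw [hΦapp, hx, smul_smul, ← zpow_add₀ pL_ne_zero, neg_add_cancel, zpow_zero, one_smul]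
  have hcomm : ∀ x, F ((((p : K(p, k)) ^ (-r)) • iter F s) x) =
      (((p : K(p, k)) ^ (-r)) • iter F s) (F x) := by
    intro x
    rw [hΦapp, hΦapp, map_smulₛₗ, map_p_zpow, ← Function.iterate_succ_apply' (⇑F) s x,
      ← Function.iterate_succ_apply (⇑F) s x]
  have hcommn : ∀ n x, F ((⇑(((p : K(p, k)) ^ (-r)) • iter F s))^[n] x) =
      (⇑(((p : K(p, k)) ^ (-r)) • iter F s))^[n] (F x) := by
    intro n
    induction n with
    | zero => intro x; rfl
    | succ n ih =>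
      intro x
      have e1 := Function.iterate_succ_apply' (⇑(((p : K(p, k)) ^ (-r)) • iter F s)) n x
      have e2 := Function.iterate_succ_apply' (⇑(((p : K(p, k)) ^ (-r)) • iter F s)) n (F x)
      rw [e1, e2, hcomm, ih]
  have hnonnil : ∀ n, ¬ latImg (((p : K(p, k)) ^ (-r)) • iter F s) n M ≤ pPow 1 M := by
    intro n hn
    rcases Nat.eq_zero_or_pos n with rfl | hnpos
    · rw [latImg_zero] at hn
      exact not_le_pPow_one M hM.fg (lattice_ne_bot M hM) hn
    · rw [latImg_twist_le_iff] at hn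
      have := le_mul_of_latImg_le hτ F hF lam hlam M hM (s * n) (Nat.mul_pos hs hnpos) _ hn
      push_cast at this
      have e : lam * ((s : ℝ) * n) = r * n := by rw [← mul_assoc, hrs]
      rw [e] at this
      linarith
  obtain ⟨b₀, hb₀⟩ := exists_pPow_le (latImg F 1 M) M (latImg_fg hτ F 1 M hM.fg) hM.span_eq_top
  have hFM : ∀ x ∈ M, ((p : K(p, k)) ^ (b₀ : ℤ)) • F x ∈ M := fun x hx =>
    hb₀ (smul_mem_pPow _ _ (iterate_mem_latImg F 1 M hx))
  obtain ⟨Mu, hMufg, hMu, N'', hst', hst'', hsup, hne⟩ := fitting_summands hτs hτs' F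
    (((p : K(p, k)) ^ (-r)) • iter F s) hΦinj hΦsurj M hM hst hnonnil hcommn b₀ hFM
  refine ⟨Submodule.span K(p, k) (Mu : Set N), N'', (r : ℚ) / s, hst', hst'', hsup, hne,
    Mu, hMufg, rfl, r, s, hs, rfl, ?_⟩
  rw [latImg_zpow_smul_iter] at hMu
  have h2 := congrArg (pPow r) hMu
  rw [pPow_pPow] at h2
  have e : r + -r * ((1 : ℕ) : ℤ) = 0 := by push_cast; ring
  rw [e, pPow_zero, mul_one] at h2
  exact h2

end Decomp

end Groth.Agent.H85
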