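import Groth.Agent.H85.IsocChain
import Mathlib.Analysis.Subadditive
import Mathlib.Analysis.SpecificLimits.Basic
import Mathlib.NumberTheory.DiophantineApproximation.Basic

set_option autoImplicit false
set_option linter.unusedSectionVars false

open scoped Pointwise Isocrystal
open Isoc Filter

universe u v

namespace Groth.Agent.H85

section First

variable {p : ℕ} [Fact p.Prime] {k : Type u} [Field k] [CharP k p] [PerfectRing k p]
variable {N : Type v} [AddCommGroup N] [Module (WittVector p k) N] [Module K(p, k) N]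
  [IsScalarTower (WittVector p k) K(p, k) N]
variable {τ : K(p, k) →+* K(p, k)}

theorem lattice_ne_bot [Nontrivial N] (M : Submodule (WittVector p k) N)
    (hM : M.IsLattice K(p, k)) : M ≠ ⊥ := by
  rintro rfl
  have h := hM.span_eq_top
  rw [Submodule.bot_coe, Submodule.span_singleton_eq_bot.mpr rfl] at h
  obtain ⟨x, hx⟩ := exists_ne (0 : N)
  have : x ∈ (⊥ : Submodule K(p, k) N) := by rw [h]; trivial
  exact hx ((Submodule.mem_bot _).mp this)

theorem nontrivial_of_isFirstSlope (F : N →ₛₗ[τ] N) (lam : ℝ) (h : IsFirstSlope F lam) :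
    Nontrivial N := by
  obtain ⟨M, hM, o, ho, -⟩ := h
  have hne := ne_bot_of_isOrd F M 1 (o 1) (ho 1 le_rfl)
  obtain ⟨x, -, hx0⟩ := Submodule.exists_mem_ne_zero_of_ne_bot hne
  exact ⟨⟨x, 0, hx0⟩⟩

theorem exists_ordSeq (hτ : PresW τ) (F : N →ₛₗ[τ] N) (hF : IsIsoc F) [Nontrivial N]
    (M : Submodule (WittVector p k) N) (hM : M.IsLattice K(p, k)) :
    ∃ o : ℕ → ℤ, (∀ n, IsOrd M F n (o n)) ∧ ∃ lam : ℝ,
      Tendsto (fun n : ℕ => (o n : ℝ) / n) atTop (nhds lam) ∧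
      ∀ n : ℕ, 1 ≤ n → (o n : ℝ) ≤ lam * n := by
  have hne : M ≠ ⊥ := lattice_ne_bot M hM
  choose o ho using exists_isOrd hτ F hF.bijective.injective M hM hne
  refine ⟨o, ho, ?_⟩
  have hsuper : ∀ m n : ℕ, o m + o n ≤ o (m + n) := fun m n =>
    le_of_isOrd F M (m + n) (o (m + n)) (o m + o n) (ho (m + n))
      (latImg_le_pPow_comp F m n (o m) (o n) M (ho m).1 (ho n).1)
  obtain ⟨c, hc⟩ := exists_pPow_le_latImg_one hτ F hF.bijective.surjective M hM
  have hupper : ∀ n : ℕ, o n ≤ (c : ℤ) * n := fun n =>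
    (pPow_le_pPow_iff_le M hM.fg hne _ _).mp ((pPow_mul_le_latImg hτ F M c hc n).trans (ho n).1)
  have hsub : Subadditive (fun n : ℕ => -(o n : ℝ)) := by
    intro m n
    have := hsuper m n
    have h' : ((o m + o n : ℤ) : ℝ) ≤ (o (m + n) : ℝ) := by exact_mod_cast this
    push_cast at h'
    linarith
  have hbdd : BddBelow (Set.range fun n : ℕ => -(o n : ℝ) / n) := by
    refine ⟨-(c : ℝ), ?_⟩
    rintro _ ⟨n, rfl⟩
    rcases Nat.eq_zero_or_pos n with rfl | hn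
    · simp
    · have hnR : (0 : ℝ) < n := by exact_mod_cast hn
      rw [le_div_iff₀ hnR]
      have := hupper n
      have h' : (o n : ℝ) ≤ ((c : ℤ) * n : ℤ) := by exact_mod_cast this
      push_cast at h'
      linarith
  refine ⟨-hsub.lim, ?_, ?_⟩
  · have := (hsub.tendsto_lim hbdd).neg
    refine this.congr ?_
    intro n
    ring
  · intro n hn
    have hnR : (0 : ℝ) < n := by exact_mod_cast hn
    have := hsub.lim_le_div hbdd (by omega : n ≠ 0)
    rw [le_div_iff₀ hnR] at this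
    linarith

theorem tendsto_of_isFirstSlope (F : N →ₛₗ[τ] N) (lam : ℝ) (hlam : IsFirstSlope F lam)
    (M : Submodule (WittVector p k) N) (hM : M.IsLattice K(p, k)) (o : ℕ → ℤ)
    (ho : ∀ n : ℕ, 1 ≤ n → IsOrd M F n (o n)) :
    Tendsto (fun n : ℕ => (o n : ℝ) / n) atTop (nhds lam) := by
  obtain ⟨M₀, hM₀, o₀, ho₀, hlim₀⟩ := hlam
  obtain ⟨c₁, hc₁⟩ := exists_pPow_le M₀ M hM₀.fg hM.span_eq_top
  obtain ⟨c₂, hc₂⟩ := exists_pPow_le M M₀ hM.fg hM₀.span_eq_top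
  have hbound : ∀ n : ℕ, 1 ≤ n → |(o n : ℝ) - o₀ n| ≤ (c₁ + c₂ : ℕ) := by
    intro n hn
    have a1 := le_of_isOrd F M n (o n) _ (ho n hn)
      (latImg_le_of_commensurable F M₀ M c₁ c₂ hc₁ hc₂ n (o₀ n) (ho₀ n hn).1)
    have a2 := le_of_isOrd F M₀ n (o₀ n) _ (ho₀ n hn)
      (latImg_le_of_commensurable F M M₀ c₂ c₁ hc₂ hc₁ n (o n) (ho n hn).1)
    rw [abs_le]
    constructor
    · have : (-(c₁ + c₂ : ℕ) : ℤ) ≤ o n - o₀ n := by push_cast; omega
      exact_mod_cast this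
    · have : o n - o₀ n ≤ ((c₁ + c₂ : ℕ) : ℤ) := by push_cast; omega
      exact_mod_cast this
  have hzero : Tendsto (fun n : ℕ => ((o n : ℝ) - o₀ n) / n) atTop (nhds 0) := by
    rw [tendsto_zero_iff_abs_tendsto_zero]
    refine squeeze_zero' (Eventually.of_forall fun _ => abs_nonneg _) ?_
      (tendsto_const_div_atTop_nhds_zero_nat ((c₁ + c₂ : ℕ) : ℝ))
    filter_upwards [eventually_ge_atTop 1] with n hn
    have hnpos : (0 : ℝ) < n := by exact_mod_cast hn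
    simp only [Function.comp_apply]
    rw [abs_div, abs_of_pos hnpos]
    exact div_le_div_of_nonneg_right (hbound n hn) hnpos.le
  have := hlim₀.add hzero
  rw [add_zero] at this
  refine this.congr fun n => ?_
  ring

theorem le_mul_of_latImg_le (hτ : PresW τ) (F : N →ₛₗ[τ] N) (hF : IsIsoc F) (lam : ℝ)
    (hlam : IsFirstSlope F lam) (M : Submodule (WittVector p k) N) (hM : M.IsLattice K(p, k))
    (s : ℕ) (hs : 0 < s) (r : ℤ) (h : latImg F s M ≤ pPow r M) : (r : ℝ) ≤ lam * s := by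
  haveI := nontrivial_of_isFirstSlope F lam hlam
  obtain ⟨o, ho, lam', hlim, hbd⟩ := exists_ordSeq hτ F hF M hM
  have hl : lam' = lam :=
    tendsto_nhds_unique hlim (tendsto_of_isFirstSlope F lam hlam M hM o (fun n _ => ho n))
  subst hl
  have h1 : r ≤ o s := le_of_isOrd F M s (o s) r (ho s) h
  have h2 := hbd s hs
  have h3 : (r : ℝ) ≤ o s := by exact_mod_cast h1
  linarith

theorem exists_iter_le_of_lt (hτ : PresW τ) (F : N →ₛₗ[τ] N) (hF : IsIsoc F) (lam : ℝ)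
    (hlam : IsFirstSlope F lam) (M : Submodule (WittVector p k) N) (hM : M.IsLattice K(p, k))
    (s : ℕ) (hs : 0 < s) (r : ℤ) (h : (r : ℝ) < lam * s) (c : ℕ) :
    ∃ j : ℕ, 1 ≤ j ∧ latImg F (s * j) M ≤ pPow (r * j + c) M := by
  haveI := nontrivial_of_isFirstSlope F lam hlam
  obtain ⟨o, ho, lam', hlim, -⟩ := exists_ordSeq hτ F hF M hM
  have hl : lam' = lam :=
    tendsto_nhds_unique hlim (tendsto_of_isFirstSlope F lam hlam M hM o (fun n _ => ho n))
  subst hl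
  have hsR : (0 : ℝ) < s := by exact_mod_cast hs
  have hlt : (r : ℝ) / s < lam' := by rw [div_lt_iff₀ hsR]; exact h
  obtain ⟨δ, hδpos, hδ⟩ : ∃ δ : ℝ, 0 < δ ∧ (r : ℝ) / s + δ < lam' :=
    ⟨(lam' - r / s) / 2, by linarith, by linarith⟩
  have hev : ∀ᶠ n : ℕ in atTop, (r : ℝ) / s + δ < (o n : ℝ) / n := hlim.eventually_const_lt hδ
  obtain ⟨n₀, hn₀⟩ := eventually_atTop.mp hev
  obtain ⟨m, hm⟩ := exists_nat_gt ((c : ℝ) / δ)
  have hj1 : 1 ≤ max n₀ m + 1 := by omega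
  refine ⟨max n₀ m + 1, hj1, ?_⟩
  generalize hjdef : max n₀ m + 1 = j at hj1 ⊢
  have hjn : n₀ ≤ j := by omega
  have hjm : m ≤ j := by omega
  have hjn₀ : n₀ ≤ s * j :=
    calc n₀ ≤ j := hjn
      _ = 1 * j := (one_mul j).symm
      _ ≤ s * j := Nat.mul_le_mul_right j hs
  have h1 := hn₀ (s * j) hjn₀
  have hjpos : (0 : ℝ) < j := by exact_mod_cast hj1
  have hsj : (0 : ℝ) < ((s * j : ℕ) : ℝ) := by push_cast; positivity
  rw [lt_div_iff₀ hsj] at h1
  have hmj : (c : ℝ) < δ * j := by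
    have h4 : (c : ℝ) / δ < j := lt_of_lt_of_le hm (by exact_mod_cast hjm)
    have := (div_lt_iff₀ hδpos).mp h4
    linarith [mul_comm (j : ℝ) δ]
  have h2 : ((r * j + c : ℤ) : ℝ) ≤ o (s * j) := by
    push_cast at h1 ⊢
    have e : ((r : ℝ) / s + δ) * (s * j) = r * j + δ * (s * j) := by field_simp
    rw [e] at h1
    have hs1 : (1 : ℝ) ≤ s := by exact_mod_cast hs
    have : δ * j ≤ δ * (s * j) := by nlinarith
    linarith
  have h3 : r * j + c ≤ o (s * j) := by exact_mod_cast h2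
  exact (ho (s * j)).1.trans (pPow_anti h3 M)

theorem latImg_twist_le_iff (F : N →ₛₗ[τ] N) (r : ℤ) (s j : ℕ) (c : ℤ)
    (M M' : Submodule (WittVector p k) N) :
    latImg (((p : K(p, k)) ^ (-r)) • iter F s) j M ≤ pPow c M' ↔
      latImg F (s * j) M ≤ pPow (r * j + c) M' := by
  rw [latImg_zpow_smul_iter, pPow_le_iff, pPow_pPow]
  have e : -(-r * (j : ℤ)) + c = r * j + c := by ring
  rw [e]

theorem latImg_twist_one_le_iff (F : N →ₛₗ[τ] N) (r : ℤ) (s : ℕ)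
    (M : Submodule (WittVector p k) N) :
    latImg (((p : K(p, k)) ^ (-r)) • iter F s) 1 M ≤ M ↔ latImg F s M ≤ pPow r M := by
  have := latImg_twist_le_iff F r s 1 0 M M
  rw [pPow_zero] at this
  rw [this]
  simp only [mul_one, Nat.cast_one, add_zero]

theorem exists_lattice_of_lt (hτ : PresW τ) (F : N →ₛₗ[τ] N) (hF : IsIsoc F) (lam : ℝ)
    (hlam : IsFirstSlope F lam) (h : ℕ) (hh : Module.finrank K(p, k) N = h) (r : ℤ) (s : ℕ)
    (hs : 0 < s) (hlt : (r : ℝ) * (h + 1) - 1 < lam * (s * (h + 1))) :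
    ∃ M : Submodule (WittVector p k) N, M.IsLattice K(p, k) ∧ latImg F s M ≤ pPow r M := by
  have := hF.finite
  obtain ⟨M₀, hM₀, -⟩ := id hlam
  have hs' : 0 < s * (h + 1) := Nat.mul_pos hs (Nat.succ_pos h)
  obtain ⟨j, hj, hle⟩ := exists_iter_le_of_lt hτ F hF lam hlam M₀ hM₀ (s * (h + 1)) hs'
    (r * (h + 1) - 1) (by push_cast; linarith) 0
  have h1 : latImg (((p : K(p, k)) ^ (-(r * (h + 1) - 1))) • iter F (s * (h + 1))) j M₀ ≤
      pPow ((0 : ℕ) : ℤ) M₀ := (latImg_twist_le_iff F _ _ j _ M₀ M₀).mpr hle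
  obtain ⟨M₁, hM₁, hst₁, -⟩ := exists_stable_of_iter_le (presW_pow hτ _) _ M₀ hM₀ j hj 0 h1
  have h2 : latImg F (s * (h + 1)) M₁ ≤ pPow (r * (h + 1) - 1) M₁ :=
    (latImg_twist_one_le_iff F _ _ M₁).mp hst₁
  have h3 : latImg (((p : K(p, k)) ^ (-r)) • iter F s) (h + 1) M₁ ≤ pPow (-1) M₁ := by
    rw [latImg_twist_le_iff]
    have e : r * ((h + 1 : ℕ) : ℤ) + -1 = r * (h + 1) - 1 := by push_cast; ring
    rw [e]
    exact h2
  obtain ⟨M₂, hM₂, hst₂⟩ := exists_stable_lattice (presW_pow hτ s) _ h hh M₁ hM₁ h3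
  exact ⟨M₂, hM₂, (latImg_twist_one_le_iff F r s M₂).mp hst₂⟩

theorem mul_add_one_le_of_lt (hτ : PresW τ) (F : N →ₛₗ[τ] N) (hF : IsIsoc F) (lam : ℝ)
    (hlam : IsFirstSlope F lam) (h : ℕ) (hh : Module.finrank K(p, k) N = h) (r : ℤ) (s : ℕ)
    (hs : 0 < s) (hlt : (r : ℝ) < lam * s) : (r : ℝ) * h + 1 ≤ lam * (s * h) := by
  have := hF.finite
  haveI := nontrivial_of_isFirstSlope F lam hlam
  have hh0 : 0 < h := by rw [← hh]; exact Module.finrank_pos
  obtain ⟨M₀, hM₀, -⟩ := id hlam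
  obtain ⟨j, hj, hle⟩ := exists_iter_le_of_lt hτ F hF lam hlam M₀ hM₀ s hs r hlt 1
  have h1 : latImg (((p : K(p, k)) ^ (-r)) • iter F s) j M₀ ≤ pPow ((1 : ℕ) : ℤ) M₀ :=
    (latImg_twist_le_iff F r s j _ M₀ M₀).mpr hle
  obtain ⟨M₁, hM₁, hst₁, hj₁⟩ := exists_stable_of_iter_le (presW_pow hτ s) _ M₀ hM₀ j hj 1 h1
  rw [Nat.cast_one] at hj₁
  have h2 := latImg_height_le_pPow_one (presW_pow hτ s) _ h hh M₁ hst₁ j hj₁
  have h3 : latImg F (s * h) M₁ ≤ pPow (r * h + 1) M₁ :=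
    (latImg_twist_le_iff F r s h 1 M₁ M₁).mp h2
  have := le_mul_of_latImg_le hτ F hF lam hlam M₁ hM₁ (s * h) (Nat.mul_pos hs hh0) (r * h + 1) h3
  push_cast at this
  linarith

theorem exists_lattice_of_le (hτ : PresW τ) (F : N →ₛₗ[τ] N) (hF : IsIsoc F) (lam : ℝ)
    (hlam : IsFirstSlope F lam) (r : ℤ) (s : ℕ) (hs : 0 < s) (hle : (r : ℝ) ≤ lam * s) :
    ∃ M : Submodule (WittVector p k) N, M.IsLattice K(p, k) ∧ latImg F s M ≤ pPow r M := by
  refine exists_lattice_of_lt hτ F hF lam hlam _ rfl r s hs ?_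
  have hH : (0 : ℝ) ≤ (Module.finrank K(p, k) N : ℝ) := Nat.cast_nonneg _
  nlinarith [mul_le_mul_of_nonneg_right hle
    (by linarith : (0 : ℝ) ≤ (Module.finrank K(p, k) N : ℝ) + 1)]

theorem exists_slope_eq_div (hτ : PresW τ) (F : N →ₛₗ[τ] N) (hF : IsIsoc F) (lam : ℝ)
    (hlam : IsFirstSlope F lam) (h : ℕ) (hh : Module.finrank K(p, k) N = h) :
    ∃ (r : ℤ) (s : ℕ), 0 < s ∧ s ≤ h ∧ lam * s = r := by
  have := hF.finite
  haveI := nontrivial_of_isFirstSlope F lam hlam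
  have hh0 : 0 < h := by rw [← hh]; exact Module.finrank_pos
  obtain ⟨s, hs, hsh, habs⟩ := Real.exists_nat_abs_mul_sub_round_le lam hh0
  refine ⟨round ((s : ℝ) * lam), s, hs, hsh, ?_⟩
  generalize round ((s : ℝ) * lam) = r at habs ⊢
  rw [abs_le] at habs
  obtain ⟨hlo, hhi⟩ := habs
  have hH : (1 : ℝ) ≤ h := by exact_mod_cast hh0
  have hS : (1 : ℝ) ≤ s := by exact_mod_cast hs
  have hpos : (0 : ℝ) < (h : ℝ) + 1 := by linarith
  have hhi' : ((s : ℝ) * lam - r) * ((h : ℝ) + 1) ≤ 1 := (le_div_iff₀ hpos).mp hhi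
  have hlo' : -1 ≤ ((s : ℝ) * lam - r) * ((h : ℝ) + 1) := by
    rw [← neg_div] at hlo
    exact (div_le_iff₀ hpos).mp hlo
  by_contra hne
  rcases lt_or_gt_of_ne hne with hlt | hgt
  · -- lam * s < r
    have hB := mul_add_one_le_of_lt hτ F hF lam hlam h hh (r * h - 1) (s * h)
      (Nat.mul_pos hs hh0) (by push_cast; nlinarith)
    push_cast at hB
    have key : 1 ≤ (h : ℝ) ^ 2 * (((s : ℝ) * lam - r) * ((h : ℝ) + 1) + 1) := by
      nlinarith [mul_le_mul_of_nonneg_right hB (by linarith : (0 : ℝ) ≤ (h : ℝ) + 1)]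
    have hA : (r : ℝ) * (h + 1) - 1 < lam * (s * (h + 1)) := by
      by_contra hneg
      push Not at hneg
      have h5 : ((s : ℝ) * lam - r) * ((h : ℝ) + 1) + 1 ≤ 0 := by linarith
      have h6 := mul_nonpos_of_nonneg_of_nonpos (sq_nonneg (h : ℝ)) h5
      linarith
    obtain ⟨M, hM, hMle⟩ := exists_lattice_of_lt hτ F hF lam hlam h hh r s hs hA
    have := le_mul_of_latImg_le hτ F hF lam hlam M hM s hs r hMle
    linarith
  · -- r < lam * s
    have hB := mul_add_one_le_of_lt hτ F hF lam hlam h hh r s hs hgt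
    nlinarith

end First

end Groth.Agent.H85
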