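import Groth.Agent.H85.IsocFirst
import Mathlib.RingTheory.WittVector.Complete

set_option autoImplicit false
set_option linter.unusedSectionVars false

open scoped Pointwise Isocrystal
open Isoc

universe u v

namespace Groth.Agent.H85

section Fit

variable {p : ℕ} [Fact p.Prime] {k : Type u} [Field k] [CharP k p] [PerfectRing k p]
variable {N : Type v} [AddCommGroup N] [Module (WittVector p k) N] [Module K(p, k) N]
  [IsScalarTower (WittVector p k) K(p, k) N]
variable {τ : K(p, k) →+* K(p, k)}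

/-- Completeness of `W(k)`: `p`-adic Cauchy sequences converge. -/
theorem witt_exists_limit (a : ℕ → WittVector p k)
    (h : ∀ c, ∃ w, a (c + 1) - a c = (p : WittVector p k) ^ c * w) :
    ∃ L : WittVector p k, ∀ c, ∃ w, L - a c = (p : WittVector p k) ^ c * w := by
  have hmem : ∀ (c : ℕ) (x : WittVector p k),
      x ∈ ((Ideal.span {(p : WittVector p k)}) ^ c • ⊤ :
        Submodule (WittVector p k) (WittVector p k)) ↔
        ∃ w, x = (p : WittVector p k) ^ c * w := by
    intro c x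
    simp only [Ideal.span_singleton_pow, smul_eq_mul, Ideal.mul_top, Ideal.mem_span_singleton']
    constructor
    · rintro ⟨w, hw⟩
      exact ⟨w, by rw [← hw, mul_comm]⟩
    · rintro ⟨w, hw⟩
      exact ⟨w, by rw [hw, mul_comm]⟩
  have hcauchy : ∀ {m n : ℕ}, m ≤ n → a m ≡ a n
      [SMOD ((Ideal.span {(p : WittVector p k)}) ^ m • ⊤ :
        Submodule (WittVector p k) (WittVector p k))] := by
    intro m n hmn
    rw [SModEq.sub_mem, hmem]
    induction n, hmn using Nat.le_induction with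
    | base => exact ⟨0, by simp⟩
    | succ n hmn ih =>
      obtain ⟨w, hw⟩ := ih
      obtain ⟨w', hw'⟩ := h n
      obtain ⟨d, rfl⟩ := Nat.exists_eq_add_of_le hmn
      refine ⟨w - (p : WittVector p k) ^ d * w', ?_⟩
      have e : a m - a (m + d + 1) = (a m - a (m + d)) - (a (m + d + 1) - a (m + d)) := by ring
      rw [e, hw, hw', pow_add]
      ring
  obtain ⟨L, hL⟩ := IsPrecomplete.prec' (I := Ideal.span {(p : WittVector p k)}) a hcauchy
  refine ⟨L, fun c => ?_⟩
  have := hL c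
  rw [SModEq.sub_mem, hmem] at this
  obtain ⟨w, hw⟩ := this
  exact ⟨-w, by rw [mul_neg, ← hw]; ring⟩

/-- Completeness of a lattice with a basis. -/
theorem lattice_exists_limit {ι : Type*} [Fintype ι] [DecidableEq ι]
    (e : Module.Basis ι K(p, k) N) (u : ℕ → N)
    (hu : ∀ c, u c ∈ Submodule.span (WittVector p k) (Set.range e))
    (hc : ∀ c : ℕ, u (c + 1) - u c ∈
      pPow (c : ℤ) (Submodule.span (WittVector p k) (Set.range e))) :
    ∃ L ∈ Submodule.span (WittVector p k) (Set.range e),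
      ∀ c : ℕ, L - u c ∈ pPow (c : ℤ) (Submodule.span (WittVector p k) (Set.range e)) := by
  have ha : ∀ c i, ∃ w : WittVector p k,
      e.repr (u c) i = algebraMap (WittVector p k) K(p, k) w :=
    fun c => (mem_span_range_basis_iff e (u c)).mp (hu c)
  choose a ha using ha
  have hstep : ∀ i c, ∃ w, a (c + 1) i - a c i = (p : WittVector p k) ^ c * w := by
    intro i c
    obtain ⟨w, hw⟩ := (mem_pPow_span_range_basis_iff e (c : ℤ) _).mp (hc c) i
    refine ⟨w, ?_⟩
    apply algebraMap_W_injective (p := p) (k := k)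
    rw [map_sub, ← ha, ← ha, map_mul, map_pow, map_natCast, ← zpow_natCast, ← hw, map_sub,
      Finsupp.sub_apply]
  have hL : ∀ i, ∃ L : WittVector p k, ∀ c, ∃ w, L - a c i = (p : WittVector p k) ^ c * w :=
    fun i => witt_exists_limit (fun c => a c i) (hstep i)
  choose L hL using hL
  let y : N := e.equivFun.symm (fun i => algebraMap (WittVector p k) K(p, k) (L i))
  have hyrepr : ∀ i, e.repr y i = algebraMap (WittVector p k) K(p, k) (L i) := by
    intro i
    exact congrFun (e.equivFun.apply_symm_apply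
      (fun i => algebraMap (WittVector p k) K(p, k) (L i))) i
  refine ⟨y, (mem_span_range_basis_iff e y).mpr fun i => ⟨L i, hyrepr i⟩, fun c => ?_⟩
  rw [mem_pPow_span_range_basis_iff]
  intro i
  obtain ⟨w, hw⟩ := hL i c
  refine ⟨w, ?_⟩
  rw [map_sub, Finsupp.sub_apply, hyrepr, ha, ← map_sub, hw, map_mul, map_pow, map_natCast,
    zpow_natCast]

theorem iterate_sub' (F : N →ₛₗ[τ] N) (s : ℕ) (x y : N) :
    (⇑F)^[s] (x - y) = (⇑F)^[s] x - (⇑F)^[s] y := by
  have := iterate_add' F s (x - y) y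
  rw [sub_add_cancel] at this
  rw [this, add_sub_cancel_right]

theorem iterate_comm (F : N →ₛₗ[τ] N) (a b : ℕ) (x : N) :
    (⇑F)^[a] ((⇑F)^[b] x) = (⇑F)^[b] ((⇑F)^[a] x) := by
  rw [← Function.iterate_add_apply, ← Function.iterate_add_apply, add_comm]

theorem iterate_mem_of_stable (hτ : PresW τ) (Φ : N →ₛₗ[τ] N) (M : Submodule (WittVector p k) N)
    (hst : latImg Φ 1 M ≤ M) (t : ℕ) {x : N} (hx : x ∈ M) : (⇑Φ)^[t] x ∈ M :=
  latImg_le_self_of_stable hτ Φ M hst t (iterate_mem_latImg Φ t M hx)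

theorem iterate_mem_pPow_of_stable (hτ : PresW τ) (Φ : N →ₛₗ[τ] N)
    (M : Submodule (WittVector p k) N) (hst : latImg Φ 1 M ≤ M) (t : ℕ) (c : ℤ) {x : N}
    (hx : x ∈ pPow c M) : (⇑Φ)^[t] x ∈ pPow c M := by
  obtain ⟨y, hy, rfl⟩ := (mem_pPow_iff_exists _ _ _).mp hx
  rw [iterate_zpow_smul]
  exact smul_mem_pPow c M (iterate_mem_of_stable hτ Φ M hst t hy)

theorem latImg_antitone_of_stable (hτ : PresW τ) (Φ : N →ₛₗ[τ] N)
    (M : Submodule (WittVector p k) N) (hst : latImg Φ 1 M ≤ M) {a b : ℕ} (hab : a ≤ b) :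
    latImg Φ b M ≤ latImg Φ a M :=
  antitone_nat_of_succ_le (f := fun t => latImg Φ t M)
    (fun t => latImg_le_of_stable hτ Φ M hst t) hab

theorem exists_image_stab (hτ : PresW τ) [Module.Finite K(p, k) N] (Φ : N →ₛₗ[τ] N)
    (h : ℕ) (hh : Module.finrank K(p, k) N = h) (M : Submodule (WittVector p k) N)
    (hst : latImg Φ 1 M ≤ M) :
    ∃ m, m ≤ h ∧ ∀ t, latImg Φ (m + t) M ⊔ pPow 1 M = latImg Φ m M ⊔ pPow 1 M := by
  set Z : ℕ → Submodule (WittVector p k) N := fun i => latImg Φ i M ⊔ pPow 1 M with hZ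
  have hpM : pPow 1 M ≤ M := by
    have := pPow_natCast_le 1 M
    simpa using this
  have hZsucc : ∀ i, Z (i + 1) = latImg Φ 1 (Z i) ⊔ pPow 1 M := by
    intro i
    simp only [hZ]
    rw [latImg_sup, ← latImg_add hτ, latImg_pPow, sup_assoc,
      sup_eq_right.mpr (pPow_mono 1 hst), add_comm]
  have hZanti : Antitone Z := by
    apply antitone_nat_of_succ_le
    intro i
    exact sup_le_sup_right (latImg_le_of_stable hτ Φ M hst i) _
  have hmono : Monotone fun i => Z (h + 1 - i) := by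
    intro i i' hii'
    exact hZanti (by omega)
  have hp : pPow 1 (Z (h + 1 - (h + 1))) ≤ Z (h + 1 - 0) := by
    have e0 : Z (h + 1 - (h + 1)) = M := by
      simp only [hZ, Nat.sub_self, latImg_zero]
      exact sup_eq_left.mpr hpM
    rw [e0]
    exact le_sup_right
  obtain ⟨i, hi, hZi⟩ := chain_lemma h hh (fun i => Z (h + 1 - i)) hmono hp
  have hm : Z (h - i + 1) = Z (h - i) := by
    have e1 : h + 1 - i = h - i + 1 := by omega
    have e2 : h + 1 - (i + 1) = h - i := by omega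
    simp only [e1, e2] at hZi
    exact hZi
  have hstab : ∀ t, Z (h - i + t) = Z (h - i) := by
    intro t
    induction t with
    | zero => rfl
    | succ t ih =>
      have : h - i + (t + 1) = (h - i + t) + 1 := by ring
      rw [this, hZsucc, ih, ← hZsucc, hm]
  exact ⟨h - i, by omega, hstab⟩

theorem latImg_succ_height_le (hτ : PresW τ) [Module.Finite K(p, k) N] (Φ : N →ₛₗ[τ] N)
    (h : ℕ) (hh : Module.finrank K(p, k) N = h) (M : Submodule (WittVector p k) N)
    (hst : latImg Φ 1 M ≤ M) (n : ℕ) :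
    latImg Φ (h + 1) M ≤ latImg Φ n M ⊔ pPow 1 M := by
  obtain ⟨m, hm, hstab⟩ := exists_image_stab hτ Φ h hh M hst
  by_cases hn : n ≤ h + 1
  · exact (latImg_antitone_of_stable hτ Φ M hst hn).trans le_sup_left
  · have e1 := hstab (h + 1 - m)
    have e2 := hstab (n - m)
    have e3 : m + (h + 1 - m) = h + 1 := by omega
    have e4 : m + (n - m) = n := by omega
    rw [e3] at e1
    rw [e4] at e2
    calc latImg Φ (h + 1) M ≤ latImg Φ (h + 1) M ⊔ pPow 1 M := le_sup_left
      _ = latImg Φ m M ⊔ pPow 1 M := e1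
      _ = latImg Φ n M ⊔ pPow 1 M := e2.symm

/-- The submodule of `M` killed mod `p` by `Φ^i`. -/
noncomputable def kerP (hτ : PresW τ) (Φ : N →ₛₗ[τ] N) (M : Submodule (WittVector p k) N)
    (i : ℕ) : Submodule (WittVector p k) N where
  carrier := {x | x ∈ M ∧ (⇑Φ)^[i] x ∈ pPow 1 M}
  add_mem' := by
    rintro x y ⟨hx, hx'⟩ ⟨hy, hy'⟩
    refine ⟨M.add_mem hx hy, ?_⟩
    rw [iterate_add']
    exact (pPow 1 M).add_mem hx' hy'
  zero_mem' := by
    refine ⟨M.zero_mem, ?_⟩
    rw [iterate_zero']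
    exact (pPow 1 M).zero_mem
  smul_mem' := by
    rintro w x ⟨hx, hx'⟩
    obtain ⟨w', hw'⟩ := iterate_smul_W hτ Φ i w x
    refine ⟨M.smul_mem w hx, ?_⟩
    rw [hw']
    exact (pPow 1 M).smul_mem w' hx'

theorem mem_kerP (hτ : PresW τ) (Φ : N →ₛₗ[τ] N) (M : Submodule (WittVector p k) N) (i : ℕ)
    (x : N) : x ∈ kerP hτ Φ M i ↔ x ∈ M ∧ (⇑Φ)^[i] x ∈ pPow 1 M := Iff.rfl

theorem iterate_succ_height_mem (hτ : PresW τ) [Module.Finite K(p, k) N] (Φ : N →ₛₗ[τ] N)
    (h : ℕ) (hh : Module.finrank K(p, k) N = h) (M : Submodule (WittVector p k) N)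
    (hst : latImg Φ 1 M ≤ M) {x : N} (hx : x ∈ M) (n : ℕ)
    (hn : (⇑Φ)^[n] x ∈ pPow 1 M) : (⇑Φ)^[h + 1] x ∈ pPow 1 M := by
  have hstep : ∀ i, kerP hτ Φ M i ≤ kerP hτ Φ M (i + 1) := by
    intro i y hy
    rw [mem_kerP] at hy ⊢
    refine ⟨hy.1, ?_⟩
    rw [Function.iterate_succ_apply']
    have := iterate_mem_pPow_of_stable hτ Φ M hst 1 1 hy.2
    simpa using this
  have hmono : Monotone fun i => kerP hτ Φ M i := monotone_nat_of_le_succ hstep
  have hleM : ∀ i, kerP hτ Φ M i ≤ M := fun i y hy => hy.1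
  have hpM : pPow 1 M ≤ M := by
    have := pPow_natCast_le 1 M
    simpa using this
  have hp : pPow 1 (kerP hτ Φ M (h + 1)) ≤ kerP hτ Φ M 0 := by
    intro y hy
    have h1 : y ∈ pPow 1 M := pPow_mono 1 (hleM (h + 1)) hy
    exact ⟨hpM h1, h1⟩
  obtain ⟨i, hi, hYi⟩ := chain_lemma h hh (fun i => kerP hτ Φ M i) hmono hp
  have hstab : ∀ t, kerP hτ Φ M (i + t) = kerP hτ Φ M i := by
    intro t
    induction t with
    | zero => rfl
    | succ t ih =>
      apply le_antisymm
      · intro y hy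
        rw [mem_kerP] at hy
        have hΦy : Φ y ∈ kerP hτ Φ M (i + t) := by
          refine ⟨?_, ?_⟩
          · have := iterate_mem_of_stable hτ Φ M hst 1 hy.1
            simpa using this
          · have e : i + (t + 1) = (i + t) + 1 := by ring
            rw [e, Function.iterate_succ_apply] at hy
            exact hy.2
        rw [ih] at hΦy
        have : y ∈ kerP hτ Φ M (i + 1) := by
          refine ⟨hy.1, ?_⟩
          rw [Function.iterate_succ_apply]
          exact hΦy.2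
        rw [← hYi] at this
        exact this
      · exact hmono (Nat.le_add_right i (t + 1))
  have hxn : x ∈ kerP hτ Φ M (i + n) := hmono (Nat.le_add_left n i) ⟨hx, hn⟩
  rw [hstab n] at hxn
  have e : h + 1 = (h + 1 - i) + i := by omega
  rw [e, Function.iterate_add_apply]
  exact iterate_mem_pPow_of_stable hτ Φ M hst _ 1 hxn.2

theorem latImg_mul_le (hτ : PresW τ) [Module.Finite K(p, k) N] (Φ : N →ₛₗ[τ] N)
    (h : ℕ) (hh : Module.finrank K(p, k) N = h) (M : Submodule (WittVector p k) N)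
    (hst : latImg Φ 1 M ≤ M) (c n : ℕ) :
    latImg Φ (c * (h + 1)) M ≤ latImg Φ n M ⊔ pPow (c : ℤ) M := by
  induction c with
  | zero =>
    rw [Nat.zero_mul, latImg_zero, Nat.cast_zero, pPow_zero]
    exact le_sup_right
  | succ c ih =>
    have e : (c + 1) * (h + 1) = (h + 1) + c * (h + 1) := by ring
    have hA : latImg Φ (h + 1) (latImg Φ n M) ≤ latImg Φ n M := by
      rw [← latImg_add hτ]
      exact latImg_antitone_of_stable hτ Φ M hst (Nat.le_add_left n (h + 1))
    have hB : pPow (c : ℤ) (latImg Φ (h + 1) M) ≤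
        pPow (c : ℤ) (latImg Φ n M ⊔ pPow 1 M) :=
      pPow_mono _ (latImg_succ_height_le hτ Φ h hh M hst n)
    rw [e, latImg_add hτ, Nat.cast_succ]
    calc latImg Φ (h + 1) (latImg Φ (c * (h + 1)) M)
        ≤ latImg Φ (h + 1) (latImg Φ n M ⊔ pPow (c : ℤ) M) := latImg_mono _ _ ih
      _ = latImg Φ (h + 1) (latImg Φ n M) ⊔ pPow (c : ℤ) (latImg Φ (h + 1) M) := by
          rw [latImg_sup, latImg_pPow]
      _ ≤ latImg Φ n M ⊔ pPow (c : ℤ) (latImg Φ n M ⊔ pPow 1 M) := sup_le_sup hA hB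
      _ = latImg Φ n M ⊔ (pPow (c : ℤ) (latImg Φ n M) ⊔ pPow ((c : ℤ) + 1) M) := by
          rw [pPow_sup, pPow_pPow]
      _ ≤ latImg Φ n M ⊔ pPow ((c : ℤ) + 1) M :=
          sup_le le_sup_left (sup_le ((pPow_natCast_le c _).trans le_sup_left) le_sup_right)

theorem iterate_mul_mem (hτ : PresW τ) [Module.Finite K(p, k) N] (Φ : N →ₛₗ[τ] N)
    (h : ℕ) (hh : Module.finrank K(p, k) N = h) (M : Submodule (WittVector p k) N)
    (hst : latImg Φ 1 M ≤ M) (c : ℕ) :
    ∀ x ∈ M, ∀ n : ℕ, (⇑Φ)^[n] x ∈ pPow (c : ℤ) M →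
      (⇑Φ)^[c * (h + 1)] x ∈ pPow (c : ℤ) M := by
  induction c with
  | zero =>
    intro x hx n _
    rw [Nat.zero_mul, Nat.cast_zero, pPow_zero]
    exact hx
  | succ c ih =>
    intro x hx n hn
    have hn' : (⇑Φ)^[n] x ∈ pPow (c : ℤ) M :=
      pPow_anti (by push_cast; omega) M hn
    have h1 := ih x hx n hn'
    obtain ⟨y, hy, hyx⟩ := (mem_pPow_iff_exists _ _ _).mp h1
    have h2 : (⇑Φ)^[n] y ∈ pPow 1 M := by
      have h3 : (⇑Φ)^[c * (h + 1)] ((⇑Φ)^[n] x) ∈ pPow ((c + 1 : ℕ) : ℤ) M :=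
        iterate_mem_pPow_of_stable hτ Φ M hst _ _ hn
      rw [iterate_comm Φ (c * (h + 1)) n x, ← hyx, iterate_zpow_smul, mem_pPow_iff, smul_smul,
        ← zpow_add₀ pL_ne_zero] at h3
      have e2 : -(((c + 1 : ℕ) : ℤ)) + (c : ℤ) = -1 := by push_cast; ring
      rw [e2] at h3
      rw [mem_pPow_iff]
      exact h3
    have h4 := iterate_succ_height_mem hτ Φ h hh M hst hy n h2
    have e : (c + 1) * (h + 1) = (h + 1) + c * (h + 1) := by ring
    rw [e, Function.iterate_add_apply, ← hyx, iterate_zpow_smul]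
    obtain ⟨z, hz, hzy⟩ := (mem_pPow_iff_exists _ _ _).mp h4
    rw [← hzy, smul_smul, ← zpow_add₀ pL_ne_zero]
    have e3 : (c : ℤ) + 1 = ((c + 1 : ℕ) : ℤ) := by push_cast; ring
    rw [e3]
    exact smul_mem_pPow _ M hz

/-- Fitting decomposition of the elements of a `Φ`-stable lattice: every element is the sum of an
element of `⋂ Φ^n M` and a topologically nilpotent element. -/
theorem fitting_decomp (hτ : PresW τ) (hτ' : SurjW τ) [Module.Finite K(p, k) N]
    (Φ : N →ₛₗ[τ] N) (hsurj : Function.Surjective Φ)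
    (M : Submodule (WittVector p k) N) (hM : M.IsLattice K(p, k)) (hst : latImg Φ 1 M ≤ M)
    (x : N) (hx : x ∈ M) :
    ∃ u v : N, x = u + v ∧ (∀ n, u ∈ latImg Φ n M) ∧ v ∈ M ∧
      ∀ c : ℕ, (⇑Φ)^[c * (Module.finrank K(p, k) N + 1)] v ∈ pPow (c : ℤ) M := by
  set h := Module.finrank K(p, k) N with hh
  have hlatM : ∀ t, latImg Φ t M ≤ M := latImg_le_self_of_stable hτ Φ M hst
  -- level-c decompositions
  have hdec : ∀ c : ℕ, ∃ u v : N, u ∈ latImg Φ (c * (h + 1)) M ∧ v ∈ M ∧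
      (⇑Φ)^[c * (h + 1)] v ∈ pPow (c : ℤ) M ∧ x = u + v := by
    intro c
    have h1 : (⇑Φ)^[c * (h + 1)] x ∈ latImg Φ (c * (h + 1)) M := iterate_mem_latImg Φ _ M hx
    have h2 := latImg_mul_le hτ Φ h hh.symm M hst c (c * (h + 1) + c * (h + 1)) h1
    obtain ⟨a, ha, t, ht, hat⟩ := Submodule.mem_sup.mp h2
    obtain ⟨y, hy, rfl⟩ := (mem_latImg_iff hτ' Φ _ M a).mp ha
    have huM : (⇑Φ)^[c * (h + 1)] y ∈ latImg Φ (c * (h + 1)) M := iterate_mem_latImg Φ _ M hy
    refine ⟨(⇑Φ)^[c * (h + 1)] y, x - (⇑Φ)^[c * (h + 1)] y, huM,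
      M.sub_mem hx (hlatM _ huM), ?_, by abel⟩
    rw [iterate_sub', ← Function.iterate_add_apply, ← hat, add_sub_cancel_left]
    exact ht
  choose u v hu hv hv' hxuv using hdec
  have huM : ∀ c, u c ∈ M := fun c => hlatM _ (hu c)
  -- Cauchy
  have hcauchy : ∀ c : ℕ, u (c + 1) - u c ∈ pPow (c : ℤ) M := by
    intro c
    have hd1 : u (c + 1) - u c ∈ latImg Φ (c * (h + 1)) M := by
      refine Submodule.sub_mem _ ?_ (hu c)
      exact latImg_antitone_of_stable hτ Φ M hst
        (Nat.mul_le_mul_right (h + 1) (Nat.le_succ c)) (hu (c + 1))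
    have hd2 : u (c + 1) - u c = v c - v (c + 1) := by
      have e1 := hxuv c
      have e2 := hxuv (c + 1)
      have : u c + v c = u (c + 1) + v (c + 1) := e1.symm.trans e2
      rw [sub_eq_sub_iff_add_eq_add, add_comm (v c)]
      exact this.symm
    have hd3 : (⇑Φ)^[c * (h + 1)] (u (c + 1) - u c) ∈ pPow (c : ℤ) M := by
      rw [hd2, iterate_sub']
      refine Submodule.sub_mem _ (hv' c) ?_
      refine iterate_mul_mem hτ Φ h hh.symm M hst c (v (c + 1)) (hv (c + 1))
        ((c + 1) * (h + 1)) ?_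
      exact pPow_anti (by push_cast; omega) M (hv' (c + 1))
    obtain ⟨y, hy, hyd⟩ := (mem_latImg_iff hτ' Φ _ M _).mp hd1
    rw [← hyd] at hd3 ⊢
    rw [← Function.iterate_add_apply] at hd3
    exact iterate_mul_mem hτ Φ h hh.symm M hst c y hy _ hd3
  -- limit
  obtain ⟨e, he⟩ := exists_lattice_basis (Module.finBasis K(p, k) N) M hM
  have hu' : ∀ c, u c ∈ Submodule.span (WittVector p k) (Set.range e) := by
    intro c; rw [← he]; exact huM c
  have hc' : ∀ c : ℕ, u (c + 1) - u c ∈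
      pPow (c : ℤ) (Submodule.span (WittVector p k) (Set.range e)) := by
    intro c; rw [← he]; exact hcauchy c
  obtain ⟨L, hL, hLu⟩ := lattice_exists_limit e u hu' hc'
  rw [← he] at hL
  have hLu' : ∀ c : ℕ, L - u c ∈ pPow (c : ℤ) M := by
    intro c; have := hLu c; rwa [← he] at this
  refine ⟨L, x - L, by abel, ?_, M.sub_mem hx hL, ?_⟩
  · intro n
    obtain ⟨c₀, hc₀⟩ := exists_pPow_le_latImg_one hτ Φ hsurj M hM
    have hbig := pPow_mul_le_latImg hτ Φ M c₀ hc₀ n
    set c := max n (c₀ * n) with hcdef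
    have e1 : L = u c + (L - u c) := by abel
    rw [e1]
    refine Submodule.add_mem _ ?_ ?_
    · refine latImg_antitone_of_stable hτ Φ M hst ?_ (hu c)
      calc n ≤ c := le_max_left _ _
        _ ≤ c * (h + 1) := Nat.le_mul_of_pos_right c (Nat.succ_pos h)
    · refine hbig (pPow_anti ?_ M (hLu' c))
      have : c₀ * n ≤ c := le_max_right _ _
      exact_mod_cast this
  · intro c
    have e1 : x - L = v c - (L - u c) := by
      have := hxuv c
      rw [this]
      abel
    rw [e1, iterate_sub']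
    exact Submodule.sub_mem _ (hv' c) (iterate_mem_pPow_of_stable hτ Φ M hst _ _ (hLu' c))

end Fit

end Groth.Agent.H85
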