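import Groth.Agent.H85.IsocSemi

set_option autoImplicit false
set_option linter.unusedSectionVars false

open scoped Pointwise Isocrystal
open Isoc Polynomial

universe u v

namespace Groth.Agent.H85

section ModPFix

variable {k : Type*} [Field k]

/-- The polynomials solving the cyclic system for `G x - x = y0 • v 0`. -/
noncomputable def langPolyG (q : ℕ) (l : ℕ → k) (y0 : k) : ℕ → k[X]
  | 0 => C (l 0) * X ^ q - C y0
  | (i + 1) => langPolyG q l y0 i ^ q + C (l (i + 1)) * X ^ q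

theorem langPolyG_zero (q : ℕ) (l : ℕ → k) (y0 : k) :
    langPolyG q l y0 0 = C (l 0) * X ^ q - C y0 := rfl

theorem langPolyG_succ (q : ℕ) (l : ℕ → k) (y0 : k) (i : ℕ) :
    langPolyG q l y0 (i + 1) = langPolyG q l y0 i ^ q + C (l (i + 1)) * X ^ q := rfl

theorem derivative_langPolyG (q : ℕ) (hq : (q : k) = 0) (l : ℕ → k) (y0 : k) (i : ℕ) :
    derivative (langPolyG q l y0 i) = 0 := by
  induction i with
  | zero =>
    rw [langPolyG_zero, derivative_sub, derivative_C, sub_zero, derivative_C_mul,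
      derivative_X_pow, hq, C_0, zero_mul, mul_zero]
  | succ i _ =>
    rw [langPolyG_succ, derivative_add, derivative_pow, hq, C_0, zero_mul, zero_mul, zero_add,
      derivative_C_mul, derivative_X_pow, hq, C_0, zero_mul, mul_zero]

theorem cyclic_solution (q : ℕ) {V : Type*} [AddCommGroup V] [Module k V] {φ : k →+* k}
    (hφ : ∀ c, φ c = c ^ q) (G : V →ₛₗ[φ] V) (v : ℕ → V) (hvs : ∀ i, G (v i) = v (i + 1))
    (l : ℕ → k) (m : ℕ) (hsum : ∑ i ∈ Finset.range (m + 1), l i • v i = v (m + 1))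
    (y0 u : k) (hu : (langPolyG q l y0 m).eval u = u) :
    G (∑ i ∈ Finset.range (m + 1), (langPolyG q l y0 i).eval u • v i) -
      ∑ i ∈ Finset.range (m + 1), (langPolyG q l y0 i).eval u • v i = y0 • v 0 := by
  have hsum' : v (m + 1) = ∑ i ∈ Finset.range m, l (i + 1) • v (i + 1) + l 0 • v 0 := by
    rw [← hsum, Finset.sum_range_succ']
  obtain ⟨t, ht, ht0, hts, htm⟩ : ∃ t : ℕ → k, (∀ i, t i = (langPolyG q l y0 i).eval u) ∧
      t 0 = l 0 * u ^ q - y0 ∧ (∀ i, t (i + 1) = t i ^ q + l (i + 1) * u ^ q) ∧ t m = u := by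
    refine ⟨fun i => (langPolyG q l y0 i).eval u, fun i => rfl, ?_, ?_, hu⟩
    · simp only [langPolyG_zero, eval_sub, eval_mul, eval_C, eval_pow, eval_X]
    · intro i
      simp only [langPolyG_succ, eval_add, eval_mul, eval_C, eval_pow, eval_X]
  simp only [← ht]
  have e1 : ∀ i, G (t i • v i) = (t i ^ q) • v (i + 1) := fun i => by
    rw [map_smulₛₗ, hφ, hvs]
  have hG : G (∑ i ∈ Finset.range (m + 1), t i • v i) =
      ∑ i ∈ Finset.range m, (t i ^ q) • v (i + 1) +
        (u ^ q) • (∑ i ∈ Finset.range m, l (i + 1) • v (i + 1) + l 0 • v 0) := by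
    rw [map_sum, Finset.sum_range_succ]
    simp only [e1]
    rw [htm, hsum']
  have hx : ∑ i ∈ Finset.range (m + 1), t i • v i =
      ∑ i ∈ Finset.range m, t (i + 1) • v (i + 1) + t 0 • v 0 :=
    Finset.sum_range_succ' _ m
  have hcoef : ∀ i, t i ^ q + u ^ q * l (i + 1) - t (i + 1) = 0 := by
    intro i; rw [hts]; ring
  have hcoef0 : u ^ q * l 0 - t 0 = y0 := by rw [ht0]; ring
  rw [hG, hx]
  calc _ = ∑ i ∈ Finset.range m, (t i ^ q + u ^ q * l (i + 1) - t (i + 1)) • v (i + 1) +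
        (u ^ q * l 0 - t 0) • v 0 := by
        simp only [Finset.smul_sum, smul_add, sub_smul, add_smul, mul_smul,
          Finset.sum_add_distrib, Finset.sum_sub_distrib]
        abel
    _ = y0 • v 0 := by
        simp only [hcoef, hcoef0, zero_smul, Finset.sum_const_zero, zero_add]

theorem eval_zero_langPolyG (q : ℕ) (hq0 : q ≠ 0) (l : ℕ → k) (i : ℕ) :
    (langPolyG q l 0 i).eval 0 = 0 := by
  induction i with
  | zero =>
    simp only [langPolyG_zero, eval_sub, eval_mul, eval_C, eval_pow, eval_X, zero_pow hq0,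
      mul_zero, sub_zero]
  | succ i ih =>
    simp only [langPolyG_succ, eval_add, eval_mul, eval_C, eval_pow, eval_X, ih, zero_pow hq0,
      mul_zero, add_zero]

theorem langPolyG_eq_zero (q : ℕ) (hq0 : q ≠ 0) (l : ℕ → k) (i : ℕ) (h : ∀ j ≤ i, l j = 0) :
    langPolyG q l 0 i = 0 := by
  induction i with
  | zero =>
    rw [langPolyG_zero, h 0 le_rfl, C_0, zero_mul, sub_zero]
  | succ i ih =>
    rw [langPolyG_succ, ih fun j hj => h j (Nat.le_succ_of_le hj), h (i + 1) le_rfl, C_0,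
      zero_mul, add_zero, zero_pow hq0]

theorem two_le_natDegree_langPolyG (q : ℕ) (hq2 : 2 ≤ q) (l : ℕ → k) (i : ℕ)
    (h : ∃ j ≤ i, l j ≠ 0) : 2 ≤ (langPolyG q l 0 i).natDegree := by
  have hq0 : q ≠ 0 := by omega
  induction i with
  | zero =>
    obtain ⟨j, hj, hlj⟩ := h
    have hj0 : j = 0 := by omega
    subst hj0
    rw [langPolyG_zero, C_0, sub_zero, natDegree_C_mul_X_pow q (l 0) hlj]
    exact hq2
  | succ i ih =>
    rw [langPolyG_succ]
    by_cases h' : ∃ j ≤ i, l j ≠ 0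
    · have hD := ih h'
      have h1 : (langPolyG q l 0 i ^ q).natDegree = q * (langPolyG q l 0 i).natDegree :=
        natDegree_pow _ _
      have h2 : (C (l (i + 1)) * X ^ q : k[X]).natDegree ≤ q := natDegree_C_mul_X_pow_le _ _
      have h3 : (C (l (i + 1)) * X ^ q : k[X]).natDegree < (langPolyG q l 0 i ^ q).natDegree := by
        rw [h1]
        calc (C (l (i + 1)) * X ^ q : k[X]).natDegree ≤ q := h2
          _ < q * 2 := by omega
          _ ≤ q * (langPolyG q l 0 i).natDegree := Nat.mul_le_mul_left q hD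
      rw [natDegree_add_eq_left_of_natDegree_lt h3, h1]
      calc 2 ≤ q := hq2
        _ ≤ q * 2 := by omega
        _ ≤ q * (langPolyG q l 0 i).natDegree := Nat.mul_le_mul_left q hD
    · push Not at h'
      obtain ⟨j, hj, hlj⟩ := h
      have hj' : j = i + 1 := by
        by_contra hne
        exact hlj (h' j (by omega))
      subst hj'
      rw [langPolyG_eq_zero q hq0 l i h', zero_pow hq0, zero_add,
        natDegree_C_mul_X_pow q _ hlj]
      exact hq2

/-- Lang's theorem, fixed vectors: an injective `q`-semilinear endomorphism of a non-zero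
noetherian module over an algebraically closed field has a non-zero fixed vector. -/
theorem exists_fixed_of_injective [IsAlgClosed k] (q : ℕ) (hq : (q : k) = 0) (hq2 : 2 ≤ q)
    {V : Type*} [AddCommGroup V] [Module k V] [IsNoetherian k V] [Nontrivial V] {φ : k →+* k}
    (hφ : ∀ c, φ c = c ^ q) (G : V →ₛₗ[φ] V) (hG : Function.Injective G) :
    ∃ x, x ≠ 0 ∧ G x = x := by
  classical
  have hq0 : q ≠ 0 := by omega
  obtain ⟨v₀, hv₀⟩ := exists_ne (0 : V)
  obtain ⟨v, hv0, hvs⟩ : ∃ v : ℕ → V, v 0 = v₀ ∧ ∀ i, G (v i) = v (i + 1) :=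
    ⟨fun i => (⇑G)^[i] v₀, rfl, fun i => (Function.iterate_succ_apply' (⇑G) i v₀).symm⟩
  have hvne : ∀ i, v i ≠ 0 := by
    intro i
    induction i with
    | zero => rw [hv0]; exact hv₀
    | succ i ih =>
      rw [← hvs]
      intro h
      exact ih (hG (by rw [h, map_zero]))
  let U : ℕ →o Submodule k V :=
    ⟨fun j => Submodule.span k (v '' (Finset.range j : Set ℕ)), fun j j' hjj' =>
      Submodule.span_mono (Set.image_mono (by
        intro i hi
        rw [Finset.coe_range, Set.mem_Iio] at hi ⊢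
        omega))⟩
  obtain ⟨m₀, hm₀⟩ := monotone_stabilizes_iff_noetherian.mpr (inferInstance : IsNoetherian k V) U
  have hex : ∃ j, v j ∈ Submodule.span k (v '' (Finset.range j : Set ℕ)) := by
    refine ⟨m₀, ?_⟩
    have h1 : v m₀ ∈ U (m₀ + 1) :=
      Submodule.subset_span ⟨m₀, by rw [Finset.coe_range, Set.mem_Iio]; omega, rfl⟩
    rw [← hm₀ (m₀ + 1) (Nat.le_succ m₀)] at h1
    exact h1
  obtain ⟨m', hm', hmin⟩ : ∃ m', v m' ∈ Submodule.span k (v '' (Finset.range m' : Set ℕ)) ∧
      ∀ j < m', v j ∉ Submodule.span k (v '' (Finset.range j : Set ℕ)) :=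
    ⟨Nat.find hex, Nat.find_spec hex, fun j hj => Nat.find_min hex hj⟩
  have hm'pos : m' ≠ 0 := by
    intro h0
    rw [h0, Finset.range_zero, Finset.coe_empty, Set.image_empty, Submodule.span_empty,
      Submodule.mem_bot] at hm'
    exact hvne 0 hm'
  obtain ⟨m, rfl⟩ : ∃ m, m' = m + 1 := Nat.exists_eq_succ_of_ne_zero hm'pos
  obtain ⟨l, hl, hlv⟩ := (Finsupp.mem_span_image_iff_linearCombination k).mp hm'
  have hsum : ∑ i ∈ Finset.range (m + 1), l i • v i = v (m + 1) := by
    rw [← hlv, Finsupp.linearCombination_apply, Finsupp.sum]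
    refine (Finset.sum_subset ?_ ?_).symm
    · exact Finset.coe_subset.mp ((Finsupp.mem_supported k l).mp hl)
    · intro i _ hi
      rw [Finsupp.notMem_support_iff.mp hi, zero_smul]
  have hlne : ∃ j ≤ m, l j ≠ 0 := by
    by_contra hcon
    push Not at hcon
    apply hvne (m + 1)
    rw [← hsum]
    exact Finset.sum_eq_zero fun i hi => by
      rw [hcon i (by rw [Finset.mem_range] at hi; omega), zero_smul]
  have hdegT := two_le_natDegree_langPolyG q hq2 l m hlne
  have hX1 : (X : k[X]).natDegree = 1 := natDegree_X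
  have hdegP : (langPolyG q l 0 m - X).natDegree = (langPolyG q l 0 m).natDegree :=
    natDegree_sub_eq_left_of_natDegree_lt (by rw [hX1]; omega)
  have hcoeff0 : (langPolyG q l 0 m - X).coeff 0 = 0 := by
    rw [coeff_zero_eq_eval_zero, eval_sub, eval_X, eval_zero_langPolyG q hq0, sub_zero]
  have hcoeff1 : (langPolyG q l 0 m - X).coeff 1 = -1 := by
    have h1 : (langPolyG q l 0 m).coeff 1 = 0 := by
      have h := coeff_derivative (langPolyG q l 0 m) 0
      rw [derivative_langPolyG q hq, coeff_zero] at h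
      simpa using h.symm
    rw [coeff_sub, h1, coeff_X_one, zero_sub]
  have hdivdeg : (divX (langPolyG q l 0 m - X)).degree ≠ 0 := by
    intro h0
    have h1 : (divX (langPolyG q l 0 m - X)).natDegree = 0 :=
      natDegree_eq_zero_iff_degree_le_zero.mpr h0.le
    rw [natDegree_divX_eq_natDegree_tsub_one, hdegP] at h1
    omega
  obtain ⟨u, hu⟩ := IsAlgClosed.exists_root _ hdivdeg
  have hu0 : u ≠ 0 := by
    intro h0
    rw [h0, Polynomial.IsRoot.def, ← coeff_zero_eq_eval_zero, coeff_divX, zero_add, hcoeff1] at hu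
    exact one_ne_zero (neg_eq_zero.mp hu)
  have hroot : (langPolyG q l 0 m).eval u = u := by
    have h1 := congrArg (eval u) (divX_mul_X_add (langPolyG q l 0 m - X))
    rw [eval_add, eval_mul, eval_X, eval_C, hcoeff0, add_zero, hu, zero_mul, eval_sub, eval_X]
      at h1
    exact (sub_eq_zero.mp h1.symm)
  have hfix := cyclic_solution q hφ G v hvs l m hsum 0 u hroot
  rw [zero_smul, sub_eq_zero] at hfix
  refine ⟨_, ?_, hfix⟩
  intro hx0
  rw [Finset.sum_range_succ, hroot] at hx0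
  apply hmin m (Nat.lt_succ_self m)
  have h2 : v m = -(u⁻¹ • ∑ i ∈ Finset.range m, (langPolyG q l 0 i).eval u • v i) := by
    have h3 : u • v m = -∑ i ∈ Finset.range m, (langPolyG q l 0 i).eval u • v i :=
      eq_neg_of_add_eq_zero_right hx0
    have h4 : v m = u⁻¹ • (u • v m) := by rw [smul_smul, inv_mul_cancel₀ hu0, one_smul]
    rw [h4, h3, smul_neg]
  rw [h2]
  refine Submodule.neg_mem _ (Submodule.smul_mem _ _ (Submodule.sum_mem _ fun i hi => ?_))
  exact Submodule.smul_mem _ _ (Submodule.subset_span ⟨i, by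
    rw [Finset.coe_range, Set.mem_Iio]; exact Finset.mem_range.mp hi, rfl⟩)

end ModPFix

section LatFix

variable {p : ℕ} [Fact p.Prime] {k : Type u} [Field k] [CharP k p] [PerfectRing k p]
variable {N : Type v} [AddCommGroup N] [Module (WittVector p k) N] [Module K(p, k) N]
  [IsScalarTower (WittVector p k) K(p, k) N]
variable {τ : K(p, k) →+* K(p, k)}
variable {ι : Type*} [Fintype ι] [DecidableEq ι]

theorem pPow_one_le (M : Submodule (WittVector p k) N) : pPow 1 M ≤ M := by
  have h := pPow_anti (by norm_num : (0 : ℤ) ≤ 1) M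
  rwa [pPow_zero] at h

/-- The element of the lattice spanned by `e` with given `W`-coordinates. -/
noncomputable def wlift (e : Module.Basis ι K(p, k) N) (X : ι → WittVector p k) : N :=
  e.equivFun.symm (fun j => algebraMap (WittVector p k) K(p, k) (X j))

theorem repr_wlift (e : Module.Basis ι K(p, k) N) (X : ι → WittVector p k) (j : ι) :
    e.repr (wlift e X) j = algebraMap (WittVector p k) K(p, k) (X j) :=
  congrFun (e.equivFun.apply_symm_apply
    (fun j => algebraMap (WittVector p k) K(p, k) (X j))) j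

theorem wlift_mem (e : Module.Basis ι K(p, k) N) (X : ι → WittVector p k) :
    wlift e X ∈ Submodule.span (WittVector p k) (Set.range e) :=
  (mem_span_range_basis_iff e _).mpr fun j => ⟨X j, repr_wlift e X j⟩

theorem wlift_sub (e : Module.Basis ι K(p, k) N) (X Y : ι → WittVector p k) :
    wlift e (fun i => X i - Y i) = wlift e X - wlift e Y := by
  unfold wlift
  rw [← map_sub]
  congr 1
  funext j
  rw [Pi.sub_apply, map_sub]

theorem wlift_mem_pPow_one_iff (e : Module.Basis ι K(p, k) N) (X : ι → WittVector p k) :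
    wlift e X ∈ pPow 1 (Submodule.span (WittVector p k) (Set.range e)) ↔
      ∀ j, (X j).coeff 0 = 0 := by
  rw [mem_pPow_span_range_basis_iff]
  constructor
  · intro h j
    obtain ⟨w, hw⟩ := h j
    rw [repr_wlift, zpow_one, ← map_natCast (algebraMap (WittVector p k) K(p, k)) p,
      ← map_mul] at hw
    have h2 := algebraMap_W_injective (p := p) (k := k) hw
    rw [h2]
    show WittVector.constantCoeff ((p : WittVector p k) * w) = 0
    rw [map_mul, map_natCast, CharP.cast_eq_zero k p, zero_mul]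
  · intro h j
    have hnu : ¬ IsUnit (X j) := by
      intro hu
      have h3 := hu.map (WittVector.constantCoeff : WittVector p k →+* k)
      rw [WittVector.constantCoeff_apply, h j] at h3
      exact not_isUnit_zero h3
    obtain ⟨w, hw⟩ := exists_eq_p_mul_of_not_isUnit hnu
    exact ⟨w, by rw [repr_wlift, hw, map_mul, map_natCast, zpow_one]⟩

theorem apply_wlift (e : Module.Basis ι K(p, k) N) (Φ : N →ₛₗ[τ] N)
    (A : ι → ι → WittVector p k)
    (hA : ∀ j i, e.repr (Φ (e j)) i = algebraMap (WittVector p k) K(p, k) (A j i))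
    (X X' : ι → WittVector p k)
    (hX' : ∀ j, τ (algebraMap (WittVector p k) K(p, k) (X j)) =
      algebraMap (WittVector p k) K(p, k) (X' j)) :
    Φ (wlift e X) = wlift e (fun i => ∑ j, A j i * X' j) := by
  apply e.repr.injective
  refine Finsupp.ext fun i => ?_
  rw [repr_wlift, repr_semilinear e Φ _ i, map_sum]
  refine Finset.sum_congr rfl fun j _ => ?_
  rw [smat_apply, hA j i, repr_wlift, hX' j, map_mul]

/-- A bijective Frobenius-semilinear endomorphism of a non-zero lattice over the Witt vectors of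
an algebraically closed field has a non-zero fixed vector. -/
theorem exists_fixed_of_resPow [IsAlgClosed k] [Nonempty ι] (e : Module.Basis ι K(p, k) N)
    (B : ℕ) (hB : 0 < B) (hτ : ResPow τ B) (Φ : N →ₛₗ[τ] N) (hinj : Function.Injective Φ)
    (hΦ : ∀ x ∈ Submodule.span (WittVector p k) (Set.range e),
      Φ x ∈ Submodule.span (WittVector p k) (Set.range e))
    (hsurj : ∀ y ∈ Submodule.span (WittVector p k) (Set.range e),
      ∃ x ∈ Submodule.span (WittVector p k) (Set.range e), Φ x = y) :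
    ∃ x ∈ Submodule.span (WittVector p k) (Set.range e), x ≠ 0 ∧ Φ x = x := by
  have hA : ∀ j i, ∃ w : WittVector p k,
      e.repr (Φ (e j)) i = algebraMap (WittVector p k) K(p, k) w := fun j =>
    (mem_span_range_basis_iff e _).mp (hΦ _ (Submodule.subset_span (Set.mem_range_self j)))
  choose A hA using hA
  have hq : ((p ^ B : ℕ) : k) = 0 := by
    rw [Nat.cast_pow, CharP.cast_eq_zero k p, zero_pow hB.ne']
  have hq2 : 2 ≤ p ^ B := by
    have hp := (Fact.out : p.Prime).two_le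
    calc 2 ≤ p := hp
      _ = p ^ 1 := (pow_one p).symm
      _ ≤ p ^ B := Nat.pow_le_pow_right (by omega) hB
  let G : (ι → k) →ₛₗ[iterateFrobenius k p B] (ι → k) :=
    { toFun := fun x i => ∑ j, (A j i).coeff 0 * iterateFrobenius k p B (x j)
      map_add' := fun x x' => by
        funext i
        simp only [Pi.add_apply, map_add, mul_add, Finset.sum_add_distrib]
      map_smul' := fun c x => by
        funext i
        simp only [Pi.smul_apply, smul_eq_mul, map_mul, Finset.mul_sum]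
        refine Finset.sum_congr rfl fun j _ => ?_
        ring }
  have hτW : PresW τ := hτ.presW
  have hτ2 : ResPow τ B := hτ
  choose T hTτ hT0 using hτ2
  have hres : ∀ (X : ι → WittVector p k) (i : ι),
      (∑ j, A j i * T (X j)).coeff 0 = G (fun j => (X j).coeff 0) i := by
    intro X i
    show WittVector.constantCoeff (∑ j, A j i * T (X j)) =
      ∑ j, (A j i).coeff 0 * iterateFrobenius k p B ((X j).coeff 0)
    rw [map_sum]
    refine Finset.sum_congr rfl fun j _ => ?_
    rw [map_mul, WittVector.constantCoeff_apply, WittVector.constantCoeff_apply, hT0]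
    rfl
  have hΦlift : ∀ X : ι → WittVector p k,
      Φ (wlift e X) = wlift e (fun i => ∑ j, A j i * T (X j)) := fun X =>
    apply_wlift e Φ A hA X (fun j => T (X j)) (fun j => hTτ (X j))
  have hGinj : Function.Injective G := by
    rw [injective_iff_map_eq_zero]
    intro xb hxb
    obtain ⟨X, hXc⟩ : ∃ X : ι → WittVector p k, ∀ j, (X j).coeff 0 = xb j :=
      ⟨fun j => WittVector.teichmuller p (xb j), fun j => WittVector.teichmuller_coeff_zero p _⟩
    have hXres : (fun j => (X j).coeff 0) = xb := funext hXc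
    have h1 : Φ (wlift e X) ∈ pPow 1 (Submodule.span (WittVector p k) (Set.range e)) := by
      rw [hΦlift, wlift_mem_pPow_one_iff]
      intro i
      rw [hres, hXres, hxb]
      rfl
    obtain ⟨m, hm, hmx⟩ := (mem_pPow_iff_exists _ _ _).mp h1
    obtain ⟨m', hm', hmm'⟩ := hsurj m hm
    have h2 : wlift e X = ((p : K(p, k)) ^ (1 : ℤ)) • m' := by
      apply hinj
      rw [map_smulₛₗ, map_p_zpow, hmm', hmx]
    have h3 : wlift e X ∈ pPow 1 (Submodule.span (WittVector p k) (Set.range e)) := by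
      rw [h2]; exact smul_mem_pPow 1 _ hm'
    have h4 := (wlift_mem_pPow_one_iff e X).mp h3
    funext j
    rw [← hXc j, h4 j]
    rfl
  obtain ⟨xb, hxb0, hxbfix⟩ := exists_fixed_of_injective (p ^ B) hq hq2 (fun c => rfl) G hGinj
  obtain ⟨X₀, hX₀c⟩ : ∃ X₀ : ι → WittVector p k, ∀ j, (X₀ j).coeff 0 = xb j :=
    ⟨fun j => WittVector.teichmuller p (xb j), fun j => WittVector.teichmuller_coeff_zero p _⟩
  have hX₀res : (fun j => (X₀ j).coeff 0) = xb := funext hX₀c
  have hx₀ : wlift e X₀ ∉ pPow 1 (Submodule.span (WittVector p k) (Set.range e)) := by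
    intro h
    have h4 := (wlift_mem_pPow_one_iff e X₀).mp h
    apply hxb0
    funext j
    rw [← hX₀c j, h4 j]
    rfl
  have hdiff : Φ (wlift e X₀) - wlift e X₀ ∈
      pPow 1 (Submodule.span (WittVector p k) (Set.range e)) := by
    rw [hΦlift, ← wlift_sub, wlift_mem_pPow_one_iff]
    intro i
    show WittVector.constantCoeff (∑ j, A j i * T (X₀ j) - X₀ i) = 0
    rw [map_sub, WittVector.constantCoeff_apply, WittVector.constantCoeff_apply, hres, hX₀res,
      hxbfix, hX₀c, sub_self]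
  obtain ⟨z, hz, hzx⟩ := (mem_pPow_iff_exists _ _ _).mp hdiff
  obtain ⟨w, hw, hwz⟩ := exists_sub_id_eq_of_approx hτW e _ rfl Φ hΦ
    (fun y hy => exists_approx_of_resPow e B hB hτ Φ hΦ y hy) (-z)
    (Submodule.neg_mem _ hz)
  refine ⟨wlift e X₀ + ((p : K(p, k)) ^ (1 : ℤ)) • w, ?_, ?_, ?_⟩
  · exact Submodule.add_mem _ (wlift_mem e X₀) (pPow_one_le _ (smul_mem_pPow 1 _ hw))
  · intro h0
    apply hx₀
    have h5 : wlift e X₀ = -(((p : K(p, k)) ^ (1 : ℤ)) • w) := eq_neg_of_add_eq_zero_left h0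
    rw [h5]
    exact Submodule.neg_mem _ (smul_mem_pPow 1 _ hw)
  · rw [map_add, map_smulₛₗ, map_p_zpow]
    have h5 : Φ (wlift e X₀) = wlift e X₀ + ((p : K(p, k)) ^ (1 : ℤ)) • z := by
      rw [hzx]; abel
    have h6 : Φ w = w - z := by
      have h7 : Φ w = (Φ w - w) + w := by abel
      rw [h7, hwz]; abel
    rw [h5, h6, smul_sub]
    abel

end LatFix

section Eigen

variable {p : ℕ} [Fact p.Prime] {k : Type u} [Field k] [CharP k p] [PerfectRing k p]
variable {N : Type v} [AddCommGroup N] [Module (WittVector p k) N] [Module K(p, k) N]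
  [IsScalarTower (WittVector p k) K(p, k) N]
variable {τ : K(p, k) →+* K(p, k)}

theorem eq_zpow_smul_of_zpow_neg_smul_eq {x y : N} (d : ℤ)
    (h : ((p : K(p, k)) ^ (-d)) • y = x) : y = ((p : K(p, k)) ^ d) • x := by
  rw [← h, smul_smul, ← zpow_add₀ (pL_ne_zero (p := p) (k := k)), add_neg_cancel, zpow_zero,
    one_smul]

theorem slope_arith (μ : ℚ) (r : ℤ) (s : ℕ) (hs : 0 < s) (hrs : (r : ℚ) / s = μ) :
    ∃ c : ℕ, 0 < c ∧ s = μ.den * c ∧ r = μ.num * c := by
  have hsQ : (s : ℚ) ≠ 0 := by exact_mod_cast hs.ne'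
  have hdQ : (μ.den : ℚ) ≠ 0 := by exact_mod_cast μ.den_pos.ne'
  have h1 : (r : ℚ) / s = (μ.num : ℚ) / μ.den := by rw [hrs, Rat.num_div_den]
  rw [div_eq_div_iff hsQ hdQ] at h1
  have h2 : r * (μ.den : ℤ) = μ.num * (s : ℤ) := by exact_mod_cast h1
  have hcop : Int.gcd (μ.den : ℤ) μ.num = 1 := by
    rw [Int.gcd_comm]
    exact μ.reduced
  have hdvd : (μ.den : ℤ) ∣ μ.num * (s : ℤ) := ⟨r, by rw [← h2]; ring⟩
  have hdvd' : (μ.den : ℤ) ∣ (s : ℤ) := Int.dvd_of_dvd_mul_right_of_gcd_one hdvd hcop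
  obtain ⟨c, hc⟩ := Int.natCast_dvd_natCast.mp hdvd'
  refine ⟨c, ?_, hc, ?_⟩
  · rcases Nat.eq_zero_or_pos c with rfl | h
    · rw [Nat.mul_zero] at hc; omega
    · exact h
  · have hd0 : (μ.den : ℤ) ≠ 0 := by exact_mod_cast μ.den_pos.ne'
    have h3 : r * (μ.den : ℤ) = (μ.num * c) * (μ.den : ℤ) := by
      rw [h2, hc]; push_cast; ring
    exact mul_right_cancel₀ hd0 h3

/-- If `F^(hc) M = p^(dc) M` for a lattice `M` and the twist of `F^h` is a positive power of the
Frobenius, then `F^h x = p^d x` for some `x ≠ 0` (over an algebraically closed field). -/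
theorem exists_eigen_of_latImg_eq [IsAlgClosed k] [Nontrivial N] [Module.Finite K(p, k) N]
    (hτ : PresW τ) (hτ' : SurjW τ) (F : N →ₛₗ[τ] N) (hFinj : Function.Injective F)
    (d : ℤ) (h c : ℕ) (hc : 0 < c) (B : ℕ) (hB : 0 < B) (hres : ResPow (τ ^ h) B)
    (M : Submodule (WittVector p k) N) (hM : M.IsLattice K(p, k))
    (hFM : latImg F (h * c) M = pPow (d * c) M) :
    ∃ x : N, x ≠ 0 ∧ (⇑F)^[h] x = ((p : K(p, k)) ^ d) • x := by
  obtain ⟨Ψ, hΨapp, hΨM⟩ : ∃ Ψ : N →ₛₗ[τ ^ h] N,
      (∀ x, Ψ x = ((p : K(p, k)) ^ (-d)) • (⇑F)^[h] x) ∧ latImg Ψ c M = M := by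
    refine ⟨((p : K(p, k)) ^ (-d)) • iter F h, fun x => rfl, ?_⟩
    rw [latImg_zpow_smul_iter, hFM, pPow_pPow]
    have e0 : -d * (c : ℤ) + d * (c : ℤ) = 0 := by ring
    rw [e0, pPow_zero]
  have hτΨ := presW_pow hτ h
  obtain ⟨c', rfl⟩ : ∃ c', c = c' + 1 := ⟨c - 1, by omega⟩
  have hM₁ := orb_isLattice hτΨ Ψ c' M hM
  have hM₁le : latImg Ψ 1 (orb Ψ c' M) ≤ orb Ψ c' M := by
    refine latImg_orb_le hτΨ Ψ 1 c' M _ fun i hi => ?_
    by_cases hi' : 1 + i ≤ c'
    · exact latImg_le_orb Ψ hi' M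
    · have e1 : 1 + i = c' + 1 := by omega
      rw [e1, hΨM]
      exact le_orb Ψ c' M
  have hM₁ge : orb Ψ c' M ≤ latImg Ψ 1 (orb Ψ c' M) := by
    refine orb_le Ψ c' M _ fun j hj => ?_
    rcases Nat.eq_zero_or_pos j with rfl | hjpos
    · rw [latImg_zero]
      calc M = latImg Ψ (1 + c') M := by rw [add_comm, hΨM]
        _ = latImg Ψ 1 (latImg Ψ c' M) := latImg_add hτΨ Ψ 1 c' M
        _ ≤ latImg Ψ 1 (orb Ψ c' M) := latImg_mono Ψ 1 (latImg_le_orb Ψ le_rfl M)
    · obtain ⟨j', rfl⟩ : ∃ j', j = 1 + j' := ⟨j - 1, by omega⟩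
      rw [latImg_add hτΨ]
      exact latImg_mono Ψ 1 (latImg_le_orb Ψ (by omega) M)
  obtain ⟨e, he⟩ := exists_lattice_basis (Module.finBasis K(p, k) N) (orb Ψ c' M) hM₁
  have hne : Nonempty (Fin (Module.finrank K(p, k) N)) := ⟨⟨0, Module.finrank_pos⟩⟩
  have hΨinj : Function.Injective Ψ := by
    intro x y hxy
    rw [hΨapp, hΨapp] at hxy
    exact hFinj.iterate _ (smul_right_injective N (zpow_ne_zero _ pL_ne_zero) hxy)
  have hst : ∀ x ∈ Submodule.span (WittVector p k) (Set.range e),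
      Ψ x ∈ Submodule.span (WittVector p k) (Set.range e) := by
    rw [← he]
    intro x hx
    exact hM₁le (iterate_mem_latImg Ψ 1 _ hx)
  have hsurj : ∀ y ∈ Submodule.span (WittVector p k) (Set.range e),
      ∃ x ∈ Submodule.span (WittVector p k) (Set.range e), Ψ x = y := by
    rw [← he]
    intro y hy
    exact (mem_latImg_iff (surjW_pow hτ' h) Ψ 1 _ y).mp (hM₁ge hy)
  obtain ⟨x, -, hx0, hxfix⟩ := exists_fixed_of_resPow e B hB hres Ψ hΨinj hst hsurj
  refine ⟨x, hx0, ?_⟩
  rw [hΨapp] at hxfix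
  exact eq_zpow_smul_of_zpow_neg_smul_eq d hxfix

theorem exists_eigen_of_isIsoclinic_pos [IsAlgClosed k] [Nontrivial N] (n : ℕ) (hn : 0 < n)
    (F : N →ₛₗ[frob p k (n : ℤ)] N) (hF : IsIsoc F) (μ : ℚ) (hμ : IsIsoclinic F μ) :
    ∃ x : N, x ≠ 0 ∧ (⇑F)^[μ.den] x = ((p : K(p, k)) ^ μ.num) • x := by
  have hfin := hF.finite
  obtain ⟨M, hM, r, s, hs, hrs, hFM⟩ := hμ
  obtain ⟨c, hc, hsc, hrc⟩ := slope_arith μ r s hs hrs
  rw [hsc, hrc] at hFM
  exact exists_eigen_of_latImg_eq (presW_frob (n : ℤ)) (surjW_frob (n : ℤ)) F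
    hF.bijective.injective μ.num μ.den c hc (n * μ.den) (Nat.mul_pos hn μ.den_pos)
    (resPow_pow (resPow_frob n) μ.den) M hM hFM

/-- A non-zero isoclinic isocrystal of slope `μ = d/h` (lowest terms) over an algebraically
closed field contains `x ≠ 0` with `F^h x = p^d x`. -/
theorem exists_eigen_of_isIsoclinic [IsAlgClosed k] [Nontrivial N] (a : ℤ) (ha : a ≠ 0)
    (F : N →ₛₗ[frob p k a] N) (hF : IsIsoc F) (μ : ℚ) (hμ : IsIsoclinic F μ) :
    ∃ x : N, x ≠ 0 ∧ (⇑F)^[μ.den] x = ((p : K(p, k)) ^ μ.num) • x := by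
  rcases lt_or_gt_of_ne ha with hneg | hpos
  · obtain ⟨n, rfl⟩ : ∃ n : ℕ, a = -(n : ℤ) := ⟨(-a).toNat, by omega⟩
    have hnpos : 0 < n := by omega
    obtain ⟨M, hM, r, s, hs, hrs, hFM⟩ := hμ
    obtain ⟨G, hG1, hG2, hGb, hGM⟩ : ∃ G : N →ₛₗ[frob p k (n : ℤ)] N,
        (∀ x, F (G x) = x) ∧ (∀ x, G (F x) = x) ∧ Function.Bijective G ∧
          latImg G s M = pPow (-r) M :=
      ⟨sinv _ F hF.bijective (frob_neg_frob (n : ℤ)), apply_sinv _ _ _ _, sinv_apply _ _ _ _,
        sinv_bijective _ _ _ _, latImg_sinv (surjW_frob _) _ _ _ _ M s r hFM⟩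
    have hGiso : IsIsoclinic G (-μ) := by
      refine ⟨M, hM, -r, s, hs, ?_, hGM⟩
      rw [← hrs]; push_cast; ring
    obtain ⟨x, hx0, hx⟩ := exists_eigen_of_isIsoclinic_pos n hnpos G ⟨hF.finite, hGb⟩ (-μ) hGiso
    rw [Rat.neg_den, Rat.neg_num] at hx
    refine ⟨x, hx0, ?_⟩
    have hFG : ∀ y, (⇑F)^[μ.den] ((⇑G)^[μ.den] y) = y :=
      Function.LeftInverse.iterate hG1 μ.den
    have h2 := hFG x
    rw [hx, iterate_zpow_smul] at h2
    exact eq_zpow_smul_of_zpow_neg_smul_eq μ.num h2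
  · obtain ⟨n, rfl⟩ : ∃ n : ℕ, a = (n : ℤ) := ⟨a.toNat, by omega⟩
    exact exists_eigen_of_isIsoclinic_pos n (by omega) F hF μ hμ

/-- The morphism from the standard isocrystal defined by `x` with `F^h x = p^d x`. -/
theorem exists_std_hom (F : N →ₛₗ[τ] N) (d : ℤ) (h : ℕ) (hh : 0 < h) (x : N)
    (hx : (⇑F)^[h] x = ((p : K(p, k)) ^ d) • x) :
    ∃ g : (Fin h → K(p, k)) →ₗ[K(p, k)] N, (∀ c, g (stdIsoc τ d h c) = F (g c)) ∧
      (∀ c, g c = ∑ i, c i • (⇑F)^[i.val] x) := by
  obtain ⟨n, rfl⟩ : ∃ n, h = n + 1 := ⟨h - 1, by omega⟩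
  refine ⟨Fintype.linearCombination K(p, k) (fun i : Fin (n + 1) => (⇑F)^[i.val] x), ?_,
    fun c => Fintype.linearCombination_apply _ _ _⟩
  intro c
  have hterm : ∀ j : Fin (n + 1), (stdIsoc τ d (n + 1) c) (finRotate (n + 1) j) •
      (⇑F)^[(finRotate (n + 1) j).val] x = τ (c j) • (⇑F)^[j.val + 1] x := by
    intro j
    rw [stdIsoc_apply, Equiv.symm_apply_apply]
    rcases Nat.lt_or_ge j.val n with hlt | hge
    · have hj : finRotate (n + 1) j = ⟨j.val + 1, Nat.succ_lt_succ hlt⟩ := finRotate_of_lt hlt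
      rw [hj]
      show ((if j.val + 1 = 0 then (p : K(p, k)) ^ d else 1) * τ (c j)) •
        (⇑F)^[j.val + 1] x = _
      rw [if_neg (Nat.succ_ne_zero _), one_mul]
    · have hjn : j.val = n := by omega
      have hj : finRotate (n + 1) j = ⟨0, Nat.succ_pos n⟩ := by
        have hj' : j = ⟨n, Nat.lt_succ_self n⟩ := Fin.ext hjn
        rw [hj']
        exact finRotate_last'
      rw [hj]
      show ((if (0 : ℕ) = 0 then (p : K(p, k)) ^ d else 1) * τ (c j)) • (⇑F)^[0] x = _
      rw [if_pos rfl, Function.iterate_zero_apply, hjn, hx, smul_smul, mul_comm]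
  have hL : Fintype.linearCombination K(p, k) (fun i : Fin (n + 1) => (⇑F)^[i.val] x)
      (stdIsoc τ d (n + 1) c) = ∑ j, τ (c j) • (⇑F)^[j.val + 1] x := by
    rw [Fintype.linearCombination_apply, ← Equiv.sum_comp (finRotate (n + 1))]
    exact Finset.sum_congr rfl fun j _ => hterm j
  have hR : F (Fintype.linearCombination K(p, k) (fun i : Fin (n + 1) => (⇑F)^[i.val] x) c) =
      ∑ j, τ (c j) • (⇑F)^[j.val + 1] x := by
    rw [Fintype.linearCombination_apply, map_sum]
    refine Finset.sum_congr rfl fun j _ => ?_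
    rw [map_smulₛₗ, ← Function.iterate_succ_apply' (⇑F) j.val x]
  rw [hL, hR]

end Eigen

end Groth.Agent.H85
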