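import Groth.Agent.H85.IsocNewton
import Mathlib.LinearAlgebra.Charpoly.ToMatrix
import Mathlib.LinearAlgebra.Matrix.Charpoly.Coeff
import Mathlib.LinearAlgebra.Matrix.ToLinearEquiv
import Mathlib.FieldTheory.IsAlgClosed.Basic
import Mathlib.RingTheory.IntegralClosure.IntegrallyClosed
import Mathlib.RingTheory.IntegralClosure.IsIntegral.Basic
import Mathlib.RingTheory.Polynomial.RationalRoot
import Mathlib.RingTheory.Coprime.Lemmas

/-!
# Frobenius eigenvalues over a finite field (helper library, helper85)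

Linear algebra (characteristic polynomial of a block decomposition, eigenvectors over an
algebraically closed extension) and the integrality bookkeeping needed for the comparison of
Newton slopes with the valuations of the roots of the characteristic polynomial of `F^m`.
-/

set_option autoImplicit false
set_option linter.unusedSectionVars false

open scoped Pointwise Isocrystal Matrix
open Isoc

universe u v

namespace Groth.Agent.H85

section LinAlg

theorem charmatrix_blockDiagonal' {ι : Type*} [Fintype ι] [DecidableEq ι]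
    {R : Type*} [CommRing R] {κ : ι → Type*} [∀ i, Fintype (κ i)] [∀ i, DecidableEq (κ i)]
    (d : ∀ i, Matrix (κ i) (κ i) R) :
    (Matrix.blockDiagonal' d).charmatrix =
      Matrix.blockDiagonal' (fun i => (d i).charmatrix) := by
  refine Matrix.ext fun x y => ?_
  obtain ⟨i, a⟩ := x
  obtain ⟨j, c⟩ := y
  rcases eq_or_ne i j with rfl | hij
  · rw [Matrix.blockDiagonal'_apply_eq, Matrix.charmatrix_apply, Matrix.charmatrix_apply,
      Matrix.blockDiagonal'_apply_eq]
    congr 1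
    by_cases hac : a = c
    · subst hac
      rw [Matrix.diagonal_apply_eq, Matrix.diagonal_apply_eq]
    · rw [Matrix.diagonal_apply_ne _ hac,
        Matrix.diagonal_apply_ne _ (fun h => hac (sigma_mk_injective h))]
  · have hne : (⟨i, a⟩ : Σ i, κ i) ≠ ⟨j, c⟩ := fun h => hij (congrArg Sigma.fst h)
    rw [Matrix.blockDiagonal'_apply_ne _ _ _ hij, Matrix.charmatrix_apply,
      Matrix.blockDiagonal'_apply_ne _ _ _ hij, Matrix.diagonal_apply_ne _ hne, map_zero, sub_zero]

theorem charpoly_blockDiagonal' {ι : Type*} [Fintype ι] [DecidableEq ι] [LinearOrder ι]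
    {R : Type*} [CommRing R] {κ : ι → Type*} [∀ i, Fintype (κ i)] [∀ i, DecidableEq (κ i)]
    (d : ∀ i, Matrix (κ i) (κ i) R) :
    (Matrix.blockDiagonal' d).charpoly = ∏ i, (d i).charpoly := by
  unfold Matrix.charpoly
  rw [charmatrix_blockDiagonal', det_blockDiagonal'']

/-- The characteristic polynomial of an endomorphism respecting an internal direct sum
decomposition is the product of the characteristic polynomials of the restrictions. -/
theorem charpoly_eq_prod_restrict {K V ι : Type*} [Field K] [AddCommGroup V] [Module K V]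
    [Module.Finite K V] [Fintype ι] [DecidableEq ι] [LinearOrder ι] {A : ι → Submodule K V}
    (h : DirectSum.IsInternal A) (f : V →ₗ[K] V) (hf : ∀ i, ∀ x ∈ A i, f x ∈ A i) :
    f.charpoly = ∏ i, (f.restrict (hf i)).charpoly := by
  let b : ∀ i, Module.Basis (Fin (Module.finrank K (A i))) K (A i) :=
    fun i => Module.finBasis K (A i)
  have hmaps : ∀ i, Set.MapsTo f (A i) (A i) := fun i x hx => hf i x hx
  rw [← LinearMap.charpoly_toMatrix f (h.collectedBasis b),
    LinearMap.toMatrix_directSum_collectedBasis_eq_blockDiagonal' h h b b hmaps,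
    charpoly_blockDiagonal']
  refine Finset.prod_congr rfl fun i _ => ?_
  exact LinearMap.charpoly_toMatrix (f.restrict (hf i)) (b i)

theorem isIntegral_of_mulVec_eq {R Ω n : Type*} [CommRing R] [Field Ω] [Algebra R Ω]
    [Fintype n] [DecidableEq n] (U : Matrix n n R) (v : n → Ω) (hv : v ≠ 0) (β : Ω)
    (h : (U.map (algebraMap R Ω)) *ᵥ v = β • v) : IsIntegral R β := by
  refine ⟨U.charpoly, Matrix.charpoly_monic U, ?_⟩
  rw [← Polynomial.eval_map, ← Matrix.charpoly_map, Matrix.eval_charpoly]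
  refine Matrix.exists_mulVec_eq_zero_iff.mp ⟨v, hv, ?_⟩
  rw [Matrix.sub_mulVec, h, sub_eq_zero]
  funext x
  rw [Matrix.scalar_apply, Matrix.mulVec_diagonal, Pi.smul_apply, smul_eq_mul]

theorem exists_eigenvector_of_isRoot {K Ω n : Type*} [Field K] [Field Ω] [Fintype n]
    [DecidableEq n] (φ : K →+* Ω) (A : Matrix n n K) (α : Ω)
    (h : (A.charpoly.map φ).IsRoot α) :
    ∃ v : n → Ω, v ≠ 0 ∧ (A.map φ) *ᵥ v = α • v := by
  rw [Polynomial.IsRoot.def, ← Matrix.charpoly_map, Matrix.eval_charpoly] at h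
  obtain ⟨v, hv, hv0⟩ := Matrix.exists_mulVec_eq_zero_iff.mpr h
  refine ⟨v, hv, ?_⟩
  rw [Matrix.sub_mulVec, sub_eq_zero] at hv0
  rw [← hv0]
  funext x
  rw [Matrix.scalar_apply, Matrix.mulVec_diagonal, Pi.smul_apply, smul_eq_mul]

theorem pow_mulVec_eq {Ω n : Type*} [Field Ω] [Fintype n] [DecidableEq n]
    (A : Matrix n n Ω) (v : n → Ω) (α : Ω) (h : A *ᵥ v = α • v) (s : ℕ) :
    (A ^ s) *ᵥ v = α ^ s • v := by
  induction s with
  | zero => rw [pow_zero, pow_zero, Matrix.one_mulVec, one_smul]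
  | succ s ih =>
    rw [pow_succ, ← Matrix.mulVec_mulVec, h, Matrix.mulVec_smul, ih, smul_smul, pow_succ, mul_comm]

theorem countP_bind' {α β : Type*} (q : β → Prop) [DecidablePred q] (m : Multiset α)
    (f : α → Multiset β) :
    Multiset.countP q (m.bind f) = (m.map fun a => Multiset.countP q (f a)).sum := by
  induction m using Multiset.induction_on with
  | empty => simp
  | cons a m ih =>
    rw [Multiset.cons_bind, Multiset.countP_add, Multiset.map_cons, Multiset.sum_cons, ih]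

theorem zpow_algebra {Ω : Type*} [Field Ω] (α P : Ω) (hα : α ≠ 0) (hP : P ≠ 0) (d1 d2 : ℕ)
    (a b : ℤ) :
    (α ^ d1 * P ^ a) ^ d2 * ((α ^ d2 * P ^ b)⁻¹) ^ d1 = P ^ (a * d2 - b * d1) := by
  have h1 : (α ^ d1) ^ d2 = (α ^ d2) ^ d1 := by rw [← pow_mul, ← pow_mul, mul_comm]
  have h2 : (P ^ a) ^ d2 = P ^ (a * d2) := by rw [← zpow_natCast, ← zpow_mul]
  have h3 : ((P ^ b) ^ d1)⁻¹ = P ^ (-(b * d1)) := by rw [← zpow_natCast, ← zpow_mul, zpow_neg]
  have hA : (α ^ d2) ^ d1 ≠ 0 := pow_ne_zero _ (pow_ne_zero _ hα)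
  rw [mul_pow, inv_pow, mul_pow, mul_inv, h1, h2, h3, sub_eq_add_neg, zpow_add₀ hP,
    mul_mul_mul_comm, mul_inv_cancel₀ hA, one_mul]

end LinAlg

section IntU

/-- `x` is a unit of the integral closure of `R` in the field `Ω`. -/
structure IsIntU (R : Type*) {Ω : Type*} [CommRing R] [Field Ω] [Algebra R Ω] (x : Ω) : Prop where
  int : IsIntegral R x
  int_inv : IsIntegral R x⁻¹

namespace IsIntU

variable {R Ω : Type*} [CommRing R] [Field Ω] [Algebra R Ω] {x y : Ω}

theorem mul (hx : IsIntU R x) (hy : IsIntU R y) : IsIntU R (x * y) :=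
  ⟨hx.int.mul hy.int, by rw [mul_inv]; exact hx.int_inv.mul hy.int_inv⟩

theorem inv (hx : IsIntU R x) : IsIntU R x⁻¹ := ⟨hx.int_inv, by rw [inv_inv]; exact hx.int⟩

theorem pow (hx : IsIntU R x) (n : ℕ) : IsIntU R (x ^ n) :=
  ⟨hx.int.pow n, by rw [← inv_pow]; exact hx.int_inv.pow n⟩

theorem of_pow {n : ℕ} (hn : 0 < n) (hx : IsIntU R (x ^ n)) : IsIntU R x :=
  ⟨IsIntegral.of_pow hn hx.int, IsIntegral.of_pow hn (by rw [inv_pow]; exact hx.int_inv)⟩

end IsIntU

end IntU

section Witt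

variable {p : ℕ} [Fact p.Prime] {k : Type u} [Field k] [CharP k p] [PerfectRing k p]
variable {N : Type v} [AddCommGroup N] [Module (WittVector p k) N] [Module K(p, k) N]
  [IsScalarTower (WittVector p k) K(p, k) N]
variable {τ : K(p, k) →+* K(p, k)}
variable {Ω : Type*} [Field Ω] [Algebra (WittVector p k) Ω] [Algebra K(p, k) Ω]
  [IsScalarTower (WittVector p k) K(p, k) Ω]

theorem not_isIntegral_zpow_neg (n : ℕ) (hn : 0 < n) :
    ¬ IsIntegral (WittVector p k) ((algebraMap K(p, k) Ω (p : K(p, k))) ^ (-(n : ℤ))) := by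
  intro h
  rw [← map_zpow₀ (algebraMap K(p, k) Ω)] at h
  have h1 : IsIntegral (WittVector p k) ((p : K(p, k)) ^ (-(n : ℤ))) :=
    (isIntegral_algebraMap_iff (algebraMap K(p, k) Ω).injective).mp h
  obtain ⟨w, hw⟩ := IsIntegrallyClosed.isIntegral_iff.mp h1
  have h2 : algebraMap (WittVector p k) K(p, k) (w * (p : WittVector p k) ^ n) =
      algebraMap (WittVector p k) K(p, k) 1 := by
    rw [map_mul, map_pow, map_natCast, hw, map_one, zpow_neg, zpow_natCast,
      inv_mul_cancel₀ (pow_ne_zero _ pL_ne_zero)]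
  have h3 : w * (p : WittVector p k) ^ n = 1 := algebraMap_W_injective h2
  have hu : IsUnit ((p : WittVector p k) ^ n) := IsUnit.of_mul_eq_one_right w h3
  exact (WittVector.irreducible p).not_isUnit ((isUnit_pow_iff hn.ne').mp hu)

theorem zpow_eq_zero_of_intU (e : ℤ)
    (h : IsIntU (WittVector p k) ((algebraMap K(p, k) Ω (p : K(p, k))) ^ e)) : e = 0 := by
  by_contra he
  obtain ⟨n, hn⟩ : ∃ n : ℕ, e = n ∨ e = -n := ⟨e.natAbs, Int.natAbs_eq e⟩
  rcases hn with rfl | rfl
  · have hnpos : 0 < n := Nat.pos_of_ne_zero (by rintro rfl; exact he (by simp))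
    have h2 := h.int_inv
    rw [← zpow_neg] at h2
    exact not_isIntegral_zpow_neg n hnpos h2
  · have hnpos : 0 < n := Nat.pos_of_ne_zero (by rintro rfl; exact he (by simp))
    exact not_isIntegral_zpow_neg n hnpos h.int

/-- Two normalisations of the valuation of `α` agree. -/
theorem cross_eq_of_intU (α : Ω) (hα : α ≠ 0) (m : ℕ) (hm : m ≠ 0) (s s' : ℕ) (r r' : ℤ)
    (h : IsIntU (WittVector p k)
      (α ^ s * (algebraMap K(p, k) Ω (p : K(p, k))) ^ (-(r * (m : ℤ)))))
    (h' : IsIntU (WittVector p k)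
      (α ^ s' * (algebraMap K(p, k) Ω (p : K(p, k))) ^ (-(r' * (m : ℤ))))) :
    r * s' = r' * s := by
  have hP : algebraMap K(p, k) Ω (p : K(p, k)) ≠ 0 := by
    rw [Ne, map_eq_zero]
    exact pL_ne_zero
  have hX := (h.pow s').mul ((h'.inv).pow s)
  rw [zpow_algebra α _ hα hP s s' _ _] at hX
  have he := zpow_eq_zero_of_intU _ hX
  have hmZ : (m : ℤ) ≠ 0 := by exact_mod_cast hm
  have h0 : (m : ℤ) * (r' * s - r * s') = 0 := by linear_combination he
  rcases mul_eq_zero.mp h0 with h1 | h1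
  · exact absurd h1 hmZ
  · linear_combination (-1 : ℤ) * h1

/-- From a lattice normalisation `r / s = ν` to the lowest-terms normalisation. -/
theorem intU_of_slope (α : Ω) (m : ℕ) (ν : ℚ) (r : ℤ) (s : ℕ) (hs : 0 < s)
    (hrs : (r : ℚ) / s = ν)
    (h : IsIntU (WittVector p k)
      (α ^ s * (algebraMap K(p, k) Ω (p : K(p, k))) ^ (-(r * (m : ℤ))))) :
    IsIntU (WittVector p k)
      (α ^ ν.den * (algebraMap K(p, k) Ω (p : K(p, k))) ^ (-(ν.num * (m : ℤ)))) := by
  have hsQ : (s : ℚ) ≠ 0 := by exact_mod_cast hs.ne'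
  have h1 : (r : ℚ) = ν * s := by rw [← hrs, div_mul_cancel₀ _ hsQ]
  have h2 : (r : ℚ) * ν.den = ν.num * s := by rw [h1, mul_right_comm, Rat.mul_den_eq_num]
  have h3 : r * (ν.den : ℤ) = ν.num * (s : ℤ) := by exact_mod_cast h2
  have h4 : (ν.den : ℤ) ∣ (s : ℤ) :=
    (Rat.isCoprime_num_den ν).symm.dvd_of_dvd_mul_right ⟨r, by linear_combination (-1 : ℤ) * h3⟩
  obtain ⟨g, hg⟩ := Int.natCast_dvd_natCast.mp h4
  have hgpos : 0 < g := by
    rcases Nat.eq_zero_or_pos g with h0 | h0
    · rw [h0, mul_zero] at hg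
      omega
    · exact h0
  have hden : (ν.den : ℤ) ≠ 0 := by exact_mod_cast ν.den_nz
  have hr : r = ν.num * g := by
    apply mul_right_cancel₀ hden
    rw [h3, hg]
    push_cast
    ring
  apply IsIntU.of_pow hgpos
  have hexp : -(ν.num * (m : ℤ)) * (g : ℤ) = -(ν.num * (g : ℤ) * (m : ℤ)) := by ring
  have hpow : (α ^ ν.den * (algebraMap K(p, k) Ω (p : K(p, k))) ^ (-(ν.num * (m : ℤ)))) ^ g =
      α ^ s * (algebraMap K(p, k) Ω (p : K(p, k))) ^ (-(r * (m : ℤ))) := by
    rw [mul_pow, ← pow_mul, ← hg, ← zpow_natCast (_ ^ (-(ν.num * (m : ℤ)))) g, ← zpow_mul, hexp, hr]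
  rw [hpow]
  exact h

/-- Key lemma: on an isocrystal with `F^s M = p^r M`, the roots `α` of the characteristic
polynomial of `π = F^m` satisfy: `α^s p^{-rm}` is a unit of the integral closure of `W`. -/
theorem intU_of_isRoot [Module.Finite K(p, k) N] (hτ : PresW τ) (hτ' : SurjW τ)
    (F : N →ₛₗ[τ] N) {n : ℕ} (b : Module.Basis (Fin n) K(p, k) N)
    (M : Submodule (WittVector p k) N) (hM : M.IsLattice K(p, k)) (r : ℤ) (s : ℕ) (hs : 0 < s)
    (hFM : latImg F s M = pPow r M) (m : ℕ)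
    (π : N →ₗ[K(p, k)] N) (hπ : ∀ x, π x = (⇑F)^[m] x)
    (α : Ω) (hα : (π.charpoly.map (algebraMap K(p, k) Ω)).IsRoot α) :
    α ≠ 0 ∧ IsIntU (WittVector p k)
      (α ^ s * (algebraMap K(p, k) Ω (p : K(p, k))) ^ (-(r * (m : ℤ)))) := by
  classical
  obtain ⟨e, rfl⟩ := exists_lattice_basis b M hM
  have hiter : ∀ x, (π ^ s) x = (⇑F)^[s * m] x := by
    intro x
    rw [Module.End.pow_apply, show (⇑π : N → N) = (⇑F)^[m] from funext hπ, mul_comm s m,
      Function.iterate_mul]
  have hlat : latImg F (s * m) (Submodule.span (WittVector p k) (Set.range e)) =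
      pPow (r * (m : ℤ)) (Submodule.span (WittVector p k) (Set.range e)) :=
    latImg_iterate_eq hτ F _ s r hFM m
  have h1 : ∀ x ∈ Submodule.span (WittVector p k) (Set.range e),
      (π ^ s) x ∈ pPow (r * (m : ℤ)) (Submodule.span (WittVector p k) (Set.range e)) := by
    intro x hx
    rw [hiter, ← hlat]
    exact iterate_mem_latImg F (s * m) _ hx
  have h2 : ∀ x ∈ Submodule.span (WittVector p k) (Set.range e),
      ∃ y ∈ Submodule.span (WittVector p k) (Set.range e),
        (π ^ s) y = ((p : K(p, k)) ^ (r * (m : ℤ))) • x := by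
    intro x hx
    have hmem : ((p : K(p, k)) ^ (r * (m : ℤ))) • x ∈
        latImg F (s * m) (Submodule.span (WittVector p k) (Set.range e)) := by
      rw [hlat]
      exact smul_mem_pPow _ _ hx
    obtain ⟨y, hy, hyx⟩ := (mem_latImg_iff hτ' F (s * m) _ _).mp hmem
    exact ⟨y, hy, by rw [hiter, hyx]⟩
  obtain ⟨C, hC⟩ := exists_matrix_of_le (τ := RingHom.id K(p, k)) e (π ^ s) (r * (m : ℤ)) h1
  have hy : ∀ l : Fin n, ∃ y ∈ Submodule.span (WittVector p k) (Set.range e),
      (π ^ s) y = ((p : K(p, k)) ^ (r * (m : ℤ))) • e l :=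
    fun l => h2 _ (Submodule.subset_span (Set.mem_range_self l))
  choose y hyM hyΦ using hy
  have hY : ∀ l j, ∃ w : WittVector p k,
      e.repr (y l) j = algebraMap (WittVector p k) K(p, k) w :=
    fun l => (mem_span_range_basis_iff e (y l)).mp (hyM l)
  choose Y hY using hY
  have hCZ : C * (Matrix.of fun j l => Y l j) = 1 := by
    refine Matrix.ext fun i l => ?_
    apply algebraMap_W_injective (p := p) (k := k)
    have h3 := repr_semilinear (τ := RingHom.id K(p, k)) e (π ^ s) (y l) i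
    rw [hyΦ l, map_smul, Finsupp.smul_apply, e.repr_self, Finsupp.single_apply, smul_eq_mul] at h3
    simp only [RingHom.id_apply] at h3
    have h4 : ∑ j, smat (τ := RingHom.id K(p, k)) e (π ^ s) i j * (e.repr (y l) j) =
        (p : K(p, k)) ^ (r * (m : ℤ)) *
          algebraMap (WittVector p k) K(p, k) (∑ j, C i j * Y l j) := by
      rw [map_sum, Finset.mul_sum]
      refine Finset.sum_congr rfl fun j _ => ?_
      rw [hC, hY l j, map_mul]
      simp only [Matrix.smul_apply, Matrix.map_apply, smul_eq_mul]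
      ring
    rw [h4] at h3
    have h5 := mul_left_cancel₀ (zpow_ne_zero (r * (m : ℤ)) pL_ne_zero) h3
    rw [Matrix.mul_apply, Matrix.one_apply]
    simp only [Matrix.of_apply]
    rw [← h5]
    by_cases hil : i = l
    · subst hil
      simp
    · have : ¬ l = i := fun h => hil h.symm
      simp [hil, this]
  obtain ⟨Z, hZC⟩ : ∃ Z : Matrix (Fin n) (Fin n) (WittVector p k), Z * C = 1 :=
    ⟨_, mul_eq_one_comm.mp hCZ⟩
  have hApow : (LinearMap.toMatrix e e π) ^ s =
      ((p : K(p, k)) ^ (r * (m : ℤ))) • C.map (algebraMap (WittVector p k) K(p, k)) := by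
    rw [LinearMap.toMatrix_pow, ← hC]
    refine Matrix.ext fun i j => ?_
    rw [LinearMap.toMatrix_apply, smat_apply]
  have hroot : ((LinearMap.toMatrix e e π).charpoly.map (algebraMap K(p, k) Ω)).IsRoot α := by
    rw [LinearMap.charpoly_toMatrix]
    exact hα
  obtain ⟨v, hv, hAv⟩ := exists_eigenvector_of_isRoot (algebraMap K(p, k) Ω)
    (LinearMap.toMatrix e e π) α hroot
  have hpow := pow_mulVec_eq _ v α hAv s
  have h6 : ((LinearMap.toMatrix e e π).map (algebraMap K(p, k) Ω)) ^ s =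
      ((LinearMap.toMatrix e e π) ^ s).map (algebraMap K(p, k) Ω) := by
    rw [← RingHom.mapMatrix_apply, ← RingHom.mapMatrix_apply, map_pow]
  have hmap : ((LinearMap.toMatrix e e π) ^ s).map (algebraMap K(p, k) Ω) =
      (algebraMap K(p, k) Ω ((p : K(p, k)) ^ (r * (m : ℤ)))) •
        C.map (algebraMap (WittVector p k) Ω) := by
    rw [hApow]
    refine Matrix.ext fun i j => ?_
    rw [Matrix.map_apply, Matrix.smul_apply, Matrix.smul_apply, Matrix.map_apply,
      Matrix.map_apply, smul_eq_mul, smul_eq_mul, map_mul,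
      IsScalarTower.algebraMap_apply (WittVector p k) K(p, k) Ω (C i j)]
  rw [h6, hmap, Matrix.smul_mulVec] at hpow
  have hcne : algebraMap K(p, k) Ω ((p : K(p, k)) ^ (r * (m : ℤ))) ≠ 0 := by
    rw [Ne, map_eq_zero]
    exact zpow_ne_zero _ pL_ne_zero
  have hCv : (C.map (algebraMap (WittVector p k) Ω)) *ᵥ v =
      (α ^ s * (algebraMap K(p, k) Ω (p : K(p, k))) ^ (-(r * (m : ℤ)))) • v := by
    calc (C.map (algebraMap (WittVector p k) Ω)) *ᵥ v
        = (algebraMap K(p, k) Ω ((p : K(p, k)) ^ (r * (m : ℤ))))⁻¹ •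
            ((algebraMap K(p, k) Ω ((p : K(p, k)) ^ (r * (m : ℤ)))) •
              ((C.map (algebraMap (WittVector p k) Ω)) *ᵥ v)) := by
          rw [smul_smul, inv_mul_cancel₀ hcne, one_smul]
      _ = (algebraMap K(p, k) Ω ((p : K(p, k)) ^ (r * (m : ℤ))))⁻¹ • (α ^ s • v) := by
          rw [hpow]
      _ = (α ^ s * (algebraMap K(p, k) Ω (p : K(p, k))) ^ (-(r * (m : ℤ)))) • v := by
          rw [smul_smul, map_zpow₀, zpow_neg, mul_comm]
  obtain ⟨β, hβ⟩ : ∃ β : Ω,
      β = α ^ s * (algebraMap K(p, k) Ω (p : K(p, k))) ^ (-(r * (m : ℤ))) := ⟨_, rfl⟩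
  rw [← hβ] at hCv ⊢
  have hZCΩ : (Z.map (algebraMap (WittVector p k) Ω)) *
      (C.map (algebraMap (WittVector p k) Ω)) = 1 := by
    rw [← Matrix.map_mul, hZC, Matrix.map_one _ (map_zero _) (map_one _)]
  have hv2 : v = β • ((Z.map (algebraMap (WittVector p k) Ω)) *ᵥ v) := by
    rw [← Matrix.mulVec_smul, ← hCv, Matrix.mulVec_mulVec, hZCΩ, Matrix.one_mulVec]
  have hβne : β ≠ 0 := by
    intro h0
    apply hv
    rw [hv2, h0, zero_smul]
  have hZv : (Z.map (algebraMap (WittVector p k) Ω)) *ᵥ v = β⁻¹ • v := by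
    conv_rhs => rw [hv2]
    rw [smul_smul, inv_mul_cancel₀ hβne, one_smul]
  refine ⟨?_, ⟨isIntegral_of_mulVec_eq C v hv β hCv, isIntegral_of_mulVec_eq Z v hv β⁻¹ hZv⟩⟩
  intro h0
  apply hβne
  rw [hβ, h0, zero_pow hs.ne', zero_mul]

end Witt

end Groth.Agent.H85
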