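import Groth.Agent.H85.IsocQuot

set_option autoImplicit false
set_option linter.unusedSectionVars false

open scoped Pointwise Isocrystal
open Isoc

universe u v w

namespace Groth.Agent.H85

section Hom

variable {p : ℕ} [Fact p.Prime] {k : Type u} [Field k] [CharP k p] [PerfectRing k p]
variable {N : Type v} [AddCommGroup N] [Module (WittVector p k) N] [Module K(p, k) N]
  [IsScalarTower (WittVector p k) K(p, k) N]
variable {N' : Type w} [AddCommGroup N'] [Module (WittVector p k) N'] [Module K(p, k) N']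
  [IsScalarTower (WittVector p k) K(p, k) N']
variable {τ : K(p, k) →+* K(p, k)}

theorem latImg_iterate_eq (hτ : PresW τ) (F : N →ₛₗ[τ] N) (M : Submodule (WittVector p k) N)
    (s : ℕ) (r : ℤ) (h : latImg F s M = pPow r M) (j : ℕ) :
    latImg F (s * j) M = pPow (r * j) M := by
  induction j with
  | zero => simp [latImg_zero]
  | succ j ih =>
    have e : s * (j + 1) = s * j + s := by ring
    rw [e, latImg_add hτ, h, latImg_pPow, ih, pPow_pPow]
    congr 1; push_cast; ring

theorem ne_bot_of_pPow_le (M M' : Submodule (WittVector p k) N) (c : ℤ) (h : pPow c M ≤ M')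
    (hne : M ≠ ⊥) : M' ≠ ⊥ := by
  rintro rfl
  apply hne
  rw [eq_bot_iff]
  intro x hx
  have := h (smul_mem_pPow c M hx)
  rw [Submodule.mem_bot] at this ⊢
  exact (smul_eq_zero.mp this).resolve_left (zpow_ne_zero _ pL_ne_zero)

theorem slope_unique (hτ : PresW τ) (F : N →ₛₗ[τ] N)
    (M M' : Submodule (WittVector p k) N) (hM : M.IsLattice K(p, k)) (hM' : M'.IsLattice K(p, k))
    (hne : M ≠ ⊥) (r r' : ℤ) (s s' : ℕ)
    (h : latImg F s M = pPow r M) (h' : latImg F s' M' = pPow r' M') :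
    r * s' = r' * s := by
  obtain ⟨c₁, hc₁⟩ := exists_pPow_le M M' hM.fg hM'.span_eq_top
  obtain ⟨c₂, hc₂⟩ := exists_pPow_le M' M hM'.fg hM.span_eq_top
  have hne' : M' ≠ ⊥ := ne_bot_of_pPow_le M M' _ hc₁ hne
  set j : ℕ := c₁ + c₂ + 1 with hj
  have e1 : latImg F (s * (s' * j)) M = pPow (r * ((s' * j : ℕ) : ℤ)) M :=
    latImg_iterate_eq hτ F M s r h (s' * j)
  have e2 : latImg F (s' * (s * j)) M' = pPow (r' * ((s * j : ℕ) : ℤ)) M' :=
    latImg_iterate_eq hτ F M' s' r' h' (s * j)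
  have eS : s' * (s * j) = s * (s' * j) := by ring
  rw [eS] at e2
  have b1 := latImg_le_of_commensurable F M M' c₁ c₂ hc₁ hc₂ (s * (s' * j)) _ e1.le
  rw [e2, pPow_le_pPow_iff_le M' hM'.fg hne'] at b1
  have b2 := latImg_le_of_commensurable F M' M c₂ c₁ hc₂ hc₁ (s * (s' * j)) _ e2.le
  rw [e1, pPow_le_pPow_iff_le M hM.fg hne] at b2
  push_cast at b1 b2
  have hjpos : (0 : ℤ) < j := by rw [hj]; positivity
  have hjc : ((c₁ : ℤ) + c₂) < j := by rw [hj]; push_cast; omega
  have k1 : (r * s' - r' * s) * j ≤ c₁ + c₂ := by nlinarith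
  have k2 : (r' * s - r * s') * j ≤ c₁ + c₂ := by nlinarith
  by_contra hne2
  rcases lt_or_gt_of_ne hne2 with hlt | hgt
  · have : 1 ≤ r' * s - r * s' := by omega
    nlinarith
  · have : 1 ≤ r * s' - r' * s := by omega
    nlinarith

theorem isIsoclinic_slope_unique (hτ : PresW τ) [Nontrivial N] (F : N →ₛₗ[τ] N) (μ μ' : ℚ)
    (h : IsIsoclinic F μ) (h' : IsIsoclinic F μ') : μ = μ' := by
  obtain ⟨M, hM, r, s, hs, hrs, hFM⟩ := h
  obtain ⟨M', hM', r', s', hs', hrs', hFM'⟩ := h'
  have hne : M ≠ ⊥ := by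
    rintro rfl
    have h := hM.span_eq_top
    rw [Submodule.bot_coe, Submodule.span_singleton_eq_bot.mpr rfl] at h
    obtain ⟨x, hx⟩ := exists_ne (0 : N)
    have : x ∈ (⊥ : Submodule K(p, k) N) := by rw [h]; trivial
    exact hx ((Submodule.mem_bot _).mp this)
  have key := slope_unique hτ F M M' hM hM' hne r r' s s' hFM hFM'
  rw [← hrs, ← hrs']
  have hsQ : (s : ℚ) ≠ 0 := by exact_mod_cast hs.ne'
  have hsQ' : (s' : ℚ) ≠ 0 := by exact_mod_cast hs'.ne'
  rw [div_eq_div_iff hsQ hsQ']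
  exact_mod_cast key

/-- The image of a `W`-lattice under an `L`-linear map. -/
def imageLattice (g : N →ₗ[K(p, k)] N') (M : Submodule (WittVector p k) N) :
    Submodule (WittVector p k) N' where
  carrier := {y | ∃ x ∈ M, g x = y}
  add_mem' := by
    rintro _ _ ⟨x, hx, rfl⟩ ⟨y, hy, rfl⟩
    exact ⟨x + y, M.add_mem hx hy, map_add _ _ _⟩
  zero_mem' := ⟨0, M.zero_mem, map_zero _⟩
  smul_mem' := by
    rintro w _ ⟨x, hx, rfl⟩
    refine ⟨w • x, M.smul_mem w hx, ?_⟩
    rw [← algebraMap_smul K(p, k) w x, map_smul, algebraMap_smul]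

theorem imageLattice_isLattice (g : N →ₗ[K(p, k)] N') (hg : Function.Surjective g)
    (M : Submodule (WittVector p k) N) (hM : M.IsLattice K(p, k)) :
    (imageLattice g M).IsLattice K(p, k) := by
  classical
  have hsm : ∀ (w : WittVector p k) (x : N), g (w • x) = w • g x := fun w x => by
    rw [← algebraMap_smul K(p, k) w x, map_smul, algebraMap_smul]
  refine ⟨?_, ?_⟩
  · obtain ⟨S, hS⟩ := hM.fg
    refine ⟨S.image g, ?_⟩
    apply le_antisymm
    · rw [Submodule.span_le]
      intro y hy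
      rw [Finset.coe_image] at hy
      obtain ⟨x, hx, rfl⟩ := hy
      exact ⟨x, hS ▸ Submodule.subset_span hx, rfl⟩
    · rintro _ ⟨x, hx, rfl⟩
      rw [← hS] at hx
      induction hx using Submodule.span_induction with
      | mem x hx =>
        exact Submodule.subset_span (by rw [Finset.coe_image]; exact Set.mem_image_of_mem _ hx)
      | zero => rw [map_zero]; exact Submodule.zero_mem _
      | add x y _ _ ihx ihy => rw [map_add]; exact Submodule.add_mem _ ihx ihy
      | smul w x _ ih => rw [hsm]; exact Submodule.smul_mem _ w ih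
  · rw [eq_top_iff]
    rintro y -
    obtain ⟨x, rfl⟩ := hg y
    have hx : x ∈ Submodule.span K(p, k) (M : Set N) := by rw [hM.span_eq_top]; trivial
    induction hx using Submodule.span_induction with
    | mem x hx => exact Submodule.subset_span ⟨x, hx, rfl⟩
    | zero => rw [map_zero]; exact Submodule.zero_mem _
    | add x y _ _ ihx ihy => rw [map_add]; exact Submodule.add_mem _ ihx ihy
    | smul l x _ ih => rw [map_smul]; exact Submodule.smul_mem _ l ih

theorem iterate_hom (F : N →ₛₗ[τ] N) (G : N' →ₛₗ[τ] N') (g : N →ₗ[K(p, k)] N')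
    (hg : ∀ x, g (F x) = G (g x)) (s : ℕ) (x : N) : (⇑G)^[s] (g x) = g ((⇑F)^[s] x) := by
  induction s with
  | zero => rfl
  | succ s ih =>
    rw [Function.iterate_succ', Function.comp_apply, Function.iterate_succ', Function.comp_apply, ih, hg]

theorem isIsoclinic_of_surjective_hom (hτ' : SurjW τ)
    (F : N →ₛₗ[τ] N) (G : N' →ₛₗ[τ] N') (g : N →ₗ[K(p, k)] N')
    (hgs : Function.Surjective g) (hg : ∀ x, g (F x) = G (g x))
    (μ : ℚ) (hμ : IsIsoclinic F μ) : IsIsoclinic G μ := by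
  obtain ⟨M, hM, r, s, hs, hrs, hFM⟩ := hμ
  refine ⟨imageLattice g M, imageLattice_isLattice g hgs M hM, r, s, hs, hrs, ?_⟩
  apply le_antisymm
  · rw [latImg_le_iff]
    rintro _ ⟨x, hx, rfl⟩
    rw [iterate_hom F G g hg]
    have h1 : (⇑F)^[s] x ∈ pPow r M := by rw [← hFM]; exact iterate_mem_latImg F s M hx
    obtain ⟨z, hz, hzx⟩ := (mem_pPow_iff_exists _ _ _).mp h1
    rw [← hzx, map_smul]
    exact smul_mem_pPow r _ ⟨z, hz, rfl⟩
  · intro y hy
    obtain ⟨_, ⟨z, hz, rfl⟩, rfl⟩ := (mem_pPow_iff_exists _ _ _).mp hy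
    have h1 : ((p : K(p, k)) ^ r) • z ∈ latImg F s M := by
      rw [hFM]; exact smul_mem_pPow r M hz
    obtain ⟨x, hx, hxz⟩ := (mem_latImg_iff hτ' F s M _).mp h1
    rw [← map_smul, ← hxz, ← iterate_hom F G g hg]
    exact iterate_mem_latImg _ s _ ⟨x, hx, rfl⟩

end Hom

end Groth.Agent.H85
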