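import Groth.Agent.H85.IsocDecomp
import Mathlib.LinearAlgebra.DFinsupp
import Mathlib.Algebra.DirectSum.Module

set_option autoImplicit false
set_option linter.unusedSectionVars false

open scoped Pointwise Isocrystal
open Isoc

universe u v

namespace Groth.Agent.H85

section Indep

variable {p : ℕ} [Fact p.Prime] {k : Type u} [Field k] [CharP k p] [PerfectRing k p]
variable {N : Type v} [AddCommGroup N] [Module (WittVector p k) N] [Module K(p, k) N]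
  [IsScalarTower (WittVector p k) K(p, k) N]
variable {τ : K(p, k) →+* K(p, k)}

/-! ### Sub-isocrystals and the span of the slope parts -/

theorem isIsoc_restrict (hτb : Function.Bijective τ) (F : N →ₛₗ[τ] N) (hF : IsIsoc F)
    (Q : Submodule K(p, k) N) (hQ : ∀ x ∈ Q, F x ∈ Q) : IsIsoc (F.restrict hQ) := by
  have := hF.finite
  have hinj : Function.Injective (F.restrict hQ) := fun x y h =>
    Subtype.ext (hF.bijective.injective (congrArg Subtype.val h))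
  exact ⟨inferInstance, hinj, semilinear_surjective_of_injective hτb _ hinj⟩

theorem isoOn_map_subtype (hτ' : SurjW τ) (F : N →ₛₗ[τ] N) (Q : Submodule K(p, k) N)
    (hQ : ∀ x ∈ Q, F x ∈ Q) (Q' : Submodule K(p, k) Q) (μ : ℚ)
    (h : IsoOn (F.restrict hQ) Q' μ) : IsoOn F (Q'.map Q.subtype) μ := by
  obtain ⟨M, hfg, hspan, r, s, hs, hrs, hFM⟩ := h
  refine ⟨imageLattice Q.subtype M, imageLattice_fg Q.subtype M hfg, ?_, r, s, hs, hrs,
    latImg_imageLattice hτ' (F.restrict hQ) F Q.subtype (fun x => rfl) M r s hFM⟩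
  rw [← hspan, Submodule.map_span]
  rfl

theorem stable_le_iSup_slopePart (hτ : PresW τ) (hτ' : SurjW τ) (hτb : Function.Bijective τ)
    (F : N →ₛₗ[τ] N) (hF : IsIsoc F) :
    ∀ (n : ℕ) (Q : Submodule K(p, k) N), (∀ x ∈ Q, F x ∈ Q) → Module.finrank K(p, k) Q = n →
      Q ≤ ⨆ μ : ℚ, slopePart F μ := by
  have hfin := hF.finite
  intro n
  induction n using Nat.strong_induction_on with
  | _ n ih =>
    intro Q hQ hn
    by_cases hbot : Q = ⊥
    · rw [hbot]; exact bot_le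
    have hnt : Nontrivial Q := Submodule.nontrivial_iff_ne_bot.mpr hbot
    have hG := isIsoc_restrict hτb F hF Q hQ
    obtain ⟨Q', Q'', μ, hst', hst'', hsup, hne, hiso⟩ :=
      exists_isoclinic_summand hτ hτ' (F.restrict hQ) hG
    have hQeq : Q = Q'.map Q.subtype ⊔ Q''.map Q.subtype := by
      rw [← Submodule.map_sup, hsup, Submodule.map_subtype_top]
    rw [hQeq]
    refine sup_le ?_ ?_
    · have hstab : ∀ x ∈ Q'.map Q.subtype, F x ∈ Q'.map Q.subtype := by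
        rintro _ ⟨x, hx, rfl⟩
        exact ⟨F.restrict hQ x, hst' x hx, rfl⟩
      have h1 := isoOn_map_subtype hτ' F Q hQ Q' μ hiso
      have h2 := isIsoclinic_restrict_of_isoOn hτ' F _ hstab μ h1
      exact (le_slopePart F μ _ hstab h2).trans (le_iSup (fun μ : ℚ => slopePart F μ) μ)
    · have hstab : ∀ x ∈ Q''.map Q.subtype, F x ∈ Q''.map Q.subtype := by
        rintro _ ⟨x, hx, rfl⟩
        exact ⟨F.restrict hQ x, hst'' x hx, rfl⟩
      have hlt : Module.finrank K(p, k) (Q''.map Q.subtype) < n := by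
        rw [Submodule.finrank_map_subtype_eq, ← hn]
        exact Submodule.finrank_lt hne
      exact ih _ hlt _ hstab rfl

theorem iSup_slopePart_eq_top (hτ : PresW τ) (hτ' : SurjW τ) (hτb : Function.Bijective τ)
    (F : N →ₛₗ[τ] N) (hF : IsIsoc F) : ⨆ μ : ℚ, slopePart F μ = ⊤ := by
  rw [eq_top_iff]
  exact stable_le_iSup_slopePart hτ hτ' hτb F hF _ ⊤ (fun x _ => trivial) rfl

/-! ### Growth of iterates -/

/-- `x` has `F^S`-growth at least `R` with respect to `M₀`. -/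
def Grow (F : N →ₛₗ[τ] N) (S : ℕ) (R : ℤ) (M₀ : Submodule (WittVector p k) N) (x : N) : Prop :=
  ∃ c : ℤ, ∀ j : ℕ, (⇑F)^[S * j] x ∈ pPow (R * j - c) M₀

theorem grow_zero (F : N →ₛₗ[τ] N) (S : ℕ) (R : ℤ) (M₀ : Submodule (WittVector p k) N) :
    Grow F S R M₀ 0 :=
  ⟨0, fun j => by rw [iterate_zero']; exact Submodule.zero_mem _⟩

theorem grow_add (F : N →ₛₗ[τ] N) (S : ℕ) (R : ℤ) (M₀ : Submodule (WittVector p k) N) {x y : N}
    (hx : Grow F S R M₀ x) (hy : Grow F S R M₀ y) : Grow F S R M₀ (x + y) := by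
  obtain ⟨c₁, h₁⟩ := hx
  obtain ⟨c₂, h₂⟩ := hy
  refine ⟨max c₁ c₂, fun j => ?_⟩
  rw [iterate_add']
  exact Submodule.add_mem _
    (pPow_anti (sub_le_sub_left (le_max_left c₁ c₂) (R * (j : ℤ))) M₀ (h₁ j))
    (pPow_anti (sub_le_sub_left (le_max_right c₁ c₂) (R * (j : ℤ))) M₀ (h₂ j))

theorem grow_neg (F : N →ₛₗ[τ] N) (S : ℕ) (R : ℤ) (M₀ : Submodule (WittVector p k) N) {x : N}
    (hx : Grow F S R M₀ x) : Grow F S R M₀ (-x) := by
  obtain ⟨c, h⟩ := hx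
  refine ⟨c, fun j => ?_⟩
  have : (⇑F)^[S * j] (-x) = -(⇑F)^[S * j] x := by
    rw [← zero_sub, iterate_sub', iterate_zero', zero_sub]
  rw [this]
  exact Submodule.neg_mem _ (h j)

theorem grow_sum (F : N →ₛₗ[τ] N) (S : ℕ) (R : ℤ) (M₀ : Submodule (WittVector p k) N)
    {ι : Type*} (T : Finset ι) (f : ι → N) (h : ∀ i ∈ T, Grow F S R M₀ (f i)) :
    Grow F S R M₀ (∑ i ∈ T, f i) := by
  classical
  induction T using Finset.induction_on with
  | empty => rw [Finset.sum_empty]; exact grow_zero F S R M₀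
  | insert i T hi ih =>
    rw [Finset.sum_insert hi]
    exact grow_add F S R M₀ (h i (Finset.mem_insert_self i T))
      (ih fun j hj => h j (Finset.mem_insert_of_mem hj))

theorem grow_mono (F : N →ₛₗ[τ] N) (S : ℕ) {R R' : ℤ} (hRR : R' ≤ R)
    (M₀ : Submodule (WittVector p k) N) {x : N} (hx : Grow F S R M₀ x) : Grow F S R' M₀ x := by
  obtain ⟨c, h⟩ := hx
  refine ⟨c, fun j => pPow_anti ?_ M₀ (h j)⟩
  have : R' * (j : ℤ) ≤ R * j := mul_le_mul_of_nonneg_right hRR (Int.natCast_nonneg j)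
  exact sub_le_sub_right this c

theorem grow_of_mem_span (hτ : PresW τ) (F : N →ₛₗ[τ] N) (M₀ : Submodule (WittVector p k) N)
    (hM₀ : Submodule.span K(p, k) (M₀ : Set N) = ⊤)
    (M : Submodule (WittVector p k) N) (hM : M.FG) (S : ℕ) (R : ℤ)
    (hFM : latImg F S M = pPow R M) (x : N)
    (hx : x ∈ Submodule.span K(p, k) (M : Set N)) : Grow F S R M₀ x := by
  obtain ⟨a, ha⟩ := exists_natpow_smul_mem_of_mem_span M hx
  rw [← zpow_natCast] at ha
  obtain ⟨b, hb⟩ := exists_pPow_le M M₀ hM hM₀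
  refine ⟨(a : ℤ) + b, fun j => ?_⟩
  have hiter := latImg_iterate_eq hτ F M S R hFM j
  have h1 : (⇑F)^[S * j] (((p : K(p, k)) ^ ((a : ℕ) : ℤ)) • x) ∈ pPow (R * j) M := by
    rw [← hiter]; exact iterate_mem_latImg F (S * j) M ha
  rw [iterate_zpow_smul, mem_pPow_iff, smul_smul, ← zpow_add₀ pL_ne_zero] at h1
  have h2 : (⇑F)^[S * j] x ∈ pPow (R * j - a) M := by
    rw [mem_pPow_iff]
    have e : -(R * (j : ℤ) - (a : ℤ)) = -(R * (j : ℤ)) + ((a : ℕ) : ℤ) := by ring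
    rw [e]
    exact h1
  have e2 : R * (j : ℤ) - ((a : ℤ) + b) + b = R * j - a := by ring
  have h3 : pPow (R * j - a) M ≤ pPow (R * j - ((a : ℤ) + b)) M₀ := by
    rw [← e2, ← pPow_pPow]
    exact pPow_mono _ hb
  exact h3 h2

theorem eq_zero_of_grow (hτ : PresW τ) (hτ' : SurjW τ) (F : N →ₛₗ[τ] N)
    (hinj : Function.Injective F) (M₀ : Submodule (WittVector p k) N) (hM₀ : M₀.FG)
    (M : Submodule (WittVector p k) N) (hM : M.FG) (S : ℕ) (R : ℤ)
    (hFM : latImg F S M = pPow R M) (x : N)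
    (hx : x ∈ Submodule.span K(p, k) (M : Set N)) (hg : Grow F S (R + 1) M₀ x) : x = 0 := by
  obtain ⟨a, ha⟩ := exists_natpow_smul_mem_of_mem_span M hx
  rw [← zpow_natCast] at ha
  have hN : IsNoetherian (WittVector p k) M₀ := isNoetherian_of_fg_of_noetherian M₀ hM₀
  have hQfg : (M₀ ⊓ (Submodule.span K(p, k) (M : Set N)).restrictScalars (WittVector p k)).FG :=
    isNoetherian_submodule.mp hN _ inf_le_left
  obtain ⟨b, hb⟩ := exists_pPow_le_of_le_span _ M hQfg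
    (fun z hz => (Submodule.restrictScalars_mem (WittVector p k) _ _).mp (Submodule.mem_inf.mp hz).2)
  obtain ⟨c, hc⟩ := hg
  have hpa : ((p : K(p, k)) ^ ((a : ℕ) : ℤ)) ≠ 0 := zpow_ne_zero _ pL_ne_zero
  by_contra hx0
  have hy0 : ((p : K(p, k)) ^ ((a : ℕ) : ℤ)) • x ≠ 0 := smul_ne_zero hpa hx0
  obtain ⟨n, hn⟩ := exists_not_mem_pPow M hM hy0
  apply hn
  obtain ⟨j, hjge⟩ : ∃ j : ℕ, (n : ℤ) ≤ (j : ℤ) + a - c - b := by
    refine ⟨n + (c + b).toNat, ?_⟩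
    have := Int.self_le_toNat (c + b)
    push_cast
    omega
  refine pPow_anti hjge M ?_
  have hiter := latImg_iterate_eq hτ F M S R hFM j
  have hz1 : (⇑F)^[S * j] (((p : K(p, k)) ^ ((a : ℕ) : ℤ)) • x) ∈ pPow (R * j) M := by
    rw [← hiter]; exact iterate_mem_latImg F (S * j) M ha
  have hz2 : (⇑F)^[S * j] (((p : K(p, k)) ^ ((a : ℕ) : ℤ)) • x) ∈
      pPow (((a : ℕ) : ℤ) + ((R + 1) * j - c)) M₀ := by
    rw [iterate_zpow_smul, ← pPow_pPow]
    exact smul_mem_pPow _ _ (hc j)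
  have hz3 : (⇑F)^[S * j] (((p : K(p, k)) ^ ((a : ℕ) : ℤ)) • x) ∈
      Submodule.span K(p, k) (M : Set N) := by
    obtain ⟨m, hm, hmz⟩ := (mem_pPow_iff_exists _ _ _).mp hz1
    rw [← hmz]
    exact Submodule.smul_mem _ _ (Submodule.subset_span hm)
  have hz4 : ((p : K(p, k)) ^ (-(((a : ℕ) : ℤ) + ((R + 1) * j - c)))) •
      (⇑F)^[S * j] (((p : K(p, k)) ^ ((a : ℕ) : ℤ)) • x) ∈
      M₀ ⊓ (Submodule.span K(p, k) (M : Set N)).restrictScalars (WittVector p k) :=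
    Submodule.mem_inf.mpr ⟨(mem_pPow_iff _ _ _).mp hz2,
      (Submodule.restrictScalars_mem (WittVector p k) _ _).mpr (Submodule.smul_mem _ _ hz3)⟩
  have hz5 := hb (smul_mem_pPow (b : ℤ) _ hz4)
  have hz6 : (⇑F)^[S * j] (((p : K(p, k)) ^ ((a : ℕ) : ℤ)) • x) ∈
      pPow ((j : ℤ) + a - c - b) (latImg F (S * j) M) := by
    rw [hiter, pPow_pPow, mem_pPow_iff]
    rw [smul_smul, ← zpow_add₀ pL_ne_zero] at hz5
    have e : ((b : ℕ) : ℤ) + -(((a : ℕ) : ℤ) + ((R + 1) * (j : ℤ) - c)) =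
        -((j : ℤ) + a - c - b + R * j) := by ring
    rwa [e] at hz5
  rw [← latImg_pPow] at hz6
  obtain ⟨y', hy', hy'z⟩ := (mem_latImg_iff hτ' F (S * j) _ _).mp hz6
  have := hinj.iterate (S * j) hy'z
  rw [← this]
  exact hy'

/-! ### Independence of the slope parts -/

theorem iSupIndep_slopePart (hτ : PresW τ) (hτ' : SurjW τ) (F : N →ₛₗ[τ] N) (hF : IsIsoc F) :
    iSupIndep (fun μ : ℚ => slopePart F μ) := by
  classical
  have hfin := hF.finite
  rw [iSupIndep_iff_finsetSum_eq_zero_imp_eq_zero]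
  intro T x hx hsum
  by_contra hcon
  push Not at hcon
  obtain ⟨i₀, hi₀T, hi₀⟩ := hcon
  have hw : ∀ ν : ℚ, ∃ (M : Submodule (WittVector p k) N) (r : ℤ) (s : ℕ), M.FG ∧
      Submodule.span K(p, k) (M : Set N) = slopePart F ν ∧ 0 < s ∧ (r : ℚ) / s = ν ∧
      latImg F s M = pPow r M := by
    intro ν
    obtain ⟨M, hfg, hspan, r, s, hs, hrs, hFM⟩ := isoOn_slopePart hτ hτ' F ν
    exact ⟨M, r, s, hfg, hspan, hs, hrs, hFM⟩
  choose M r s hMfg hMspan hs hrs hFM using hw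
  have hM₀ : (Submodule.span (WittVector p k)
      (Set.range (Module.finBasis K(p, k) N))).IsLattice K(p, k) :=
    ⟨Submodule.fg_span (Set.finite_range _), by
      rw [Submodule.span_span_of_tower]; exact (Module.finBasis K(p, k) N).span_eq⟩
  obtain ⟨M₀, hM₀⟩ : ∃ M₀ : Submodule (WittVector p k) N, M₀.IsLattice K(p, k) := ⟨_, hM₀⟩
  obtain ⟨T', hT'def⟩ : ∃ T' : Finset ℚ, T' = T.filter (fun ν => x ν ≠ 0) := ⟨_, rfl⟩
  have hT'mem : ∀ ν, ν ∈ T' ↔ ν ∈ T ∧ x ν ≠ 0 := by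
    intro ν; rw [hT'def, Finset.mem_filter]
  have hT'ne : T'.Nonempty := ⟨i₀, (hT'mem i₀).mpr ⟨hi₀T, hi₀⟩⟩
  obtain ⟨μ, hμT', hμmin⟩ : ∃ μ ∈ T', ∀ ν ∈ T', μ ≤ ν :=
    ⟨T'.min' hT'ne, Finset.min'_mem T' hT'ne, fun ν hν => Finset.min'_le T' ν hν⟩
  have hμT : μ ∈ T := ((hT'mem μ).mp hμT').1
  have hxμ : x μ ≠ 0 := ((hT'mem μ).mp hμT').2
  have hsum' : ∑ ν ∈ T', x ν = 0 := by rw [hT'def, Finset.sum_filter_ne_zero, hsum]
  have hxμeq : x μ = -∑ ν ∈ T'.erase μ, x ν := by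
    rw [← Finset.add_sum_erase T' x hμT'] at hsum'
    exact eq_neg_of_add_eq_zero_left hsum'
  obtain ⟨S, hSpos, m, hSm⟩ : ∃ S : ℕ, 0 < S ∧ ∃ m : ℚ → ℕ, ∀ ν ∈ T, S = s ν * m ν :=
    ⟨∏ ν ∈ T, s ν, Finset.prod_pos fun ν _ => hs ν, fun ν => ∏ ν' ∈ T.erase ν, s ν',
      fun ν hν => (Finset.mul_prod_erase T s hν).symm⟩
  have hFS : ∀ ν ∈ T, latImg F S (M ν) = pPow (r ν * (m ν : ℤ)) (M ν) := by
    intro ν hν
    rw [hSm ν hν]
    exact latImg_iterate_eq hτ F (M ν) (s ν) (r ν) (hFM ν) (m ν)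
  have hRν : ∀ ν ∈ T, ((r ν * (m ν : ℤ) : ℤ) : ℚ) = ν * S := by
    intro ν hν
    have hsν : (s ν : ℚ) ≠ 0 := by exact_mod_cast (hs ν).ne'
    have h3 : (r ν : ℚ) = ν * (s ν : ℚ) := by
      have := hrs ν
      rwa [div_eq_iff hsν] at this
    rw [hSm ν hν]
    push_cast
    rw [h3]
    ring
  have hRlt : ∀ ν ∈ T, μ < ν → r μ * (m μ : ℤ) + 1 ≤ r ν * (m ν : ℤ) := by
    intro ν hν hlt
    have h1 : ((r μ * (m μ : ℤ) : ℤ) : ℚ) < ((r ν * (m ν : ℤ) : ℤ) : ℚ) := by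
      rw [hRν μ hμT, hRν ν hν]
      exact mul_lt_mul_of_pos_right hlt (by exact_mod_cast hSpos)
    have h2 : r μ * (m μ : ℤ) < r ν * (m ν : ℤ) := by exact_mod_cast h1
    exact Int.add_one_le_iff.mpr h2
  have hgrow : Grow F S (r μ * (m μ : ℤ) + 1) M₀ (x μ) := by
    rw [hxμeq]
    apply grow_neg
    apply grow_sum
    intro ν hν
    have hνT' : ν ∈ T' := Finset.mem_of_mem_erase hν
    have hνT : ν ∈ T := ((hT'mem ν).mp hνT').1
    have hne : ν ≠ μ := Finset.ne_of_mem_erase hν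
    have hlt : μ < ν := lt_of_le_of_ne (hμmin ν hνT') hne.symm
    refine grow_mono F S (hRlt ν hνT hlt) M₀ ?_
    refine grow_of_mem_span hτ F M₀ hM₀.span_eq_top (M ν) (hMfg ν) S _ (hFS ν hνT) (x ν) ?_
    rw [hMspan ν]
    exact hx ν hνT
  exact hxμ (eq_zero_of_grow hτ hτ' F hF.bijective.injective M₀ hM₀.fg (M μ) (hMfg μ) S _
    (hFS μ hμT) (x μ) (by rw [hMspan μ]; exact hx μ hμT) hgrow)

theorem isInternal_slopePart (hτ : PresW τ) (hτ' : SurjW τ) (hτb : Function.Bijective τ)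
    (F : N →ₛₗ[τ] N) (hF : IsIsoc F) :
    DirectSum.IsInternal (fun μ : ℚ => slopePart F μ) :=
  DirectSum.isInternal_submodule_of_iSupIndep_of_iSup_eq_top (iSupIndep_slopePart hτ hτ' F hF)
    (iSup_slopePart_eq_top hτ hτ' hτb F hF)

end Indep

end Groth.Agent.H85
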