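import Groth.Agent.H85.IsocNewton
import Mathlib.FieldTheory.IsAlgClosed.Basic
import Mathlib.Algebra.Polynomial.Derivative

set_option autoImplicit false
set_option linter.unusedSectionVars false

open scoped Pointwise Isocrystal
open Isoc Polynomial

universe u v

namespace Groth.Agent.H85

section ModP

variable {k : Type*} [Field k]

/-- The polynomials solving the cyclic system for `G x - x = y`. -/
noncomputable def langPoly (q : ℕ) (l : ℕ → k) : ℕ → k[X]
  | 0 => C (l 0) * X ^ q - 1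
  | (i + 1) => langPoly q l i ^ q + C (l (i + 1)) * X ^ q

theorem langPoly_zero (q : ℕ) (l : ℕ → k) : langPoly q l 0 = C (l 0) * X ^ q - 1 := rfl

theorem langPoly_succ (q : ℕ) (l : ℕ → k) (i : ℕ) :
    langPoly q l (i + 1) = langPoly q l i ^ q + C (l (i + 1)) * X ^ q := rfl

theorem derivative_langPoly (q : ℕ) (hq : (q : k) = 0) (l : ℕ → k) (i : ℕ) :
    derivative (langPoly q l i) = 0 := by
  induction i with
  | zero =>
    rw [langPoly_zero, derivative_sub, derivative_one, sub_zero, derivative_C_mul,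
      derivative_X_pow, hq, C_0, zero_mul, mul_zero]
  | succ i _ =>
    rw [langPoly_succ, derivative_add, derivative_pow, hq, C_0, zero_mul, zero_mul, zero_add,
      derivative_C_mul, derivative_X_pow, hq, C_0, zero_mul, mul_zero]

/-- Lang's theorem in additive form: over an algebraically closed field of characteristic `p`, for
a `q`-semilinear endomorphism `G` (`q` divisible by `p`) of a noetherian module, `G - 1` is
surjective. -/
theorem exists_semilinear_sub_id_eq [IsAlgClosed k] (q : ℕ) (hq : (q : k) = 0)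
    {V : Type*} [AddCommGroup V] [Module k V] [IsNoetherian k V] {φ : k →+* k}
    (hφ : ∀ c, φ c = c ^ q) (G : V →ₛₗ[φ] V) (y : V) : ∃ x, G x - x = y := by
  classical
  obtain ⟨v, hv0, hvs⟩ : ∃ v : ℕ → V, v 0 = y ∧ ∀ i, G (v i) = v (i + 1) :=
    ⟨fun i => (⇑G)^[i] y, rfl, fun i => (Function.iterate_succ_apply' (⇑G) i y).symm⟩
  let U : ℕ →o Submodule k V :=
    ⟨fun j => Submodule.span k (v '' (Finset.range (j + 1) : Set ℕ)), fun j j' hjj' =>
      Submodule.span_mono (Set.image_mono (by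
        intro i hi
        rw [Finset.coe_range, Set.mem_Iio] at hi ⊢
        omega))⟩
  obtain ⟨m, hm⟩ := monotone_stabilizes_iff_noetherian.mpr (inferInstance : IsNoetherian k V) U
  have hmem : v (m + 1) ∈ Submodule.span k (v '' (Finset.range (m + 1) : Set ℕ)) := by
    have h1 : v (m + 1) ∈ U (m + 1) :=
      Submodule.subset_span ⟨m + 1, by rw [Finset.coe_range, Set.mem_Iio]; omega, rfl⟩
    rw [← hm (m + 1) (Nat.le_succ m)] at h1
    exact h1
  obtain ⟨l, hl, hlv⟩ := (Finsupp.mem_span_image_iff_linearCombination k).mp hmem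
  have hsum : ∑ i ∈ Finset.range (m + 1), l i • v i = v (m + 1) := by
    rw [← hlv, Finsupp.linearCombination_apply, Finsupp.sum]
    refine (Finset.sum_subset ?_ ?_).symm
    · exact Finset.coe_subset.mp ((Finsupp.mem_supported k l).mp hl)
    · intro i _ hi
      rw [Finsupp.notMem_support_iff.mp hi, zero_smul]
  have hsum' : v (m + 1) = ∑ i ∈ Finset.range m, l (i + 1) • v (i + 1) + l 0 • v 0 := by
    rw [← hsum, Finset.sum_range_succ']
  have hPder : derivative (langPoly q l m - X) = -1 := by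
    rw [derivative_sub, derivative_langPoly q hq, derivative_X, zero_sub]
  have hdeg : (langPoly q l m - X).degree ≠ 0 := by
    intro h0
    have hc := Polynomial.eq_C_of_degree_eq_zero h0
    rw [hc, derivative_C] at hPder
    exact one_ne_zero (neg_eq_zero.mp hPder.symm)
  obtain ⟨u, hu⟩ := IsAlgClosed.exists_root (langPoly q l m - X) hdeg
  have hum : (langPoly q l m).eval u = u := by
    rw [Polynomial.IsRoot.def, eval_sub, eval_X, sub_eq_zero] at hu
    exact hu
  obtain ⟨t, ht0, hts, htm⟩ : ∃ t : ℕ → k, t 0 = l 0 * u ^ q - 1 ∧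
      (∀ i, t (i + 1) = t i ^ q + l (i + 1) * u ^ q) ∧ t m = u := by
    refine ⟨fun i => (langPoly q l i).eval u, ?_, ?_, hum⟩
    · simp only [langPoly_zero, eval_sub, eval_mul, eval_C, eval_pow, eval_X, eval_one]
    · intro i
      simp only [langPoly_succ, eval_add, eval_mul, eval_C, eval_pow, eval_X]
  refine ⟨∑ i ∈ Finset.range (m + 1), t i • v i, ?_⟩
  have e1 : ∀ i, G (t i • v i) = (t i ^ q) • v (i + 1) := fun i => by
    rw [map_smulₛₗ, hφ, hvs]
  have hG : G (∑ i ∈ Finset.range (m + 1), t i • v i) =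
      ∑ i ∈ Finset.range m, (t i ^ q) • v (i + 1) +
        (u ^ q) • (∑ i ∈ Finset.range m, l (i + 1) • v (i + 1) + l 0 • v 0) := by
    rw [map_sum, Finset.sum_range_succ]
    simp only [e1]
    rw [htm, hsum']
  have hx : ∑ i ∈ Finset.range (m + 1), t i • v i =
      ∑ i ∈ Finset.range m, t (i + 1) • v (i + 1) + t 0 • v 0 :=
    Finset.sum_range_succ' _ m
  have hcoef : ∀ i, t i ^ q + u ^ q * l (i + 1) - t (i + 1) = 0 := by
    intro i; rw [hts]; ring
  have hcoef0 : u ^ q * l 0 - t 0 = 1 := by rw [ht0]; ring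
  rw [hG, hx]
  calc _ = ∑ i ∈ Finset.range m, (t i ^ q + u ^ q * l (i + 1) - t (i + 1)) • v (i + 1) +
        (u ^ q * l 0 - t 0) • v 0 := by
        simp only [Finset.smul_sum, smul_add, sub_smul, add_smul, mul_smul,
          Finset.sum_add_distrib, Finset.sum_sub_distrib]
        abel
    _ = y := by
        simp only [hcoef, hcoef0, zero_smul, Finset.sum_const_zero, zero_add, one_smul, hv0]

end ModP

section Lift

variable {p : ℕ} [Fact p.Prime] {k : Type u} [Field k] [CharP k p] [PerfectRing k p]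
variable {N : Type v} [AddCommGroup N] [Module (WittVector p k) N] [Module K(p, k) N]
  [IsScalarTower (WittVector p k) K(p, k) N]
variable {τ : K(p, k) →+* K(p, k)}

/-- `τ` maps `W` into `W` and induces `c ↦ c ^ (p ^ B)` on the residue field. -/
def ResPow (τ : K(p, k) →+* K(p, k)) (B : ℕ) : Prop :=
  ∀ w : WittVector p k, ∃ w' : WittVector p k,
    τ (algebraMap (WittVector p k) K(p, k) w) = algebraMap (WittVector p k) K(p, k) w' ∧
      w'.coeff 0 = w.coeff 0 ^ p ^ B

theorem ResPow.presW {B : ℕ} (h : ResPow τ B) : PresW τ := fun w =>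
  let ⟨w', hw', _⟩ := h w
  ⟨w', hw'⟩

theorem coeff_zero_frobeniusEquiv_pow (n : ℕ) (w : WittVector p k) :
    ((WittVector.frobeniusEquiv p k ^ n) w).coeff 0 = w.coeff 0 ^ p ^ n := by
  induction n generalizing w with
  | zero =>
    rw [pow_zero, pow_zero, pow_one]
    rfl
  | succ n ih =>
    rw [pow_succ, RingAut.mul_apply, ih]
    have h1 : (WittVector.frobeniusEquiv p k) w = WittVector.frobenius w := rfl
    rw [h1, WittVector.coeff_frobenius_charP, ← pow_mul, pow_succ']

theorem resPow_frob (n : ℕ) : ResPow (frob p k (n : ℤ)) n := by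
  intro w
  refine ⟨(WittVector.frobeniusEquiv p k ^ (n : ℤ)) w, frob_algebraMap p k n w, ?_⟩
  rw [zpow_natCast]
  exact coeff_zero_frobeniusEquiv_pow n w

theorem resPow_pow {B : ℕ} (h : ResPow τ B) (s : ℕ) : ResPow (τ ^ s) (B * s) := by
  induction s with
  | zero =>
    intro w
    refine ⟨w, by rw [pow_zero]; rfl, ?_⟩
    rw [Nat.mul_zero, pow_zero, pow_one]
  | succ s ih =>
    intro w
    obtain ⟨w₁, h₁, h₁'⟩ := h w
    obtain ⟨w₂, h₂, h₂'⟩ := ih w₁
    refine ⟨w₂, ?_, ?_⟩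
    · rw [pow_succ, RingHom.coe_mul, Function.comp_apply, h₁, h₂]
    · rw [h₂', h₁', ← pow_mul, ← pow_add, Nat.mul_succ, Nat.add_comm]

/-- First approximation: solve `Φ x - x = y` modulo `p` on a `Φ`-stable lattice. -/
theorem exists_approx_of_resPow [IsAlgClosed k] {ι : Type*} [Fintype ι] [DecidableEq ι]
    (e : Module.Basis ι K(p, k) N) (B : ℕ) (hB : 0 < B) (hτ : ResPow τ B) (Φ : N →ₛₗ[τ] N)
    (hΦ : ∀ x ∈ Submodule.span (WittVector p k) (Set.range e),
      Φ x ∈ Submodule.span (WittVector p k) (Set.range e))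
    (y : N) (hy : y ∈ Submodule.span (WittVector p k) (Set.range e)) :
    ∃ x ∈ Submodule.span (WittVector p k) (Set.range e),
      Φ x - x - y ∈ pPow 1 (Submodule.span (WittVector p k) (Set.range e)) := by
  have hA : ∀ j i, ∃ w : WittVector p k,
      e.repr (Φ (e j)) i = algebraMap (WittVector p k) K(p, k) w := fun j =>
    (mem_span_range_basis_iff e _).mp (hΦ _ (Submodule.subset_span (Set.mem_range_self j)))
  choose A hA using hA
  have hY := (mem_span_range_basis_iff e y).mp hy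
  choose Y hY using hY
  have hq : ((p ^ B : ℕ) : k) = 0 := by
    rw [Nat.cast_pow, CharP.cast_eq_zero k p, zero_pow hB.ne']
  let G : (ι → k) →ₛₗ[iterateFrobenius k p B] (ι → k) :=
    { toFun := fun x i => ∑ j, (A j i).coeff 0 * iterateFrobenius k p B (x j)
      map_add' := fun x x' => by
        funext i
        simp only [Pi.add_apply, map_add, mul_add, Finset.sum_add_distrib]
      map_smul' := fun c x => by
        funext i
        simp only [Pi.smul_apply, smul_eq_mul, map_mul, Finset.mul_sum]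
        refine Finset.sum_congr rfl fun j _ => ?_
        ring }
  obtain ⟨xb, hxb⟩ := exists_semilinear_sub_id_eq (p ^ B) hq (fun c => rfl) G
    (fun i => (Y i).coeff 0)
  have hxi : ∀ i, ∑ j, (A j i).coeff 0 * (xb j) ^ p ^ B - xb i = (Y i).coeff 0 :=
    fun i => congrFun hxb i
  have hX' : ∀ j, ∃ w' : WittVector p k,
      τ (algebraMap (WittVector p k) K(p, k) (WittVector.teichmuller p (xb j))) =
        algebraMap (WittVector p k) K(p, k) w' ∧ w'.coeff 0 = (xb j) ^ p ^ B := by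
    intro j
    obtain ⟨w', h1, h2⟩ := hτ (WittVector.teichmuller p (xb j))
    exact ⟨w', h1, by rw [h2, WittVector.teichmuller_coeff_zero]⟩
  choose X' hX'τ hX'0 using hX'
  have hxrepr : ∀ j, e.repr (e.equivFun.symm (fun j => algebraMap (WittVector p k) K(p, k)
      (WittVector.teichmuller p (xb j)))) j =
      algebraMap (WittVector p k) K(p, k) (WittVector.teichmuller p (xb j)) := fun j =>
    congrFun (e.equivFun.apply_symm_apply (fun j => algebraMap (WittVector p k) K(p, k)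
      (WittVector.teichmuller p (xb j)))) j
  refine ⟨e.equivFun.symm (fun j => algebraMap (WittVector p k) K(p, k)
      (WittVector.teichmuller p (xb j))),
    (mem_span_range_basis_iff e _).mpr fun j => ⟨_, hxrepr j⟩, ?_⟩
  rw [mem_pPow_span_range_basis_iff]
  intro i
  have hZ0 : WittVector.constantCoeff
      (∑ j, A j i * X' j - WittVector.teichmuller p (xb i) - Y i) = 0 := by
    rw [map_sub, map_sub, map_sum]
    simp only [map_mul, WittVector.constantCoeff_apply]
    rw [WittVector.teichmuller_coeff_zero]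
    simp only [hX'0]
    rw [hxi i, sub_self]
  have hnu : ¬ IsUnit (∑ j, A j i * X' j - WittVector.teichmuller p (xb i) - Y i) := by
    intro hu
    have := hu.map (WittVector.constantCoeff : WittVector p k →+* k)
    rw [hZ0] at this
    exact not_isUnit_zero this
  obtain ⟨Z', hZ'⟩ := exists_eq_p_mul_of_not_isUnit hnu
  refine ⟨Z', ?_⟩
  rw [map_sub, map_sub, Finsupp.sub_apply, Finsupp.sub_apply, repr_semilinear e Φ _ i, hxrepr i,
    hY i]
  have h1 : ∑ l, smat e Φ i l * τ (e.repr (e.equivFun.symm (fun j =>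
      algebraMap (WittVector p k) K(p, k) (WittVector.teichmuller p (xb j)))) l) =
      algebraMap (WittVector p k) K(p, k) (∑ j, A j i * X' j) := by
    rw [map_sum]
    refine Finset.sum_congr rfl fun j _ => ?_
    rw [smat_apply, hA j i, hxrepr j, hX'τ j, map_mul]
  rw [h1, ← map_sub, ← map_sub, hZ', map_mul, map_natCast, zpow_one]

/-- Successive approximation: from solvability modulo `p` to solvability. -/
theorem exists_sub_id_eq_of_approx (hτ : PresW τ) {ι : Type*} [Fintype ι] [DecidableEq ι]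
    (e : Module.Basis ι K(p, k) N) (M : Submodule (WittVector p k) N)
    (hMe : M = Submodule.span (WittVector p k) (Set.range e)) (Φ : N →ₛₗ[τ] N)
    (hΦ : ∀ x ∈ M, Φ x ∈ M)
    (happ : ∀ y ∈ M, ∃ x ∈ M, Φ x - x - y ∈ pPow 1 M)
    (y : N) (hy : y ∈ M) : ∃ x ∈ M, Φ x - x = y := by
  have hMfg : M.FG := by rw [hMe]; exact Submodule.fg_span (Set.finite_range e)
  have step : ∀ y : M, ∃ x y' : M,
      Φ (x : N) - (x : N) = (y : N) - ((p : K(p, k)) ^ (1 : ℤ)) • (y' : N) := by
    rintro ⟨y, hy⟩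
    obtain ⟨x, hx, hz⟩ := happ y hy
    obtain ⟨w, hw, hwz⟩ := (mem_pPow_iff_exists _ _ _).mp hz
    refine ⟨⟨x, hx⟩, ⟨-w, M.neg_mem hw⟩, ?_⟩
    show Φ x - x = y - ((p : K(p, k)) ^ (1 : ℤ)) • (-w)
    rw [smul_neg, sub_neg_eq_add, hwz]
    abel
  choose fx fy hstep using step
  obtain ⟨Yn, hY0, hYs⟩ : ∃ Yn : ℕ → M, Yn 0 = ⟨y, hy⟩ ∧ ∀ n, Yn (n + 1) = fy (Yn n) :=
    ⟨fun n => fy^[n] ⟨y, hy⟩, rfl, fun n => Function.iterate_succ_apply' fy n _⟩
  obtain ⟨S, hS0, hSs⟩ : ∃ S : ℕ → N, S 0 = 0 ∧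
      ∀ n : ℕ, S (n + 1) = S n + ((p : K(p, k)) ^ (n : ℤ)) • (fx (Yn n) : N) :=
    ⟨fun n => ∑ j ∈ Finset.range n, ((p : K(p, k)) ^ (j : ℤ)) • (fx (Yn j) : N),
      Finset.sum_range_zero _, fun n => Finset.sum_range_succ _ n⟩
  have hSmem : ∀ n, S n ∈ M := by
    intro n
    induction n with
    | zero => rw [hS0]; exact M.zero_mem
    | succ n ih =>
      rw [hSs]
      refine M.add_mem ih ?_
      rw [zpow_natCast]
      exact natpow_smul_mem n M (fx (Yn n)).2
  have hSdiff : ∀ n : ℕ, S (n + 1) - S n ∈ pPow (n : ℤ) M := by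
    intro n
    rw [hSs, add_sub_cancel_left]
    exact smul_mem_pPow _ M (fx (Yn n)).2
  have htel : ∀ n : ℕ, Φ (S n) - S n = y - ((p : K(p, k)) ^ (n : ℤ)) • (Yn n : N) := by
    intro n
    induction n with
    | zero =>
      rw [hS0, hY0, map_zero, sub_zero, Nat.cast_zero, zpow_zero, one_smul, sub_self]
    | succ n ih =>
      have h1 := hstep (Yn n)
      have e3 : ((n + 1 : ℕ) : ℤ) = (n : ℤ) + 1 := by omega
      have e2 : ((p : K(p, k)) ^ ((n + 1 : ℕ) : ℤ)) • ((Yn (n + 1) : M) : N) =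
          ((p : K(p, k)) ^ (n : ℤ)) • (((p : K(p, k)) ^ (1 : ℤ)) • ((fy (Yn n) : M) : N)) := by
        rw [hYs, smul_smul, ← zpow_add₀ pL_ne_zero, e3]
      have h3 : ((p : K(p, k)) ^ (n : ℤ)) • Φ (fx (Yn n) : N) -
          ((p : K(p, k)) ^ (n : ℤ)) • (fx (Yn n) : N) =
          ((p : K(p, k)) ^ (n : ℤ)) •
            ((Yn n : N) - ((p : K(p, k)) ^ (1 : ℤ)) • (fy (Yn n) : N)) := by
        rw [← smul_sub, h1]
      have h4 : Φ (S n) + ((p : K(p, k)) ^ (n : ℤ)) • Φ (fx (Yn n) : N) -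
          (S n + ((p : K(p, k)) ^ (n : ℤ)) • (fx (Yn n) : N)) =
          (Φ (S n) - S n) + (((p : K(p, k)) ^ (n : ℤ)) • Φ (fx (Yn n) : N) -
            ((p : K(p, k)) ^ (n : ℤ)) • (fx (Yn n) : N)) := by abel
      rw [hSs, map_add, map_smulₛₗ, map_p_zpow, e2, h4, ih, h3, smul_sub]
      abel
  subst hMe
  obtain ⟨L, hL, hLn⟩ := lattice_exists_limit e S hSmem hSdiff
  refine ⟨L, hL, ?_⟩
  by_contra hne
  have hz : Φ L - L - y ≠ 0 := fun h => hne (sub_eq_zero.mp h)
  obtain ⟨n, hn⟩ := exists_not_mem_pPow _ hMfg hz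
  apply hn
  have hΦp : ∀ x ∈ pPow (n : ℤ) (Submodule.span (WittVector p k) (Set.range e)),
      Φ x ∈ pPow (n : ℤ) (Submodule.span (WittVector p k) (Set.range e)) := by
    intro x hx
    obtain ⟨m, hm, rfl⟩ := (mem_pPow_iff_exists _ _ _).mp hx
    rw [map_smulₛₗ, map_p_zpow]
    exact smul_mem_pPow _ _ (hΦ m hm)
  have hdecomp : Φ L - L - y =
      Φ (L - S n) - (L - S n) - ((p : K(p, k)) ^ (n : ℤ)) • (Yn n : N) := by
    have h2 : Φ L - Φ (S n) - (L - S n) = Φ L - L - (Φ (S n) - S n) := by abel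
    rw [map_sub, h2, htel n]
    abel
  rw [hdecomp]
  exact Submodule.sub_mem _ (Submodule.sub_mem _ (hΦp _ (hLn n)) (hLn n))
    (smul_mem_pPow _ _ (Yn n).2)

/-- If `F₁^s - 1` is solvable modulo `p` on an `F₁^s`-stable lattice, then `F₁ - 1` is
surjective. -/
theorem sub_id_surjective_of_iter (hτ : PresW τ) [Module.Finite K(p, k) N] (F₁ : N →ₛₗ[τ] N)
    (s : ℕ) (M : Submodule (WittVector p k) N) (hM : M.IsLattice K(p, k))
    (hst : ∀ x ∈ M, (⇑F₁)^[s] x ∈ M)
    (happ : ∀ y ∈ M, ∃ x ∈ M, (⇑F₁)^[s] x - x - y ∈ pPow 1 M) (y : N) :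
    ∃ x, F₁ x - x = y := by
  obtain ⟨e, hMe⟩ := exists_lattice_basis (Module.finBasis K(p, k) N) M hM
  obtain ⟨c, hc⟩ := exists_natpow_smul_mem M hM.span_eq_top y
  obtain ⟨x', -, hx'y⟩ := exists_sub_id_eq_of_approx (presW_pow hτ s) e M hMe (iter F₁ s) hst happ
    _ hc
  have h1 : (⇑F₁)^[s] (((p : K(p, k)) ^ (-(c : ℤ))) • x') - ((p : K(p, k)) ^ (-(c : ℤ))) • x' =
      y := by
    have h2 : (⇑F₁)^[s] x' - x' = ((p : K(p, k)) ^ c) • y := hx'y
    rw [iterate_zpow_smul, ← smul_sub, h2, ← zpow_natCast, smul_smul, ← zpow_add₀ pL_ne_zero,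
      neg_add_cancel, zpow_zero, one_smul]
  refine ⟨∑ i ∈ Finset.range s, (⇑F₁)^[i] (((p : K(p, k)) ^ (-(c : ℤ))) • x'), ?_⟩
  rw [map_sum, ← Finset.sum_sub_distrib]
  have h3 : ∀ i, F₁ ((⇑F₁)^[i] (((p : K(p, k)) ^ (-(c : ℤ))) • x')) =
      (⇑F₁)^[i + 1] (((p : K(p, k)) ^ (-(c : ℤ))) • x') :=
    fun i => (Function.iterate_succ_apply' (⇑F₁) i _).symm
  simp only [h3]
  rw [Finset.sum_range_sub (fun i => (⇑F₁)^[i] (((p : K(p, k)) ^ (-(c : ℤ))) • x')) s]
  exact h1

end Lift

end Groth.Agent.H85
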