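import Groth.Agent.H85.IsocIndep
import Mathlib.LinearAlgebra.Matrix.Block
import Mathlib.Algebra.DirectSum.LinearMap

set_option autoImplicit false
set_option linter.unusedSectionVars false

open scoped Pointwise Isocrystal
open Isoc

universe u v

namespace Groth.Agent.H85

section BlockDet

theorem det_blockDiagonal'' {ι : Type*} [Fintype ι] [DecidableEq ι] [LinearOrder ι]
    {R : Type*} [CommRing R] {κ : ι → Type*} [∀ i, Fintype (κ i)] [∀ i, DecidableEq (κ i)]
    (d : ∀ i, Matrix (κ i) (κ i) R) :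
    (Matrix.blockDiagonal' d).det = ∏ i, (d i).det := by
  rw [(Matrix.blockTriangular_blockDiagonal' d).det_fintype]
  refine Finset.prod_congr rfl fun i _ => ?_
  have h1 : d i = ((Matrix.blockDiagonal' d).toSquareBlock Sigma.fst i).submatrix
      (Equiv.sigmaSubtype i).symm (Equiv.sigmaSubtype i).symm := by
    refine Matrix.ext fun x y => ?_
    rw [Matrix.submatrix_apply, Matrix.toSquareBlock_def]
    exact (Matrix.blockDiagonal'_apply_eq d i x y).symm
  conv_rhs => rw [h1]
  rw [Matrix.det_submatrix_equiv_self]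

end BlockDet

section Newton

variable {p : ℕ} [Fact p.Prime] {k : Type u} [Field k] [CharP k p] [PerfectRing k p]
variable {N : Type v} [AddCommGroup N] [Module (WittVector p k) N] [Module K(p, k) N]
  [IsScalarTower (WittVector p k) K(p, k) N]
variable {τ : K(p, k) →+* K(p, k)}

theorem smat_collectedBasis {ι : Type*} [Fintype ι] [DecidableEq ι]
    {A : ι → Submodule K(p, k) N}
    (hA : DirectSum.IsInternal A) {κ : ι → Type*} [∀ i, Fintype (κ i)] [∀ i, DecidableEq (κ i)]
    (bb : ∀ i, Module.Basis (κ i) K(p, k) (A i)) (F : N →ₛₗ[τ] N)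
    (hst : ∀ i, ∀ x ∈ A i, F x ∈ A i) :
    smat (hA.collectedBasis bb) F =
      Matrix.blockDiagonal' (fun i => smat (bb i) (F.restrict (hst i))) := by
  refine Matrix.ext fun x y => ?_
  obtain ⟨i, a⟩ := x
  obtain ⟨j, c⟩ := y
  have hcoe : (hA.collectedBasis bb ⟨j, c⟩ : N) = ((bb j c : A j) : N) :=
    congrFun (hA.collectedBasis_coe bb) ⟨j, c⟩
  have hmem : F (hA.collectedBasis bb ⟨j, c⟩) ∈ A j := by
    rw [hcoe]
    exact hst j _ (bb j c).2
  rw [smat_apply]
  rcases eq_or_ne i j with rfl | hij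
  · rw [Matrix.blockDiagonal'_apply_eq, smat_apply, hA.collectedBasis_repr_of_mem bb hmem]
    have e : (⟨F (hA.collectedBasis bb ⟨i, c⟩), hmem⟩ : A i) = F.restrict (hst i) (bb i c) := by
      apply Subtype.ext
      exact congrArg F hcoe
    rw [e]
  · rw [Matrix.blockDiagonal'_apply_ne _ _ _ hij,
      hA.collectedBasis_repr_of_mem_ne bb hij.symm hmem]

theorem smat_reindex {ι ι' : Type*} [Fintype ι] [DecidableEq ι] [Fintype ι'] [DecidableEq ι']
    (e : Module.Basis ι K(p, k) N) (σ : ι ≃ ι')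
    (F : N →ₛₗ[τ] N) : smat (e.reindex σ) F = (smat e F).submatrix σ.symm σ.symm := by
  refine Matrix.ext fun i j => ?_
  rw [smat_apply, Matrix.submatrix_apply, smat_apply, Module.Basis.repr_reindex_apply,
    Module.Basis.reindex_apply]

theorem isOrdP_prod {ι : Type*} (s : Finset ι) (c : ι → K(p, k)) (dd : ι → ℤ)
    (h : ∀ i ∈ s, IsOrdP (c i) (dd i)) : IsOrdP (∏ i ∈ s, c i) (∑ i ∈ s, dd i) := by
  classical
  induction s using Finset.induction_on with
  | empty => rw [Finset.prod_empty, Finset.sum_empty]; exact isOrdP_one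
  | insert i s hi ih =>
    rw [Finset.prod_insert hi, Finset.sum_insert hi]
    exact isOrdP_mul (h i (Finset.mem_insert_self i s))
      (ih fun j hj => h j (Finset.mem_insert_of_mem hj))

/-- The end point of the Newton polygon: `∑ μ · m_μ = orddet(F)`. -/
theorem finsum_slope_mul_newtonMult (hτ : PresW τ) (hτ' : SurjW τ) (hτb : Function.Bijective τ)
    (F : N →ₛₗ[τ] N) (hF : IsIsoc F) (h : ℕ) (b : Module.Basis (Fin h) K(p, k) N) (d : ℤ)
    (hd : IsOrdP (detCoeff b F) d) : ∑ᶠ μ : ℚ, μ * (newtonMult F μ : ℚ) = d := by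
  have hfin := hF.finite
  have hint := isInternal_slopePart hτ hτ' hτb F hF
  have hfinite : {μ : ℚ | slopePart F μ ≠ ⊥}.Finite :=
    WellFoundedGT.finite_ne_bot_of_iSupIndep hint.submodule_iSupIndep
  haveI : Fintype {μ : ℚ // slopePart F μ ≠ ⊥} := hfinite.fintype
  have hT : DirectSum.IsInternal (fun i : {μ : ℚ // slopePart F μ ≠ ⊥} => slopePart F i) :=
    DirectSum.isInternal_ne_bot_iff.mpr hint
  let bb : ∀ i : {μ : ℚ // slopePart F μ ≠ ⊥},
      Module.Basis (Fin (Module.finrank K(p, k) (slopePart F i))) K(p, k) (slopePart F i) :=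
    fun i => Module.finBasis K(p, k) (slopePart F i)
  have hst : ∀ i : {μ : ℚ // slopePart F μ ≠ ⊥}, ∀ x ∈ slopePart F i, F x ∈ slopePart F i :=
    fun i => slopePart_stable F i
  have hblock := smat_collectedBasis hT bb F hst
  have hdet : (smat (hT.collectedBasis bb) F).det =
      ∏ i, (smat (bb i) (F.restrict (hst i))).det := by
    rw [hblock]
    exact det_blockDiagonal'' _
  have hcard : Fintype.card (Σ i : {μ : ℚ // slopePart F μ ≠ ⊥},
      Fin (Module.finrank K(p, k) (slopePart F i))) = h := by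
    rw [← Module.finrank_eq_card_basis (hT.collectedBasis bb), Module.finrank_eq_card_basis b,
      Fintype.card_fin]
  have hd2 : IsOrdP (smat (hT.collectedBasis bb) F).det d := by
    have h1 := isOrdP_det_smat_basis hτ b
      ((hT.collectedBasis bb).reindex (Fintype.equivFinOfCardEq hcard)) F d hd
    rwa [smat_reindex, Matrix.det_submatrix_equiv_self] at h1
  rw [hdet] at hd2
  have hne : ∀ i, (smat (bb i) (F.restrict (hst i))).det ≠ 0 := by
    intro i h0
    exact isOrdP_ne_zero hd2 (Finset.prod_eq_zero (Finset.mem_univ i) h0)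
  choose dd hdd using fun i => exists_isOrdP (hne i)
  have hsum : d = ∑ i, dd i :=
    isOrdP_unique hd2 (isOrdP_prod Finset.univ _ dd fun i _ => hdd i)
  have hblockeq : ∀ i : {μ : ℚ // slopePart F μ ≠ ⊥},
      (dd i : ℚ) = (i : ℚ) * (newtonMult F i : ℚ) := by
    intro i
    obtain ⟨M', hM', r, s, hs, hrs, hFM'⟩ :=
      isIsoclinic_restrict_of_isoOn hτ' F _ (hst i) i (isoOn_slopePart hτ hτ' F i)
    have key := mul_height_eq_of_latImg_eq hτ hτ' (bb i) (F.restrict (hst i)) (dd i) (hdd i)
      M' hM' s r hFM'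
    have hsQ : (s : ℚ) ≠ 0 := by exact_mod_cast hs.ne'
    have keyQ : (r : ℚ) * (Module.finrank K(p, k) (slopePart F i) : ℚ) =
        (s : ℚ) * (dd i : ℚ) := by exact_mod_cast key
    have hr : (r : ℚ) = (i : ℚ) * s := by rw [← hrs, div_mul_cancel₀ _ hsQ]
    unfold newtonMult
    rw [hr] at keyQ
    have h3 : (s : ℚ) * ((i : ℚ) * (Module.finrank K(p, k) (slopePart F i) : ℚ)) =
        (s : ℚ) * (dd i : ℚ) := by rw [← keyQ]; ring
    exact (mul_left_cancel₀ hsQ h3).symm
  rw [finsum_eq_sum_of_support_subset (s := hfinite.toFinset)]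
  · rw [Finset.sum_subtype hfinite.toFinset (p := fun μ => slopePart F μ ≠ ⊥)
      (fun μ => hfinite.mem_toFinset) (fun μ => μ * (newtonMult F μ : ℚ)), hsum]
    push_cast
    exact Finset.sum_congr rfl fun i _ => (hblockeq i).symm
  · intro μ hμ
    rw [Function.mem_support] at hμ
    rw [Set.Finite.coe_toFinset]
    show slopePart F μ ≠ ⊥
    intro hbot
    apply hμ
    unfold newtonMult
    rw [hbot, finrank_bot, Nat.cast_zero, mul_zero]

end Newton

end Groth.Agent.H85
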