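import Groth.Agent.H85.IsocSlope
import Mathlib.RingTheory.Filtration

set_option autoImplicit false
set_option linter.unusedSectionVars false

open scoped Pointwise Isocrystal
open Isoc

universe u v

namespace Groth.Agent.H85

section Ord

variable {p : ℕ} [Fact p.Prime] {k : Type u} [Field k] [CharP k p] [PerfectRing k p]
variable {N : Type v} [AddCommGroup N] [Module (WittVector p k) N] [Module K(p, k) N]
  [IsScalarTower (WittVector p k) K(p, k) N]
variable {τ : K(p, k) →+* K(p, k)}

/-- The twist maps Witt vectors to Witt vectors. -/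
def PresW (τ : K(p, k) →+* K(p, k)) : Prop :=
  ∀ w : WittVector p k, ∃ w' : WittVector p k,
    τ (algebraMap (WittVector p k) K(p, k) w) = algebraMap (WittVector p k) K(p, k) w'

theorem presW_frob (a : ℤ) : PresW (Isoc.frob p k a) :=
  fun w => ⟨_, Isoc.frob_algebraMap p k a w⟩

theorem iterate_smul_W (hτ : PresW τ) (F : N →ₛₗ[τ] N) (s : ℕ) (w : WittVector p k) (x : N) :
    ∃ w' : WittVector p k, (⇑F)^[s] (w • x) = w' • (⇑F)^[s] x := by
  induction s with
  | zero => exact ⟨w, rfl⟩
  | succ s ih =>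
    obtain ⟨w', hw'⟩ := ih
    obtain ⟨w'', hw''⟩ := hτ w'
    refine ⟨w'', ?_⟩
    rw [Function.iterate_succ', Function.comp_apply, Function.comp_apply, hw',
      ← algebraMap_smul K(p, k) w', map_smulₛₗ, hw'', algebraMap_smul]

theorem iterate_zero' (F : N →ₛₗ[τ] N) (s : ℕ) : (⇑F)^[s] 0 = 0 := by
  induction s with
  | zero => rfl
  | succ s ih => rw [Function.iterate_succ', Function.comp_apply, ih, map_zero]

theorem iterate_add' (F : N →ₛₗ[τ] N) (s : ℕ) (x y : N) :
    (⇑F)^[s] (x + y) = (⇑F)^[s] x + (⇑F)^[s] y := by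
  induction s with
  | zero => rfl
  | succ s ih => rw [Function.iterate_succ', Function.comp_apply, Function.comp_apply,
      Function.comp_apply, ih, map_add]

theorem iterate_mem_of_mem_span (hτ : PresW τ) (F : N →ₛₗ[τ] N) (s : ℕ) (S : Set N)
    (T : Submodule (WittVector p k) N) (hT : ∀ x ∈ S, (⇑F)^[s] x ∈ T) {y : N}
    (hy : y ∈ Submodule.span (WittVector p k) S) : (⇑F)^[s] y ∈ T := by
  induction hy using Submodule.span_induction with
  | mem x hx => exact hT x hx
  | zero => rw [iterate_zero']; exact T.zero_mem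
  | add x y _ _ ihx ihy => rw [iterate_add']; exact T.add_mem ihx ihy
  | smul w x _ ih =>
    obtain ⟨w', hw'⟩ := iterate_smul_W hτ F s w x
    rw [hw']; exact T.smul_mem _ ih

theorem latImg_span (hτ : PresW τ) (F : N →ₛₗ[τ] N) (s : ℕ) (S : Set N) :
    latImg F s (Submodule.span (WittVector p k) S) = Submodule.span (WittVector p k) ((⇑F)^[s] '' S) := by
  apply le_antisymm
  · rw [latImg_le_iff]
    intro y hy
    exact iterate_mem_of_mem_span hτ F s S _
      (fun x hx => Submodule.subset_span (Set.mem_image_of_mem _ hx)) hy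
  · exact Submodule.span_mono (Set.image_mono Submodule.subset_span)

theorem latImg_fg (hτ : PresW τ) (F : N →ₛₗ[τ] N) (s : ℕ) (M : Submodule (WittVector p k) N)
    (h : M.FG) : (latImg F s M).FG := by
  obtain ⟨S, rfl⟩ := h
  rw [latImg_span hτ]
  exact Submodule.fg_span (S.finite_toSet.image _)

theorem latImg_latImg_le (hτ : PresW τ) (F : N →ₛₗ[τ] N) (s t : ℕ) (M : Submodule (WittVector p k) N) :
    latImg F s (latImg F t M) ≤ latImg F (s + t) M := by
  rw [latImg_le_iff]
  intro y hy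
  refine iterate_mem_of_mem_span hτ F s _ _ ?_ hy
  rintro _ ⟨x, hx, rfl⟩
  rw [← Function.iterate_add_apply]
  exact iterate_mem_latImg F (s + t) M hx

theorem le_latImg_latImg (F : N →ₛₗ[τ] N) (s t : ℕ) (M : Submodule (WittVector p k) N) :
    latImg F (s + t) M ≤ latImg F s (latImg F t M) := by
  rw [latImg_le_iff]
  intro x hx
  rw [Function.iterate_add_apply]
  exact iterate_mem_latImg F s _ (iterate_mem_latImg F t M hx)

theorem latImg_add (hτ : PresW τ) (F : N →ₛₗ[τ] N) (s t : ℕ) (M : Submodule (WittVector p k) N) :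
    latImg F (s + t) M = latImg F s (latImg F t M) :=
  le_antisymm (le_latImg_latImg F s t M) (latImg_latImg_le hτ F s t M)

theorem exists_not_mem_pPow (M : Submodule (WittVector p k) N) (hfg : M.FG) {y : N} (hy : y ≠ 0) :
    ∃ r : ℕ, y ∉ pPow (r : ℤ) M := by
  by_contra hcon
  push Not at hcon
  apply hy
  have hyM : y ∈ M := by simpa using hcon 0
  have : Module.Finite (WittVector p k) M := Module.Finite.iff_fg.mpr hfg
  have hI : Ideal.span {(p : WittVector p k)} ≠ ⊤ := by
    rw [Ne, Ideal.span_singleton_eq_top]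
    exact (WittVector.irreducible p).not_isUnit
  have hbot := Ideal.iInf_pow_smul_eq_bot_of_isLocalRing (M := M) _ hI
  have hmem : (⟨y, hyM⟩ : M) ∈ (⨅ i : ℕ, Ideal.span {(p : WittVector p k)} ^ i • ⊤ :
      Submodule (WittVector p k) M) := by
    rw [Submodule.mem_iInf]
    intro i
    obtain ⟨z, hz, hzy⟩ := (mem_pPow_iff_exists _ _ _).mp (hcon i)
    have : (⟨y, hyM⟩ : M) = ((p : WittVector p k) ^ i) • (⟨z, hz⟩ : M) := by
      apply Subtype.ext
      change y = ((p : WittVector p k) ^ i) • z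
      rw [← hzy, zpow_natCast, ← algebraMap_smul K(p, k) ((p : WittVector p k) ^ i) z,
        map_pow, map_natCast]
    rw [this]
    exact Submodule.smul_mem_smul (Ideal.pow_mem_pow (Ideal.mem_span_singleton_self _) i)
      Submodule.mem_top
  rw [hbot, Submodule.mem_bot] at hmem
  exact congrArg Subtype.val hmem

theorem exists_isOrd (hτ : PresW τ) (F : N →ₛₗ[τ] N) (hinj : Function.Injective F)
    (M : Submodule (WittVector p k) N) (hM : M.IsLattice K(p, k)) (hne : M ≠ ⊥) (n : ℕ) :
    ∃ r : ℤ, IsOrd M F n r := by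
  have hinh : ∃ z : ℤ, latImg F n M ≤ pPow z M := by
    obtain ⟨c, hc⟩ := exists_pPow_le (latImg F n M) M (latImg_fg hτ F n M hM.fg) hM.span_eq_top
    exact ⟨-(c : ℤ), (pPow_le_iff _).mp hc⟩
  have hbdd : ∃ b : ℤ, ∀ z : ℤ, latImg F n M ≤ pPow z M → z ≤ b := by
    obtain ⟨x, hx, hx0⟩ := Submodule.exists_mem_ne_zero_of_ne_bot hne
    have hy0 : (⇑F)^[n] x ≠ 0 := by
      intro h
      apply hx0
      apply hinj.iterate n
      rw [h, iterate_zero']
    obtain ⟨r₀, hr₀⟩ := exists_not_mem_pPow M hM.fg hy0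
    refine ⟨r₀, fun z hz => ?_⟩
    by_contra hlt
    push Not at hlt
    exact hr₀ (pPow_anti hlt.le M (hz (iterate_mem_latImg F n M hx)))
  obtain ⟨ub, hub, hmax⟩ := Int.exists_greatest_of_bdd hbdd hinh
  refine ⟨ub, hub, fun h => ?_⟩
  have := hmax _ h
  omega

theorem exists_pPow_le_latImg_one (hτ : PresW τ) (F : N →ₛₗ[τ] N) (hsurj : Function.Surjective F)
    (M : Submodule (WittVector p k) N) (hM : M.IsLattice K(p, k)) :
    ∃ c : ℕ, pPow (c : ℤ) M ≤ latImg F 1 M := by
  classical
  obtain ⟨S, hS⟩ := hM.fg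
  choose g hg using hsurj
  set M' : Submodule (WittVector p k) N := Submodule.span (WittVector p k) (g '' (S : Set N)) with hM'
  have hM'fg : M'.FG := Submodule.fg_span (S.finite_toSet.image _)
  obtain ⟨c, hc⟩ := exists_pPow_le M' M hM'fg hM.span_eq_top
  refine ⟨c, ?_⟩
  have h1 : M = latImg F 1 M' := by
    rw [hM', latImg_span hτ, ← hS, Set.image_image]
    congr 1
    ext x
    simp [hg]
  have h2 : latImg F 1 M' ≤ pPow (-(c : ℤ)) (latImg F 1 M) := by
    have e : M' = pPow (-(c : ℤ)) (pPow (c : ℤ) M') := by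
      rw [pPow_pPow, neg_add_cancel, pPow_zero]
    conv_lhs => rw [e]
    rw [latImg_pPow]
    exact pPow_mono _ (latImg_mono F 1 hc)
  rw [pPow_le_iff]
  exact h1.le.trans h2

theorem pPow_mul_le_latImg (hτ : PresW τ) (F : N →ₛₗ[τ] N) (M : Submodule (WittVector p k) N)
    (c : ℕ) (h : pPow (c : ℤ) M ≤ latImg F 1 M) (n : ℕ) :
    pPow ((c : ℤ) * n) M ≤ latImg F n M := by
  induction n with
  | zero => simp [latImg_zero]
  | succ n ih =>
    have e : (c : ℤ) * ((n + 1 : ℕ) : ℤ) = (c : ℤ) * n + c := by push_cast; ring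
    rw [e, ← pPow_pPow]
    calc pPow ((c : ℤ) * n) (pPow (c : ℤ) M) ≤ pPow ((c : ℤ) * n) (latImg F 1 M) := pPow_mono _ h
      _ = latImg F 1 (pPow ((c : ℤ) * n) M) := (latImg_pPow F 1 _ M).symm
      _ ≤ latImg F 1 (latImg F n M) := latImg_mono F 1 ih
      _ ≤ latImg F (1 + n) M := latImg_latImg_le hτ F 1 n M
      _ = latImg F (n + 1) M := by rw [add_comm]

end Ord

end Groth.Agent.H85
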