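import Groth.Agent.H85.IsocSub

set_option autoImplicit false
set_option linter.unusedSectionVars false

open scoped Pointwise Isocrystal
open Isoc

universe u v

namespace Groth.Agent.H85

section Quot

variable {p : ℕ} [Fact p.Prime] {k : Type u} [Field k] [CharP k p] [PerfectRing k p]
variable {N : Type v} [AddCommGroup N] [Module (WittVector p k) N] [Module K(p, k) N]
  [IsScalarTower (WittVector p k) K(p, k) N]
variable {τ : K(p, k) →+* K(p, k)}

/-- The image of a `W`-lattice in a quotient by an `L`-subspace. -/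
def quotLattice (M : Submodule (WittVector p k) N) (P : Submodule K(p, k) N) :
    Submodule (WittVector p k) (N ⧸ P) where
  carrier := {y | ∃ x ∈ M, P.mkQ x = y}
  add_mem' := by
    rintro _ _ ⟨x, hx, rfl⟩ ⟨y, hy, rfl⟩
    exact ⟨x + y, M.add_mem hx hy, map_add _ _ _⟩
  zero_mem' := ⟨0, M.zero_mem, map_zero _⟩
  smul_mem' := by
    rintro w _ ⟨x, hx, rfl⟩
    exact ⟨w • x, M.smul_mem w hx, Submodule.Quotient.mk_smul P w x⟩

theorem mem_quotLattice (M : Submodule (WittVector p k) N) (P : Submodule K(p, k) N) (y : N ⧸ P) :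
    y ∈ quotLattice M P ↔ ∃ x ∈ M, P.mkQ x = y := Iff.rfl

theorem quotLattice_isLattice (M : Submodule (WittVector p k) N) (hM : M.IsLattice K(p, k))
    (P : Submodule K(p, k) N) : (quotLattice M P).IsLattice K(p, k) := by
  classical
  refine ⟨?_, ?_⟩
  · obtain ⟨S, hS⟩ := hM.fg
    refine ⟨S.image P.mkQ, ?_⟩
    apply le_antisymm
    · rw [Submodule.span_le]
      intro y hy
      rw [Finset.coe_image] at hy
      obtain ⟨x, hx, rfl⟩ := hy
      exact ⟨x, hS ▸ Submodule.subset_span hx, rfl⟩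
    · rintro _ ⟨x, hx, rfl⟩
      rw [← hS] at hx
      induction hx using Submodule.span_induction with
      | mem x hx =>
        exact Submodule.subset_span (by rw [Finset.coe_image]; exact Set.mem_image_of_mem _ hx)
      | zero => rw [map_zero]; exact Submodule.zero_mem _
      | add x y _ _ ihx ihy => rw [map_add]; exact Submodule.add_mem _ ihx ihy
      | smul w x _ ih =>
        have : P.mkQ (w • x) = w • P.mkQ x := Submodule.Quotient.mk_smul P w x
        rw [this]; exact Submodule.smul_mem _ w ih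
  · rw [eq_top_iff]
    rintro y -
    obtain ⟨x, rfl⟩ := P.mkQ_surjective y
    have hx : x ∈ Submodule.span K(p, k) (M : Set N) := by rw [hM.span_eq_top]; trivial
    induction hx using Submodule.span_induction with
    | mem x hx => exact Submodule.subset_span ⟨x, hx, rfl⟩
    | zero => rw [map_zero]; exact Submodule.zero_mem _
    | add x y _ _ ihx ihy => rw [map_add]; exact Submodule.add_mem _ ihx ihy
    | smul l x _ ih => rw [map_smul]; exact Submodule.smul_mem _ l ih

theorem iterate_mapQ (F : N →ₛₗ[τ] N) (P : Submodule K(p, k) N) (hP : P ≤ P.comap F)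
    (s : ℕ) (x : N) : (⇑(P.mapQ P F hP))^[s] (P.mkQ x) = P.mkQ ((⇑F)^[s] x) := by
  induction s with
  | zero => rfl
  | succ s ih =>
    rw [Function.iterate_succ', Function.comp_apply, Function.iterate_succ', Function.comp_apply, ih]
    rfl

theorem isIsoclinic_mapQ (hτ' : SurjW τ)
    (F : N →ₛₗ[τ] N) (μ : ℚ) (hμ : IsIsoclinic F μ)
    (P : Submodule K(p, k) N) (hP : P ≤ P.comap F) :
    IsIsoclinic (P.mapQ P F hP) μ := by
  obtain ⟨M, hM, r, s, hs, hrs, hFM⟩ := hμ
  refine ⟨quotLattice M P, quotLattice_isLattice M hM P, r, s, hs, hrs, ?_⟩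
  apply le_antisymm
  · rw [latImg_le_iff]
    rintro _ ⟨x, hx, rfl⟩
    rw [iterate_mapQ]
    have h1 : (⇑F)^[s] x ∈ pPow r M := by rw [← hFM]; exact iterate_mem_latImg F s M hx
    obtain ⟨z, hz, hzx⟩ := (mem_pPow_iff_exists _ _ _).mp h1
    rw [← hzx, map_smul]
    exact smul_mem_pPow r _ ⟨z, hz, rfl⟩
  · intro y hy
    obtain ⟨_, ⟨z, hz, rfl⟩, rfl⟩ := (mem_pPow_iff_exists _ _ _).mp hy
    have h1 : ((p : K(p, k)) ^ r) • z ∈ latImg F s M := by
      rw [hFM]; exact smul_mem_pPow r M hz
    obtain ⟨x, hx, hxz⟩ := (mem_latImg_iff hτ' F s M _).mp h1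
    rw [← map_smul, ← hxz, ← iterate_mapQ F P hP]
    exact iterate_mem_latImg _ s _ ⟨x, hx, rfl⟩

end Quot

end Groth.Agent.H85
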