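import Groth.Agent.H85.IsocLang
import Mathlib.LinearAlgebra.Projection

set_option autoImplicit false
set_option linter.unusedSectionVars false

open scoped Pointwise Isocrystal
open Isoc

universe u v

namespace Groth.Agent.H85

section Inv

variable {p : ℕ} [Fact p.Prime] {k : Type u} [Field k] [CharP k p] [PerfectRing k p]
variable {N : Type v} [AddCommGroup N] [Module (WittVector p k) N] [Module K(p, k) N]
  [IsScalarTower (WittVector p k) K(p, k) N]
variable {τ : K(p, k) →+* K(p, k)}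

/-- The inverse of a bijective semilinear map, semilinear for the inverse twist. -/
noncomputable def sinv (τ' : K(p, k) →+* K(p, k)) (F : N →ₛₗ[τ] N) (hF : Function.Bijective F)
    (h1 : ∀ c, τ (τ' c) = c) : N →ₛₗ[τ'] N where
  toFun := Function.surjInv hF.surjective
  map_add' x y := hF.injective (by
    rw [map_add, Function.surjInv_eq hF.surjective (x + y), Function.surjInv_eq hF.surjective x,
      Function.surjInv_eq hF.surjective y])
  map_smul' c x := hF.injective (by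
    rw [map_smulₛₗ, h1, Function.surjInv_eq hF.surjective (c • x),
      Function.surjInv_eq hF.surjective x])

theorem apply_sinv (τ' : K(p, k) →+* K(p, k)) (F : N →ₛₗ[τ] N) (hF : Function.Bijective F)
    (h1 : ∀ c, τ (τ' c) = c) (x : N) : F (sinv τ' F hF h1 x) = x :=
  Function.surjInv_eq hF.surjective x

theorem sinv_apply (τ' : K(p, k) →+* K(p, k)) (F : N →ₛₗ[τ] N) (hF : Function.Bijective F)
    (h1 : ∀ c, τ (τ' c) = c) (x : N) : sinv τ' F hF h1 (F x) = x :=
  hF.injective (apply_sinv τ' F hF h1 (F x))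

theorem sinv_bijective (τ' : K(p, k) →+* K(p, k)) (F : N →ₛₗ[τ] N) (hF : Function.Bijective F)
    (h1 : ∀ c, τ (τ' c) = c) : Function.Bijective (sinv τ' F hF h1) := by
  refine ⟨fun x y h => ?_, fun x => ⟨F x, sinv_apply τ' F hF h1 x⟩⟩
  have := congrArg F h
  rwa [apply_sinv, apply_sinv] at this

theorem latImg_sinv (hτ' : SurjW τ) (τ' : K(p, k) →+* K(p, k)) (F : N →ₛₗ[τ] N)
    (hF : Function.Bijective F) (h1 : ∀ c, τ (τ' c) = c) (M : Submodule (WittVector p k) N)
    (s : ℕ) (r : ℤ) (hFM : latImg F s M = pPow r M) :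
    latImg (sinv τ' F hF h1) s M = pPow (-r) M := by
  have hGF : ∀ x, (⇑(sinv τ' F hF h1))^[s] ((⇑F)^[s] x) = x :=
    Function.LeftInverse.iterate (sinv_apply τ' F hF h1) s
  apply le_antisymm
  · rw [latImg_le_iff]
    intro x hx
    have h2 : ((p : K(p, k)) ^ r) • x ∈ latImg F s M := by
      rw [hFM]; exact smul_mem_pPow r M hx
    obtain ⟨m, hm, hmx⟩ := (mem_latImg_iff hτ' F s M _).mp h2
    have h3 : (⇑(sinv τ' F hF h1))^[s] (((p : K(p, k)) ^ r) • x) = m := by
      rw [← hmx, hGF]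
    rw [iterate_zpow_smul] at h3
    rw [mem_pPow_iff, neg_neg, h3]
    exact hm
  · intro y hy
    obtain ⟨m, hm, rfl⟩ := (mem_pPow_iff_exists _ _ _).mp hy
    have h2 : (⇑F)^[s] m ∈ pPow r M := by
      rw [← hFM]; exact iterate_mem_latImg F s M hm
    obtain ⟨m', hm', hmm'⟩ := (mem_pPow_iff_exists _ _ _).mp h2
    have h3 : m = ((p : K(p, k)) ^ r) • (⇑(sinv τ' F hF h1))^[s] m' := by
      rw [← iterate_zpow_smul, hmm', hGF]
    rw [h3, smul_smul, ← zpow_add₀ pL_ne_zero, neg_add_cancel, zpow_zero, one_smul]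
    exact iterate_mem_latImg _ s M hm'

theorem frob_frob_neg (a : ℤ) (c : K(p, k)) : frob p k a (frob p k (-a) c) = c := by
  have h : (frob p k a).comp (frob p k (-a)) = RingHom.id K(p, k) := by
    apply IsLocalization.ringHom_ext (nonZeroDivisors (WittVector p k))
    refine RingHom.ext fun w => ?_
    show frob p k a (frob p k (-a) (algebraMap (WittVector p k) K(p, k) w)) =
      algebraMap (WittVector p k) K(p, k) w
    rw [frob_algebraMap, frob_algebraMap, ← RingAut.mul_apply, ← zpow_add, add_neg_cancel,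
      zpow_zero, RingAut.one_apply]
  exact RingHom.congr_fun h c

theorem frob_neg_frob (a : ℤ) (c : K(p, k)) : frob p k (-a) (frob p k a c) = c := by
  have := frob_frob_neg (p := p) (k := k) (-a) c
  rwa [neg_neg] at this

end Inv

section Star

variable {p : ℕ} [Fact p.Prime] {k : Type u} [Field k] [CharP k p] [PerfectRing k p]
variable {N : Type v} [AddCommGroup N] [Module (WittVector p k) N] [Module K(p, k) N]
  [IsScalarTower (WittVector p k) K(p, k) N]

/-- Over an algebraically closed field, `F - 1` is surjective on every `σ^n`-isocrystal, `n > 0`. -/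
theorem sub_id_surjective_of_pos [IsAlgClosed k] (n : ℕ) (hn : 0 < n)
    (F : N →ₛₗ[frob p k (n : ℤ)] N) (hF : IsIsoc F) (y : N) : ∃ x, F x - x = y := by
  have hτ := presW_frob (p := p) (k := k) (n : ℤ)
  have hτ' := surjW_frob (p := p) (k := k) (n : ℤ)
  have hτb := frob_bijective (p := p) (k := k) (n : ℤ)
  have hfin := hF.finite
  have htop := iSup_slopePart_eq_top hτ hτ' hτb F hF
  have hy : y ∈ ⨆ μ : ℚ, slopePart F μ := by rw [htop]; trivial
  refine Submodule.iSup_induction (fun μ : ℚ => slopePart F μ)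
    (motive := fun y => ∃ x, F x - x = y) hy ?_ ⟨0, by rw [map_zero, sub_zero]⟩ ?_
  · intro μ y hy
    have hP := slopePart_stable F μ
    have hiso := isIsoclinic_restrict_of_isoOn hτ' F _ hP μ (isoOn_slopePart hτ hτ' F μ)
    have hFP := isIsoc_restrict hτb F hF _ hP
    have hfinP := hFP.finite
    obtain ⟨M', hM', r, s, hs, -, hFM'⟩ := hiso
    suffices h : ∃ x' : slopePart F μ, F.restrict hP x' - x' = ⟨y, hy⟩ by
      obtain ⟨x', hx'⟩ := h
      exact ⟨x', congrArg Subtype.val hx'⟩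
    rcases le_or_gt 0 r with hr | hr
    · have hst : ∀ x ∈ M', (⇑(F.restrict hP))^[s] x ∈ M' := by
        intro x hx
        have h2 : (⇑(F.restrict hP))^[s] x ∈ pPow r M' := by
          rw [← hFM']; exact iterate_mem_latImg _ s M' hx
        have h3 := pPow_anti hr M' h2
        rwa [pPow_zero] at h3
      have hres : ResPow ((frob p k (n : ℤ)) ^ s) (n * s) := resPow_pow (resPow_frob n) s
      refine sub_id_surjective_of_iter hτ (F.restrict hP) s M' hM' hst ?_ ⟨y, hy⟩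
      obtain ⟨e, rfl⟩ := exists_lattice_basis (Module.finBasis K(p, k) (slopePart F μ)) M' hM'
      intro z hz
      exact exists_approx_of_resPow e (n * s) (Nat.mul_pos hn hs) hres
        (iter (F.restrict hP) s) hst z hz
    · obtain ⟨G, hG1, hG2⟩ : ∃ G : slopePart F μ →ₛₗ[frob p k (-(n : ℤ))] slopePart F μ,
          (∀ x, F.restrict hP (G x) = x) ∧ latImg G s M' = pPow (-r) M' :=
        ⟨sinv _ (F.restrict hP) hFP.bijective (frob_frob_neg (n : ℤ)),
          apply_sinv _ _ _ _, latImg_sinv hτ' _ _ _ _ M' s r hFM'⟩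
      have hτG := presW_frob (p := p) (k := k) (-(n : ℤ))
      have hst1 : ∀ x ∈ M', (⇑G)^[s] x ∈ pPow 1 M' := by
        intro x hx
        have h2 : (⇑G)^[s] x ∈ pPow (-r) M' := by
          rw [← hG2]; exact iterate_mem_latImg _ s M' hx
        exact pPow_anti (by omega) M' h2
      have hst : ∀ x ∈ M', (⇑G)^[s] x ∈ M' := by
        intro x hx
        have h3 := pPow_anti (by norm_num : (0 : ℤ) ≤ 1) M' (hst1 x hx)
        rwa [pPow_zero] at h3
      have hsurjG : ∀ z, ∃ x, G x - x = z := by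
        intro z
        refine sub_id_surjective_of_iter hτG G s M' hM' hst ?_ z
        intro w hw
        refine ⟨-w, M'.neg_mem hw, ?_⟩
        have h4 : (⇑G)^[s] (-w) - -w - w = (⇑G)^[s] (-w) := by abel
        rw [h4]
        exact hst1 _ (M'.neg_mem hw)
      obtain ⟨x, hx⟩ := hsurjG (-(G ⟨y, hy⟩))
      refine ⟨x, ?_⟩
      have h5 := congrArg (F.restrict hP) hx
      rw [map_sub, map_neg, hG1, hG1] at h5
      rw [← neg_sub, h5, neg_neg]
  · rintro y₁ y₂ ⟨x₁, h₁⟩ ⟨x₂, h₂⟩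
    exact ⟨x₁ + x₂, by rw [map_add, ← h₁, ← h₂]; abel⟩

/-- Over an algebraically closed field, `F - 1` is surjective on every `σ^a`-isocrystal, `a ≠ 0`. -/
theorem frob_sub_id_surjective [IsAlgClosed k] (a : ℤ) (ha : a ≠ 0)
    (F : N →ₛₗ[frob p k a] N) (hF : IsIsoc F) (y : N) : ∃ x, F x - x = y := by
  rcases lt_or_gt_of_ne ha with hneg | hpos
  · obtain ⟨n, rfl⟩ : ∃ n : ℕ, a = -(n : ℤ) := ⟨(-a).toNat, by omega⟩
    have hnpos : 0 < n := by omega
    obtain ⟨G, hG1, hGb⟩ : ∃ G : N →ₛₗ[frob p k (n : ℤ)] N,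
        (∀ x, F (G x) = x) ∧ Function.Bijective G :=
      ⟨sinv _ F hF.bijective (frob_neg_frob (n : ℤ)), apply_sinv _ _ _ _,
        sinv_bijective _ _ _ _⟩
    obtain ⟨x, hx⟩ := sub_id_surjective_of_pos n hnpos G ⟨hF.finite, hGb⟩ (-(G y))
    refine ⟨x, ?_⟩
    have h5 := congrArg F hx
    rw [map_sub, map_neg, hG1, hG1] at h5
    rw [← neg_sub, h5, neg_neg]
  · obtain ⟨n, rfl⟩ : ∃ n : ℕ, a = (n : ℤ) := ⟨a.toNat, by omega⟩
    exact sub_id_surjective_of_pos n (by omega) F hF y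

end Star

section Semisimple

variable {p : ℕ} [Fact p.Prime] {k : Type u} [Field k] [CharP k p] [PerfectRing k p]
variable {N : Type v} [AddCommGroup N] [Module (WittVector p k) N] [Module K(p, k) N]
  [IsScalarTower (WittVector p k) K(p, k) N]
variable {τ τ' : K(p, k) →+* K(p, k)}

/-- Conjugation `g ↦ F ∘ g ∘ F⁻¹` on `L`-linear endomorphisms, a `τ`-semilinear map. -/
noncomputable def conjEnd (F : N →ₛₗ[τ] N) (Fi : N →ₛₗ[τ'] N) (h1 : ∀ c, τ (τ' c) = c) :
    (N →ₗ[K(p, k)] N) →ₛₗ[τ] (N →ₗ[K(p, k)] N) where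
  toFun g :=
    { toFun := fun x => F (g (Fi x))
      map_add' := fun x y => by rw [map_add, map_add, map_add]
      map_smul' := fun c x => by
        rw [map_smulₛₗ, map_smul, map_smulₛₗ, h1, RingHom.id_apply] }
  map_add' g₁ g₂ := by
    refine LinearMap.ext fun x => ?_
    show F ((g₁ + g₂) (Fi x)) = F (g₁ (Fi x)) + F (g₂ (Fi x))
    rw [LinearMap.add_apply, map_add]
  map_smul' c g := by
    refine LinearMap.ext fun x => ?_
    show F ((c • g) (Fi x)) = τ c • F (g (Fi x))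
    rw [LinearMap.smul_apply, map_smulₛₗ]

/-- Endomorphisms with image in `P` that vanish on `P`. -/
def homSub (P : Submodule K(p, k) N) : Submodule K(p, k) (N →ₗ[K(p, k)] N) where
  carrier := {g | (∀ x, g x ∈ P) ∧ ∀ x ∈ P, g x = 0}
  add_mem' := by
    rintro g₁ g₂ ⟨h₁, h₁'⟩ ⟨h₂, h₂'⟩
    exact ⟨fun x => P.add_mem (h₁ x) (h₂ x), fun x hx => by
      rw [LinearMap.add_apply, h₁' x hx, h₂' x hx, add_zero]⟩
  zero_mem' := ⟨fun x => P.zero_mem, fun x _ => rfl⟩
  smul_mem' := by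
    rintro c g ⟨h, h'⟩
    exact ⟨fun x => P.smul_mem c (h x), fun x hx => by
      rw [LinearMap.smul_apply, h' x hx, smul_zero]⟩

/-- Semisimplicity: over an algebraically closed field and for `a ≠ 0`, every sub-isocrystal has
an `F`-stable complement. -/
theorem exists_stable_compl [IsAlgClosed k] (a : ℤ) (ha : a ≠ 0) (F : N →ₛₗ[frob p k a] N)
    (hF : IsIsoc F) (P : Submodule K(p, k) N) (hP : ∀ x ∈ P, F x ∈ P) :
    ∃ Q : Submodule K(p, k) N, (∀ x ∈ Q, F x ∈ Q) ∧ IsCompl P Q := by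
  have hfin := hF.finite
  have hτb := frob_bijective (p := p) (k := k) a
  have h1 : ∀ c, frob p k a (frob p k (-a) c) = c := frob_frob_neg a
  obtain ⟨Fi, hFFi, hFiF⟩ : ∃ Fi : N →ₛₗ[frob p k (-a)] N,
      (∀ x, F (Fi x) = x) ∧ ∀ x, Fi (F x) = x :=
    ⟨sinv _ F hF.bijective h1, apply_sinv _ _ _ _, sinv_apply _ _ _ _⟩
  have hFP := isIsoc_restrict hτb F hF P hP
  have hFiP : ∀ x ∈ P, Fi x ∈ P := by
    intro x hx
    obtain ⟨x', hx'⟩ := hFP.bijective.surjective ⟨x, hx⟩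
    have h2 : F (x' : N) = x := congrArg Subtype.val hx'
    rw [← h2, hFiF]
    exact x'.2
  obtain ⟨C, hC⟩ : ∃ C : (N →ₗ[K(p, k)] N) →ₛₗ[frob p k a] (N →ₗ[K(p, k)] N),
      ∀ g x, C g x = F (g (Fi x)) := ⟨conjEnd F Fi h1, fun g x => rfl⟩
  have hCinj : Function.Injective C := by
    intro g₁ g₂ h
    refine LinearMap.ext fun x => ?_
    have h2 := LinearMap.congr_fun h (F x)
    rw [hC, hC, hFiF] at h2
    exact hF.bijective.injective h2
  have hCiso : IsIsoc C :=
    ⟨inferInstance, hCinj, semilinear_surjective_of_injective hτb C hCinj⟩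
  have hCst : ∀ g ∈ homSub P, C g ∈ homSub P := by
    rintro g ⟨hg, hg'⟩
    refine ⟨fun x => ?_, fun x hx => ?_⟩
    · rw [hC]; exact hP _ (hg _)
    · rw [hC, hg' _ (hFiP x hx), map_zero]
  have hH := isIsoc_restrict hτb C hCiso (homSub P) hCst
  obtain ⟨Q₀, hQ₀⟩ := Submodule.exists_isCompl P
  obtain ⟨π₀, hπ₀P, hπ₀id⟩ : ∃ π₀ : N →ₗ[K(p, k)] N, (∀ x, π₀ x ∈ P) ∧ ∀ x ∈ P, π₀ x = x := by
    refine ⟨P.subtype ∘ₗ (P.projectionOnto Q₀ hQ₀), fun x => (P.projectionOnto Q₀ hQ₀ x).2,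
      fun x hx => ?_⟩
    exact congrArg Subtype.val (Submodule.projectionOnto_apply_left hQ₀ ⟨x, hx⟩)
  have hc₀ : C π₀ - π₀ ∈ homSub P := by
    refine ⟨fun x => ?_, fun x hx => ?_⟩
    · rw [LinearMap.sub_apply, hC]; exact P.sub_mem (hP _ (hπ₀P _)) (hπ₀P _)
    · rw [LinearMap.sub_apply, hC, hπ₀id _ (hFiP x hx), hFFi, hπ₀id x hx, sub_self]
  obtain ⟨g, hg⟩ := frob_sub_id_surjective a ha (C.restrict hCst) hH (-⟨C π₀ - π₀, hc₀⟩)
  have hg' : C (g : N →ₗ[K(p, k)] N) - (g : N →ₗ[K(p, k)] N) = -(C π₀ - π₀) :=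
    congrArg Subtype.val hg
  have hgm : (∀ x, (g : N →ₗ[K(p, k)] N) x ∈ P) ∧ ∀ x ∈ P, (g : N →ₗ[K(p, k)] N) x = 0 := g.2
  have hπ : C (π₀ + (g : N →ₗ[K(p, k)] N)) = π₀ + (g : N →ₗ[K(p, k)] N) := by
    rw [map_add]
    have h2 : C π₀ + C (g : N →ₗ[K(p, k)] N) =
        (C π₀ - π₀) + (C (g : N →ₗ[K(p, k)] N) - (g : N →ₗ[K(p, k)] N)) +
          (π₀ + (g : N →ₗ[K(p, k)] N)) := by abel
    rw [h2, hg']
    abel
  have hπP : ∀ x, (π₀ + (g : N →ₗ[K(p, k)] N)) x ∈ P := fun x => by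
    rw [LinearMap.add_apply]; exact P.add_mem (hπ₀P x) (hgm.1 x)
  have hπid : ∀ x ∈ P, (π₀ + (g : N →ₗ[K(p, k)] N)) x = x := fun x hx => by
    rw [LinearMap.add_apply, hπ₀id x hx, hgm.2 x hx, add_zero]
  have hcomm : ∀ x, (π₀ + (g : N →ₗ[K(p, k)] N)) (F x) =
      F ((π₀ + (g : N →ₗ[K(p, k)] N)) x) := by
    intro x
    have h2 := LinearMap.congr_fun hπ (F x)
    rw [hC, hFiF] at h2
    exact h2.symm
  refine ⟨LinearMap.ker (π₀ + (g : N →ₗ[K(p, k)] N)), ?_, ?_⟩
  · intro x hx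
    rw [LinearMap.mem_ker] at hx ⊢
    rw [hcomm, hx, map_zero]
  · have h3 := LinearMap.isCompl_of_proj (p := P)
      (f := (π₀ + (g : N →ₗ[K(p, k)] N)).codRestrict P hπP)
      (fun x => Subtype.ext (hπid x x.2))
    rwa [LinearMap.ker_codRestrict] at h3

end Semisimple

end Groth.Agent.H85
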