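import Groth.Agent.H85.IsocBasic
import Mathlib.RingTheory.Nakayama

set_option autoImplicit false
set_option linter.unusedSectionVars false

open scoped Pointwise Isocrystal
open Isoc

universe u v

namespace Groth.Agent.H85

section Slope

variable {p : ℕ} [Fact p.Prime] {k : Type u} [Field k] [CharP k p] [PerfectRing k p]
variable {N : Type v} [AddCommGroup N] [Module (WittVector p k) N] [Module K(p, k) N]
  [IsScalarTower (WittVector p k) K(p, k) N]
variable {τ : K(p, k) →+* K(p, k)}

theorem latImg_bot (F : N →ₛₗ[τ] N) (s : ℕ) : latImg F s (⊥ : Submodule (WittVector p k) N) = ⊥ := by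
  rw [eq_bot_iff, latImg_le_iff]
  intro x hx
  rw [Submodule.mem_bot] at hx ⊢
  subst hx
  induction s with
  | zero => rfl
  | succ s ih => rw [Function.iterate_succ', Function.comp_apply, ih, map_zero]

theorem ne_bot_of_isOrd (F : N →ₛₗ[τ] N) (M : Submodule (WittVector p k) N) (s : ℕ) (r : ℤ)
    (h : IsOrd M F s r) : M ≠ ⊥ := by
  rintro rfl
  apply h.2
  rw [latImg_bot]
  exact bot_le

theorem not_le_pPow_one (M : Submodule (WittVector p k) N) (hfg : M.FG) (hne : M ≠ ⊥) :
    ¬ M ≤ pPow 1 M := by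
  intro hle
  apply hne
  refine Submodule.eq_bot_of_le_smul_of_le_jacobson_bot (Ideal.span {(p : WittVector p k)}) M hfg ?_ ?_
  · intro x hx
    obtain ⟨y, hy, rfl⟩ := (mem_pPow_iff_exists _ _ _).mp (hle hx)
    have : ((p : K(p, k)) ^ (1 : ℤ)) • y = (p : WittVector p k) • y := by
      rw [zpow_one, ← algebraMap_smul K(p, k) (p : WittVector p k) y, map_natCast]
    rw [this]
    exact Submodule.smul_mem_smul (Ideal.mem_span_singleton_self _) hy
  · rw [IsLocalRing.jacobson_eq_maximalIdeal ⊥ bot_ne_top, Ideal.span_le, Set.singleton_subset_iff,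
      SetLike.mem_coe, IsLocalRing.mem_maximalIdeal, mem_nonunits_iff]
    exact (WittVector.irreducible p).not_isUnit

theorem pPow_le_pPow_iff_le (M : Submodule (WittVector p k) N) (hfg : M.FG) (hne : M ≠ ⊥)
    (r s : ℤ) : pPow r M ≤ pPow s M ↔ s ≤ r := by
  refine ⟨fun h => ?_, fun h => pPow_anti h M⟩
  by_contra hlt
  push Not at hlt
  have h1 : pPow r M ≤ pPow (r + 1) M := h.trans (pPow_anti (by omega) M)
  rw [pPow_le_iff, pPow_pPow] at h1
  have e : -r + (r + 1) = 1 := by ring
  rw [e] at h1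
  exact not_le_pPow_one M hfg hne h1

theorem latImg_zero (F : N →ₛₗ[τ] N) (M : Submodule (WittVector p k) N) : latImg F 0 M = M := by
  rw [latImg]
  simp

theorem isOrd_zero (F : N →ₛₗ[τ] N) (M : Submodule (WittVector p k) N) (hfg : M.FG) (hne : M ≠ ⊥) :
    IsOrd M F 0 0 := by
  refine ⟨by rw [latImg_zero, pPow_zero], ?_⟩
  rw [latImg_zero, zero_add]
  exact not_le_pPow_one M hfg hne

theorem iterate_zpow_smul_iter (F : N →ₛₗ[τ] N) (n : ℕ) (m : ℤ) (j : ℕ) (x : N) :
    (⇑((p : K(p, k)) ^ m • iter F n))^[j] x = ((p : K(p, k)) ^ (m * j)) • (⇑F)^[n * j] x := by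
  induction j with
  | zero => simp
  | succ j ih =>
    rw [Function.iterate_succ', Function.comp_apply, ih, LinearMap.smul_apply, iter_apply,
      iterate_zpow_smul, smul_smul, ← zpow_add₀ pL_ne_zero, ← Function.iterate_add_apply]
    congr 2
    · push_cast; ring
    · ring

theorem latImg_zpow_smul_iter (F : N →ₛₗ[τ] N) (n : ℕ) (m : ℤ) (j : ℕ)
    (M : Submodule (WittVector p k) N) :
    latImg ((p : K(p, k)) ^ m • iter F n) j M = pPow (m * j) (latImg F (n * j) M) := by
  apply le_antisymm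
  · rw [latImg_le_iff]
    intro x hx
    rw [iterate_zpow_smul_iter]
    exact smul_mem_pPow _ _ (iterate_mem_latImg F _ M hx)
  · rw [pPow_le_iff, latImg_le_iff]
    intro x hx
    rw [mem_pPow_iff, neg_neg, ← iterate_zpow_smul_iter]
    exact iterate_mem_latImg _ j M hx

theorem isOrd_zpow_smul_iter_iff (F : N →ₛₗ[τ] N) (n : ℕ) (m : ℤ) (j : ℕ)
    (M : Submodule (WittVector p k) N) (r : ℤ) :
    IsOrd M ((p : K(p, k)) ^ m • iter F n) j r ↔ IsOrd M F (n * j) (r - m * j) := by
  unfold IsOrd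
  rw [latImg_zpow_smul_iter, pPow_le_iff, pPow_le_iff, pPow_pPow, pPow_pPow]
  have e1 : -(m * (j : ℤ)) + r = r - m * j := by ring
  have e2 : -(m * (j : ℤ)) + (r + 1) = r - m * j + 1 := by ring
  rw [e1, e2]

end Slope

end Groth.Agent.H85
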