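import Groth.Agent.H85.IsocOrd
import Mathlib.LinearAlgebra.FiniteDimensional.Lemmas

set_option autoImplicit false
set_option linter.unusedSectionVars false

open scoped Pointwise Isocrystal
open Isoc

universe u v

namespace Groth.Agent.H85

section Semilinear

variable {K : Type*} [Field K] {V : Type*} [AddCommGroup V] [Module K V]

/-- The range of a semilinear endomorphism whose twist is surjective, as a subspace. -/
def semiRange {σ : K →+* K} (hσ : Function.Surjective σ) (G : V →ₛₗ[σ] V) : Submodule K V where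
  carrier := Set.range G
  add_mem' := by
    rintro _ _ ⟨x, rfl⟩ ⟨y, rfl⟩
    exact ⟨x + y, map_add G x y⟩
  zero_mem' := ⟨0, map_zero G⟩
  smul_mem' := by
    rintro l _ ⟨x, rfl⟩
    obtain ⟨l', rfl⟩ := hσ l
    exact ⟨l' • x, map_smulₛₗ G l' x⟩

theorem semilinear_surjective_of_injective [Module.Finite K V] {σ : K →+* K}
    (hσ : Function.Bijective σ) (G : V →ₛₗ[σ] V) (hG : Function.Injective G) :
    Function.Surjective G := by
  let R : Submodule K V := semiRange hσ.surjective G
  let j : V ≃+ R := AddEquiv.ofBijective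
    (AddMonoidHom.codRestrict G.toAddMonoidHom R.toAddSubmonoid (fun x => ⟨x, rfl⟩))
    ⟨fun x y h => hG (congrArg Subtype.val h), by
      rintro ⟨_, ⟨x, rfl⟩⟩
      exact ⟨x, rfl⟩⟩
  have hrank : Module.rank K V = Module.rank K R :=
    rank_eq_of_equiv_equiv σ j hσ (fun r m => Subtype.ext (map_smulₛₗ G r m))
  have hfin : Module.finrank K R = Module.finrank K V := by
    unfold Module.finrank; rw [hrank]
  have htop : R = ⊤ := Submodule.eq_top_of_finrank_eq hfin
  intro y
  have : y ∈ R := by rw [htop]; trivial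
  exact this

end Semilinear

section Sub

variable {p : ℕ} [Fact p.Prime] {k : Type u} [Field k] [CharP k p] [PerfectRing k p]
variable {N : Type v} [AddCommGroup N] [Module (WittVector p k) N] [Module K(p, k) N]
  [IsScalarTower (WittVector p k) K(p, k) N]
variable {τ : K(p, k) →+* K(p, k)}

/-- Every Witt vector is the image of a Witt vector under the twist. -/
def SurjW (τ : K(p, k) →+* K(p, k)) : Prop :=
  ∀ w : WittVector p k, ∃ w' : WittVector p k,
    τ (algebraMap (WittVector p k) K(p, k) w') = algebraMap (WittVector p k) K(p, k) w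

theorem surjW_frob (a : ℤ) : SurjW (Isoc.frob p k a) := fun w =>
  ⟨(WittVector.frobeniusEquiv p k ^ a).symm w, by
    rw [Isoc.frob_algebraMap, RingEquiv.apply_symm_apply]⟩

theorem frob_bijective (a : ℤ) : Function.Bijective (Isoc.frob p k a) := by
  unfold Isoc.frob
  exact RingEquiv.bijective _

theorem pow_bijective (hτ : Function.Bijective τ) (n : ℕ) : Function.Bijective (τ ^ n) := by
  rw [RingHom.coe_pow]
  exact hτ.iterate n

theorem iterate_smul_W_surj (hτ : SurjW τ) (F : N →ₛₗ[τ] N) (s : ℕ) (w : WittVector p k) (x : N) :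
    ∃ w' : WittVector p k, (⇑F)^[s] (w' • x) = w • (⇑F)^[s] x := by
  induction s generalizing w with
  | zero => exact ⟨w, rfl⟩
  | succ s ih =>
    obtain ⟨w₁, hw₁⟩ := hτ w
    obtain ⟨w', hw'⟩ := ih w₁
    refine ⟨w', ?_⟩
    rw [Function.iterate_succ', Function.comp_apply, Function.comp_apply, hw',
      ← algebraMap_smul K(p, k) w₁, map_smulₛₗ, hw₁, algebraMap_smul]

theorem mem_latImg_iff (hτ' : SurjW τ) (F : N →ₛₗ[τ] N) (s : ℕ)
    (M : Submodule (WittVector p k) N) (y : N) :
    y ∈ latImg F s M ↔ ∃ x ∈ M, (⇑F)^[s] x = y := by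
  constructor
  · intro hy
    unfold latImg at hy
    induction hy using Submodule.span_induction with
    | mem y hy => obtain ⟨x, hx, rfl⟩ := hy; exact ⟨x, hx, rfl⟩
    | zero => exact ⟨0, M.zero_mem, iterate_zero' F s⟩
    | add y y' _ _ ih ih' =>
      obtain ⟨x, hx, rfl⟩ := ih
      obtain ⟨x', hx', rfl⟩ := ih'
      exact ⟨x + x', M.add_mem hx hx', iterate_add' F s x x'⟩
    | smul w y _ ih =>
      obtain ⟨x, hx, rfl⟩ := ih
      obtain ⟨w', hw'⟩ := iterate_smul_W_surj hτ' F s w x
      exact ⟨w' • x, M.smul_mem w' hx, hw'⟩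
  · rintro ⟨x, hx, rfl⟩
    exact iterate_mem_latImg F s M hx

/-- The trace of a `W`-lattice on an `L`-subspace. -/
def restrictLattice (M : Submodule (WittVector p k) N) (P : Submodule K(p, k) N) :
    Submodule (WittVector p k) P where
  carrier := {x | (x : N) ∈ M}
  add_mem' := fun {x y} hx hy => by
    change ((x + y : P) : N) ∈ M
    rw [Submodule.coe_add]; exact M.add_mem hx hy
  zero_mem' := by
    change ((0 : P) : N) ∈ M
    rw [Submodule.coe_zero]; exact M.zero_mem
  smul_mem' := fun w x hx => by
    change ((w • x : P) : N) ∈ M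
    rw [Submodule.coe_smul_of_tower]; exact M.smul_mem w hx

theorem mem_restrictLattice (M : Submodule (WittVector p k) N) (P : Submodule K(p, k) N) (x : P) :
    x ∈ restrictLattice M P ↔ (x : N) ∈ M := Iff.rfl

theorem restrictLattice_isLattice (M : Submodule (WittVector p k) N) (hM : M.IsLattice K(p, k))
    (P : Submodule K(p, k) N) : (restrictLattice M P).IsLattice K(p, k) := by
  refine ⟨?_, ?_⟩
  · have hN : IsNoetherian (WittVector p k) M := isNoetherian_of_fg_of_noetherian M hM.fg
    let f : P →ₗ[WittVector p k] N :=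
      { toFun := fun x => (x : N)
        map_add' := fun x y => rfl
        map_smul' := fun w x => Submodule.coe_smul_of_tower w x }
    have hf : Function.Injective f := Subtype.val_injective
    refine Submodule.fg_of_fg_map_injective f hf ?_
    refine isNoetherian_submodule.mp hN _ ?_
    rintro _ ⟨x, hx, rfl⟩
    exact hx
  · rw [eq_top_iff]
    rintro x -
    obtain ⟨c, hc⟩ := exists_natpow_smul_mem M hM.span_eq_top (x : N)
    have hmem : ((p : K(p, k)) ^ c) • x ∈ restrictLattice M P := by
      rw [mem_restrictLattice, Submodule.coe_smul]; exact hc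
    have : x = ((p : K(p, k)) ^ c)⁻¹ • (((p : K(p, k)) ^ c) • x) := by
      rw [smul_smul, inv_mul_cancel₀ (pow_ne_zero _ pL_ne_zero), one_smul]
    rw [this]
    exact Submodule.smul_mem _ _ (Submodule.subset_span hmem)

theorem coe_iterate_restrict (F : N →ₛₗ[τ] N) (P : Submodule K(p, k) N) (hP : ∀ x ∈ P, F x ∈ P)
    (s : ℕ) (x : P) : (((⇑(F.restrict hP))^[s] x : P) : N) = (⇑F)^[s] (x : N) := by
  induction s with
  | zero => rfl
  | succ s ih =>
    rw [Function.iterate_succ', Function.comp_apply, Function.iterate_succ', Function.comp_apply,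
      LinearMap.coe_restrict_apply, ih]

theorem isIsoclinic_restrict (hτ : Function.Bijective τ) (hτ' : SurjW τ)
    (F : N →ₛₗ[τ] N) (hF : IsIsoc F) (μ : ℚ) (hμ : IsIsoclinic F μ)
    (P : Submodule K(p, k) N) (hP : ∀ x ∈ P, F x ∈ P) :
    IsIsoclinic (F.restrict hP) μ := by
  obtain ⟨M, hM, r, s, hs, hrs, hFM⟩ := hμ
  have := hF.finite
  refine ⟨restrictLattice M P, restrictLattice_isLattice M hM P, r, s, hs, hrs, ?_⟩
  have hinj : Function.Injective ((⇑F)^[s]) := hF.bijective.injective.iterate s
  have hsurjP : Function.Surjective (⇑(iter (F.restrict hP) s)) := by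
    refine semilinear_surjective_of_injective (pow_bijective hτ s) (iter (F.restrict hP) s) ?_
    intro x y hxy
    rw [iter_apply, iter_apply] at hxy
    apply Subtype.ext
    apply hinj
    rw [← coe_iterate_restrict F P hP, ← coe_iterate_restrict F P hP, hxy]
  apply le_antisymm
  · rw [latImg_le_iff]
    intro x hx
    rw [mem_pPow_iff, mem_restrictLattice, Submodule.coe_smul, coe_iterate_restrict, ← mem_pPow_iff,
      ← hFM]
    exact iterate_mem_latImg F s M hx
  · intro y hy
    obtain ⟨z, hz, rfl⟩ := (mem_pPow_iff_exists _ _ _).mp hy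
    have h1 : ((p : K(p, k)) ^ r) • (z : N) ∈ latImg F s M := by
      rw [hFM]; exact smul_mem_pPow r M hz
    obtain ⟨x, hx, hxz⟩ := (mem_latImg_iff hτ' F s M _).mp h1
    obtain ⟨x', hx'⟩ := hsurjP (((p : K(p, k)) ^ r) • z)
    rw [iter_apply] at hx'
    have hxx' : (x' : N) = x := by
      apply hinj
      rw [← coe_iterate_restrict F P hP, hx', Submodule.coe_smul, hxz]
    rw [← hx']
    refine iterate_mem_latImg _ s _ ?_
    rw [mem_restrictLattice, hxx']
    exact hx

end Sub

end Groth.Agent.H85
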