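import Groth.Agent.H85.IsocDet
import Mathlib.Order.CompactlyGenerated.Basic
import Mathlib.RingTheory.Noetherian.Basic

set_option autoImplicit false
set_option linter.unusedSectionVars false

open scoped Pointwise Isocrystal
open Isoc

universe u v w

namespace Groth.Agent.H85

section Sum

variable {p : ℕ} [Fact p.Prime] {k : Type u} [Field k] [CharP k p] [PerfectRing k p]
variable {N : Type v} [AddCommGroup N] [Module (WittVector p k) N] [Module K(p, k) N]
  [IsScalarTower (WittVector p k) K(p, k) N]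
variable {N' : Type w} [AddCommGroup N'] [Module (WittVector p k) N'] [Module K(p, k) N']
  [IsScalarTower (WittVector p k) K(p, k) N']
variable {τ : K(p, k) →+* K(p, k)}

theorem latImg_sup (F : N →ₛₗ[τ] N) (s : ℕ) (M₁ M₂ : Submodule (WittVector p k) N) :
    latImg F s (M₁ ⊔ M₂) = latImg F s M₁ ⊔ latImg F s M₂ := by
  apply le_antisymm
  · rw [latImg_le_iff]
    intro x hx
    obtain ⟨a, ha, b, hb, rfl⟩ := Submodule.mem_sup.mp hx
    rw [iterate_add']
    exact Submodule.add_mem_sup (iterate_mem_latImg F s M₁ ha) (iterate_mem_latImg F s M₂ hb)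
  · exact sup_le (latImg_mono F s le_sup_left) (latImg_mono F s le_sup_right)

theorem pPow_sup (r : ℤ) (M₁ M₂ : Submodule (WittVector p k) N) :
    pPow r (M₁ ⊔ M₂) = pPow r M₁ ⊔ pPow r M₂ := by
  apply le_antisymm
  · intro x hx
    obtain ⟨y, hy, rfl⟩ := (mem_pPow_iff_exists _ _ _).mp hx
    obtain ⟨a, ha, b, hb, rfl⟩ := Submodule.mem_sup.mp hy
    rw [smul_add]
    exact Submodule.add_mem_sup (smul_mem_pPow r M₁ ha) (smul_mem_pPow r M₂ hb)
  · exact sup_le (pPow_mono r le_sup_left) (pPow_mono r le_sup_right)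

theorem latImg_iSup_le {ι : Sort*} (F : N →ₛₗ[τ] N) (s : ℕ)
    (A : ι → Submodule (WittVector p k) N) (X : Submodule (WittVector p k) N)
    (h : ∀ i, latImg F s (A i) ≤ X) : latImg F s (⨆ i, A i) ≤ X := by
  rw [latImg_le_iff]
  intro x hx
  refine Submodule.iSup_induction A (motive := fun x => (⇑F)^[s] x ∈ X) hx ?_ ?_ ?_
  · intro i y hy
    exact (latImg_le_iff F s _ _).mp (h i) y hy
  · rw [iterate_zero']
    exact X.zero_mem
  · intro y z hy hz
    rw [iterate_add']
    exact X.add_mem hy hz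

theorem pPow_iSup_le {ι : Sort*} (r : ℤ)
    (A : ι → Submodule (WittVector p k) N) (X : Submodule (WittVector p k) N)
    (h : ∀ i, pPow r (A i) ≤ X) : pPow r (⨆ i, A i) ≤ X := by
  rw [pPow_le_iff]
  exact iSup_le fun i => (pPow_le_iff r).mp (h i)

theorem pPow_bot (r : ℤ) : pPow r (⊥ : Submodule (WittVector p k) N) = ⊥ := by
  rw [eq_bot_iff]
  intro x hx
  rw [mem_pPow_iff, Submodule.mem_bot] at hx
  rw [Submodule.mem_bot]
  exact (smul_eq_zero.mp hx).resolve_left (zpow_ne_zero _ pL_ne_zero)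

theorem imageLattice_fg (g : N →ₗ[K(p, k)] N') (M : Submodule (WittVector p k) N) (hM : M.FG) :
    (imageLattice g M).FG := by
  classical
  have hsm : ∀ (w : WittVector p k) (x : N), g (w • x) = w • g x := fun w x => by
    rw [← algebraMap_smul K(p, k) w x, map_smul, algebraMap_smul]
  obtain ⟨S, hS⟩ := hM
  refine ⟨S.image g, ?_⟩
  apply le_antisymm
  · rw [Submodule.span_le]
    intro y hy
    rw [Finset.coe_image] at hy
    obtain ⟨x, hx, rfl⟩ := hy
    exact ⟨x, hS ▸ Submodule.subset_span hx, rfl⟩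
  · rintro _ ⟨x, hx, rfl⟩
    rw [← hS] at hx
    induction hx using Submodule.span_induction with
    | mem x hx =>
      exact Submodule.subset_span (by rw [Finset.coe_image]; exact Set.mem_image_of_mem _ hx)
    | zero => rw [map_zero]; exact Submodule.zero_mem _
    | add x y _ _ ihx ihy => rw [map_add]; exact Submodule.add_mem _ ihx ihy
    | smul w x _ ih => rw [hsm]; exact Submodule.smul_mem _ w ih

theorem latImg_imageLattice (hτ' : SurjW τ)
    (F : N →ₛₗ[τ] N) (G : N' →ₛₗ[τ] N') (g : N →ₗ[K(p, k)] N')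
    (hg : ∀ x, g (F x) = G (g x)) (M : Submodule (WittVector p k) N) (r : ℤ) (s : ℕ)
    (hFM : latImg F s M = pPow r M) :
    latImg G s (imageLattice g M) = pPow r (imageLattice g M) := by
  apply le_antisymm
  · rw [latImg_le_iff]
    rintro _ ⟨x, hx, rfl⟩
    rw [iterate_hom F G g hg]
    have h1 : (⇑F)^[s] x ∈ pPow r M := by rw [← hFM]; exact iterate_mem_latImg F s M hx
    obtain ⟨z, hz, hzx⟩ := (mem_pPow_iff_exists _ _ _).mp h1
    rw [← hzx, map_smul]
    exact smul_mem_pPow r _ ⟨z, hz, rfl⟩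
  · intro y hy
    obtain ⟨_, ⟨z, hz, rfl⟩, rfl⟩ := (mem_pPow_iff_exists _ _ _).mp hy
    have h1 : ((p : K(p, k)) ^ r) • z ∈ latImg F s M := by
      rw [hFM]; exact smul_mem_pPow r M hz
    obtain ⟨x, hx, hxz⟩ := (mem_latImg_iff hτ' F s M _).mp h1
    rw [← map_smul, ← hxz, ← iterate_hom F G g hg]
    exact iterate_mem_latImg _ s _ ⟨x, hx, rfl⟩

/-- Intrinsic form of "the subspace `P` carries a lattice on which `F^s = p^r`, `r/s = μ`". -/
def IsoOn (F : N →ₛₗ[τ] N) (P : Submodule K(p, k) N) (μ : ℚ) : Prop :=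
  ∃ M : Submodule (WittVector p k) N, M.FG ∧ Submodule.span K(p, k) (M : Set N) = P ∧
    ∃ (r : ℤ) (s : ℕ), 0 < s ∧ (r : ℚ) / s = μ ∧ latImg F s M = pPow r M

theorem isoOn_of_isIsoclinic_restrict (hτ' : SurjW τ) (F : N →ₛₗ[τ] N)
    (P : Submodule K(p, k) N) (hP : ∀ x ∈ P, F x ∈ P) (μ : ℚ)
    (h : IsIsoclinic (F.restrict hP) μ) : IsoOn F P μ := by
  obtain ⟨M', hM', r, s, hs, hrs, hFM'⟩ := h
  refine ⟨imageLattice P.subtype M', imageLattice_fg P.subtype M' hM'.fg, ?_, r, s, hs, hrs,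
    latImg_imageLattice hτ' (F.restrict hP) F P.subtype (fun x => rfl) M' r s hFM'⟩
  apply le_antisymm
  · rw [Submodule.span_le]
    rintro _ ⟨x, -, rfl⟩
    exact x.2
  · intro x hx
    have hx' : (⟨x, hx⟩ : P) ∈ Submodule.span K(p, k) (M' : Set P) := by
      rw [hM'.span_eq_top]; trivial
    have key : ∀ z : P, z ∈ Submodule.span K(p, k) (M' : Set P) →
        (z : N) ∈ Submodule.span K(p, k) (imageLattice P.subtype M' : Set N) := by
      intro z hz
      induction hz using Submodule.span_induction with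
      | mem z hz => exact Submodule.subset_span ⟨z, hz, rfl⟩
      | zero => rw [Submodule.coe_zero]; exact Submodule.zero_mem _
      | add y z _ _ ihy ihz => rw [Submodule.coe_add]; exact Submodule.add_mem _ ihy ihz
      | smul l z _ ih => rw [Submodule.coe_smul]; exact Submodule.smul_mem _ l ih
    exact key ⟨x, hx⟩ hx'

theorem isIsoclinic_restrict_of_isoOn (hτ' : SurjW τ) (F : N →ₛₗ[τ] N)
    (P : Submodule K(p, k) N) (hP : ∀ x ∈ P, F x ∈ P) (μ : ℚ)
    (h : IsoOn F P μ) : IsIsoclinic (F.restrict hP) μ := by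
  obtain ⟨M, hfg, hspan, r, s, hs, hrs, hFM⟩ := h
  have hMP : ∀ x ∈ M, x ∈ P := fun x hx => hspan ▸ Submodule.subset_span hx
  refine ⟨restrictLattice M P, ⟨?_, ?_⟩, r, s, hs, hrs, ?_⟩
  · let f : P →ₗ[WittVector p k] N :=
      { toFun := fun x => (x : N)
        map_add' := fun x y => rfl
        map_smul' := fun w x => Submodule.coe_smul_of_tower w x }
    have hf : Function.Injective f := Subtype.val_injective
    refine Submodule.fg_of_fg_map_injective f hf ?_
    have : (restrictLattice M P).map f = M := by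
      ext y
      constructor
      · rintro ⟨x, hx, rfl⟩
        exact hx
      · intro hy
        exact ⟨⟨y, hMP y hy⟩, hy, rfl⟩
    rw [this]
    exact hfg
  · rw [eq_top_iff]
    rintro ⟨x, hx⟩ -
    have hx' : x ∈ Submodule.span K(p, k) (M : Set N) := by rw [hspan]; exact hx
    have key : ∀ z : N, z ∈ Submodule.span K(p, k) (M : Set N) → ∀ hz : z ∈ P,
        (⟨z, hz⟩ : P) ∈ Submodule.span K(p, k) (restrictLattice M P : Set P) := by
      intro z hz
      induction hz using Submodule.span_induction with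
      | mem z hz => intro hzP; exact Submodule.subset_span hz
      | zero => intro hzP; exact Submodule.zero_mem _
      | add y z hy hz ihy ihz =>
        intro hzP
        have hyP : y ∈ P := by rw [← hspan]; exact hy
        have hzP' : z ∈ P := by rw [← hspan]; exact hz
        have : (⟨y + z, hzP⟩ : P) = ⟨y, hyP⟩ + ⟨z, hzP'⟩ := rfl
        rw [this]
        exact Submodule.add_mem _ (ihy hyP) (ihz hzP')
      | smul l z hz ih =>
        intro hzP
        have hzP' : z ∈ P := by rw [← hspan]; exact hz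
        have : (⟨l • z, hzP⟩ : P) = l • ⟨z, hzP'⟩ := rfl
        rw [this]
        exact Submodule.smul_mem _ l (ih hzP')
    exact key x hx' hx
  · apply le_antisymm
    · rw [latImg_le_iff]
      intro x hx
      rw [mem_pPow_iff, mem_restrictLattice, Submodule.coe_smul, coe_iterate_restrict,
        ← mem_pPow_iff, ← hFM]
      exact iterate_mem_latImg F s M hx
    · intro y hy
      obtain ⟨z, hz, rfl⟩ := (mem_pPow_iff_exists _ _ _).mp hy
      have h1 : ((p : K(p, k)) ^ r) • (z : N) ∈ latImg F s M := by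
        rw [hFM]; exact smul_mem_pPow r M hz
      obtain ⟨x, hx, hxz⟩ := (mem_latImg_iff hτ' F s M _).mp h1
      have hxx : (⇑(F.restrict hP))^[s] (⟨x, hMP x hx⟩ : P) = ((p : K(p, k)) ^ r) • z := by
        apply Subtype.ext
        rw [coe_iterate_restrict, Submodule.coe_smul]
        exact hxz
      rw [← hxx]
      exact iterate_mem_latImg _ s _ hx

theorem isoOn_bot (F : N →ₛₗ[τ] N) (μ : ℚ) : IsoOn F ⊥ μ := by
  refine ⟨⊥, Submodule.fg_bot, ?_, μ.num, μ.den, μ.den_pos, Rat.num_div_den μ, ?_⟩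
  · rw [Submodule.bot_coe, Submodule.span_zero_singleton]
  · rw [latImg_bot, pPow_bot]

theorem isoOn_sup (hτ : PresW τ) (F : N →ₛₗ[τ] N) (μ : ℚ) {P₁ P₂ : Submodule K(p, k) N}
    (h₁ : IsoOn F P₁ μ) (h₂ : IsoOn F P₂ μ) : IsoOn F (P₁ ⊔ P₂) μ := by
  obtain ⟨M₁, hfg₁, hspan₁, r₁, s₁, hs₁, hrs₁, hFM₁⟩ := h₁
  obtain ⟨M₂, hfg₂, hspan₂, r₂, s₂, hs₂, hrs₂, hFM₂⟩ := h₂
  have hs₁Q : (s₁ : ℚ) ≠ 0 := by exact_mod_cast hs₁.ne'
  have hs₂Q : (s₂ : ℚ) ≠ 0 := by exact_mod_cast hs₂.ne'
  have hr : r₁ * s₂ = r₂ * s₁ := by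
    have := hrs₁.trans hrs₂.symm
    rw [div_eq_div_iff hs₁Q hs₂Q] at this
    exact_mod_cast this
  refine ⟨M₁ ⊔ M₂, hfg₁.sup hfg₂, ?_, r₁ * s₂, s₁ * s₂, Nat.mul_pos hs₁ hs₂, ?_, ?_⟩
  · apply le_antisymm
    · rw [Submodule.span_le]
      intro x hx
      obtain ⟨a, ha, b, hb, rfl⟩ := Submodule.mem_sup.mp hx
      exact Submodule.add_mem_sup (hspan₁ ▸ Submodule.subset_span ha)
        (hspan₂ ▸ Submodule.subset_span hb)
    · rw [← hspan₁, ← hspan₂]
      exact sup_le (Submodule.span_mono (fun x hx => (le_sup_left : M₁ ≤ M₁ ⊔ M₂) hx))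
        (Submodule.span_mono (fun x hx => (le_sup_right : M₂ ≤ M₁ ⊔ M₂) hx))
  · rw [← hrs₁]
    push_cast
    field_simp
  · have e1 := latImg_iterate_eq hτ F M₁ s₁ r₁ hFM₁ s₂
    have e2 := latImg_iterate_eq hτ F M₂ s₂ r₂ hFM₂ s₁
    rw [mul_comm s₂ s₁, ← hr] at e2
    rw [latImg_sup, pPow_sup, e1, e2]

theorem slopePart_stable (F : N →ₛₗ[τ] N) (μ : ℚ) :
    ∀ x ∈ slopePart F μ, F x ∈ slopePart F μ := by
  have h : slopePart F μ ≤ (slopePart F μ).comap F := by
    unfold slopePart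
    refine sSup_le ?_
    rintro P ⟨hP, hiso⟩ x hx
    rw [Submodule.mem_comap]
    exact (le_sSup (show P ∈ {P : Submodule K(p, k) N |
      ∃ hP : ∀ x ∈ P, F x ∈ P, IsIsoclinic (F.restrict hP) μ} from ⟨hP, hiso⟩)) (hP x hx)
  exact h

theorem isoOn_slopePart (hτ : PresW τ) (hτ' : SurjW τ) (F : N →ₛₗ[τ] N)
    [Module.Finite K(p, k) N] (μ : ℚ) : IsoOn F (slopePart F μ) μ := by
  obtain ⟨t, ht, hsup⟩ := CompleteLattice.WellFoundedGT.isSupFiniteCompact (Submodule K(p, k) N)
    {P : Submodule K(p, k) N | ∃ hP : ∀ x ∈ P, F x ∈ P, IsIsoclinic (F.restrict hP) μ}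
  unfold slopePart
  rw [hsup]
  refine Finset.sup_induction (p := fun P => IsoOn F P μ) (isoOn_bot F μ)
    (fun P₁ h₁ P₂ h₂ => isoOn_sup hτ F μ h₁ h₂) ?_
  intro P hP
  obtain ⟨hPst, hiso⟩ := ht hP
  exact isoOn_of_isIsoclinic_restrict hτ' F P hPst μ hiso

/-- Every `F`-stable subspace that is isoclinic of slope `μ` lies in the slope part. -/
theorem le_slopePart (F : N →ₛₗ[τ] N) (μ : ℚ) (P : Submodule K(p, k) N)
    (hP : ∀ x ∈ P, F x ∈ P) (h : IsIsoclinic (F.restrict hP) μ) : P ≤ slopePart F μ :=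
  le_sSup (show P ∈ {P : Submodule K(p, k) N |
      ∃ hP : ∀ x ∈ P, F x ∈ P, IsIsoclinic (F.restrict hP) μ} from ⟨hP, h⟩)

end Sum

end Groth.Agent.H85
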