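import Mathlib

/-!
# Minimal generators of a localized finitely generated ideal (Nakayama)

`exists_minimal_generators`: for a finitely generated ideal `J` of `B` and a prime `q`, there are
`r = dim_κ(q) (κ(q) ⊗_B J)` elements of `J` generating `J B_q`.
-/

set_option autoImplicit false
universe u
open scoped TensorProduct

namespace Groth.Agent.H85.MinGens

section

variable (B : Type u) [CommRing B] (J : Ideal B) (q : Ideal B) [q.IsPrime]

local notation "Rq" => Localization.AtPrime q
local notation "κq" => Ideal.ResidueField q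

/-- the generator of `J R_q` attached to `x ∈ J`. -/
noncomputable def gen (x : J) : ↥(J.map (algebraMap B Rq)) :=
  ⟨algebraMap B Rq x, Ideal.mem_map_of_mem _ x.2⟩

theorem span_gen_eq_top :
    Submodule.span Rq (Set.range (gen B J q)) = ⊤ := by
  apply Submodule.map_injective_of_injective
    (f := (J.map (algebraMap B Rq)).subtype) (Submodule.injective_subtype _)
  rw [Submodule.map_span, Submodule.map_top, Submodule.range_subtype, ← Set.range_comp]
  have : Set.range (⇑(J.map (algebraMap B Rq)).subtype ∘ gen B J q) =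
      (algebraMap B Rq) '' (J : Set B) := by
    ext y
    constructor
    · rintro ⟨x, rfl⟩
      exact ⟨x.1, x.2, rfl⟩
    · rintro ⟨x, hx, rfl⟩
      exact ⟨⟨x, hx⟩, rfl⟩
  rw [this]
  rfl

/-- `x ↦ 1 ⊗ x/1`. -/
noncomputable def theta : J →ₗ[B] κq ⊗[Rq] ↥(J.map (algebraMap B Rq)) where
  toFun x := (1 : κq) ⊗ₜ[Rq] gen B J q x
  map_add' x y := by
    have h : gen B J q (x + y) = gen B J q x + gen B J q y := Subtype.ext (by simp [gen])
    rw [h, TensorProduct.tmul_add]
  map_smul' b x := by
    have h : gen B J q (b • x) = (algebraMap B Rq b) • gen B J q x :=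
      Subtype.ext (by simp [gen, Algebra.smul_def])
    rw [RingHom.id_apply, h, TensorProduct.tmul_smul]
    exact algebraMap_smul Rq b _

theorem exists_minimal_generators (hJ : J.FG) :
    ∃ (r : ℕ) (g : Fin r → B), (∀ i, g i ∈ J) ∧
      J.map (algebraMap B (Localization.AtPrime q)) =
        Ideal.span (Set.range fun i => algebraMap B (Localization.AtPrime q) (g i)) ∧
      r = Module.finrank q.ResidueField (q.ResidueField ⊗[B] J) := by
  classical
  have : Module.Finite B J := Module.Finite.iff_fg.mpr hJ
  have : Module.Finite Rq ↥(J.map (algebraMap B Rq)) := Module.Finite.iff_fg.mpr (hJ.map _)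
  -- the spanning set
  let S : Set (κq ⊗[B] J) := {t | ∃ x : J, (1 : κq) ⊗ₜ[B] x = t}
  have hS : Submodule.span κq S = ⊤ := by
    rw [eq_top_iff]
    rintro t -
    induction t using TensorProduct.induction_on with
    | zero => exact zero_mem _
    | tmul c x =>
      have h : c ⊗ₜ[B] x = c • ((1 : κq) ⊗ₜ[B] x) := by
        rw [TensorProduct.smul_tmul', smul_eq_mul, mul_one]
      rw [h]
      exact Submodule.smul_mem _ _ (Submodule.subset_span ⟨x, rfl⟩)
    | add a b ha hb => exact add_mem ha hb
  obtain ⟨f, hfS, hfspan, -⟩ := Submodule.exists_fun_fin_finrank_span_eq κq S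
  choose x hx using hfS
  refine ⟨Module.finrank κq (Submodule.span κq S), fun i => (x i : B), fun i => (x i).2, ?_, ?_⟩
  swap
  · rw [hS, finrank_top]
  -- Nakayama
  obtain ⟨ψ, hψ⟩ : ∃ ψ : κq ⊗[B] J →ₗ[κq] κq ⊗[Rq] ↥(J.map (algebraMap B Rq)),
      ∀ (c : κq) (y : J), ψ (c ⊗ₜ[B] y) = c • ((1 : κq) ⊗ₜ[Rq] gen B J q y) :=
    ⟨(theta B J q).liftBaseChange κq, fun c y => rfl⟩
  let T : Set (κq ⊗[Rq] ↥(J.map (algebraMap B Rq))) :=
    Set.range fun i => (1 : κq) ⊗ₜ[Rq] gen B J q (x i)
  have hψf : ∀ i, ψ (f i) = (1 : κq) ⊗ₜ[Rq] gen B J q (x i) := by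
    intro i
    rw [← hx i, hψ, one_smul]
  have hψmem : ∀ t, ψ t ∈ Submodule.span κq T := by
    intro t
    have ht : t ∈ Submodule.span κq (Set.range f) := by rw [hfspan, hS]; trivial
    have h2 : ψ t ∈ Submodule.map ψ (Submodule.span κq (Set.range f)) :=
      Submodule.mem_map_of_mem ht
    rw [Submodule.map_span, ← Set.range_comp] at h2
    have h3 : (⇑ψ ∘ f) = fun i => (1 : κq) ⊗ₜ[Rq] gen B J q (x i) := funext hψf
    rw [h3] at h2
    exact h2
  have hone : ∀ m : ↥(J.map (algebraMap B Rq)),
      (1 : κq) ⊗ₜ[Rq] m ∈ Submodule.span κq T := by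
    intro m
    have hm : m ∈ Submodule.span Rq (Set.range (gen B J q)) := by
      rw [span_gen_eq_top]; trivial
    induction hm using Submodule.span_induction with
    | mem m hm =>
      obtain ⟨y, rfl⟩ := hm
      have h4 := hψmem ((1 : κq) ⊗ₜ[B] y)
      rwa [hψ, one_smul] at h4
    | zero => rw [TensorProduct.tmul_zero]; exact zero_mem _
    | add a b _ _ ha hb => rw [TensorProduct.tmul_add]; exact add_mem ha hb
    | smul a m _ hm =>
      rw [TensorProduct.tmul_smul, ← algebraMap_smul κq a ((1 : κq) ⊗ₜ[Rq] m)]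
      exact Submodule.smul_mem _ _ hm
  have hT : Submodule.span κq T = ⊤ := by
    rw [eq_top_iff]
    rintro w -
    induction w using TensorProduct.induction_on with
    | zero => exact zero_mem _
    | tmul c m =>
      have h : c ⊗ₜ[Rq] m = c • ((1 : κq) ⊗ₜ[Rq] m) := by
        rw [TensorProduct.smul_tmul', smul_eq_mul, mul_one]
      rw [h]
      exact Submodule.smul_mem _ _ (hone m)
    | add a b ha hb => exact add_mem ha hb
  have hsurj : Function.Surjective (algebraMap Rq κq) := by
    rw [IsLocalRing.ResidueField.algebraMap_eq]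
    exact IsLocalRing.residue_surjective
  have hTR : Submodule.span Rq T = ⊤ := by
    rw [← Submodule.restrictScalars_span Rq κq hsurj T, hT, Submodule.restrictScalars_top]
  have hN : Submodule.span Rq (Set.range fun i => gen B J q (x i)) = ⊤ := by
    rw [← IsLocalRing.map_tensorProduct_mk_eq_top, Submodule.map_span, ← Set.range_comp]
    exact hTR
  -- transfer to ideals
  have hfin := congrArg (Submodule.map (J.map (algebraMap B Rq)).subtype) hN
  rw [Submodule.map_span, Submodule.map_top, Submodule.range_subtype, ← Set.range_comp] at hfin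
  exact hfin.symm

end

end Groth.Agent.H85.MinGens
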