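import Mathlib

/-!
# Triangularisation of nilpotent matrices

A nilpotent endomorphism of a finite-dimensional vector space has a basis `b` with
`f (b i) ∈ span {b j | i < j}`; consequently every nilpotent matrix over a field is conjugate to a
strictly upper triangular matrix.
-/

universe u

open Module

namespace Groth.Agent.H85.NilTri

variable {k : Type u} [Field k]

theorem exists_basis (n : ℕ) : ∀ (V : Type u) [AddCommGroup V] [Module k V]
    [FiniteDimensional k V], Module.finrank k V = n → ∀ f : V →ₗ[k] V, IsNilpotent f →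
    ∃ b : Basis (Fin n) k V, ∀ i, f (b i) ∈ Submodule.span k (b '' {j | i < j}) := by
  induction n with
  | zero =>
    intro V _ _ _ hV f hf
    have : Subsingleton V := Module.finrank_zero_iff.mp hV
    exact ⟨Basis.empty V, fun i => i.elim0⟩
  | succ n ih =>
    intro V _ _ _ hV f hf
    have hr : LinearMap.range f < ⊤ := by
      rw [lt_top_iff_ne_top]
      intro htop
      obtain ⟨m, hm⟩ := hf
      have hsurj : Function.Surjective f := LinearMap.range_eq_top.mp htop
      have hsurjm : Function.Surjective (f ^ m) := by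
        rw [Module.End.coe_pow]
        exact hsurj.iterate m
      have : Nontrivial V := Module.nontrivial_of_finrank_pos (R := k) (by omega)
      obtain ⟨v, hv⟩ := exists_ne (0 : V)
      obtain ⟨w, hw⟩ := hsurjm v
      rw [hm] at hw
      exact hv hw.symm
    obtain ⟨ℓ, hℓ0, hℓ⟩ := Submodule.exists_le_ker_of_lt_top _ hr
    have hHdim : Module.finrank k (LinearMap.ker ℓ) = n := by
      have := Module.Dual.finrank_ker_add_one_of_ne_zero hℓ0
      omega
    have hmaps : Set.MapsTo f (LinearMap.ker ℓ) (LinearMap.ker ℓ) :=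
      fun x _ => hℓ (LinearMap.mem_range_self f x)
    obtain ⟨b', hb'⟩ := ih (LinearMap.ker ℓ) hHdim (f.restrict hmaps)
      (Module.End.isNilpotent.restrict hmaps hf)
    obtain ⟨v, hv⟩ : ∃ v, ℓ v ≠ 0 := by
      by_contra hcon
      push Not at hcon
      exact hℓ0 (LinearMap.ext hcon)
    have hli : ∀ (c : k), ∀ x ∈ LinearMap.ker ℓ, c • v + x = 0 → c = 0 := by
      intro c x hx hc
      have h1 := congrArg ℓ hc
      rw [map_add, map_smul, LinearMap.mem_ker.mp hx, add_zero, map_zero, smul_eq_mul] at h1
      exact (mul_eq_zero.mp h1).resolve_right hv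
    have hsp : ∀ z : V, ∃ c : k, z + c • v ∈ LinearMap.ker ℓ := by
      intro z
      refine ⟨-(ℓ z / ℓ v), ?_⟩
      rw [LinearMap.mem_ker, map_add, map_smul, smul_eq_mul]
      field_simp
      ring
    refine ⟨Basis.mkFinCons v b' hli hsp, ?_⟩
    have hcoe : ∀ j : Fin n, (Basis.mkFinCons v b' hli hsp) j.succ = (b' j : V) := by
      intro j
      rw [Basis.coe_mkFinCons]
      simp
    intro i
    refine Fin.cases ?_ (fun i' => ?_) i
    · have h1 : f (Basis.mkFinCons v b' hli hsp 0) ∈ LinearMap.ker ℓ :=
        hℓ (LinearMap.mem_range_self f _)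
      have h2 : LinearMap.ker ℓ ≤ Submodule.span k
          ((Basis.mkFinCons v b' hli hsp) '' {j | (0 : Fin (n + 1)) < j}) := by
        intro x hx
        have hx' : (⟨x, hx⟩ : LinearMap.ker ℓ) ∈ Submodule.span k (Set.range b') := by
          rw [b'.span_eq]
          trivial
        have h3 := Submodule.mem_map_of_mem (f := (LinearMap.ker ℓ).subtype) hx'
        rw [Submodule.map_span] at h3
        refine Submodule.span_mono ?_ h3
        rintro _ ⟨_, ⟨j, rfl⟩, rfl⟩
        exact ⟨j.succ, Fin.succ_pos j, hcoe j⟩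
      exact h2 h1
    · rw [hcoe i']
      have h1 := hb' i'
      have h2 := Submodule.mem_map_of_mem (f := (LinearMap.ker ℓ).subtype) h1
      rw [Submodule.map_span] at h2
      have h3 : (LinearMap.ker ℓ).subtype ((f.restrict hmaps) (b' i')) = f (b' i' : V) := rfl
      rw [h3] at h2
      refine Submodule.span_mono ?_ h2
      rintro _ ⟨_, ⟨j, hj, rfl⟩, rfl⟩
      exact ⟨j.succ, Fin.succ_lt_succ_iff.mpr hj, hcoe j⟩

/-- A nilpotent matrix is conjugate to a strictly lower triangular one. -/
theorem exists_conj_lower (n : ℕ) (M : Matrix (Fin n) (Fin n) k) (hM : IsNilpotent M) :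
    ∃ g g' L : Matrix (Fin n) (Fin n) k, g * g' = 1 ∧ M = g * L * g' ∧
      ∀ i j, i ≤ j → L i j = 0 := by
  classical
  have hf : IsNilpotent (Matrix.toLin' M) := (Matrix.isNilpotent_toLin'_iff M).mpr hM
  obtain ⟨b, hb⟩ := exists_basis n (Fin n → k) (by simp) (Matrix.toLin' M) hf
  refine ⟨(Pi.basisFun k (Fin n)).toMatrix b, b.toMatrix (Pi.basisFun k (Fin n)),
    LinearMap.toMatrix b b (Matrix.toLin' M), ?_, ?_, ?_⟩
  · exact Basis.toMatrix_mul_toMatrix_flip _ b
  · rw [basis_toMatrix_mul_linearMap_toMatrix_mul_basis_toMatrix,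
      LinearMap.toMatrix_eq_toMatrix', LinearMap.toMatrix'_toLin']
  · intro i j hij
    rw [LinearMap.toMatrix_apply]
    have h1 := (b.mem_span_image).mp (hb j)
    by_contra hne
    have hi : i ∈ (b.repr (Matrix.toLin' M (b j))).support := Finsupp.mem_support_iff.mpr hne
    have h2 : j < i := h1 hi
    omega

/-- A nilpotent matrix is conjugate to a strictly upper triangular one. -/
theorem exists_conj_upper (n : ℕ) (M : Matrix (Fin n) (Fin n) k) (hM : IsNilpotent M) :
    ∃ g g' U : Matrix (Fin n) (Fin n) k, g * g' = 1 ∧ M = g * U * g' ∧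
      ∀ i j, j ≤ i → U i j = 0 := by
  have hMt : IsNilpotent M.transpose := by
    obtain ⟨m, hm⟩ := hM
    exact ⟨m, by rw [← Matrix.transpose_pow, hm, Matrix.transpose_zero]⟩
  obtain ⟨g, g', L, h1, h2, h3⟩ := exists_conj_lower n M.transpose hMt
  refine ⟨g'.transpose, g.transpose, L.transpose, ?_, ?_, ?_⟩
  · rw [← Matrix.transpose_mul, h1, Matrix.transpose_one]
  · have := congrArg Matrix.transpose h2
    rw [Matrix.transpose_transpose, Matrix.transpose_mul, Matrix.transpose_mul] at this
    rw [this, Matrix.mul_assoc]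
  · intro i j hij
    rw [Matrix.transpose_apply]
    exact h3 j i hij

end Groth.Agent.H85.NilTri
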