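import Mathlib
import Groth.Agent.H85.NilTri
import Groth.Agent.H54.AffineDim2

/-!
# The nilpotent cone

The variety of nilpotent `n × n` matrices over an algebraically closed field is irreducible of
dimension `n² - n`.  We parametrise it by `(g, u) ↦ g u adj(g)` with `u` strictly upper triangular
(prime kernel `P n`), use the Nullstellensatz plus triangularisation of nilpotent matrices to show
`√I = P n`, and compute the height of `P n` by Krull's height theorem (upper bound) and the explicit
chain of primes `P 0 < P 1 < ⋯ < P n` (matrices with at least `j` zero eigenvalues).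
-/

universe u

open MvPolynomial

namespace Groth.Agent.H85.NilCone

section general

variable {A : Type*} [CommRing A] {n : ℕ}

/-- charpoly of `g t adj(g)` for upper triangular `t` -/
lemma charpoly_conj (g t : Matrix (Fin n) (Fin n) A) (ht : t.IsUpperTriangular) :
    (g * t * g.adjugate).charpoly =
      ∏ a : Fin n, (Polynomial.X - Polynomial.C (g.det * t a a)) := by
  have h1 : (g * t * g.adjugate).charpoly = (g.det • t).charpoly := by
    rw [Matrix.mul_assoc, Matrix.charpoly_mul_comm, Matrix.mul_assoc, Matrix.adjugate_mul,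
      Matrix.mul_smul, Matrix.mul_one]
  have h2 : (g.det • t).IsUpperTriangular := by
    intro i j hij
    rw [Matrix.smul_apply, ht hij, smul_zero]
  rw [h1, Matrix.charpoly_of_isUpperTriangular _ h2]
  simp only [Matrix.smul_apply, smul_eq_mul]

lemma prod_split (d : Fin n → A) (j : ℕ) (hj : j ≤ n) (hd : ∀ a : Fin n, a.val < j → d a = 0) :
    ∏ a : Fin n, (Polynomial.X - Polynomial.C (d a)) =
      Polynomial.X ^ j * ∏ a ∈ Finset.univ.filter (fun a : Fin n => ¬ a.val < j),
        (Polynomial.X - Polynomial.C (d a)) := by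
  rw [← Finset.prod_filter_mul_prod_filter_not Finset.univ (fun a : Fin n => a.val < j)]
  congr 1
  rw [Finset.prod_congr rfl (g := fun _ => (Polynomial.X : Polynomial A))]
  · rw [Finset.prod_const, Fin.card_filter_val_lt, min_eq_right hj]
  · intro a ha
    rw [hd a (Finset.mem_filter.mp ha).2, map_zero, sub_zero]

lemma coeff_lt (d : Fin n → A) (j : ℕ) (hj : j ≤ n) (hd : ∀ a : Fin n, a.val < j → d a = 0)
    (i : ℕ) (hi : i < j) :
    (∏ a : Fin n, (Polynomial.X - Polynomial.C (d a))).coeff i = 0 := by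
  rw [prod_split d j hj hd, Polynomial.coeff_X_pow_mul', if_neg (by omega)]

lemma coeff_eq (d : Fin n → A) (j : ℕ) (hj : j ≤ n) (hd : ∀ a : Fin n, a.val < j → d a = 0) :
    (∏ a : Fin n, (Polynomial.X - Polynomial.C (d a))).coeff j =
      ∏ a ∈ Finset.univ.filter (fun a : Fin n => ¬ a.val < j), (- d a) := by
  rw [prod_split d j hj hd, Polynomial.coeff_X_pow_mul', if_pos le_rfl, Nat.sub_self,
    Polynomial.coeff_zero_eq_eval_zero, Polynomial.eval_prod]
  refine Finset.prod_congr rfl (fun a _ => ?_)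
  simp

end general

variable (k : Type u) [Field k] (n : ℕ)

/-- index type of the parameter space: entries of `g` and of `t` -/
abbrev Idx (n : ℕ) : Type := (Fin n × Fin n) ⊕ (Fin n × Fin n)

/-- the generic matrix -/
noncomputable def G : Matrix (Fin n) (Fin n) (MvPolynomial (Idx n) k) :=
  Matrix.of fun a b => X (Sum.inl (a, b))

/-- the generic upper triangular matrix -/
noncomputable def T : Matrix (Fin n) (Fin n) (MvPolynomial (Idx n) k) :=
  Matrix.of fun a b => if a ≤ b then X (Sum.inr (a, b)) else 0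

/-- `x ↦ G T adj(G)` -/
noncomputable def Φ : MvPolynomial (Fin n × Fin n) k →ₐ[k] MvPolynomial (Idx n) k :=
  aeval fun p => (G k n * T k n * (G k n).adjugate) p.1 p.2

/-- kill the first `j` diagonal variables of `T` -/
noncomputable def σ (j : ℕ) : MvPolynomial (Idx n) k →ₐ[k] MvPolynomial (Idx n) k :=
  aeval (Sum.elim (fun p => X (Sum.inl p))
    (fun p => if p.1 = p.2 ∧ p.1.val < j then 0 else X (Sum.inr p)))

/-- the coefficients of the generic characteristic polynomial -/
noncomputable abbrev c (i : ℕ) : MvPolynomial (Fin n × Fin n) k :=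
  (Matrix.charpoly (Matrix.mvPolynomialX (Fin n) (Fin n) k)).coeff i

lemma map_coeff_charpoly {B : Type*} [CommRing B] [Algebra k B]
    (ψ : MvPolynomial (Fin n × Fin n) k →ₐ[k] B) (i : ℕ) :
    ψ (c k n i) = (Matrix.charpoly (Matrix.of fun a b => ψ (X (a, b)))).coeff i := by
  have h : (Matrix.of fun a b => ψ (X (a, b))) =
      (Matrix.mvPolynomialX (Fin n) (Fin n) k).map ψ.toRingHom := by
    ext a b
    rfl
  rw [h, Matrix.charpoly_map, Polynomial.coeff_map]
  rfl

lemma map_Φ {B : Type*} [CommRing B] [Algebra k B] (ρ : MvPolynomial (Idx n) k →ₐ[k] B)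
    (a b : Fin n) :
    ρ (Φ k n (X (a, b))) =
      ((G k n).map ρ * (T k n).map ρ * ((G k n).map ρ).adjugate) a b := by
  have h1 : Φ k n (X (a, b)) = (G k n * T k n * (G k n).adjugate) a b := by
    unfold Φ
    rw [aeval_X]
  have h2 : ((G k n).map ρ * (T k n).map ρ * ((G k n).map ρ).adjugate) =
      ρ.mapMatrix (G k n * T k n * (G k n).adjugate) := by
    rw [map_mul, map_mul, AlgHom.map_adjugate]
    rfl
  rw [h1, h2]
  rfl

lemma T_map_upper {B : Type*} [CommRing B] [Algebra k B] (ρ : MvPolynomial (Idx n) k →ₐ[k] B) :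
    ((T k n).map ρ).IsUpperTriangular := by
  intro a b hab
  have hab' : ¬ a ≤ b := not_le.mpr hab
  rw [Matrix.map_apply]
  unfold T
  rw [Matrix.of_apply, if_neg hab', map_zero]

lemma charpoly_comp {B : Type*} [CommRing B] [Algebra k B]
    (ρ : MvPolynomial (Idx n) k →ₐ[k] B) (i : ℕ) :
    ρ (Φ k n (c k n i)) =
      (∏ a : Fin n, (Polynomial.X -
        Polynomial.C (((G k n).map ρ).det * ((T k n).map ρ) a a))).coeff i := by
  have h := map_coeff_charpoly k n (ρ.comp (Φ k n)) i
  rw [AlgHom.comp_apply] at h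
  rw [h, ← charpoly_conj _ _ (T_map_upper k n ρ)]
  congr 2
  ext a b
  rw [Matrix.of_apply, AlgHom.comp_apply, map_Φ]

lemma G_map_σ (j : ℕ) : (G k n).map (σ k n j) = G k n := by
  ext a b
  rw [Matrix.map_apply]
  unfold G σ
  rw [Matrix.of_apply, aeval_X, Sum.elim_inl]

lemma T_map_σ_diag (j : ℕ) (a : Fin n) :
    ((T k n).map (σ k n j)) a a = if a.val < j then 0 else X (Sum.inr (a, a)) := by
  rw [Matrix.map_apply]
  unfold T σ
  rw [Matrix.of_apply, if_pos le_rfl, aeval_X, Sum.elim_inr]
  simp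

lemma det_G_ne_zero : (G k n).det ≠ 0 := by
  have h : G k n = (rename (Sum.inl : Fin n × Fin n → Idx n)).mapMatrix
      (Matrix.mvPolynomialX (Fin n) (Fin n) k) := by
    ext a b
    simp [G, Matrix.mvPolynomialX]
  rw [h, ← AlgHom.map_det]
  intro h0
  exact Matrix.det_mvPolynomialX_ne_zero (Fin n) k
    ((rename_injective _ Sum.inl_injective) (by rw [h0, map_zero]))

/-- the chain of primes -/
noncomputable def P (j : ℕ) : Ideal (MvPolynomial (Fin n × Fin n) k) :=
  RingHom.ker ((σ k n j).comp (Φ k n))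

instance (j : ℕ) : (P k n j).IsPrime := RingHom.ker_isPrime _

lemma mem_P (j : ℕ) (f : MvPolynomial (Fin n × Fin n) k) :
    f ∈ P k n j ↔ σ k n j (Φ k n f) = 0 := by
  rw [P, RingHom.mem_ker, AlgHom.comp_apply]

lemma c_mem (j : ℕ) (hj : j ≤ n) (i : ℕ) (hi : i < j) : c k n i ∈ P k n j := by
  rw [mem_P, charpoly_comp]
  apply coeff_lt _ j hj _ i hi
  intro a ha
  rw [T_map_σ_diag, if_pos ha, mul_zero]

lemma c_notMem (j : ℕ) (hj : j ≤ n) : c k n j ∉ P k n j := by
  rw [mem_P, charpoly_comp, coeff_eq _ j hj (by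
    intro a ha
    rw [T_map_σ_diag, if_pos ha, mul_zero])]
  rw [Finset.prod_eq_zero_iff]
  rintro ⟨a, ha, h0⟩
  rw [T_map_σ_diag, if_neg (Finset.mem_filter.mp ha).2, G_map_σ, neg_eq_zero, mul_eq_zero] at h0
  rcases h0 with h0 | h0
  · exact det_G_ne_zero k n h0
  · exact X_ne_zero _ h0

lemma σ_comp (j : ℕ) : (σ k n (j + 1)).comp (σ k n j) = σ k n (j + 1) := by
  apply MvPolynomial.algHom_ext
  intro v
  rw [AlgHom.comp_apply]
  rcases v with p | p
  · unfold σ
    rw [aeval_X, Sum.elim_inl, aeval_X, Sum.elim_inl]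
  · unfold σ
    rw [aeval_X, Sum.elim_inr, aeval_X, Sum.elim_inr]
    by_cases h1 : p.1 = p.2 ∧ p.1.val < j
    · rw [if_pos h1, map_zero, if_pos ⟨h1.1, by omega⟩]
    · rw [if_neg h1, aeval_X, Sum.elim_inr]

lemma P_le (j : ℕ) : P k n j ≤ P k n (j + 1) := by
  intro f hf
  rw [mem_P] at hf ⊢
  rw [← σ_comp, AlgHom.comp_apply, hf, map_zero]

lemma P_lt (j : ℕ) (hj : j < n) : P k n j < P k n (j + 1) :=
  lt_of_le_of_ne (P_le k n j) (fun h => c_notMem k n j hj.le
    (h ▸ c_mem k n (j + 1) hj j (Nat.lt_succ_self j)))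

lemma le_height (j : ℕ) (hj : j ≤ n) : (j : ℕ∞) ≤ (P k n j).height := by
  induction j with
  | zero => simp
  | succ j ih =>
    have h1 := ih (by omega)
    have h2 := Ideal.height_add_one_le_of_lt_of_isPrime (P_lt k n j (by omega))
    calc ((j + 1 : ℕ) : ℕ∞) = (j : ℕ∞) + 1 := by push_cast; rfl
      _ ≤ (P k n j).height + 1 := by gcongr
      _ ≤ _ := h2

theorem P_le_radical [IsAlgClosed k] :
    P k n n ≤ (Ideal.span (Set.range fun i : Fin n => c k n i)).radical := by
  intro f hf
  rw [← MvPolynomial.vanishingIdeal_zeroLocus_eq_radical (K := k),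
    MvPolynomial.mem_vanishingIdeal_iff]
  intro x hx
  have hc : ∀ i : Fin n, (Matrix.charpoly (Matrix.of fun a b => x (a, b))).coeff i = 0 := by
    intro i
    have h1 := hx _ (Ideal.subset_span ⟨i, rfl⟩)
    rw [map_coeff_charpoly k n (aeval x) i] at h1
    simpa only [aeval_X] using h1
  have hchar : Matrix.charpoly (Matrix.of fun a b => x (a, b)) = Polynomial.X ^ n := by
    have hmon := Matrix.charpoly_monic (Matrix.of fun a b : Fin n => x (a, b))
    have hdeg : (Matrix.charpoly (Matrix.of fun a b : Fin n => x (a, b))).natDegree = n := by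
      rw [Matrix.charpoly_natDegree_eq_dim, Fintype.card_fin]
    ext m
    rw [Polynomial.coeff_X_pow]
    split_ifs with h
    · subst h
      have h5 := hmon.coeff_natDegree
      rwa [hdeg] at h5
    · rcases lt_or_gt_of_ne h with h' | h'
      · exact hc ⟨m, h'⟩
      · exact Polynomial.coeff_eq_zero_of_natDegree_lt (by omega)
  have hnil : IsNilpotent (Matrix.of fun a b : Fin n => x (a, b)) := by
    refine ⟨n, ?_⟩
    have := Matrix.aeval_self_charpoly (Matrix.of fun a b : Fin n => x (a, b))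
    rwa [hchar, map_pow, Polynomial.aeval_X] at this
  obtain ⟨g, g', U, h1, h2, h3⟩ := NilTri.exists_conj_upper n _ hnil
  have hdet : g.det * g'.det = 1 := by rw [← Matrix.det_mul, h1, Matrix.det_one]
  have hdet0 : g.det ≠ 0 := left_ne_zero_of_mul_eq_one hdet
  have hadj : g.adjugate = g.det • g' := by
    calc g.adjugate = g.adjugate * (g * g') := by rw [h1, Matrix.mul_one]
      _ = (g.adjugate * g) * g' := by rw [Matrix.mul_assoc]
      _ = g.det • g' := by rw [Matrix.adjugate_mul, Matrix.smul_mul, Matrix.one_mul]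
  let y : Idx n → k := Sum.elim (fun p => g p.1 p.2) (fun p => (g.det)⁻¹ * U p.1 p.2)
  let ρ : MvPolynomial (Idx n) k →ₐ[k] k := (aeval y).comp (σ k n n)
  have hG : (G k n).map ρ = g := by
    ext a b
    rw [Matrix.map_apply]
    show aeval y (σ k n n (G k n a b)) = g a b
    unfold G σ
    rw [Matrix.of_apply, aeval_X, Sum.elim_inl, aeval_X]
    rfl
  have hT : (T k n).map ρ = (g.det)⁻¹ • U := by
    ext a b
    rw [Matrix.map_apply, Matrix.smul_apply, smul_eq_mul]
    show aeval y (σ k n n (T k n a b)) = _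
    unfold T σ
    rw [Matrix.of_apply]
    by_cases hab : a ≤ b
    · rw [if_pos hab, aeval_X, Sum.elim_inr]
      by_cases hab' : a = b
      · rw [if_pos ⟨hab', a.isLt⟩, map_zero, h3 a b (by rw [hab']), mul_zero]
      · rw [if_neg (fun h => hab' h.1), aeval_X]
        rfl
    · rw [if_neg hab, map_zero, map_zero, h3 a b (not_le.mp hab).le, mul_zero]
  have hψ : ∀ p : Fin n × Fin n, ρ (Φ k n (X p)) = x p := by
    rintro ⟨a, b⟩
    rw [map_Φ, hG, hT, hadj, Matrix.mul_smul, Matrix.mul_smul, Matrix.smul_mul, smul_smul,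
      mul_inv_cancel₀ hdet0, one_smul, ← h2, Matrix.of_apply]
  have hfin : aeval x f = ρ (Φ k n f) := by
    have : (aeval x : MvPolynomial (Fin n × Fin n) k →ₐ[k] k) = ρ.comp (Φ k n) := by
      apply MvPolynomial.algHom_ext
      intro p
      rw [aeval_X, AlgHom.comp_apply, hψ]
    rw [this, AlgHom.comp_apply]
  rw [hfin]
  rw [mem_P] at hf
  show aeval y (σ k n n (Φ k n f)) = 0
  rw [hf, map_zero]

theorem main [IsAlgClosed k] (_hn : 1 ≤ n) (I : Ideal (MvPolynomial (Fin n × Fin n) k))
    (hI : I = Ideal.span (Set.range (fun i : Fin n =>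
      (Matrix.charpoly (Matrix.mvPolynomialX (Fin n) (Fin n) k)).coeff (i : ℕ)))) :
    IrreducibleSpace (PrimeSpectrum (MvPolynomial (Fin n × Fin n) k ⧸ I)) ∧
      ringKrullDim (MvPolynomial (Fin n × Fin n) k ⧸ I) = ((n ^ 2 - n : ℕ) : WithBot ℕ∞) := by
  classical
  have hle : I ≤ P k n n := by
    rw [hI, Ideal.span_le]
    rintro _ ⟨i, rfl⟩
    exact c_mem k n n le_rfl i i.isLt
  have hrad : I.radical = P k n n := by
    refine le_antisymm ((Ideal.IsPrime.radical_le_iff inferInstance).mpr hle) ?_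
    rw [hI]
    exact P_le_radical k n
  refine ⟨?_, ?_⟩
  · rw [PrimeSpectrum.irreducibleSpace_iff_isPrime_nilradical]
    have h1 : Ideal.comap (Ideal.Quotient.mk I)
        (nilradical (MvPolynomial (Fin n × Fin n) k ⧸ I)) = P k n n := by
      rw [nilradical, Ideal.comap_radical, Ideal.zero_eq_bot, ← RingHom.ker_eq_comap_bot,
        Ideal.mk_ker, hrad]
    have h2 : nilradical (MvPolynomial (Fin n × Fin n) k ⧸ I) =
        Ideal.map (Ideal.Quotient.mk I) (P k n n) := by
      rw [← h1, Ideal.map_comap_of_surjective _ Ideal.Quotient.mk_surjective]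
    rw [h2]
    exact Ideal.map_isPrime_of_surjective Ideal.Quotient.mk_surjective
      (by rw [Ideal.mk_ker]; exact hle)
  · have hdimR : ringKrullDim (MvPolynomial (Fin n × Fin n) k) = ((n ^ 2 : ℕ) : WithBot ℕ∞) := by
      rw [MvPolynomial.ringKrullDim_of_isNoetherianRing, ringKrullDim_eq_zero_of_field, zero_add,
        Nat.card_eq_fintype_card, Fintype.card_prod, Fintype.card_fin, sq]
    have hmin : P k n n ∈ (Ideal.span ((Finset.univ.image fun i : Fin n => c k n i :
        Finset (MvPolynomial (Fin n × Fin n) k)) : Set (MvPolynomial (Fin n × Fin n) k))).minimalPrimes := by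
      have hspan : Ideal.span ((Finset.univ.image fun i : Fin n => c k n i :
          Finset (MvPolynomial (Fin n × Fin n) k)) : Set (MvPolynomial (Fin n × Fin n) k)) = I := by
        rw [hI, Finset.coe_image, Finset.coe_univ, Set.image_univ]
      rw [hspan]
      refine ⟨⟨inferInstance, hle⟩, fun Q hQ _ => ?_⟩
      rw [← hrad]
      exact (Ideal.IsPrime.radical_le_iff hQ.1).mpr hQ.2
    have hup : (P k n n).height ≤ (n : ℕ∞) := by
      refine (Ideal.height_le_card_of_mem_minimalPrimes_span_finset hmin).trans ?_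
      have : (Finset.univ.image fun i : Fin n => c k n i).card ≤ n :=
        Finset.card_image_le.trans (by simp)
      exact_mod_cast this
    have hht : (P k n n).height = (n : ℕ∞) := le_antisymm hup (le_height k n n le_rfl)
    have hform := Groth.Agent.H54.height_add_ringKrullDim_quotient k
      (MvPolynomial (Fin n × Fin n) k) ⟨P k n n, inferInstance⟩
    have hq : ringKrullDim (MvPolynomial (Fin n × Fin n) k ⧸ I) =
        ringKrullDim (MvPolynomial (Fin n × Fin n) k ⧸ P k n n) := by
      rw [ringKrullDim_quotient, ringKrullDim_quotient, ← hrad, PrimeSpectrum.zeroLocus_radical]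
    have hne : ringKrullDim (MvPolynomial (Fin n × Fin n) k ⧸ P k n n) ≠ ⊥ :=
      ne_bot_of_le_ne_bot (by simp) ringKrullDim_nonneg_of_nontrivial
    have hle' : ringKrullDim (MvPolynomial (Fin n × Fin n) k ⧸ P k n n) ≤
        ((n ^ 2 : ℕ) : WithBot ℕ∞) := by
      rw [← hdimR]
      exact ringKrullDim_quotient_le _
    obtain ⟨N, hN⟩ := Groth.Agent.H54.exists_nat_eq_of_le hne hle'
    rw [hq, hN]
    rw [hN, hdimR] at hform
    change ((P k n n).height : WithBot ℕ∞) + (N : WithBot ℕ∞) = _ at hform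
    rw [hht] at hform
    have h3 : n + N = n ^ 2 := by exact_mod_cast hform
    have h4 : N = n ^ 2 - n := Nat.eq_sub_of_add_eq' h3
    rw [h4]

end Groth.Agent.H85.NilCone
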