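import Groth.Agent.H85.PlDiv

/-!
# The least Plücker coordinate is prime on every Schubert cone

`J(w) + (X_ι)` is the kernel of the map sending the Plücker coordinates to the minors of the
generic matrix of shape `w` whose last column vanishes in the top `d × d` block.  The standard
monomials on `X(w)` not involving `X_ι` stay linearly independent (same leading monomials).
-/

universe u

open W4bk4grassmannian MvPolynomial

namespace Groth.Agent.H85.Pl

noncomputable section

section kill

variable {K : Type u} [CommRing K] {d n : ℕ}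

/-- the entries of the last column in the top `d × d` block -/
def Killed (d n : ℕ) (v : Var d n) : Prop := (ofLex v).2.val + 1 = d ∧ (ofLex v).1.val < d

open Classical in
/-- kill the variables in the last column of the top block -/
def kill (K : Type u) [CommRing K] (d n : ℕ) :
    MvPolynomial (Var d n) K →ₐ[K] MvPolynomial (Var d n) K :=
  MvPolynomial.aeval fun v => if Killed d n v then 0 else X v

/-- exponents not involving killed variables -/
def Avoids (e : Var d n →₀ ℕ) : Prop := ∀ v, Killed d n v → e v = 0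

lemma kill_monomial_of_avoids (e : Var d n →₀ ℕ) (a : K) (h : Avoids e) :
    kill K d n (monomial e a) = monomial e a := by
  unfold kill
  rw [MvPolynomial.aeval_monomial, MvPolynomial.monomial_eq, MvPolynomial.algebraMap_eq]
  congr 1
  apply Finsupp.prod_congr
  intro v hv
  rw [if_neg]
  intro hk
  exact (Finsupp.mem_support_iff.mp hv) (h v hk)

lemma kill_monomial_of_not_avoids (e : Var d n →₀ ℕ) (a : K) (h : ¬ Avoids e) :
    kill K d n (monomial e a) = 0 := by
  classical
  unfold kill
  rw [MvPolynomial.aeval_monomial]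
  unfold Avoids at h
  push Not at h
  obtain ⟨v, hk, hv⟩ := h
  have h0 : (e.prod fun v k => (if Killed d n v then (0 : MvPolynomial (Var d n) K) else X v) ^ k)
      = 0 := by
    rw [Finsupp.prod]
    apply Finset.prod_eq_zero (Finsupp.mem_support_iff.mpr hv)
    rw [if_pos hk, zero_pow hv]
  rw [h0, mul_zero]

lemma coeff_kill_of_avoids (f : MvPolynomial (Var d n) K) (D : Var d n →₀ ℕ) (hD : Avoids D) :
    (kill K d n f).coeff D = f.coeff D := by
  refine MvPolynomial.induction_on' f ?_ ?_
  · intro e a
    by_cases he : Avoids e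
    · rw [kill_monomial_of_avoids e a he]
    · rw [kill_monomial_of_not_avoids e a he, MvPolynomial.coeff_zero,
        MvPolynomial.coeff_monomial, if_neg]
      rintro rfl
      exact he hD
  · intro p q hp hq
    rw [map_add, MvPolynomial.coeff_add, MvPolynomial.coeff_add, hp, hq]

lemma coeff_kill_of_not_avoids (f : MvPolynomial (Var d n) K) (D : Var d n →₀ ℕ)
    (hD : ¬ Avoids D) : (kill K d n f).coeff D = 0 := by
  refine MvPolynomial.induction_on' f ?_ ?_
  · intro e a
    by_cases he : Avoids e
    · rw [kill_monomial_of_avoids e a he, MvPolynomial.coeff_monomial, if_neg]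
      rintro rfl
      exact hD he
    · rw [kill_monomial_of_not_avoids e a he, MvPolynomial.coeff_zero]
  · intro p q hp hq
    rw [map_add, MvPolynomial.coeff_add, hp, hq, add_zero]

lemma support_kill_subset (f : MvPolynomial (Var d n) K) :
    (kill K d n f).support ⊆ f.support := by
  intro c hc
  rw [MvPolynomial.mem_support_iff] at hc ⊢
  intro h0
  apply hc
  by_cases hav : Avoids c
  · rw [coeff_kill_of_avoids f c hav, h0]
  · exact coeff_kill_of_not_avoids f c hav

lemma kill_monic [Nontrivial K] (f : MvPolynomial (Var d n) K) (D : Var d n →₀ ℕ)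
    (hmon : (MonomialOrder.lex (σ := Var d n)).Monic f)
    (hdeg : (MonomialOrder.lex (σ := Var d n)).degree f = D) (hD : Avoids D) :
    (MonomialOrder.lex (σ := Var d n)).Monic (kill K d n f) ∧
      (MonomialOrder.lex (σ := Var d n)).degree (kill K d n f) = D := by
  apply monic_of_coeff_support
  · rw [coeff_kill_of_avoids f D hD, ← hdeg]
    exact hmon.coeff_degree
  · intro c hc
    have hc' : c ∈ f.support := support_kill_subset f hc
    rw [← hdeg]
    exact MonomialOrder.le_degree hc'

/-- the least element `ι = (0, 1, …, d - 1)` of `I(d,n)` -/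
def botIdx (hdn : d < n) : Idx d n := ⟨fun t => ⟨t.val, lt_trans t.isLt hdn⟩, fun _ _ h => h⟩

lemma botIdx_le (hdn : d < n) (w : Idx d n) : botIdx hdn ≤ w := by
  intro t
  exact Fin.le_def.mpr (val_le_of_strictMono w.1 w.2 t)

lemma eq_bot_of_last_lt (hdn : d < n) (φ : Idx d n) (t₀ : Fin d) (ht₀ : t₀.val + 1 = d)
    (hlt : (φ.1 t₀).val < d) : φ = botIdx hdn := by
  have aux : ∀ k : ℕ, ∀ t : Fin d, t.val + k + 1 = d → (φ.1 t).val ≤ t.val := by
    intro k
    induction k with
    | zero =>
      intro t ht
      have : t = t₀ := Fin.ext (by omega)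
      rw [this]
      omega
    | succ k ih =>
      intro t ht
      have ht' : t.val + 1 < d := by omega
      have h1 : (φ.1 ⟨t.val + 1, ht'⟩).val ≤ t.val + 1 :=
        ih ⟨t.val + 1, ht'⟩ (by show t.val + 1 + k + 1 = d; omega)
      have h2 : φ.1 t < φ.1 ⟨t.val + 1, ht'⟩ :=
        φ.2 (Fin.lt_def.mpr (by show t.val < t.val + 1; omega))
      rw [Fin.lt_def] at h2
      omega
  apply Subtype.ext
  funext t
  apply Fin.ext
  show (φ.1 t).val = t.val
  have h1 := aux (d - 1 - t.val) t (by have := t.isLt; omega)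
  have h2 := val_le_of_strictMono φ.1 φ.2 t
  omega

lemma avoids_cexp (hdn : d < n) {m : ℕ} (c : Fin m → Idx d n) (hne : ∀ k, c k ≠ botIdx hdn) :
    Avoids (cexp c) := by
  intro v hv
  rw [show v = toLex ((ofLex v).1, (ofLex v).2) from rfl, cexp_apply, Finset.card_eq_zero,
    Finset.filter_eq_empty_iff]
  intro k _ hk
  apply hne k
  apply eq_bot_of_last_lt hdn (c k) (ofLex v).2 hv.1
  rw [hk]
  exact hv.2

/-- Plücker coordinates ↦ minors of the generic matrix of shape `w` with vanishing last column in
the top block -/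
def Psi (K : Type u) [CommRing K] (w : Idx d n) :
    PlRing K d n →ₐ[K] MvPolynomial (Var d n) K :=
  (kill K d n).comp (Phi K w)

lemma Psi_X_bot (hd : 0 < d) (hdn : d < n) (w : Idx d n) :
    Psi K w (X (botIdx hdn)) = 0 := by
  unfold Psi
  rw [AlgHom.comp_apply, Phi_X, AlgHom.map_det]
  apply Matrix.det_eq_zero_of_column_eq_zero (⟨d - 1, by omega⟩ : Fin d)
  intro i
  show kill K d n (shaped K w ((botIdx hdn).1 i) ⟨d - 1, by omega⟩) = 0
  unfold shaped
  rw [Matrix.of_apply]
  split_ifs
  · unfold kill
    rw [MvPolynomial.aeval_X, if_pos]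
    exact ⟨by show d - 1 + 1 = d; omega, by show i.val < d; exact i.isLt⟩
  · exact map_zero _

lemma Psi_chainMon_monic [Nontrivial K] (hdn : d < n) (w : Idx d n) {m : ℕ}
    (c : Fin m → Idx d n) (hc : ∀ k, c k ≤ w) (hne : ∀ k, c k ≠ botIdx hdn) :
    (MonomialOrder.lex (σ := Var d n)).Monic (Psi K w (chainMon K c)) ∧
      (MonomialOrder.lex (σ := Var d n)).degree (Psi K w (chainMon K c)) = cexp c := by
  obtain ⟨h1, h2⟩ := Phi_chainMon_monic (K := K) w c hc
  exact kill_monic _ _ h1 h2 (avoids_cexp hdn c hne)

end kill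

section general

lemma prime_mk_of_isPrime_sup {R : Type*} [CommRing R] (I : Ideal R) (g : R) (hg : g ∉ I)
    (hI : (I ⊔ Ideal.span {g}).IsPrime) : Prime (Ideal.Quotient.mk I g) := by
  have key : ∀ x : R, Ideal.Quotient.mk I x ∈ Ideal.span {Ideal.Quotient.mk I g} ↔
      x ∈ I ⊔ Ideal.span {g} := by
    intro x
    constructor
    · intro h
      obtain ⟨a, ha⟩ := Ideal.mem_span_singleton'.mp h
      obtain ⟨a', rfl⟩ := Ideal.Quotient.mk_surjective a
      rw [← map_mul, Ideal.Quotient.eq] at ha
      have : x = (a' * g) - (a' * g - x) := by ring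
      rw [this]
      exact Ideal.sub_mem _
        (Ideal.mem_sup_right (Ideal.mul_mem_left _ _ (Ideal.subset_span rfl)))
        (Ideal.mem_sup_left ha)
    · intro h
      obtain ⟨j, hj, h', hh', rfl⟩ := Submodule.mem_sup.mp h
      obtain ⟨a, rfl⟩ := Ideal.mem_span_singleton'.mp hh'
      rw [map_add, Ideal.Quotient.eq_zero_iff_mem.mpr hj, zero_add, map_mul]
      exact Ideal.mul_mem_left _ _ (Ideal.subset_span rfl)
  refine ⟨?_, ?_, ?_⟩
  · intro h0
    exact hg (Ideal.Quotient.eq_zero_iff_mem.mp h0)
  · intro hu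
    apply hI.ne_top
    rw [Ideal.eq_top_iff_one, ← key, map_one, Ideal.mem_span_singleton]
    exact hu.dvd
  · intro a b hab
    obtain ⟨a', rfl⟩ := Ideal.Quotient.mk_surjective a
    obtain ⟨b', rfl⟩ := Ideal.Quotient.mk_surjective b
    rw [← map_mul, ← Ideal.mem_span_singleton, key] at hab
    rcases hI.mem_or_mem hab with h | h
    · left
      rw [← Ideal.mem_span_singleton, key]
      exact h
    · right
      rw [← Ideal.mem_span_singleton, key]
      exact h

end general

section main

variable {K : Type u} [Field K] [Infinite K] {d n : ℕ}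

lemma sup_le_ker_Psi (hd : 0 < d) (hdn : d < n) (w : Idx d n) :
    schubertVanishing K d n w ⊔ Ideal.span {(X (botIdx hdn) : PlRing K d n)} ≤
      RingHom.ker (Psi K w).toRingHom := by
  apply sup_le
  · intro x hx
    rw [RingHom.mem_ker]
    show Psi K w x = 0
    unfold Psi
    rw [AlgHom.comp_apply, Phi_eq_zero_of_mem w hx, map_zero]
  · rw [Ideal.span_le, Set.singleton_subset_iff, SetLike.mem_coe, RingHom.mem_ker]
    exact Psi_X_bot hd hdn w

theorem ker_Psi_le (hd : 0 < d) (hdn : d < n) (w : Idx d n) (f : PlRing K d n)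
    (hf : Psi K w f = 0) :
    f ∈ schubertVanishing K d n w ⊔ Ideal.span {(X (botIdx hdn) : PlRing K d n)} := by
  have hI1 : plIdealTop K ≤
      schubertVanishing K d n w ⊔ Ideal.span {(X (botIdx hdn) : PlRing K d n)} :=
    le_trans (plIdealTop_le_schubertVanishing w) le_sup_left
  have hbad : ∀ (m : ℕ) (c : Fin m → Idx d n), Antitone c →
      ¬ ((∀ k, c k ≤ w) ∧ ∀ k, c k ≠ botIdx hdn) → chainMon K c ∈
        schubertVanishing K d n w ⊔ Ideal.span {(X (botIdx hdn) : PlRing K d n)} := by
    intro m c _ hbad
    rw [not_and_or] at hbad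
    rcases hbad with h | h
    · push Not at h
      obtain ⟨k, hk⟩ := h
      exact Ideal.mem_sup_left (chainMon_mem_of_X_mem _ c k (X_mem_schubertVanishing w (c k) hk))
    · push Not at h
      obtain ⟨k, hk⟩ := h
      apply Ideal.mem_sup_right
      apply chainMon_mem_of_X_mem _ c k
      rw [hk]
      exact Ideal.subset_span rfl
  obtain ⟨g, hg, hfg⟩ := exists_good_rep
    (schubertVanishing K d n w ⊔ Ideal.span {(X (botIdx hdn) : PlRing K d n)}) hI1
    (fun m c => (∀ k, c k ≤ w) ∧ ∀ k, c k ≠ botIdx hdn) hbad f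
  · have h1 : Psi K w (f - g) = 0 := RingHom.mem_ker.mp (sup_le_ker_Psi hd hdn w hfg)
    have hg0 : Psi K w g = 0 := by
      have : g = f - (f - g) := by ring
      rw [this, map_sub, hf, h1, sub_zero]
    obtain ⟨l, hl⟩ := Finsupp.mem_span_range_iff_exists_finsupp.mp hg
    have hsum : ∑ c ∈ l.support, l c • Psi K w (chainMon K c.2.1) = 0 := by
      rw [← hg0, ← hl, Finsupp.sum, map_sum]
      apply Finset.sum_congr rfl
      intro c _
      rw [map_smul]
    have hl0 : l = 0 := by
      ext a
      rw [Finsupp.coe_zero, Pi.zero_apply]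
      by_cases ha : a ∈ l.support
      · refine coeff_zero_of_monic_family MonomialOrder.lex l.support (fun c => l c)
          (fun c => Psi K w (chainMon K c.2.1))
          (fun c _ => Or.inr (Psi_chainMon_monic hdn w c.2.1 c.2.2.2.1 c.2.2.2.2).1)
          ?_ hsum a ha (Psi_chainMon_monic hdn w a.2.1 a.2.2.2.1 a.2.2.2.2).1
        intro c _ c' _ _ _ hdeg
        rw [(Psi_chainMon_monic hdn w c.2.1 c.2.2.2.1 c.2.2.2.2).2,
          (Psi_chainMon_monic hdn w c'.2.1 c'.2.2.2.1 c'.2.2.2.2).2] at hdeg
        have := chain_eq_of_cexp_eq hd c.2.1 c'.2.1 c.2.2.1 c'.2.2.1 hdeg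
        obtain ⟨m, cc, hcc⟩ := c
        obtain ⟨m', cc', hcc'⟩ := c'
        simp only at this
        cases this
        rfl
      · exact Finsupp.notMem_support_iff.mp ha
    rw [hl0] at hl
    simp only [Finsupp.sum_zero_index] at hl
    rw [← hl, sub_zero] at hfg
    exact hfg

/-- the class of the least Plücker coordinate is a prime element of the Schubert cone -/
theorem prime_bot (hd : 0 < d) (hdn : d < n) (w : Idx d n) :
    Prime (Ideal.Quotient.mk (schubertVanishing K d n w) (X (botIdx hdn))) := by
  apply prime_mk_of_isPrime_sup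
  · intro h
    exact X_notMem (K := K) (botIdx hdn) (schubertVanishing_anti (botIdx_le hdn w) h)
  · have heq : schubertVanishing K d n w ⊔ Ideal.span {(X (botIdx hdn) : PlRing K d n)} =
        RingHom.ker (Psi K w).toRingHom :=
      le_antisymm (sup_le_ker_Psi hd hdn w)
        (fun f hf => ker_Psi_le hd hdn w f (RingHom.mem_ker.mp hf))
    rw [heq]
    exact RingHom.ker_isPrime _

end main

end

end Groth.Agent.H85.Pl
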