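import Groth.Prelude.Def_W4bk4grassmannianPl
import Mathlib

/-!
# Straightening for Plücker coordinates (helper85 library)

Standard monomials span `PlRing ⧸ plIdealTop` (formal straightening with the shuffle relations at pivots).
-/

set_option autoImplicit false
universe u
open W4bk4grassmannian MvPolynomial

namespace Groth.Agent.H85.Pl

noncomputable section

variable {K : Type u} [CommRing K] {d n : ℕ}

/-- sum of the entries of a tuple -/
def ssum (a : Fin d → Fin n) : ℕ := ∑ t, (a t : ℕ)

lemma ssum_le (a : Fin d → Fin n) : ssum a ≤ d * n := by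
  unfold ssum
  calc ∑ t, (a t : ℕ) ≤ ∑ _t : Fin d, n := Finset.sum_le_sum (fun t _ => (a t).isLt.le)
    _ = d * n := by simp

lemma image_card_of_injective (a : Fin d → Fin n) (ha : Function.Injective a) :
    (Finset.univ.image a).card = d := by
  rw [Finset.card_image_of_injective _ ha]; simp

lemma injective_of_image_card (a : Fin d → Fin n) (h : (Finset.univ.image a).card = d) :
    Function.Injective a := by
  have h2 : (Finset.univ.image a).card = (Finset.univ : Finset (Fin d)).card := by rw [h]; simp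
  have := Finset.card_image_iff.mp h2
  intro x y hxy
  exact this (by simp) (by simp) hxy

lemma sum_orderEmbOfFin {α : Type*} [LinearOrder α] (s : Finset α) {k : ℕ} (h : s.card = k) (f : α → ℕ) :
    ∑ t : Fin k, f (s.orderEmbOfFin h t) = ∑ x ∈ s, f x := by
  rw [← Finset.sum_coe_sort s f, ← Equiv.sum_comp (s.orderIsoOfFin h).toEquiv]
  rfl

lemma sortIdx_ssum (a : Fin d → Fin n) (h : (Finset.univ.image a).card = d) :
    ssum (sortIdx d n a h).1 = ssum a := by
  have hinj := injective_of_image_card a h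
  unfold ssum sortIdx
  simp only
  rw [sum_orderEmbOfFin (Finset.univ.image a) h (fun x => (x : ℕ)),
    Finset.sum_image (fun x _ y _ hxy => hinj hxy)]

lemma coord_cases (a : Fin d → Fin n) :
    coord K d n a = 0 ∨ ∃ α : Idx d n, (coord K d n a = X α ∨ coord K d n a = -X α) ∧
      ssum α.1 = ssum a := by
  unfold coord
  split_ifs with h
  · right
    refine ⟨sortIdx d n a h, ?_, sortIdx_ssum a h⟩
    rcases neg_one_pow_eq_or (PlRing K d n) (invCount d n a) with h1 | h1
    · left; rw [h1, one_mul]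
    · right; rw [h1, neg_one_mul]
  · left; rfl

lemma invCount_strictMono (a : Fin d → Fin n) (ha : StrictMono a) : invCount d n a = 0 := by
  unfold invCount
  rw [Finset.card_eq_zero, Finset.filter_eq_empty_iff]
  rintro ⟨p, q⟩ _ ⟨hpq, hlt⟩
  exact lt_asymm (ha hpq) hlt

lemma sortIdx_strictMono (θ : Idx d n) (h : (Finset.univ.image θ.1).card = d) :
    sortIdx d n θ.1 h = θ := by
  apply Subtype.ext
  have := Finset.orderEmbOfFin_unique h (f := θ.1) (fun x => by simp) θ.2
  funext t
  exact (congrFun this t).symm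

lemma coord_idx (θ : Idx d n) : coord K d n θ.1 = X θ := by
  have h : (Finset.univ.image θ.1).card = d := image_card_of_injective _ θ.2.injective
  unfold coord
  rw [dif_pos h, invCount_strictMono _ θ.2, sortIdx_strictMono θ h, pow_zero, one_mul]

lemma movingRows_le {i j : Idx d n} {r : Fin d} (k : Fin (d + 1)) (hk : k.val ≤ r.val) :
    movingRows i j r k = i.1 ⟨k.val, lt_of_le_of_lt hk r.isLt⟩ := by
  unfold movingRows; rw [dif_pos hk]

lemma movingRows_gt {i j : Idx d n} {r : Fin d} (k : Fin (d + 1)) (hk : ¬ k.val ≤ r.val) :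
    movingRows i j r k = j.1 ⟨k.val - 1, by have := k.isLt; omega⟩ := by
  unfold movingRows; rw [dif_neg hk]

lemma movingRows_strictMono {i j : Idx d n} {r : Fin d} (h : i.1 r < j.1 r) :
    StrictMono (movingRows i j r) := by
  intro k k' hkk'
  have hv : k.val < k'.val := hkk'
  by_cases h1 : k'.val ≤ r.val
  · have h0 : k.val ≤ r.val := by omega
    rw [movingRows_le k h0, movingRows_le k' h1]
    exact i.2 (Fin.mk_lt_mk.mpr hv)
  · rw [movingRows_gt k' h1]
    by_cases h0 : k.val ≤ r.val
    · rw [movingRows_le k h0]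
      calc i.1 ⟨k.val, _⟩ ≤ i.1 r := i.2.monotone (Fin.le_def.mpr h0)
        _ < j.1 r := h
        _ ≤ j.1 ⟨k'.val - 1, _⟩ := j.2.monotone (Fin.le_def.mpr (by simp only; omega))
    · rw [movingRows_gt k h0]
      exact j.2 (Fin.mk_lt_mk.mpr (by omega))

lemma val_le_of_strictMono {a b : ℕ} (f : Fin a → Fin b) (hf : StrictMono f) (t : Fin a) :
    t.val ≤ (f t).val := by
  obtain ⟨t, ht⟩ := t
  induction t with
  | zero => exact Nat.zero_le _
  | succ m ih =>
    have h1 := ih (by omega)
    have h2 : f ⟨m, by omega⟩ < f ⟨m + 1, ht⟩ := hf (Fin.mk_lt_mk.mpr (Nat.lt_succ_self m))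
    have h3 : (f ⟨m, by omega⟩).val < (f ⟨m + 1, ht⟩).val := h2
    simp only at h1 ⊢
    omega

/-- the identity shuffle -/
def A0 (r : Fin d) : Finset (Fin (d + 1)) := Finset.Iic ⟨r.val, by have := r.isLt; omega⟩

lemma mem_A0 (r : Fin d) (k : Fin (d + 1)) : k ∈ A0 r ↔ k.val ≤ r.val := by
  unfold A0; rw [Finset.mem_Iic, Fin.le_def]

lemma A0_card (r : Fin d) : (A0 r).card = r.val + 1 := by
  unfold A0; rw [Fin.card_Iic]

lemma emb_A0 (r : Fin d) (hA : (A0 r).card = r.val + 1) (t : Fin (r.val + 1)) :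
    ((A0 r).orderEmbOfFin hA t).val = t.val := by
  have hlt : ∀ t : Fin (r.val + 1), t.val < d + 1 := fun t => by
    have := t.isLt; have := r.isLt; omega
  have hf : StrictMono (fun t : Fin (r.val + 1) => (⟨t.val, hlt t⟩ : Fin (d + 1))) :=
    fun a b hab => Fin.mk_lt_mk.mpr hab
  have := Finset.orderEmbOfFin_unique hA (f := fun t : Fin (r.val + 1) => (⟨t.val, hlt t⟩ : Fin (d + 1)))
    (fun x => by rw [mem_A0]; have := x.isLt; simp only; omega) hf
  exact (congrArg Fin.val (congrFun this t)).symm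

lemma emb_A0c (r : Fin d) (hC : (A0 r)ᶜ.card = d - r.val) (u : Fin (d - r.val)) :
    ((A0 r)ᶜ.orderEmbOfFin hC u).val = u.val + r.val + 1 := by
  have hlt : ∀ u : Fin (d - r.val), u.val + r.val + 1 < d + 1 := fun u => by
    have := u.isLt; have := r.isLt; omega
  have hf : StrictMono (fun u : Fin (d - r.val) => (⟨u.val + r.val + 1, hlt u⟩ : Fin (d + 1))) :=
    fun a b hab => Fin.mk_lt_mk.mpr (by have : a.val < b.val := hab; omega)
  have := Finset.orderEmbOfFin_unique hC
    (f := fun u : Fin (d - r.val) => (⟨u.val + r.val + 1, hlt u⟩ : Fin (d + 1)))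
    (fun x => by rw [Finset.mem_compl, mem_A0]; simp only; omega) hf
  exact (congrArg Fin.val (congrFun this u)).symm

lemma shuffleI_A0 (i j : Idx d n) (r : Fin d) (hA : (A0 r).card = r.val + 1) :
    shuffleI i j r (A0 r) hA = i.1 := by
  funext t
  unfold shuffleI
  split_ifs with ht
  · have hk : (A0 r).orderEmbOfFin hA ⟨t.val, by omega⟩ = ⟨t.val, by have := t.isLt; omega⟩ :=
      Fin.ext (emb_A0 r hA _)
    rw [hk, movingRows_le _ (by exact ht)]
  · rfl

lemma shuffleJ_A0 (i j : Idx d n) (r : Fin d) (hA : (A0 r).card = r.val + 1) :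
    shuffleJ i j r (A0 r) hA = j.1 := by
  funext t
  unfold shuffleJ
  split_ifs with ht
  · rfl
  · rw [movingRows_gt _ (by rw [emb_A0c]; simp only; omega)]
    refine congrArg j.1 (Fin.ext ?_)
    have := t.isLt
    simp only
    rw [emb_A0c]
    simp only
    omega

lemma shuffleTerm_A0 (i j : Idx d n) (r : Fin d) :
    shuffleTerm K i j r (A0 r) = X i * X j ∨ shuffleTerm K i j r (A0 r) = -(X i * X j) := by
  unfold shuffleTerm
  rw [dif_pos (A0_card r), shuffleI_A0, shuffleJ_A0, coord_idx, coord_idx]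
  rcases neg_one_pow_eq_or (PlRing K d n) (shuffleSign r (A0 r)) with h | h
  · left; rw [h]; ring
  · right; rw [h]; ring

lemma shuffleI_ge {i j : Idx d n} {r : Fin d} (h : i.1 r < j.1 r) (A : Finset (Fin (d + 1)))
    (hA : A.card = r.val + 1) (t : Fin d) :
    i.1 t ≤ shuffleI i j r A hA t := by
  unfold shuffleI
  split_ifs with ht
  · have hle : (⟨t.val, by have := t.isLt; omega⟩ : Fin (d + 1)) ≤ A.orderEmbOfFin hA ⟨t.val, by omega⟩ := by
      rw [Fin.le_def]
      exact val_le_of_strictMono _ (A.orderEmbOfFin hA).strictMono ⟨t.val, by omega⟩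
    have := (movingRows_strictMono h).monotone hle
    rw [movingRows_le _ (by exact ht)] at this
    exact this
  · exact le_rfl

lemma shuffleI_ssum_gt {i j : Idx d n} {r : Fin d} (h : i.1 r < j.1 r) (A : Finset (Fin (d + 1)))
    (hA : A.card = r.val + 1) (hne : A ≠ A0 r) :
    ssum i.1 < ssum (shuffleI i j r A hA) := by
  have hex : ∃ t : Fin (r.val + 1), t.val < (A.orderEmbOfFin hA t).val := by
    by_contra hcon
    push Not at hcon
    apply hne
    have heq : ∀ t : Fin (r.val + 1), (A.orderEmbOfFin hA t).val = t.val := fun t =>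
      le_antisymm (hcon t) (val_le_of_strictMono _ (A.orderEmbOfFin hA).strictMono t)
    ext k
    rw [mem_A0]
    constructor
    · intro hk
      have hk' : k ∈ Set.range (A.orderEmbOfFin hA) := by
        rw [Finset.range_orderEmbOfFin]; exact hk
      obtain ⟨t, rfl⟩ := hk'
      rw [heq t]; have := t.isLt; omega
    · intro hk
      have : A.orderEmbOfFin hA ⟨k.val, by omega⟩ = k := Fin.ext (heq ⟨k.val, by omega⟩)
      rw [← this]; exact Finset.orderEmbOfFin_mem A hA _
  obtain ⟨t0, ht0⟩ := hex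
  have r_lt := r.isLt
  have t0_lt := t0.isLt
  unfold ssum
  apply Finset.sum_lt_sum
  · intro t _; exact Fin.le_def.mp (shuffleI_ge h A hA t)
  · refine ⟨⟨t0.val, by omega⟩, Finset.mem_univ _, ?_⟩
    have ht : t0.val ≤ r.val := by omega
    have hlt : (⟨t0.val, by omega⟩ : Fin (d + 1)) < A.orderEmbOfFin hA t0 := by
      rw [Fin.lt_def]; exact ht0
    have hm := movingRows_strictMono h hlt
    rw [movingRows_le _ (by exact ht)] at hm
    unfold shuffleI
    rw [dif_pos (by exact ht)]
    exact Fin.lt_def.mp hm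

/-- the span of the quadratic monomials whose first factor has bigger entry sum than `i` -/
def Gs (K : Type u) [CommRing K] (i : Idx d n) : Submodule K (PlRing K d n) :=
  Submodule.span K {f | ∃ α β : Idx d n, ssum i.1 < ssum α.1 ∧ f = X α * X β}

lemma shuffleTerm_mem (i j : Idx d n) (r : Fin d) (h : i.1 r < j.1 r) (A : Finset (Fin (d + 1)))
    (hne : A ≠ A0 r) : shuffleTerm K i j r A ∈ Gs K i := by
  unfold shuffleTerm
  split_ifs with hA
  · rcases coord_cases (K := K) (shuffleI i j r A hA) with h1 | ⟨α, h1, hα⟩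
    · rw [h1]; simp
    · rcases coord_cases (K := K) (shuffleJ i j r A hA) with h2 | ⟨β, h2, _⟩
      · rw [h2]; simp
      · have hgen : (X α * X β : PlRing K d n) ∈ Gs K i :=
          Submodule.subset_span ⟨α, β, by rw [hα]; exact shuffleI_ssum_gt h A hA hne, rfl⟩
        have hneg : -(X α * X β : PlRing K d n) ∈ Gs K i := Submodule.neg_mem _ hgen
        rcases neg_one_pow_eq_or (PlRing K d n) (shuffleSign r A) with h3 | h3 <;>
        rcases h1 with h1 | h1 <;> rcases h2 with h2 | h2 <;> rw [h3, h1, h2]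
        all_goals first | (convert hgen using 1; ring1) | (convert hneg using 1; ring1)
  · exact Submodule.zero_mem _

lemma key (i j : Idx d n) (r : Fin d) (hp : IsPivot i j r) :
    ∃ g ∈ Gs K i, X i * X j - g ∈ plIdealTop (d := d) (n := n) K := by
  have hrel : shuffleRel K i j r ∈ plIdealTop K := Ideal.subset_span ⟨i, j, r, hp, rfl⟩
  have hsplit : shuffleRel K i j r = shuffleTerm K i j r (A0 r) +
      ∑ A ∈ Finset.univ.erase (A0 r), shuffleTerm K i j r A := by
    unfold shuffleRel
    rw [Finset.add_sum_erase _ _ (Finset.mem_univ _)]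
  have hrest : ∑ A ∈ Finset.univ.erase (A0 r), shuffleTerm K i j r A ∈ Gs K i :=
    Submodule.sum_mem _ (fun A hA => shuffleTerm_mem i j r hp.2 A (Finset.ne_of_mem_erase hA))
  rcases shuffleTerm_A0 (K := K) i j r with h0 | h0
  · refine ⟨-(∑ A ∈ Finset.univ.erase (A0 r), shuffleTerm K i j r A), Submodule.neg_mem _ hrest, ?_⟩
    have : X i * X j - -(∑ A ∈ Finset.univ.erase (A0 r), shuffleTerm K i j r A) =
        shuffleRel K i j r := by
      rw [hsplit, h0]; ring
    rw [this]; exact hrel
  · refine ⟨∑ A ∈ Finset.univ.erase (A0 r), shuffleTerm K i j r A, hrest, ?_⟩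
    have : X i * X j - (∑ A ∈ Finset.univ.erase (A0 r), shuffleTerm K i j r A) =
        -shuffleRel K i j r := by
      rw [hsplit, h0]; ring
    rw [this]; exact (plIdealTop K).neg_mem hrel

lemma pivot_exists (i j : Idx d n) (h : ¬ j ≤ i) : ∃ r, IsPivot i j r := by
  have hex : ∃ t : ℕ, ∃ ht : t < d, i.1 ⟨t, ht⟩ < j.1 ⟨t, ht⟩ := by
    by_contra hcon
    apply h
    change ∀ t, j.1 t ≤ i.1 t
    intro t
    by_contra hlt
    exact hcon ⟨t.val, t.isLt, not_le.mp hlt⟩
  classical
  refine ⟨⟨Nat.find hex, (Nat.find_spec hex).1⟩, ?_, (Nat.find_spec hex).2⟩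
  intro t ht
  by_contra hlt
  exact Nat.find_min hex (show t.val < Nat.find hex from ht) ⟨t.isLt, not_le.mp hlt⟩

/-- span of the classes of the standard monomials of degree `m` -/
def Std (K : Type u) [CommRing K] (d n m : ℕ) : Submodule K (PlRing K d n ⧸ plIdealTop (d := d) (n := n) K) :=
  Submodule.span K (Set.range fun e : {e : Fin m → Idx d n // Antitone e} =>
    Ideal.Quotient.mk (plIdealTop K) (chainMon K e.1))

lemma mk_smul (a : K) (x : PlRing K d n) :
    Ideal.Quotient.mk (plIdealTop (d := d) (n := n) K) (a • x) =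
      a • Ideal.Quotient.mk (plIdealTop K) x :=
  map_smul (Ideal.Quotient.mkₐ K (plIdealTop K)) a x

lemma mul_mem_of_gen {m : ℕ} (α : Idx d n)
    (H : ∀ e : Fin m → Idx d n, Antitone e →
      Ideal.Quotient.mk (plIdealTop K) (X α * chainMon K e) ∈ Std K d n (m + 1))
    {y : PlRing K d n ⧸ plIdealTop (d := d) (n := n) K} (hy : y ∈ Std K d n m) :
    Ideal.Quotient.mk (plIdealTop K) (X α) * y ∈ Std K d n (m + 1) := by
  have : Std K d n m ≤ (Std K d n (m + 1)).comap
      (LinearMap.mulLeft K (Ideal.Quotient.mk (plIdealTop K) (X α))) := by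
    apply Submodule.span_le.mpr
    rintro _ ⟨e, rfl⟩
    simp only [SetLike.mem_coe, Submodule.mem_comap, LinearMap.mulLeft_apply]
    rw [← map_mul]
    exact H e.1 e.2
  exact this hy

lemma chainMon_cons {m : ℕ} (θ : Idx d n) (e : Fin m → Idx d n) :
    chainMon K (Fin.cons θ e : Fin (m + 1) → Idx d n) = X θ * chainMon K e := by
  unfold chainMon
  rw [Fin.prod_univ_succ]
  simp only [Fin.cons_zero, Fin.cons_succ]

lemma chainMon_head_tail {m : ℕ} (c : Fin (m + 1) → Idx d n) :
    chainMon K c = X (c 0) * chainMon K (Fin.tail c) := by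
  unfold chainMon
  rw [Fin.prod_univ_succ]
  rfl

lemma antitone_cons {m : ℕ} (θ : Idx d n) (e : Fin m → Idx d n) (he : Antitone e)
    (h0 : ∀ h : 0 < m, e ⟨0, h⟩ ≤ θ) : Antitone (Fin.cons θ e : Fin (m + 1) → Idx d n) := by
  rw [Fin.antitone_iff_succ_le]
  intro k
  rw [Fin.cons_succ]
  obtain ⟨k, hk⟩ := k
  cases k with
  | zero =>
    have : (Fin.castSucc ⟨0, hk⟩ : Fin (m + 1)) = 0 := rfl
    rw [this, Fin.cons_zero]; exact h0 hk
  | succ k' =>
    have : (Fin.castSucc ⟨k' + 1, hk⟩ : Fin (m + 1)) = Fin.succ ⟨k', by omega⟩ := rfl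
    rw [this, Fin.cons_succ]
    exact he (Fin.le_def.mpr (by simp))

theorem main (m : ℕ) : ∀ c : Fin m → Idx d n,
    Ideal.Quotient.mk (plIdealTop K) (chainMon K c) ∈ Std K d n m := by
  induction m with
  | zero =>
    intro c
    exact Submodule.subset_span ⟨⟨c, fun a => a.elim0⟩, rfl⟩
  | succ m ih =>
    have step : ∀ θ : Idx d n,
        (∀ α : Idx d n, ssum θ.1 < ssum α.1 → ∀ e : Fin m → Idx d n, Antitone e →
          Ideal.Quotient.mk (plIdealTop K) (X α * chainMon K e) ∈ Std K d n (m + 1)) →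
        ∀ e : Fin m → Idx d n, Antitone e →
          Ideal.Quotient.mk (plIdealTop K) (X θ * chainMon K e) ∈ Std K d n (m + 1) := by
      intro θ IH e he
      by_cases hcmp : ∀ h : 0 < m, e ⟨0, h⟩ ≤ θ
      · rw [← chainMon_cons]
        exact Submodule.subset_span ⟨⟨_, antitone_cons θ e he hcmp⟩, rfl⟩
      · push Not at hcmp
        obtain ⟨hm, hnle⟩ := hcmp
        obtain ⟨r, hp⟩ := pivot_exists θ (e ⟨0, hm⟩) hnle
        obtain ⟨g, hg, hgI⟩ := key (K := K) θ (e ⟨0, hm⟩) r hp
        obtain ⟨m', rfl⟩ : ∃ m', m = m' + 1 := ⟨m - 1, by omega⟩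
        have h1 : X θ * chainMon K e = (X θ * X (e 0)) * chainMon K (Fin.tail e) := by
          rw [chainMon_head_tail e]; ring
        have h2 : Ideal.Quotient.mk (plIdealTop K) (X θ * X (e 0)) =
            Ideal.Quotient.mk (plIdealTop K) g := Ideal.Quotient.eq.mpr hgI
        rw [h1, map_mul, h2]
        refine Submodule.span_induction (p := fun g _ => Ideal.Quotient.mk (plIdealTop K) g *
          Ideal.Quotient.mk (plIdealTop K) (chainMon K (Fin.tail e)) ∈ Std K d n (m' + 1 + 1))
          ?_ ?_ ?_ ?_ hg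
        · rintro _ ⟨α, β, hα, rfl⟩
          rw [map_mul, mul_assoc, ← map_mul (Ideal.Quotient.mk _) (X β)]
          apply mul_mem_of_gen α (IH α hα)
          rw [← chainMon_cons]
          exact ih _
        · simp
        · intro x y _ _ hx hy
          rw [map_add, add_mul]; exact Submodule.add_mem _ hx hy
        · intro a x _ hx
          rw [mk_smul, smul_mul_assoc]; exact Submodule.smul_mem _ a hx
    have inner : ∀ N : ℕ, ∀ θ : Idx d n, d * n ≤ ssum θ.1 + N → ∀ e : Fin m → Idx d n, Antitone e →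
        Ideal.Quotient.mk (plIdealTop K) (X θ * chainMon K e) ∈ Std K d n (m + 1) := by
      intro N
      induction N with
      | zero =>
        intro θ hθ
        apply step θ
        intro α hα
        exfalso; have := ssum_le α.1; omega
      | succ N ihN =>
        intro θ hθ
        apply step θ
        intro α hα
        exact ihN α (by omega)
    intro c
    rw [chainMon_head_tail, map_mul]
    exact mul_mem_of_gen (c 0) (inner (d * n) (c 0) (by omega)) (ih (Fin.tail c))

/-- Every monomial in the Plücker variables is a `chainMon`. -/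
lemma exists_chainMon_of_mem_closure {x : PlRing K d n}
    (hx : x ∈ Submonoid.closure (Set.range (X : Idx d n → PlRing K d n))) :
    ∃ (m : ℕ) (c : Fin m → Idx d n), x = chainMon K c := by
  refine Submonoid.closure_induction
    (motive := fun x _ => ∃ (m : ℕ) (c : Fin m → Idx d n), x = chainMon K c) ?_ ?_ ?_ hx
  · rintro _ ⟨θ, rfl⟩
    exact ⟨1, fun _ => θ, by simp [chainMon]⟩
  · exact ⟨0, Fin.elim0, by simp [chainMon]⟩
  · rintro x y _ _ ⟨m1, c1, rfl⟩ ⟨m2, c2, rfl⟩
    refine ⟨m1 + m2, Fin.append c1 c2, ?_⟩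
    unfold chainMon
    rw [Fin.prod_univ_add]
    simp

theorem span_std (K : Type u) [CommRing K] (d n : ℕ) :
    Submodule.span K (Set.range fun c : (Σ m : ℕ, {c : Fin m → Idx d n // Antitone c}) =>
        Ideal.Quotient.mk (plIdealTop (d := d) (n := n) K) (chainMon K c.2.1)) = ⊤ := by
  set S := Submodule.span K (Set.range fun c : (Σ m : ℕ, {c : Fin m → Idx d n // Antitone c}) =>
        Ideal.Quotient.mk (plIdealTop (d := d) (n := n) K) (chainMon K c.2.1)) with hS
  have hStd : ∀ m, Std K d n m ≤ S := by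
    intro m
    apply Submodule.span_mono
    rintro _ ⟨e, rfl⟩
    exact ⟨⟨m, e⟩, rfl⟩
  rw [eq_top_iff]
  rintro y -
  obtain ⟨f, rfl⟩ := Ideal.Quotient.mk_surjective y
  have hf : f ∈ Submodule.span K
      (Submonoid.closure (Set.range (X : Idx d n → PlRing K d n)) : Set (PlRing K d n)) := by
    rw [← Algebra.adjoin_eq_span, MvPolynomial.adjoin_range_X]; trivial
  have hle : Submodule.span K
      (Submonoid.closure (Set.range (X : Idx d n → PlRing K d n)) : Set (PlRing K d n)) ≤
      S.comap (Ideal.Quotient.mkₐ K (plIdealTop K)).toLinearMap := by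
    apply Submodule.span_le.mpr
    intro x hx
    obtain ⟨m, c, rfl⟩ := exists_chainMon_of_mem_closure hx
    exact hStd m (main m c)
  exact hle hf

end

end Groth.Agent.H85.Pl
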