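import Groth.Agent.H85.DetComb

/-!
# Torus weights and the shape of the quadratic straightening relations (helper85 library)
-/

set_option autoImplicit false
universe u
open W4bk4grassmannian MvPolynomial

namespace Groth.Agent.H85.Pl

noncomputable section

variable {d n : ℕ}

/-- torus weight of an index: the indicator of its set of rows -/
def wt (θ : Idx d n) : Fin n →₀ ℕ := ∑ t, Finsupp.single (θ.1 t) 1

/-- torus weight of a tuple of indices -/
def wtc {m : ℕ} (e : Fin m → Idx d n) : Fin n →₀ ℕ := ∑ j, wt (e j)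

/-- linear functionals on weights -/
def Lg (g : Fin n → ℕ) (k : Fin n →₀ ℕ) : ℕ := ∑ x, k x * g x

lemma Lg_add (g : Fin n → ℕ) (k k' : Fin n →₀ ℕ) : Lg g (k + k') = Lg g k + Lg g k' := by
  unfold Lg
  rw [← Finset.sum_add_distrib]
  apply Finset.sum_congr rfl
  intro x _
  rw [Finsupp.add_apply, add_mul]

lemma Lg_single (g : Fin n → ℕ) (y : Fin n) : Lg g (Finsupp.single y 1) = g y := by
  unfold Lg
  rw [Finset.sum_eq_single y]
  · rw [Finsupp.single_eq_same, one_mul]
  · intro x _ hx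
    rw [Finsupp.single_eq_of_ne (Ne.symm hx).symm, zero_mul]
  · intro h; exact absurd (Finset.mem_univ _) h

lemma Lg_sum {ι : Type*} (g : Fin n → ℕ) (s : Finset ι) (f : ι → Fin n →₀ ℕ) :
    Lg g (∑ i ∈ s, f i) = ∑ i ∈ s, Lg g (f i) := by
  classical
  induction s using Finset.induction_on with
  | empty =>
    simp only [Finset.sum_empty]
    unfold Lg
    simp
  | insert a s ha ih => rw [Finset.sum_insert ha, Finset.sum_insert ha, Lg_add, ih]

lemma Lg_wt (g : Fin n → ℕ) (θ : Idx d n) : Lg g (wt θ) = ∑ t, g (θ.1 t) := by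
  unfold wt
  rw [Lg_sum]
  exact Finset.sum_congr rfl (fun t _ => Lg_single g _)

lemma wt_injective : Function.Injective (wt (d := d) (n := n)) := by
  intro θ θ' h
  have hcnt : ∀ u, Det.cnt θ.1 u = Det.cnt θ'.1 u := by
    intro u
    have h1 := Lg_wt (fun x => if x.val < u then 1 else 0) θ
    have h2 := Lg_wt (fun x => if x.val < u then 1 else 0) θ'
    rw [h] at h1
    unfold Det.cnt
    rw [Finset.card_filter, Finset.card_filter, ← h1, ← h2]
  apply le_antisymm
  · rw [Det.idx_le_iff]; intro u; rw [hcnt u]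
  · rw [Det.idx_le_iff]; intro u; rw [hcnt u]

/-- the rank function: sum of the entries -/
lemma ssum_eq_Lg (θ : Idx d n) : ssum θ.1 = Lg (fun x => x.val) (wt θ) := by
  rw [Lg_wt]; rfl

lemma cnt_eq_Lg (θ : Idx d n) (u : ℕ) :
    Det.cnt θ.1 u = Lg (fun x => if x.val < u then 1 else 0) (wt θ) := by
  rw [Lg_wt]
  unfold Det.cnt
  rw [Finset.card_filter]

variable {K : Type u} [Field K]

lemma scale_det (A : Matrix (Fin n) (Fin d) K) (lam : Fin n → K) (θ : Idx d n) :
    ((Matrix.of fun s t => lam s * A s t).submatrix θ.1 id).det =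
      (∏ t, lam (θ.1 t)) * (A.submatrix θ.1 id).det := by
  rw [← Matrix.det_mul_column]
  rfl

lemma eval_monomial_wt (lam : Fin n → K) (θ : Idx d n) :
    MvPolynomial.eval lam (monomial (wt θ) (1 : K)) = ∏ t, lam (θ.1 t) := by
  unfold wt
  rw [monomial_sum_one, map_prod]
  apply Finset.prod_congr rfl
  intro t _
  rw [eval_monomial, Finsupp.prod_single_index (h := fun n e => lam n ^ e) (pow_zero _), pow_one, one_mul]

lemma eval_monomial_wtc (lam : Fin n → K) {m : ℕ} (e : Fin m → Idx d n) :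
    MvPolynomial.eval lam (monomial (wtc e) (1 : K)) = ∏ j, ∏ t, lam ((e j).1 t) := by
  unfold wtc
  rw [monomial_sum_one, map_prod]
  exact Finset.prod_congr rfl (fun j _ => eval_monomial_wt lam (e j))

lemma evalMinors_scale_chainMon (A : Matrix (Fin n) (Fin d) K) (lam : Fin n → K) {m : ℕ}
    (e : Fin m → Idx d n) :
    evalMinors K d n (Matrix.of fun s t => lam s * A s t) (chainMon K e) =
      MvPolynomial.eval lam (monomial (wtc e) (1 : K)) * evalMinors K d n A (chainMon K e) := by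
  rw [eval_monomial_wtc]
  unfold chainMon
  rw [map_prod, map_prod, ← Finset.prod_mul_distrib]
  apply Finset.prod_congr rfl
  intro j _
  rw [evalMinors_X, evalMinors_X, scale_det]

/-- **torus argument**: the part of a relation of the same torus weight as its first term is a relation -/
theorem torus_component [Infinite K] (w : Idx d n) {m₀ : ℕ} (e₀ : Fin m₀ → Idx d n)
    {ι : Type*} (s : Finset ι) (a : ι → K) (m : ι → ℕ) (e : ∀ i, Fin (m i) → Idx d n)
    (h : chainMon K e₀ - ∑ i ∈ s, a i • chainMon K (e i) ∈ schubertVanishing K d n w) :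
    chainMon K e₀ - ∑ i ∈ s.filter (fun i => wtc (e i) = wtc e₀), a i • chainMon K (e i) ∈
      schubertVanishing K d n w := by
  classical
  rw [mem_schubertVanishing_iff] at h ⊢
  intro A hA
  have hP : (monomial (wtc e₀) (evalMinors K d n A (chainMon K e₀)) -
      ∑ i ∈ s, monomial (wtc (e i)) (a i * evalMinors K d n A (chainMon K (e i))) :
        MvPolynomial (Fin n) K) = 0 := by
    apply MvPolynomial.funext
    intro lam
    rw [map_zero, map_sub, map_sum]
    have hA' : ∀ φ : Idx d n, ¬ φ ≤ w →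
        ((Matrix.of fun s t => lam s * A s t).submatrix φ.1 id).det = 0 := by
      intro φ hφ
      rw [scale_det, hA φ hφ, mul_zero]
    have h0 := h (Matrix.of fun s t => lam s * A s t) hA'
    rw [map_sub, map_sum] at h0
    rw [← h0]
    congr 1
    · rw [evalMinors_scale_chainMon, eval_monomial, eval_monomial, one_mul, mul_comm]
    · apply Finset.sum_congr rfl
      intro i _
      rw [map_smul, evalMinors_scale_chainMon, eval_monomial, eval_monomial, one_mul, smul_eq_mul]
      ring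
  have hc := congrArg (MvPolynomial.coeff (wtc e₀)) hP
  rw [coeff_sub, coeff_sum, coeff_zero, coeff_monomial, if_pos rfl] at hc
  rw [map_sub, map_sum, ← hc]
  congr 1
  rw [Finset.sum_filter]
  apply Finset.sum_congr rfl
  intro i _
  rw [coeff_monomial]
  split_ifs with hi
  · rw [map_smul, smul_eq_mul]
  · rfl

lemma chainMon_two (τ φ : Idx d n) : chainMon K (![τ, φ] : Fin 2 → Idx d n) = X τ * X φ := by
  unfold chainMon
  rw [Fin.prod_univ_two]
  rfl

lemma wtc_two (τ φ : Idx d n) : wtc (![τ, φ] : Fin 2 → Idx d n) = wt τ + wt φ := by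
  unfold wtc
  rw [Fin.sum_univ_two]
  rfl

lemma wtc_two' (e : Fin 2 → Idx d n) : wtc e = wt (e 0) + wt (e 1) := by
  unfold wtc
  rw [Fin.sum_univ_two]

lemma wt_sup_add_wt_inf (τ φ : Idx d n) :
    wt (W4bk4grassmannian.sup τ φ) + wt (W4bk4grassmannian.inf τ φ) = wt τ + wt φ := by
  unfold wt
  rw [← Finset.sum_add_distrib, ← Finset.sum_add_distrib]
  apply Finset.sum_congr rfl
  intro t _
  show Finsupp.single (max (τ.1 t) (φ.1 t)) 1 + Finsupp.single (min (τ.1 t) (φ.1 t)) 1 = _
  rcases le_total (τ.1 t) (φ.1 t) with h | h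
  · rw [max_eq_right h, min_eq_left h, add_comm]
  · rw [max_eq_left h, min_eq_right h]

lemma mexp_sup_add_mexp_inf (τ φ : Idx d n) :
    mexp (W4bk4grassmannian.sup τ φ) 1 + mexp (W4bk4grassmannian.inf τ φ) 1 = mexp τ 1 + mexp φ 1 := by
  unfold mexp
  rw [← Finset.sum_add_distrib, ← Finset.sum_add_distrib]
  apply Finset.sum_congr rfl
  intro t _
  show Finsupp.single (toLex (max (τ.1 t) (φ.1 t), t)) 1 +
    Finsupp.single (toLex (min (τ.1 t) (φ.1 t), t)) 1 =
    Finsupp.single (toLex (τ.1 t, t)) 1 + Finsupp.single (toLex (φ.1 t, t)) 1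
  rcases le_total (τ.1 t) (φ.1 t) with h | h
  · rw [max_eq_right h, min_eq_left h, add_comm]
  · rw [max_eq_left h, min_eq_right h]

lemma le_inf_of_wt {α β κ lam : Idx d n} (hwt : wt α + wt β = wt κ + wt lam) (hα : κ ≤ α) :
    β ≤ lam := by
  rw [Det.idx_le_iff]
  intro u
  have h1 := congrArg (Lg (fun x => if x.val < u then 1 else 0)) hwt
  rw [Lg_add, Lg_add, ← cnt_eq_Lg, ← cnt_eq_Lg, ← cnt_eq_Lg, ← cnt_eq_Lg] at h1
  have h2 := (Det.idx_le_iff κ α).mp hα u
  omega

lemma sup_le_of_le {τ φ α : Idx d n} (h1 : τ ≤ α) (h2 : φ ≤ α) : W4bk4grassmannian.sup τ φ ≤ α :=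
  fun t => max_le (h1 t) (h2 t)

lemma inf_le_sup (τ φ : Idx d n) : W4bk4grassmannian.inf τ φ ≤ W4bk4grassmannian.sup τ φ :=
  fun t => le_trans (min_le_left _ _) (le_max_left _ _)

lemma eq_of_fin_two {e e' : {e : Fin 2 → Idx d n // Antitone e}} (h0 : e.1 0 = e'.1 0)
    (h1 : e.1 1 = e'.1 1) : e = e' := by
  apply Subtype.ext
  funext k
  fin_cases k
  · exact h0
  · exact h1

/-- **the quadratic straightening relations**: shape of the terms -/
theorem quad_straighten [Infinite K] (hd : 0 < d) (w τ φ : Idx d n) :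
    ∃ (l : {e : Fin 2 → Idx d n // Antitone e} →₀ K),
      (X τ * X φ - ∑ e ∈ l.support, l e • chainMon K e.1 ∈ schubertVanishing K d n w) ∧
      ∀ e ∈ l.support, wtc e.1 = wt τ + wt φ ∧ e.1 0 ≤ w ∧ τ ≤ e.1 0 ∧ φ ≤ e.1 0 := by
  classical
  -- step A: straightening
  have hmain := main (K := K) 2 (![τ, φ] : Fin 2 → Idx d n)
  unfold Std at hmain
  obtain ⟨l₀, hl₀⟩ := Finsupp.mem_span_range_iff_exists_finsupp.mp hmain
  have hF₀ : chainMon K (![τ, φ] : Fin 2 → Idx d n) - ∑ e ∈ l₀.support, l₀ e • chainMon K e.1 ∈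
      schubertVanishing K d n w := by
    apply plIdealTop_le_schubertVanishing w
    rw [← Ideal.Quotient.eq, ← hl₀, Finsupp.sum, map_sum]
    apply Finset.sum_congr rfl
    intro e _
    exact (mk_smul _ _).symm
  -- step B: torus
  have hF₁ := torus_component w (![τ, φ] : Fin 2 → Idx d n) l₀.support (fun e => l₀ e)
    (fun _ => 2) (fun e => e.1) hF₀
  rw [wtc_two, chainMon_two] at hF₁
  -- step C: the filtered coefficients
  obtain ⟨l, hl⟩ : ∃ l, l = l₀.filter (fun e => wtc e.1 = wt τ + wt φ ∧ e.1 0 ≤ w) := ⟨_, rfl⟩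
  have hrel : X τ * X φ - ∑ e ∈ l.support, l e • chainMon K e.1 ∈ schubertVanishing K d n w := by
    rw [hl]
    have hsupp : (l₀.filter (fun e => wtc e.1 = wt τ + wt φ ∧ e.1 0 ≤ w)).support =
        (l₀.support.filter (fun e => wtc e.1 = wt τ + wt φ)).filter (fun e => e.1 0 ≤ w) := by
      rw [Finsupp.support_filter, Finset.filter_filter]
    rw [hsupp]
    have hsplit := Finset.sum_filter_add_sum_filter_not
      (l₀.support.filter (fun e => wtc e.1 = wt τ + wt φ)) (fun e => e.1 0 ≤ w)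
      (fun e => l₀ e • chainMon K e.1)
    have hbad : ∑ e ∈ (l₀.support.filter (fun e => wtc e.1 = wt τ + wt φ)).filter
        (fun e => ¬ e.1 0 ≤ w), l₀ e • chainMon K e.1 ∈ schubertVanishing K d n w := by
      apply Ideal.sum_mem
      intro e he
      rw [MvPolynomial.smul_eq_C_mul]
      apply Ideal.mul_mem_left
      exact chainMon_mem_of_X_mem _ e.1 0 (X_mem_schubertVanishing w _ (Finset.mem_filter.mp he).2)
    have hcong : ∑ e ∈ (l₀.support.filter (fun e => wtc e.1 = wt τ + wt φ)).filter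
        (fun e => e.1 0 ≤ w),
        (l₀.filter (fun e => wtc e.1 = wt τ + wt φ ∧ e.1 0 ≤ w)) e • chainMon K e.1 =
        ∑ e ∈ (l₀.support.filter (fun e => wtc e.1 = wt τ + wt φ)).filter (fun e => e.1 0 ≤ w),
          l₀ e • chainMon K e.1 := by
      apply Finset.sum_congr rfl
      intro e he
      rw [Finset.mem_filter, Finset.mem_filter] at he
      rw [Finsupp.filter_apply_pos _ _ ⟨he.1.2, he.2⟩]
    rw [hcong]
    have : X τ * X φ - ∑ e ∈ (l₀.support.filter (fun e => wtc e.1 = wt τ + wt φ)).filter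
        (fun e => e.1 0 ≤ w), l₀ e • chainMon K e.1 =
        (X τ * X φ - ∑ e ∈ l₀.support.filter (fun e => wtc e.1 = wt τ + wt φ), l₀ e • chainMon K e.1) +
        ∑ e ∈ (l₀.support.filter (fun e => wtc e.1 = wt τ + wt φ)).filter
          (fun e => ¬ e.1 0 ≤ w), l₀ e • chainMon K e.1 := by
      rw [← hsplit]; ring
    rw [this]
    exact Ideal.add_mem _ hF₁ hbad
  refine ⟨l, hrel, ?_⟩
  intro e₀ he₀
  have he₀' := he₀
  rw [hl, Finsupp.support_filter, Finset.mem_filter] at he₀
  obtain ⟨he₀s, he₀wt, he₀w⟩ := he₀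
  refine ⟨he₀wt, he₀w, ?_⟩
  -- step D
  by_contra hcon
  have hcon' : ¬ τ ≤ e₀.1 0 ∨ ¬ φ ≤ e₀.1 0 := not_and_or.mp hcon
  have hJ := schubertVanishing_anti (K := K) he₀w hrel
  have hXX : X τ * X φ ∈ schubertVanishing K d n (e₀.1 0) := by
    rcases hcon' with h | h
    · exact Ideal.mul_mem_right _ _ (X_mem_schubertVanishing (e₀.1 0) τ h)
    · exact Ideal.mul_mem_left _ _ (X_mem_schubertVanishing (e₀.1 0) φ h)
  have hG : ∑ e ∈ l.support, l e • chainMon K e.1 ∈ schubertVanishing K d n (e₀.1 0) := by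
    have := Ideal.sub_mem _ hXX hJ
    rwa [sub_sub_cancel] at this
  have hPhi := Phi_eq_zero_of_mem (e₀.1 0) hG
  rw [map_sum] at hPhi
  simp only [map_smul] at hPhi
  have hP : ∀ e ∈ l.support, Phi K (e₀.1 0) (chainMon K e.1) = 0 ∨
      (MonomialOrder.lex (σ := Var d n)).Monic (Phi K (e₀.1 0) (chainMon K e.1)) := by
    intro e _
    by_cases hc : ∀ k, e.1 k ≤ e₀.1 0
    · right; exact (Phi_chainMon_monic (e₀.1 0) _ hc).1
    · left; exact Phi_chainMon_zero (e₀.1 0) _ hc
  have hinj : ∀ e ∈ l.support, ∀ e' ∈ l.support,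
      (MonomialOrder.lex (σ := Var d n)).Monic (Phi K (e₀.1 0) (chainMon K e.1)) →
      (MonomialOrder.lex (σ := Var d n)).Monic (Phi K (e₀.1 0) (chainMon K e'.1)) →
      (MonomialOrder.lex (σ := Var d n)).degree (Phi K (e₀.1 0) (chainMon K e.1)) =
        (MonomialOrder.lex (σ := Var d n)).degree (Phi K (e₀.1 0) (chainMon K e'.1)) → e = e' := by
    intro e _ e' _ hm hm' hdeg
    have hc : ∀ k, e.1 k ≤ e₀.1 0 := by
      by_contra h
      rw [Phi_chainMon_zero (e₀.1 0) _ h] at hm
      exact hm.ne_zero rfl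
    have hc' : ∀ k, e'.1 k ≤ e₀.1 0 := by
      by_contra h
      rw [Phi_chainMon_zero (e₀.1 0) _ h] at hm'
      exact hm'.ne_zero rfl
    rw [(Phi_chainMon_monic (e₀.1 0) _ hc).2, (Phi_chainMon_monic (e₀.1 0) _ hc').2] at hdeg
    have := chain_eq_of_cexp_eq hd e.1 e'.1 e.2 e'.2 hdeg
    exact Subtype.ext (eq_of_heq (Sigma.mk.inj_iff.mp this).2)
  have hmon := (Phi_chainMon_monic (K := K) (e₀.1 0) e₀.1 (fun k => e₀.2 (Fin.zero_le k))).1
  have key := coeff_zero_of_monic_family (MonomialOrder.lex) l.support (fun e => l e)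
    (fun e => Phi K (e₀.1 0) (chainMon K e.1)) hP hinj hPhi e₀ he₀' hmon
  exact (Finsupp.mem_support_iff.mp he₀') key

/-- the quadratic straightening relations, with the leading term `X (τ ∨ φ) * X (τ ∧ φ)` -/
theorem quad_precise [Infinite K] (hd : 0 < d) (w τ φ : Idx d n)
    (hκ : W4bk4grassmannian.sup τ φ ≤ w) :
    ∃ (l : {e : Fin 2 → Idx d n // Antitone e} →₀ K),
      (X τ * X φ - X (W4bk4grassmannian.sup τ φ) * X (W4bk4grassmannian.inf τ φ) -
        ∑ e ∈ l.support, l e • chainMon K e.1 ∈ schubertVanishing K d n w) ∧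
      ∀ e ∈ l.support, wtc e.1 = wt τ + wt φ ∧ e.1 0 ≤ w ∧
        W4bk4grassmannian.sup τ φ < e.1 0 ∧ e.1 1 < W4bk4grassmannian.inf τ φ := by
  classical
  obtain ⟨l₁, hrel, hterms⟩ := quad_straighten (K := K) hd w τ φ
  have hanti : Antitone (![W4bk4grassmannian.sup τ φ, W4bk4grassmannian.inf τ φ] : Fin 2 → Idx d n) := by
    intro a b hab
    fin_cases a <;> fin_cases b
    · exact le_rfl
    · exact inf_le_sup τ φ
    · exact absurd hab (by decide)
    · exact le_rfl
  obtain ⟨eκ, heκ⟩ : ∃ eκ : {e : Fin 2 → Idx d n // Antitone e},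
      eκ = ⟨![W4bk4grassmannian.sup τ φ, W4bk4grassmannian.inf τ φ], hanti⟩ := ⟨_, rfl⟩
  have heκ0 : eκ.1 0 = W4bk4grassmannian.sup τ φ := by rw [heκ]; rfl
  have heκ1 : eκ.1 1 = W4bk4grassmannian.inf τ φ := by rw [heκ]; rfl
  -- the other terms
  have hother : ∀ e ∈ l₁.support, e ≠ eκ →
      W4bk4grassmannian.sup τ φ < e.1 0 ∧ e.1 1 < W4bk4grassmannian.inf τ φ := by
    intro e he hne
    obtain ⟨hwt, _, hτe, hφe⟩ := hterms e he
    have hκe : W4bk4grassmannian.sup τ φ ≤ e.1 0 := sup_le_of_le hτe hφe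
    have hwt' : wt (e.1 0) + wt (e.1 1) = wt (W4bk4grassmannian.sup τ φ) + wt (W4bk4grassmannian.inf τ φ) := by
      rw [← wtc_two', hwt, wt_sup_add_wt_inf]
    have hβ : e.1 1 ≤ W4bk4grassmannian.inf τ φ := le_inf_of_wt hwt' hκe
    constructor
    · apply lt_of_le_of_ne hκe
      intro h
      apply hne
      apply eq_of_fin_two
      · rw [heκ0, h]
      · rw [heκ1]
        apply wt_injective
        rw [← h] at hwt'
        exact add_left_cancel hwt'
    · apply lt_of_le_of_ne hβ
      intro h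
      apply hne
      apply eq_of_fin_two
      · rw [heκ0]
        apply wt_injective
        rw [h] at hwt'
        exact add_right_cancel hwt'
      · rw [heκ1, h]
  -- the coefficient of the leading term
  have ha₀ : l₁ eκ = 1 := by
    have hJ := schubertVanishing_anti (K := K) hκ hrel
    have hPhi := Phi_eq_zero_of_mem (W4bk4grassmannian.sup τ φ) hJ
    rw [map_sub, map_sum, sub_eq_zero] at hPhi
    rw [Finset.sum_eq_single eκ] at hPhi
    · rw [map_smul] at hPhi
      have hm1 := Phi_chainMon_monic (K := K) (W4bk4grassmannian.sup τ φ) (![τ, φ] : Fin 2 → Idx d n)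
        (Fin.forall_fin_two.mpr ⟨fun t => le_max_left _ _, fun t => le_max_right _ _⟩)
      have hm2 := Phi_chainMon_monic (K := K) (W4bk4grassmannian.sup τ φ) eκ.1
        (Fin.forall_fin_two.mpr ⟨le_of_eq heκ0, le_trans (le_of_eq heκ1) (inf_le_sup τ φ)⟩)
      rw [← chainMon_two] at hPhi
      have hdeg : cexp (![τ, φ] : Fin 2 → Idx d n) = cexp eκ.1 := by
        unfold cexp
        rw [Fin.sum_univ_two, Fin.sum_univ_two, heκ0, heκ1, mexp_sup_add_mexp_inf]
        rfl
      have hc := congrArg (MvPolynomial.coeff (cexp eκ.1)) hPhi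
      rw [coeff_smul, smul_eq_mul] at hc
      have h1 := hm1.1.coeff_degree
      rw [hm1.2, hdeg] at h1
      have h2 := hm2.1.coeff_degree
      rw [hm2.2] at h2
      rw [h1, h2, mul_one] at hc
      exact hc.symm
    · intro e he hne
      rw [map_smul]
      have := (hother e he hne).1
      rw [Phi_chainMon_zero, smul_zero]
      intro hall
      exact absurd (hall 0) (not_le_of_gt this)
    · intro hnot
      rw [Finsupp.notMem_support_iff.mp hnot, zero_smul, map_zero]
  have heκmem : eκ ∈ l₁.support := by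
    rw [Finsupp.mem_support_iff, ha₀]; exact one_ne_zero
  refine ⟨l₁.erase eκ, ?_, ?_⟩
  · rw [Finsupp.support_erase]
    have hsum : X (W4bk4grassmannian.sup τ φ) * X (W4bk4grassmannian.inf τ φ) +
        ∑ e ∈ l₁.support.erase eκ, (l₁.erase eκ) e • chainMon K e.1 =
        ∑ e ∈ l₁.support, l₁ e • chainMon K e.1 := by
      rw [← Finset.add_sum_erase _ _ heκmem, ha₀, one_smul]
      congr 1
      · rw [heκ]; exact (chainMon_two _ _).symm
      · apply Finset.sum_congr rfl
        intro e he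
        rw [Finsupp.erase_ne (Finset.ne_of_mem_erase he)]
    rw [sub_sub, hsum]
    exact hrel
  · intro e he
    rw [Finsupp.support_erase, Finset.mem_erase] at he
    obtain ⟨hwt, hw, _, _⟩ := hterms e he.2
    exact ⟨hwt, hw, hother e he.2 he.1⟩

end

end Groth.Agent.H85.Pl
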