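import Groth.Agent.H85.Rees
import Groth.Agent.H85.PlWeight
import Groth.Agent.H85.PlIndep

/-!
# Degenerations of the cone over a Schubert variety (helper85 library)

Stanley–Reisner and Hibi degenerations of `S/J(w)` via the abstract Rees construction of `Rees.lean`
and the shape of the quadratic straightening relations of `PlWeight.lean`.
-/

set_option autoImplicit false
universe u
open W4bk4grassmannian MvPolynomial

namespace Groth.Agent.H85.Pl

noncomputable section

variable {d n : ℕ}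

/-! ### arithmetic -/

lemma sq_id (A B E F : ℕ) (h : E + F = A + B) (hA : A ≤ E) (hB : B ≤ E) :
    E ^ 2 + F ^ 2 = A ^ 2 + B ^ 2 + 2 * ((E - A) * (E - B)) := by
  obtain ⟨p, rfl⟩ := Nat.exists_eq_add_of_le hA
  obtain ⟨q, hq⟩ := Nat.exists_eq_add_of_le hB
  have hB' : B = F + p := by omega
  have hA' : A = F + q := by omega
  subst hB'
  subst hA'
  have e1 : F + q + p - (F + q) = p := by omega
  have e2 : F + q + p - (F + p) = q := by omega
  rw [e1, e2]
  ring

lemma sq_le (A B E F : ℕ) (h : E + F = A + B) (hA : A ≤ E) (hB : B ≤ E) :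
    A ^ 2 + B ^ 2 ≤ E ^ 2 + F ^ 2 := by
  rw [sq_id A B E F h hA hB]
  exact Nat.le_add_right _ _

lemma sq_lt (A B E F : ℕ) (h : E + F = A + B) (hA : A < E) (hB : B < E) :
    A ^ 2 + B ^ 2 < E ^ 2 + F ^ 2 := by
  rw [sq_id A B E F h hA.le hB.le]
  have := Nat.mul_pos (Nat.sub_pos_of_lt hA) (Nat.sub_pos_of_lt hB)
  omega

lemma sub_add_sub_le (D a b e f : ℕ) (h : a + b ≤ e + f) (he : e ≤ D) (hf : f ≤ D) (ha : a ≤ D)
    (hb : b ≤ D) : (D - e) + (D - f) ≤ (D - a) + (D - b) := by omega

lemma sub_add_sub_lt (D a b e f : ℕ) (h : a + b < e + f) (he : e ≤ D) (hf : f ≤ D) (ha : a ≤ D)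
    (hb : b ≤ D) : (D - e) + (D - f) < (D - a) + (D - b) := by omega

/-! ### the two weights -/

lemma ssum_add_of_wt {α β τ φ : Idx d n} (hwt : wt α + wt β = wt τ + wt φ) :
    ssum α.1 + ssum β.1 = ssum τ.1 + ssum φ.1 := by
  have h1 := congrArg (Lg (fun x : Fin n => x.val)) hwt
  rw [Lg_add, Lg_add, ← ssum_eq_Lg, ← ssum_eq_Lg, ← ssum_eq_Lg, ← ssum_eq_Lg] at h1
  exact h1

lemma ssum_mono {a b : Idx d n} (h : a ≤ b) : ssum a.1 ≤ ssum b.1 := by
  unfold ssum
  exact Finset.sum_le_sum (fun t _ => Fin.le_iff_val_le_val.mp (h t))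

lemma ssum_lt_of_lt {a b : Idx d n} (h : a ≤ b) (hne : a ≠ b) : ssum a.1 < ssum b.1 := by
  unfold ssum
  apply Finset.sum_lt_sum (fun t _ => Fin.le_iff_val_le_val.mp (h t))
  by_contra hcon
  push Not at hcon
  apply hne
  apply Subtype.ext
  funext t
  apply le_antisymm (h t)
  exact Fin.le_iff_val_le_val.mpr (hcon t (Finset.mem_univ t))

/-- the Stanley–Reisner weight -/
def rho (θ : Idx d n) : ℕ := (d * n) ^ 2 - (ssum θ.1) ^ 2

lemma ssum_sq_le (θ : Idx d n) : (ssum θ.1) ^ 2 ≤ (d * n) ^ 2 :=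
  Nat.pow_le_pow_left (ssum_le θ.1) 2

lemma rho_le {τ φ α β : Idx d n} (hwt : wt α + wt β = wt τ + wt φ) (ha : τ ≤ α) (hb : φ ≤ α) :
    rho α + rho β ≤ rho τ + rho φ := by
  have h1 := sq_le _ _ _ _ (ssum_add_of_wt hwt) (ssum_mono ha) (ssum_mono hb)
  exact sub_add_sub_le _ _ _ _ _ h1 (ssum_sq_le α) (ssum_sq_le β) (ssum_sq_le τ) (ssum_sq_le φ)

lemma rho_lt {τ φ α β : Idx d n} (hwt : wt α + wt β = wt τ + wt φ) (ha : τ ≤ α) (hb : φ ≤ α)
    (hab : ¬ τ ≤ φ) (hba : ¬ φ ≤ τ) : rho α + rho β < rho τ + rho φ := by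
  have hτ : τ ≠ α := fun h => hba (by rw [h]; exact hb)
  have hφ : φ ≠ α := fun h => hab (by rw [h]; exact ha)
  have h1 := sq_lt _ _ _ _ (ssum_add_of_wt hwt) (ssum_lt_of_lt ha hτ) (ssum_lt_of_lt hb hφ)
  exact sub_add_sub_lt _ _ _ _ _ h1 (ssum_sq_le α) (ssum_sq_le β) (ssum_sq_le τ) (ssum_sq_le φ)

lemma cnt_add_of_wt {α β τ φ : Idx d n} (hwt : wt α + wt β = wt τ + wt φ) (u : ℕ) :
    Det.cnt α.1 u + Det.cnt β.1 u = Det.cnt τ.1 u + Det.cnt φ.1 u := by
  have h1 := congrArg (Lg (fun x : Fin n => if x.val < u then 1 else 0)) hwt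
  rw [Lg_add, Lg_add, ← cnt_eq_Lg, ← cnt_eq_Lg, ← cnt_eq_Lg, ← cnt_eq_Lg] at h1
  exact h1

lemma cnt_anti {a b : Idx d n} (h : a ≤ b) (u : ℕ) : Det.cnt b.1 u ≤ Det.cnt a.1 u :=
  (Det.idx_le_iff a b).mp h u

lemma cnt_eq_of_le (θ : Idx d n) {u : ℕ} (h : n ≤ u) : Det.cnt θ.1 u = d := by
  unfold Det.cnt
  rw [Finset.filter_true_of_mem (fun i _ => lt_of_lt_of_le (θ.1 i).isLt h), Finset.card_univ,
    Fintype.card_fin]

lemma cnt_sq_le (θ : Idx d n) (u : ℕ) : (Det.cnt θ.1 u) ^ 2 ≤ d ^ 2 :=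
  Nat.pow_le_pow_left (Det.cnt_le θ.1 u) 2

lemma cnt_sup (τ φ : Idx d n) (u : ℕ) :
    Det.cnt (W4bk4grassmannian.sup τ φ).1 u = min (Det.cnt τ.1 u) (Det.cnt φ.1 u) := by
  have h : ∀ t : Fin d, ((W4bk4grassmannian.sup τ φ).1 t).val < u ↔
      t.val < min (Det.cnt τ.1 u) (Det.cnt φ.1 u) := by
    intro t
    rw [lt_min_iff, ← Det.lt_iff_lt_cnt τ.1 τ.2 t u, ← Det.lt_iff_lt_cnt φ.1 φ.2 t u]
    show (max (τ.1 t) (φ.1 t)).val < u ↔ _
    rcases le_total (τ.1 t) (φ.1 t) with h | h
    · rw [max_eq_right h]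
      constructor
      · intro h1; exact ⟨lt_of_le_of_lt (Fin.le_iff_val_le_val.mp h) h1, h1⟩
      · intro h1; exact h1.2
    · rw [max_eq_left h]
      constructor
      · intro h1; exact ⟨h1, lt_of_le_of_lt (Fin.le_iff_val_le_val.mp h) h1⟩
      · intro h1; exact h1.1
  have h2 : Det.cnt (W4bk4grassmannian.sup τ φ).1 u =
      (Finset.univ.filter fun t : Fin d => t.val < min (Det.cnt τ.1 u) (Det.cnt φ.1 u)).card := by
    show (Finset.univ.filter fun t : Fin d => ((W4bk4grassmannian.sup τ φ).1 t).val < u).card = _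
    rw [Finset.filter_congr (fun t _ => h t)]
  rw [h2, Fin.card_filter_val_lt]
  have := Det.cnt_le τ.1 u
  omega

/-- the Hibi weight -/
def hw (θ : Idx d n) : ℕ := ∑ u ∈ Finset.range (n + 1), (d ^ 2 - (Det.cnt θ.1 u) ^ 2)

lemma hw_term_le {τ φ α β : Idx d n} (hwt : wt α + wt β = wt τ + wt φ) (ha : τ ≤ α) (hb : φ ≤ α)
    (u : ℕ) :
    (d ^ 2 - (Det.cnt α.1 u) ^ 2) + (d ^ 2 - (Det.cnt β.1 u) ^ 2) ≤
      (d ^ 2 - (Det.cnt τ.1 u) ^ 2) + (d ^ 2 - (Det.cnt φ.1 u) ^ 2) := by
  have h0 := cnt_add_of_wt hwt u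
  have h1 := cnt_anti ha u
  have h2 := cnt_anti hb u
  have h3 := sq_le (Det.cnt τ.1 u) (Det.cnt φ.1 u) (Det.cnt β.1 u) (Det.cnt α.1 u)
    (by omega) (by omega) (by omega)
  exact sub_add_sub_le (d ^ 2) _ _ _ _ (le_of_le_of_eq h3 (Nat.add_comm _ _))
    (cnt_sq_le α u) (cnt_sq_le β u) (cnt_sq_le τ u) (cnt_sq_le φ u)

lemma hw_le {τ φ α β : Idx d n} (hwt : wt α + wt β = wt τ + wt φ) (ha : τ ≤ α) (hb : φ ≤ α) :
    hw α + hw β ≤ hw τ + hw φ := by
  unfold hw
  rw [← Finset.sum_add_distrib, ← Finset.sum_add_distrib]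
  exact Finset.sum_le_sum (fun u _ => hw_term_le hwt ha hb u)

lemma hw_lt {τ φ κ α β : Idx d n} (hwt : wt α + wt β = wt τ + wt φ) (hτκ : τ ≤ κ) (hφκ : φ ≤ κ)
    (hκ : κ ≤ α) (hne : ¬ α ≤ κ) : hw α + hw β < hw τ + hw φ := by
  have ha : τ ≤ α := le_trans hτκ hκ
  have hb : φ ≤ α := le_trans hφκ hκ
  rw [Det.idx_le_iff] at hne
  push Not at hne
  obtain ⟨u, hu⟩ := hne
  have hun : u < n + 1 := by
    by_contra hcon
    push Not at hcon
    have e1 := cnt_eq_of_le α (show n ≤ u by omega)
    have e2 := Det.cnt_le κ.1 u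
    omega
  unfold hw
  rw [← Finset.sum_add_distrib, ← Finset.sum_add_distrib]
  apply Finset.sum_lt_sum (fun u _ => hw_term_le hwt ha hb u)
  refine ⟨u, Finset.mem_range.mpr hun, ?_⟩
  have h0 := cnt_add_of_wt hwt u
  have h1 := cnt_anti hτκ u
  have h2 := cnt_anti hφκ u
  have h3 := sq_lt (Det.cnt τ.1 u) (Det.cnt φ.1 u) (Det.cnt β.1 u) (Det.cnt α.1 u)
    (by omega) (by omega) (by omega)
  exact sub_add_sub_lt (d ^ 2) _ _ _ _ (lt_of_lt_of_eq h3 (Nat.add_comm _ _))
    (cnt_sq_le α u) (cnt_sq_le β u) (cnt_sq_le τ u) (cnt_sq_le φ u)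

lemma le_sup_left' (τ φ : Idx d n) : τ ≤ W4bk4grassmannian.sup τ φ := fun _ => le_max_left _ _

lemma le_sup_right' (τ φ : Idx d n) : φ ≤ W4bk4grassmannian.sup τ φ := fun _ => le_max_right _ _

lemma hw_mod (τ φ : Idx d n) :
    hw (W4bk4grassmannian.sup τ φ) + hw (W4bk4grassmannian.inf τ φ) = hw τ + hw φ := by
  unfold hw
  rw [← Finset.sum_add_distrib, ← Finset.sum_add_distrib]
  apply Finset.sum_congr rfl
  intro u _
  have h0 := cnt_add_of_wt (wt_sup_add_wt_inf τ φ) u
  have h1 := cnt_sup τ φ u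
  have h5 : (Det.cnt (W4bk4grassmannian.sup τ φ).1 u = Det.cnt τ.1 u ∧
        Det.cnt (W4bk4grassmannian.inf τ φ).1 u = Det.cnt φ.1 u) ∨
      (Det.cnt (W4bk4grassmannian.sup τ φ).1 u = Det.cnt φ.1 u ∧
        Det.cnt (W4bk4grassmannian.inf τ φ).1 u = Det.cnt τ.1 u) := by omega
  rcases h5 with ⟨e1, e2⟩ | ⟨e1, e2⟩
  · rw [e1, e2]
  · rw [e1, e2, Nat.add_comm]

/-! ### chains and multisets -/

/-- index type of the standard monomials on `X(w)` -/
abbrev CC (w : Idx d n) : Type :=
  Σ m : ℕ, {c : Fin m → Idx d n // Antitone c ∧ ∃ _i : Unit, ∀ k, c k ≤ w}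

lemma CC_le {w : Idx d n} (c : CC w) (k : Fin c.1) : c.2.1 k ≤ w := by
  obtain ⟨_, h⟩ := c.2.2.2
  exact h k

/-- the multiset of a chain -/
def chh {w : Idx d n} (c : CC w) : Multiset (Below w) :=
  Finset.univ.val.map (fun k => (⟨c.2.1 k, CC_le c k⟩ : Below w))

lemma sum_chh (w : Idx d n) (c : CC w) (f : Idx d n → ℕ) :
    ((chh c).map (fun h : Below w => f h.1)).sum = ∑ k, f (c.2.1 k) := by
  unfold chh
  rw [Multiset.map_map]
  rfl

lemma exists_sorted (w : Idx d n) : ∀ (m : ℕ) (s : Multiset (Below w)), Multiset.card s = m →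
    (∀ a ∈ s, ∀ b ∈ s, a ≤ b ∨ b ≤ a) →
    ∃ (c : Fin m → Idx d n) (_ : Antitone c) (hc : ∀ k, c k ≤ w),
      Finset.univ.val.map (fun k => (⟨c k, hc k⟩ : Below w)) = s := by
  intro m
  induction m with
  | zero =>
    intro s hs _
    rw [Multiset.card_eq_zero] at hs
    subst hs
    exact ⟨fun k => k.elim0, fun a => a.elim0, fun k => k.elim0, by simp⟩
  | succ m ih =>
    intro s hs hchain
    have hne : s.toFinset.Nonempty := by
      rw [Multiset.toFinset_nonempty]
      intro h0
      rw [h0] at hs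
      simp at hs
    obtain ⟨a, ha, hmax⟩ :=
      Finset.exists_max_image s.toFinset (fun b : Below w => ssum b.1.1) hne
    rw [Multiset.mem_toFinset] at ha
    have hle : ∀ b ∈ s, b ≤ a := by
      intro b hb
      rcases hchain a ha b hb with h | h
      · by_cases hab : a = b
        · rw [hab]
        · exfalso
          have h1 : ssum a.1.1 < ssum b.1.1 :=
            ssum_lt_of_lt h (fun e => hab (Subtype.ext e))
          have h2 := hmax b (Multiset.mem_toFinset.mpr hb)
          omega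
      · exact h
    have hcard : Multiset.card (s.erase a) = m := by
      rw [Multiset.card_erase_of_mem ha, hs]
      rfl
    obtain ⟨c', hanti, hc', hmap⟩ := ih (s.erase a) hcard
      (fun x hx y hy => hchain x (Multiset.mem_of_mem_erase hx) y (Multiset.mem_of_mem_erase hy))
    have hc : ∀ k, (Fin.cons a.1 c' : Fin (m + 1) → Idx d n) k ≤ w := by
      intro k
      refine Fin.cases ?_ (fun j => ?_) k
      · exact a.2
      · exact hc' j
    refine ⟨Fin.cons a.1 c', ?_, hc, ?_⟩
    · apply antitone_cons a.1 c' hanti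
      intro h0
      have hmem : (⟨c' ⟨0, h0⟩, hc' ⟨0, h0⟩⟩ : Below w) ∈ s.erase a := by
        rw [← hmap]
        exact Multiset.mem_map_of_mem _ (Finset.mem_univ_val _)
      exact hle _ (Multiset.mem_of_mem_erase hmem)
    · rw [Fin.univ_val_map, List.ofFn_succ, ← Multiset.cons_coe, ← Fin.univ_val_map]
      rw [← Multiset.cons_erase ha, ← hmap]
      rfl

lemma exists_chain (w : Idx d n) (s : Multiset (Below w))
    (hs : ∀ a ∈ s, ∀ b ∈ s, a ≤ b ∨ b ≤ a) : ∃ c : CC w, chh c = s := by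
  obtain ⟨c, hanti, hc, hmap⟩ := exists_sorted w _ s rfl hs
  exact ⟨⟨_, ⟨c, ⟨hanti, ⟨(), hc⟩⟩⟩⟩, hmap⟩

variable {K : Type u} [Field K]

/-- the generators of `S/J(w)` -/
def xq (K : Type u) [Field K] (w : Idx d n) (h : Below w) :
    PlRing K d n ⧸ schubertVanishing K d n w :=
  Ideal.Quotient.mk _ (X h.1)

lemma prod_chh (w : Idx d n) (c : CC w) :
    ((chh c).map (xq K w)).prod =
      Ideal.Quotient.mk (schubertVanishing K d n w) (chainMon K c.2.1) := by
  unfold chh chainMon
  rw [Multiset.map_map, map_prod]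
  rfl

/-- the monomial of a multiset in the Plücker ring -/
def monP (K : Type u) [Field K] {w : Idx d n} (s : Multiset (Below w)) : PlRing K d n :=
  (s.map (fun h : Below w => (X h.1 : PlRing K d n))).prod

lemma monP_cons {w : Idx d n} (a : Below w) (s : Multiset (Below w)) :
    monP K (a ::ₘ s) = X a.1 * monP K s := by
  unfold monP
  rw [Multiset.map_cons, Multiset.prod_cons]

lemma prod_xq {w : Idx d n} (s : Multiset (Below w)) :
    (s.map (xq K w)).prod = Ideal.Quotient.mk (schubertVanishing K d n w) (monP K s) := by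
  unfold monP
  rw [map_multiset_prod, Multiset.map_map]
  rfl

lemma chainMon_two' (e : Fin 2 → Idx d n) : chainMon K e = X (e 0) * X (e 1) := by
  unfold chainMon
  rw [Fin.prod_univ_two]

lemma two_mem (w : Idx d n) (om : Idx d n → ℕ) (N : ℕ) (e : {e : Fin 2 → Idx d n // Antitone e})
    (h0 : e.1 0 ≤ w) (hlt : om (e.1 0) + om (e.1 1) < N) :
    Ideal.Quotient.mk (schubertVanishing K d n w) (chainMon K e.1) ∈ Submodule.span K
      ((fun c : CC w => ((chh c).map (xq K w)).prod) ''
        {c | ((chh c).map (fun h : Below w => om h.1)).sum < N}) := by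
  have hall : ∀ k : Fin 2, e.1 k ≤ w := fun k => le_trans (e.2 (Fin.zero_le k)) h0
  apply Submodule.subset_span
  refine ⟨⟨2, ⟨e.1, ⟨e.2, ⟨(), hall⟩⟩⟩⟩, ?_, prod_chh w _⟩
  rw [Set.mem_setOf_eq, sum_chh w _ om, Fin.sum_univ_two]
  exact hlt

section main

variable [Infinite K]

lemma li_app (hd : 0 < d) (w : Idx d n) :
    LinearIndependent K (fun c : CC w => ((chh c).map (xq K w)).prod) := by
  have key : ∀ I : Ideal (PlRing K d n), I = schubertVanishing K d n w →
      LinearIndependent K (fun c : CC w => Ideal.Quotient.mk I (chainMon K c.2.1)) →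
      LinearIndependent K (fun c : CC w =>
        Ideal.Quotient.mk (schubertVanishing K d n w) (chainMon K c.2.1)) := by
    intro I hI h
    subst hI
    exact h
  have h1 := key _ iInf_const (linearIndependent_std (K := K) hd (fun _ : Unit => w))
  have e : (fun c : CC w => ((chh c).map (xq K w)).prod) = fun c : CC w =>
      Ideal.Quotient.mk (schubertVanishing K d n w) (chainMon K c.2.1) := funext (prod_chh w)
  rw [e]
  exact h1

lemma span_app (w : Idx d n) :
    ⊤ ≤ Submodule.span K (Set.range fun c : CC w => ((chh c).map (xq K w)).prod) := by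
  have e : (fun c : CC w => ((chh c).map (xq K w)).prod) = fun c : CC w =>
      Ideal.Quotient.mk (schubertVanishing K d n w) (chainMon K c.2.1) := funext (prod_chh w)
  rw [e]
  have hbad : ∀ (m : ℕ) (c : Fin m → Idx d n), Antitone c →
      ¬ (∃ _i : Unit, ∀ k, c k ≤ w) → chainMon K c ∈ schubertVanishing K d n w := by
    intro m c _ hnot
    have hi : ¬ ∀ k, c k ≤ w := fun h => hnot ⟨(), h⟩
    push Not at hi
    obtain ⟨k, hk⟩ := hi
    exact chainMon_mem_of_X_mem _ c k (X_mem_schubertVanishing w (c k) hk)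
  have h := span_std_quot (schubertVanishing K d n w) (plIdealTop_le_schubertVanishing w)
    (fun m c => ∃ _i : Unit, ∀ k, c k ≤ w) hbad
  exact le_of_eq h.symm

theorem hW_app (hd : 0 < d) (w : Idx d n) (om : Idx d n → ℕ)
    (hWC : ∀ τ φ α β : Idx d n, wt α + wt β = wt τ + wt φ → τ ≤ α → φ ≤ α →
      om α + om β ≤ om τ + om φ) :
    Rees.HW K (xq K w) (fun h : Below w => om h.1) (chh (w := w)) := by
  have main : ∀ N : ℕ, ∀ s : Multiset (Below w),
      (s.map (fun h : Below w => rho h.1)).sum = N →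
      (s.map (xq K w)).prod ∈ Submodule.span K
        ((fun c : CC w => ((chh c).map (xq K w)).prod) ''
          {c | ((chh c).map (fun h : Below w => om h.1)).sum ≤
            (s.map (fun h : Below w => om h.1)).sum}) := by
    intro N
    induction N using Nat.strong_induction_on with
    | _ N ih =>
      intro s hN
      by_cases hchain : ∀ a ∈ s, ∀ b ∈ s, a ≤ b ∨ b ≤ a
      · obtain ⟨c, hc⟩ := exists_chain w s hchain
        apply Submodule.subset_span
        refine ⟨c, ?_, by simp only [hc]⟩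
        rw [Set.mem_setOf_eq, hc]
      · push Not at hchain
        obtain ⟨a, ha, b, hb, hab, hba⟩ := hchain
        have hne : b ≠ a := fun h => hab (by rw [h])
        have hb' : b ∈ s.erase a := (Multiset.mem_erase_of_ne hne).mpr hb
        obtain ⟨s', rfl⟩ : ∃ s', s = a ::ₘ b ::ₘ s' :=
          ⟨(s.erase a).erase b, by rw [Multiset.cons_erase hb', Multiset.cons_erase ha]⟩
        obtain ⟨l, hl1, hl2⟩ := quad_straighten (K := K) hd w a.1 b.1
        have hprod : (Multiset.map (xq K w) (a ::ₘ b ::ₘ s')).prod =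
            ∑ e ∈ l.support, l e • Ideal.Quotient.mk (schubertVanishing K d n w)
              (chainMon K e.1 * monP K s') := by
          rw [prod_xq, monP_cons, monP_cons, ← mul_assoc, map_mul,
            Ideal.Quotient.eq.mpr hl1, map_sum, Finset.sum_mul]
          apply Finset.sum_congr rfl
          intro e _
          rw [mk_smul', smul_mul_assoc, ← map_mul]
        rw [hprod]
        apply Submodule.sum_mem
        intro e he
        apply Submodule.smul_mem
        obtain ⟨hwt, h0, hae, hbe⟩ := hl2 e he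
        have h1 : e.1 1 ≤ w := le_trans (e.2 (Fin.zero_le 1)) h0
        rw [wtc_two'] at hwt
        have hmon : Ideal.Quotient.mk (schubertVanishing K d n w) (chainMon K e.1 * monP K s') =
            (Multiset.map (xq K w)
              ((⟨e.1 0, h0⟩ : Below w) ::ₘ (⟨e.1 1, h1⟩ : Below w) ::ₘ s')).prod := by
          rw [prod_xq, monP_cons, monP_cons, ← mul_assoc, chainMon_two']
        rw [hmon]
        have hlt : rho (e.1 0) + rho (e.1 1) < rho a.1 + rho b.1 :=
          rho_lt hwt hae hbe (fun h => hab h) (fun h => hba h)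
        have hN' : (Multiset.map (fun h : Below w => rho h.1)
            ((⟨e.1 0, h0⟩ : Below w) ::ₘ (⟨e.1 1, h1⟩ : Below w) ::ₘ s')).sum < N := by
          rw [← hN]
          simp only [Multiset.map_cons, Multiset.sum_cons]
          omega
        have hmem := ih _ hN' _ rfl
        refine Submodule.span_mono (Set.image_mono ?_) hmem
        intro c hc
        rw [Set.mem_setOf_eq] at hc ⊢
        refine le_trans hc ?_
        have := hWC a.1 b.1 (e.1 0) (e.1 1) hwt hae hbe
        simp only [Multiset.map_cons, Multiset.sum_cons]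
        omega
  intro s
  exact main _ s rfl

/-! ### the Stanley–Reisner degeneration -/

lemma sr_5a (w : Idx d n) (s : Multiset (Below w)) :
    ((s.map X).prod : MvPolynomial (Below w) K) ∈ Rees.TT K (chh (w := w)) (srIdeal K w) := by
  by_cases hchain : ∀ a ∈ s, ∀ b ∈ s, a ≤ b ∨ b ≤ a
  · obtain ⟨c, hc⟩ := exists_chain w s hchain
    apply Submodule.mem_sup_right
    apply Submodule.subset_span
    exact ⟨c, by simp only [hc]⟩
  · push Not at hchain
    obtain ⟨a, ha, b, hb, hab, hba⟩ := hchain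
    have hne : b ≠ a := fun h => hab (by rw [h])
    have hb' : b ∈ s.erase a := (Multiset.mem_erase_of_ne hne).mpr hb
    obtain ⟨s', rfl⟩ : ∃ s', s = a ::ₘ b ::ₘ s' :=
      ⟨(s.erase a).erase b, by rw [Multiset.cons_erase hb', Multiset.cons_erase ha]⟩
    apply Submodule.mem_sup_left
    rw [Submodule.restrictScalars_mem, Multiset.map_cons, Multiset.map_cons, Multiset.prod_cons,
      Multiset.prod_cons, ← mul_assoc]
    apply Ideal.mul_mem_right
    exact Ideal.subset_span ⟨a, b, hab, hba, rfl⟩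

lemma sr_5b (hd : 0 < d) (w : Idx d n) (g : MvPolynomial (Below w) K)
    (hg : g ∈ {f : MvPolynomial (Below w) K | ∃ a b : Below w, ¬ a ≤ b ∧ ¬ b ≤ a ∧ f = X a * X b}) :
    ∃ (N : ℕ) (y : PlRing K d n ⧸ schubertVanishing K d n w),
      y ∈ Submodule.span K ((fun c : CC w => ((chh c).map (xq K w)).prod) ''
        {c | ((chh c).map (fun h : Below w => rho h.1)).sum < N}) ∧
      MvPolynomial.aeval (fun h : Below w => Polynomial.monomial (rho h.1) (xq K w h)) g =
        Polynomial.monomial N y := by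
  obtain ⟨a, b, hab, hba, rfl⟩ := hg
  obtain ⟨l, hl1, hl2⟩ := quad_straighten (K := K) hd w a.1 b.1
  refine ⟨rho a.1 + rho b.1, xq K w a * xq K w b, ?_, ?_⟩
  · have e : xq K w a * xq K w b = ∑ e ∈ l.support,
        l e • Ideal.Quotient.mk (schubertVanishing K d n w) (chainMon K e.1) := by
      unfold xq
      rw [← map_mul, Ideal.Quotient.eq.mpr hl1, map_sum]
      apply Finset.sum_congr rfl
      intro e _
      rw [mk_smul']
    rw [e]
    apply Submodule.sum_mem
    intro e he
    apply Submodule.smul_mem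
    obtain ⟨hwt, h0, hae, hbe⟩ := hl2 e he
    rw [wtc_two'] at hwt
    exact two_mem w rho _ e h0 (rho_lt hwt hae hbe (fun h => hab h) (fun h => hba h))
  · rw [map_mul, aeval_X, aeval_X, Polynomial.monomial_mul_monomial]

theorem sr_degen (hd : 0 < d) (w : Idx d n) :
    ∃ (R : Type u) (_ : CommRing R) (_ : Algebra K R) (_ : Algebra (Polynomial K) R)
      (_ : IsScalarTower K (Polynomial K) R),
      Module.Free (Polynomial K) R ∧
      Nonempty ((R ⧸ Ideal.span {algebraMap (Polynomial K) R Polynomial.X}) ≃ₐ[K]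
        (MvPolynomial (Below w) K ⧸ srIdeal K w)) ∧
      ∀ c : K, c ≠ 0 →
        Nonempty ((R ⧸ Ideal.span {algebraMap (Polynomial K) R (Polynomial.X - Polynomial.C c)})
          ≃ₐ[K] (PlRing K d n ⧸ schubertVanishing K d n w)) :=
  Rees.rees K (xq K w) (fun h : Below w => rho h.1) (chh (w := w)) (li_app hd w) (span_app w)
    (hW_app hd w rho (fun _ _ _ _ hwt ha hb => rho_le hwt ha hb)) (srIdeal K w) _ rfl
    (sr_5a w) (sr_5b hd w)

/-! ### the Hibi degeneration -/

lemma hibi_5a (w : Idx d n) : ∀ s : Multiset (Below w),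
    ((s.map X).prod : MvPolynomial (Below w) K) ∈ Rees.TT K (chh (w := w)) (hibiIdeal K w) := by
  have main : ∀ N : ℕ, ∀ s : Multiset (Below w),
      (s.map (fun h : Below w => rho h.1)).sum = N →
      ((s.map X).prod : MvPolynomial (Below w) K) ∈
        Rees.TT K (chh (w := w)) (hibiIdeal K w) := by
    intro N
    induction N using Nat.strong_induction_on with
    | _ N ih =>
      intro s hN
      by_cases hchain : ∀ a ∈ s, ∀ b ∈ s, a ≤ b ∨ b ≤ a
      · obtain ⟨c, hc⟩ := exists_chain w s hchain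
        apply Submodule.mem_sup_right
        apply Submodule.subset_span
        exact ⟨c, by simp only [hc]⟩
      · push Not at hchain
        obtain ⟨a, ha, b, hb, hab, hba⟩ := hchain
        have hne : b ≠ a := fun h => hab (by rw [h])
        have hb' : b ∈ s.erase a := (Multiset.mem_erase_of_ne hne).mpr hb
        obtain ⟨s', rfl⟩ : ∃ s', s = a ::ₘ b ::ₘ s' :=
          ⟨(s.erase a).erase b, by rw [Multiset.cons_erase hb', Multiset.cons_erase ha]⟩
        have hsplit : ((Multiset.map X (a ::ₘ b ::ₘ s')).prod : MvPolynomial (Below w) K) =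
            (X a * X b - X (Below.sup a b) * X (Below.inf a b)) * (Multiset.map X s').prod +
            (Multiset.map X (Below.sup a b ::ₘ Below.inf a b ::ₘ s')).prod := by
          simp only [Multiset.map_cons, Multiset.prod_cons]
          ring
        rw [hsplit]
        apply Submodule.add_mem
        · apply Submodule.mem_sup_left
          rw [Submodule.restrictScalars_mem]
          apply Ideal.mul_mem_right
          exact Ideal.subset_span ⟨a, b, rfl⟩
        · apply ih _ ?_ _ rfl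
          rw [← hN]
          simp only [Multiset.map_cons, Multiset.sum_cons]
          have : rho (Below.sup a b).1 + rho (Below.inf a b).1 < rho a.1 + rho b.1 :=
            rho_lt (wt_sup_add_wt_inf a.1 b.1) (le_sup_left' a.1 b.1) (le_sup_right' a.1 b.1)
              (fun h => hab h) (fun h => hba h)
          omega
  intro s
  exact main _ s rfl

lemma hibi_5b (hd : 0 < d) (w : Idx d n) (g : MvPolynomial (Below w) K)
    (hg : g ∈ {f : MvPolynomial (Below w) K | ∃ a b : Below w,
      f = X a * X b - X (Below.sup a b) * X (Below.inf a b)}) :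
    ∃ (N : ℕ) (y : PlRing K d n ⧸ schubertVanishing K d n w),
      y ∈ Submodule.span K ((fun c : CC w => ((chh c).map (xq K w)).prod) ''
        {c | ((chh c).map (fun h : Below w => hw h.1)).sum < N}) ∧
      MvPolynomial.aeval (fun h : Below w => Polynomial.monomial (hw h.1) (xq K w h)) g =
        Polynomial.monomial N y := by
  obtain ⟨a, b, rfl⟩ := hg
  obtain ⟨l, hl1, hl2⟩ := quad_precise (K := K) hd w a.1 b.1 (Below.sup a b).2
  refine ⟨hw a.1 + hw b.1,
    xq K w a * xq K w b - xq K w (Below.sup a b) * xq K w (Below.inf a b), ?_, ?_⟩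
  · have h2 : Ideal.Quotient.mk (schubertVanishing K d n w)
        (X a.1 * X b.1 - X (Below.sup a b).1 * X (Below.inf a b).1) =
        Ideal.Quotient.mk (schubertVanishing K d n w)
          (∑ e ∈ l.support, l e • chainMon K e.1) := Ideal.Quotient.eq.mpr hl1
    have e : xq K w a * xq K w b - xq K w (Below.sup a b) * xq K w (Below.inf a b) =
        ∑ e ∈ l.support,
          l e • Ideal.Quotient.mk (schubertVanishing K d n w) (chainMon K e.1) := by
      unfold xq
      rw [← map_mul, ← map_mul, ← map_sub, h2, map_sum]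
      apply Finset.sum_congr rfl
      intro e _
      rw [mk_smul']
    rw [e]
    apply Submodule.sum_mem
    intro e he
    apply Submodule.smul_mem
    obtain ⟨hwt, h0, hsup, hinf⟩ := hl2 e he
    rw [wtc_two'] at hwt
    exact two_mem w hw _ e h0 (hw_lt hwt (le_sup_left' a.1 b.1) (le_sup_right' a.1 b.1) hsup.le
      (lt_iff_le_not_ge.mp hsup).2)
  · have hm : hw (Below.sup a b).1 + hw (Below.inf a b).1 = hw a.1 + hw b.1 := hw_mod a.1 b.1
    rw [map_sub, map_mul, map_mul, aeval_X, aeval_X, aeval_X, aeval_X,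
      Polynomial.monomial_mul_monomial, Polynomial.monomial_mul_monomial, hm, ← map_sub]

theorem hibi_degen (hd : 0 < d) (w : Idx d n) :
    ∃ (R : Type u) (_ : CommRing R) (_ : Algebra K R) (_ : Algebra (Polynomial K) R)
      (_ : IsScalarTower K (Polynomial K) R),
      Module.Free (Polynomial K) R ∧
      Nonempty ((R ⧸ Ideal.span {algebraMap (Polynomial K) R Polynomial.X}) ≃ₐ[K]
        (MvPolynomial (Below w) K ⧸ hibiIdeal K w)) ∧
      ∀ c : K, c ≠ 0 →
        Nonempty ((R ⧸ Ideal.span {algebraMap (Polynomial K) R (Polynomial.X - Polynomial.C c)})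
          ≃ₐ[K] (PlRing K d n ⧸ schubertVanishing K d n w)) :=
  Rees.rees K (xq K w) (fun h : Below w => hw h.1) (chh (w := w)) (li_app hd w) (span_app w)
    (hW_app hd w hw (fun _ _ _ _ hwt ha hb => hw_le hwt ha hb)) (hibiIdeal K w) _ rfl
    (hibi_5a w) (hibi_5b hd w)

end main

end

end Groth.Agent.H85.Pl
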