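import Groth.Agent.H85.PlNormal
import Groth.Agent.S11254
import Groth.Agent.S11268

/-!
# Schubert divisors and primality of the class of `X_τ` on the Schubert cone `X(τ)`

* (B) combinatorics of `divisors τ`: `divisors τ` is a subsingleton iff `τ` has the shape
  `0, 1, …, s-1` followed by a single run of consecutive values.
* (A) `Prime (mk (X τ)) ↔ (divisors τ).Subsingleton`, from `J(τ) + (X_τ) = ⋂ J(φ)` (S11254),
  primality of the `J(φ)` and the existence of divisors (S11268).
-/

universe u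

open W4bk4grassmannian MvPolynomial

namespace Groth.Agent.H85.Pl

section comb

variable {d n : ℕ}

lemma codeg_add (w : Idx d n) : codeg w + ∑ t : Fin d, t.val = ssum w.1 := by
  unfold codeg ssum
  rw [← Finset.sum_add_distrib]
  apply Finset.sum_congr rfl
  intro t _
  have := val_le_of_strictMono w.1 w.2 t
  omega

lemma divisor_ssum {φ τ : Idx d n} (h : φ ∈ divisors τ) : ssum φ.1 + 1 = ssum τ.1 := by
  have h1 := codeg_add φ
  have h2 := codeg_add τ
  have h3 : codeg φ + 1 = codeg τ := h.2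
  omega

lemma divisors_incomparable {φ₁ φ₂ τ : Idx d n} (h1 : φ₁ ∈ divisors τ) (h2 : φ₂ ∈ divisors τ)
    (hne : φ₁ ≠ φ₂) : ¬ φ₁ ≤ φ₂ := by
  intro hle
  have e0 := ssum_lt_of_lt hle hne
  have e1 := divisor_ssum h1
  have e2 := divisor_ssum h2
  omega

lemma divisor_eq_off {φ τ : Idx d n} (h : φ ∈ divisors τ) (t₁ : Fin d) (h1 : φ.1 t₁ ≠ τ.1 t₁) :
    (φ.1 t₁).val + 1 = (τ.1 t₁).val ∧ ∀ t, t ≠ t₁ → φ.1 t = τ.1 t := by
  have hs := divisor_ssum h
  have hle : ∀ t, (φ.1 t).val ≤ (τ.1 t).val := fun t => Fin.le_iff_val_le_val.mp (h.1.le t)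
  unfold ssum at hs
  have e1 := Finset.add_sum_erase Finset.univ (fun k => ((φ.1 k : Fin n) : ℕ)) (Finset.mem_univ t₁)
  have e2 := Finset.add_sum_erase Finset.univ (fun k => ((τ.1 k : Fin n) : ℕ)) (Finset.mem_univ t₁)
  have e3 : ∑ x ∈ Finset.univ.erase t₁, ((φ.1 x : Fin n) : ℕ) ≤
      ∑ x ∈ Finset.univ.erase t₁, ((τ.1 x : Fin n) : ℕ) :=
    Finset.sum_le_sum (fun x _ => hle x)
  have h1' : (φ.1 t₁).val ≠ (τ.1 t₁).val := fun e => h1 (Fin.ext e)
  have hle1 := hle t₁
  constructor
  · omega
  · intro t ht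
    by_contra hne
    have hlt : (φ.1 t).val < (τ.1 t).val :=
      lt_of_le_of_ne (hle t) (fun e => hne (Fin.ext e))
    have e4 : ∑ x ∈ Finset.univ.erase t₁, ((φ.1 x : Fin n) : ℕ) <
        ∑ x ∈ Finset.univ.erase t₁, ((τ.1 x : Fin n) : ℕ) :=
      Finset.sum_lt_sum (fun x _ => hle x)
        ⟨t, Finset.mem_erase.mpr ⟨ht, Finset.mem_univ _⟩, hlt⟩
    omega

lemma divisor_pos_of_shape (τ : Idx d n) (s : ℕ)
    (h1 : ∀ t : Fin d, t.val < s → (τ.1 t).val = t.val)
    (h2 : ∀ t t' : Fin d, s ≤ t.val → t.val + 1 = t'.val → (τ.1 t).val + 1 = (τ.1 t').val)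
    {φ : Idx d n} (hφ : φ ∈ divisors τ) (t₁ : Fin d) (hne : φ.1 t₁ ≠ τ.1 t₁) : t₁.val = s := by
  obtain ⟨e1, e2⟩ := divisor_eq_off hφ t₁ hne
  rcases lt_trichotomy t₁.val s with hlt | heq | hgt
  · exfalso
    have a1 := h1 t₁ hlt
    have a2 := val_le_of_strictMono φ.1 φ.2 t₁
    omega
  · exact heq
  · exfalso
    obtain ⟨t, ht⟩ : ∃ t : Fin d, t.val + 1 = t₁.val :=
      ⟨⟨t₁.val - 1, by have := t₁.isLt; omega⟩, by show t₁.val - 1 + 1 = t₁.val; omega⟩
    have htne : t ≠ t₁ := by
      intro e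
      rw [e] at ht
      omega
    have e3 := e2 t htne
    have e4 := h2 t t₁ (by omega) ht
    have hlt : φ.1 t < φ.1 t₁ := φ.2 (Fin.lt_def.mpr (by omega))
    rw [e3, Fin.lt_def] at hlt
    omega

lemma subsingleton_of_shape (τ : Idx d n) (s : ℕ)
    (h1 : ∀ t : Fin d, t.val < s → (τ.1 t).val = t.val)
    (h2 : ∀ t t' : Fin d, s ≤ t.val → t.val + 1 = t'.val → (τ.1 t).val + 1 = (τ.1 t').val) :
    (divisors τ).Subsingleton := by
  intro φ₁ hφ₁ φ₂ hφ₂
  have ex : ∀ φ : Idx d n, φ ∈ divisors τ → ∃ t, φ.1 t ≠ τ.1 t := by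
    intro φ hφ
    by_contra hcon
    push Not at hcon
    exact hφ.1.ne (Subtype.ext (funext hcon))
  obtain ⟨t₁, ht₁⟩ := ex φ₁ hφ₁
  obtain ⟨t₂, ht₂⟩ := ex φ₂ hφ₂
  have p1 := divisor_pos_of_shape τ s h1 h2 hφ₁ t₁ ht₁
  have p2 := divisor_pos_of_shape τ s h1 h2 hφ₂ t₂ ht₂
  have ht : t₂ = t₁ := Fin.ext (by omega)
  rw [ht] at ht₂
  obtain ⟨a1, a2⟩ := divisor_eq_off hφ₁ t₁ ht₁
  obtain ⟨b1, b2⟩ := divisor_eq_off hφ₂ t₁ ht₂
  apply Subtype.ext
  funext t
  by_cases htt : t = t₁
  · rw [htt]
    exact Fin.ext (by omega)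
  · rw [a2 t htt, b2 t htt]

/-- a position at which `τ` can be lowered by one -/
def Good (τ : Idx d n) (t : Fin d) : Prop :=
  0 < (τ.1 t).val ∧ ∀ a : Fin d, a < t → (τ.1 a).val + 1 < (τ.1 t).val

lemma exists_divisor_at (τ : Idx d n) (t₀ : Fin d) (hg : Good τ t₀) :
    ∃ φ ∈ divisors τ, φ.1 t₀ ≠ τ.1 t₀ := by
  obtain ⟨hpos, hgap⟩ := hg
  obtain ⟨v, hv⟩ : ∃ v : Fin n, v.val + 1 = (τ.1 t₀).val :=
    ⟨⟨(τ.1 t₀).val - 1, by have := (τ.1 t₀).isLt; omega⟩,
      by show (τ.1 t₀).val - 1 + 1 = (τ.1 t₀).val; omega⟩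
  have hmono : StrictMono (Function.update τ.1 t₀ v) := by
    intro a b hab
    by_cases hb : b = t₀
    · have ha : a ≠ t₀ := by
        intro e
        rw [e, hb] at hab
        exact lt_irrefl _ hab
      have hab' : a < t₀ := hb ▸ hab
      rw [hb, Function.update_self, Function.update_of_ne ha, Fin.lt_def]
      have := hgap a hab'
      omega
    · by_cases ha : a = t₀
      · have hab' : t₀ < b := ha ▸ hab
        rw [ha, Function.update_self, Function.update_of_ne hb, Fin.lt_def]
        have := Fin.lt_def.mp (τ.2 hab')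
        omega
      · rw [Function.update_of_ne ha, Function.update_of_ne hb]
        exact τ.2 hab
  refine ⟨⟨Function.update τ.1 t₀ v, hmono⟩, ⟨?_, ?_⟩, ?_⟩
  · apply lt_of_le_of_ne
    · intro t
      show Function.update τ.1 t₀ v t ≤ τ.1 t
      by_cases ht : t = t₀
      · rw [ht, Function.update_self, Fin.le_def]
        omega
      · rw [Function.update_of_ne ht]
    · intro e
      have e' : (Function.update τ.1 t₀ v t₀).val = (τ.1 t₀).val :=
        congrArg (fun f : Idx d n => (f.1 t₀).val) e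
      rw [Function.update_self] at e'
      omega
  · have h1 : codeg (⟨Function.update τ.1 t₀ v, hmono⟩ : Idx d n) + ∑ t : Fin d, t.val =
        ssum (Function.update τ.1 t₀ v) := codeg_add _
    have h2 := codeg_add τ
    have h3 := ssum_update τ.1 t₀ v
    omega
  · show Function.update τ.1 t₀ v t₀ ≠ τ.1 t₀
    rw [Function.update_self]
    intro e
    rw [e] at hv
    omega

lemma notGood_step (τ : Idx d n) (t : Fin d) (hng : ¬ Good τ t) :
    (t.val = 0 → (τ.1 t).val = 0) ∧
      ∀ t' : Fin d, t'.val + 1 = t.val → (τ.1 t').val + 1 = (τ.1 t).val := by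
  constructor
  · intro h0
    by_contra hne
    apply hng
    refine ⟨Nat.pos_of_ne_zero hne, ?_⟩
    intro a ha
    exfalso
    rw [Fin.lt_def] at ha
    omega
  · intro t' ht'
    have hlt : (τ.1 t').val < (τ.1 t).val :=
      Fin.lt_def.mp (τ.2 (Fin.lt_def.mpr (by omega)))
    by_contra hne
    apply hng
    refine ⟨by omega, ?_⟩
    intro a ha
    have hle : (τ.1 a).val ≤ (τ.1 t').val :=
      Fin.le_def.mp (τ.2.monotone (Fin.le_def.mpr (by rw [Fin.lt_def] at ha; omega)))
    omega

lemma good_unique (τ : Idx d n) (hs : (divisors τ).Subsingleton) (t₁ t₂ : Fin d)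
    (h1 : Good τ t₁) (h2 : Good τ t₂) : t₁ = t₂ := by
  by_contra hne
  obtain ⟨φ₁, hφ₁, e1⟩ := exists_divisor_at τ t₁ h1
  obtain ⟨φ₂, hφ₂, e2⟩ := exists_divisor_at τ t₂ h2
  have heq : φ₁ = φ₂ := hs hφ₁ hφ₂
  rw [heq] at e1
  exact e1 ((divisor_eq_off hφ₂ t₂ e2).2 t₁ hne)

lemma shape_of_subsingleton (τ : Idx d n) (hs : (divisors τ).Subsingleton) :
    ∃ s : ℕ, (∀ t : Fin d, t.val < s → (τ.1 t).val = t.val) ∧
      ∀ t t' : Fin d, s ≤ t.val → t.val + 1 = t'.val → (τ.1 t).val + 1 = (τ.1 t').val := by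
  have main : ∀ s : ℕ, (∀ t : Fin d, t.val ≠ s → ¬ Good τ t) →
      (∀ t : Fin d, t.val < s → (τ.1 t).val = t.val) ∧
      ∀ t t' : Fin d, s ≤ t.val → t.val + 1 = t'.val → (τ.1 t).val + 1 = (τ.1 t').val := by
    intro s hs'
    constructor
    · have aux : ∀ k : ℕ, ∀ t : Fin d, t.val = k → k < s → (τ.1 t).val = k := by
        intro k
        induction k with
        | zero =>
          intro t ht hlt
          exact (notGood_step τ t (hs' t (by omega))).1 ht
        | succ k ih =>
          intro t ht hlt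
          have ht' : k < d := by have := t.isLt; omega
          have e := (notGood_step τ t (hs' t (by omega))).2 ⟨k, ht'⟩
            (by show k + 1 = t.val; omega)
          have e' := ih ⟨k, ht'⟩ rfl (by omega)
          omega
      intro t hlt
      exact aux t.val t rfl hlt
    · intro t t' hst htt'
      exact (notGood_step τ t' (hs' t' (by omega))).2 t htt'
  by_cases hex : ∃ t₀, Good τ t₀
  · obtain ⟨t₀, h0⟩ := hex
    exact ⟨t₀.val, main t₀.val
      (fun t ht hg => ht (congrArg Fin.val (good_unique τ hs t t₀ hg h0)))⟩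
  · push Not at hex
    exact ⟨d, main d (fun t _ => hex t)⟩

end comb

section alg

variable {K : Type u} [Field K] [Infinite K] {d n : ℕ}

omit [Infinite K] in
lemma mk_mem_span_iff (τ : Idx d n) (g : PlRing K d n) :
    Ideal.Quotient.mk (schubertVanishing K d n τ) g ∈
        Ideal.span {Ideal.Quotient.mk (schubertVanishing K d n τ) (X τ)} ↔
      g ∈ schubertVanishing K d n τ ⊔ Ideal.span {(X τ : PlRing K d n)} := by
  constructor
  · intro h
    obtain ⟨a, ha⟩ := Ideal.mem_span_singleton'.mp h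
    obtain ⟨a', rfl⟩ := Ideal.Quotient.mk_surjective a
    rw [← map_mul, Ideal.Quotient.eq] at ha
    have : g = (a' * X τ) - (a' * X τ - g) := by ring
    rw [this]
    exact Ideal.sub_mem _
      (Ideal.mem_sup_right (Ideal.mul_mem_left _ _ (Ideal.subset_span rfl)))
      (Ideal.mem_sup_left ha)
  · intro h
    obtain ⟨j, hj, h', hh', rfl⟩ := Submodule.mem_sup.mp h
    obtain ⟨a, rfl⟩ := Ideal.mem_span_singleton'.mp hh'
    rw [map_add, Ideal.Quotient.eq_zero_iff_mem.mpr hj, zero_add, map_mul]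
    exact Ideal.mul_mem_left _ _ (Ideal.subset_span rfl)

lemma prime_mk_X_iff (τ : Idx d n) :
    Prime (Ideal.Quotient.mk (schubertVanishing K d n τ) (X τ)) ↔
      (schubertVanishing K d n τ ⊔ Ideal.span {(X τ : PlRing K d n)}).IsPrime := by
  have key := mk_mem_span_iff (K := K) τ
  constructor
  · intro hp
    rw [Ideal.isPrime_iff]
    constructor
    · intro htop
      have h1 : (1 : PlRing K d n) ∈
          schubertVanishing K d n τ ⊔ Ideal.span {(X τ : PlRing K d n)} := by
        rw [htop]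
        exact Submodule.mem_top
      rw [← key, Ideal.mem_span_singleton, map_one] at h1
      exact hp.not_isUnit (isUnit_of_dvd_one h1)
    · intro x y hxy
      rw [← key, Ideal.mem_span_singleton, map_mul] at hxy
      rcases hp.dvd_or_dvd hxy with h | h
      · left
        rw [← key, Ideal.mem_span_singleton]
        exact h
      · right
        rw [← key, Ideal.mem_span_singleton]
        exact h
  · intro hI
    refine ⟨?_, ?_, ?_⟩
    · intro h0
      exact X_notMem τ (Ideal.Quotient.eq_zero_iff_mem.mp h0)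
    · intro hu
      apply hI.ne_top
      rw [Ideal.eq_top_iff_one, ← key, map_one, Ideal.mem_span_singleton]
      exact hu.dvd
    · intro a b hab
      obtain ⟨a', rfl⟩ := Ideal.Quotient.mk_surjective a
      obtain ⟨b', rfl⟩ := Ideal.Quotient.mk_surjective b
      rw [← map_mul, ← Ideal.mem_span_singleton, key] at hab
      rcases hI.mem_or_mem hab with h | h
      · left
        rw [← Ideal.mem_span_singleton, key]
        exact h
      · right
        rw [← Ideal.mem_span_singleton, key]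
        exact h

omit [Infinite K] in
lemma sup_X_eq_ker_of_bot (hd : 0 < d) (τ : Idx d n) (hex : ∀ φ : Idx d n, ¬ φ < τ) :
    schubertVanishing K d n τ ⊔ Ideal.span {(X τ : PlRing K d n)} =
      RingHom.ker (MvPolynomial.constantCoeff : PlRing K d n →+* K) := by
  apply le_antisymm
  · apply sup_le
    · intro f hf
      rw [RingHom.mem_ker]
      have hz : ∀ θ : Idx d n,
          ((0 : Matrix (Fin n) (Fin d) K).submatrix θ.1 id).det = 0 := fun θ =>
        Matrix.det_eq_zero_of_row_eq_zero ⟨0, hd⟩ (fun j => rfl)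
      have h0 := (mem_schubertVanishing_iff τ f).mp hf 0 (fun φ _ => hz φ)
      have h1 : evalMinors K d n (0 : Matrix (Fin n) (Fin d) K) f =
          MvPolynomial.constantCoeff f := by
        unfold evalMinors
        have : (fun θ : Idx d n =>
            ((0 : Matrix (Fin n) (Fin d) K).submatrix θ.1 id).det) = 0 := funext hz
        rw [this, MvPolynomial.aeval_zero]
        rfl
      rw [← h1]
      exact h0
    · rw [Ideal.span_le, Set.singleton_subset_iff, SetLike.mem_coe, RingHom.mem_ker,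
        MvPolynomial.constantCoeff_X]
  · intro f hf
    rw [RingHom.mem_ker, MvPolynomial.constantCoeff_eq] at hf
    have hmem : f ∈ Ideal.span (X '' (Set.univ : Set (Idx d n))) := by
      rw [MvPolynomial.mem_ideal_span_X_image]
      intro m hm
      have hm0 : m ≠ 0 := by
        rintro rfl
        rw [MvPolynomial.mem_support_iff] at hm
        exact hm hf
      obtain ⟨i, hi⟩ := Finsupp.ne_iff.mp hm0
      exact ⟨i, Set.mem_univ _, by simpa using hi⟩
    refine (Ideal.span_le.mpr ?_) hmem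
    rintro _ ⟨φ, _, rfl⟩
    by_cases hφ : φ = τ
    · rw [hφ]
      exact Ideal.mem_sup_right (Ideal.subset_span rfl)
    · have : ¬ φ ≤ τ := fun hle => hex φ (lt_of_le_of_ne hle hφ)
      exact Ideal.mem_sup_left (X_mem_schubertVanishing τ φ this)

end alg

section main

variable {K : Type u} [Field K] [IsAlgClosed K] {d n : ℕ}

/-- **(2) ⇔ (3)**: `X_τ` is prime on the cone over `X(τ)` iff `X(τ)` has at most one Schubert
divisor. -/
theorem prime_iff_subsingleton (hd : 0 < d) (hdn : d < n) (τ : Idx d n) :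
    Prime (Ideal.Quotient.mk (schubertVanishing K d n τ) (X τ)) ↔
      (divisors τ).Subsingleton := by
  rw [prime_mk_X_iff]
  by_cases hex : ∃ φ : Idx d n, φ < τ
  · rw [Groth.Agent.S11254.result K d n hd hdn τ hex]
    obtain ⟨φ, hφ⟩ := hex
    obtain ⟨ψ, hψ, -⟩ := Groth.Agent.S11268.result d n φ τ hφ
    constructor
    · intro hprime φ₁ h₁ φ₂ h₂
      by_contra hne
      have hmem : (X φ₁ * X φ₂ : PlRing K d n) ∈
          ⨅ φ ∈ divisors τ, schubertVanishing K d n φ := by
        rw [Ideal.mem_iInf]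
        intro θ
        rw [Ideal.mem_iInf]
        intro hθ
        by_cases h1 : φ₁ ≤ θ
        · have h2 : ¬ φ₂ ≤ θ := by
            intro h2
            have e1 : φ₁ = θ := by
              by_contra hne1
              exact divisors_incomparable h₁ hθ hne1 h1
            have e2 : φ₂ = θ := by
              by_contra hne2
              exact divisors_incomparable h₂ hθ hne2 h2
            exact hne (e1.trans e2.symm)
          exact Ideal.mul_mem_left _ _ (X_mem_schubertVanishing θ φ₂ h2)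
        · exact Ideal.mul_mem_right _ _ (X_mem_schubertVanishing θ φ₁ h1)
      rcases hprime.mem_or_mem hmem with h | h
      · exact X_notMem φ₁ ((Ideal.mem_iInf.mp ((Ideal.mem_iInf.mp h) φ₁)) h₁)
      · exact X_notMem φ₂ ((Ideal.mem_iInf.mp ((Ideal.mem_iInf.mp h) φ₂)) h₂)
    · intro hsub
      have heq : (⨅ φ ∈ divisors τ, schubertVanishing K d n φ) =
          schubertVanishing K d n ψ := by
        apply le_antisymm
        · exact iInf₂_le ψ hψ
        · apply le_iInf₂
          intro θ hθ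
          rw [hsub hθ hψ]
      rw [heq]
      exact isPrime_schubertVanishing hd ψ
  · push Not at hex
    have hempty : divisors τ = ∅ := by
      ext φ
      constructor
      · intro h
        exact absurd h.1 (hex φ)
      · intro h
        exact absurd h (Set.notMem_empty _)
    constructor
    · intro _
      rw [hempty]
      exact Set.subsingleton_empty
    · intro _
      rw [sup_X_eq_ker_of_bot hd τ hex]
      exact RingHom.ker_isPrime _

end main

end Groth.Agent.H85.Pl
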