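import Groth.Agent.H85.PlCore

/-!
# The shuffle relations vanish on the minors of any matrix (helper85 library)
-/

set_option autoImplicit false
universe u
open W4bk4grassmannian MvPolynomial

namespace Groth.Agent.H85.Pl

noncomputable section

variable {K : Type u} [CommRing K] {d n : ℕ}

/-! ### sign of a permutation and inversions -/

lemma sign_eq_neg_one_pow (σ : Equiv.Perm (Fin d)) :
    ((Equiv.Perm.sign σ : ℤˣ) : ℤ) =
      (-1 : ℤ) ^ (Finset.univ.filter fun p : Fin d × Fin d => p.1 < p.2 ∧ σ p.2 < σ p.1).card := by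
  have h1 : ∀ i : Fin d, ∏ j ∈ Finset.Ioi i, (if σ i < σ j then (1 : ℤ) else -1)
      = ∏ j, (if i < j ∧ σ j < σ i then (-1 : ℤ) else 1) := by
    intro i
    rw [← Finset.filter_lt_eq_Ioi, Finset.prod_filter]
    refine Finset.prod_congr rfl (fun j _ => ?_)
    by_cases hij : i < j
    · have hne : σ i ≠ σ j := fun h => (ne_of_lt hij) (σ.injective h)
      by_cases hs : σ i < σ j
      · simp [hij, hs, not_lt.mpr hs.le]
      · have : σ j < σ i := lt_of_le_of_ne (not_lt.mp hs) (Ne.symm hne)
        simp [hij, hs, this]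
    · simp [hij]
  rw [Equiv.Perm.sign_eq_prod_prod_Ioi]
  simp only [Units.coe_prod, apply_ite (fun u : ℤˣ => (u : ℤ)), Units.val_one, Units.val_neg]
  simp_rw [h1]
  rw [← Finset.prod_product' (s := Finset.univ) (t := Finset.univ)
    (f := fun i j => if i < j ∧ σ j < σ i then (-1 : ℤ) else 1)]
  rw [Finset.univ_product_univ, Finset.prod_ite]
  simp

lemma evalMinors_X (A : Matrix (Fin n) (Fin d) K) (θ : Idx d n) :
    evalMinors K d n A (X θ) = (A.submatrix θ.1 id).det := by
  unfold evalMinors; rw [MvPolynomial.aeval_X]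

/-- the signed Plücker coordinate of a tuple evaluates to the determinant on these rows -/
lemma evalMinors_coord (A : Matrix (Fin n) (Fin d) K) (a : Fin d → Fin n) :
    evalMinors K d n A (coord K d n a) = (A.submatrix a id).det := by
  unfold coord
  split_ifs with h
  · have hinj := injective_of_image_card a h
    let σf : Fin d → Fin d := fun t =>
      ((Finset.univ.image a).orderIsoOfFin h).symm ⟨a t, by simp⟩
    have hσinj : Function.Injective σf := by
      intro x y hxy
      have := ((Finset.univ.image a).orderIsoOfFin h).symm.injective hxy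
      exact hinj (Subtype.mk.inj this)
    let σ : Equiv.Perm (Fin d) := Equiv.ofBijective σf (Finite.injective_iff_bijective.mp hσinj)
    have hσ : ∀ t, (Finset.univ.image a).orderEmbOfFin h (σ t) = a t := by
      intro t
      show (Finset.univ.image a).orderEmbOfFin h (σf t) = a t
      rw [← Finset.coe_orderIsoOfFin_apply]
      simp [σf]
    have hlt : ∀ p q, σ p < σ q ↔ a p < a q := by
      intro p q
      rw [← ((Finset.univ.image a).orderEmbOfFin h).lt_iff_lt, hσ, hσ]
    have hsub : A.submatrix a id = (A.submatrix (sortIdx d n a h).1 id).submatrix σ id := by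
      ext s c
      simp only [Matrix.submatrix_apply, id]
      show A (a s) c = A ((Finset.univ.image a).orderEmbOfFin h (σ s)) c
      rw [hσ s]
    rw [hsub, Matrix.det_permute, map_mul, map_pow, map_neg, map_one, evalMinors_X]
    congr 1
    rw [sign_eq_neg_one_pow σ]
    push_cast
    congr 1
    unfold invCount
    congr 1
    ext p
    simp only [Finset.mem_filter, Finset.mem_univ, true_and]
    rw [hlt]
  · rw [map_zero]
    have hninj : ¬ Function.Injective a := fun hi => h (image_card_of_injective a hi)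
    rw [Function.Injective] at hninj
    push Not at hninj
    obtain ⟨x, y, hxy, hne⟩ := hninj
    exact (Matrix.det_zero_of_row_eq hne (by ext c; simp [Matrix.submatrix_apply, hxy])).symm

/-! ### an abstract shuffle sum is alternating -/

section Alt

variable {V : Type*} [AddCommGroup V] [Module K V] {N p q : ℕ}

/-- sum of the elements of a finset of `Fin N` -/
def fsum (A : Finset (Fin N)) : ℕ := ∑ a ∈ A, a.val

lemma compl_card {A : Finset (Fin N)} (hpq : p + q = N) (hA : A.card = p) : Aᶜ.card = q := by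
  rw [Finset.card_compl, hA, Fintype.card_fin]; omega

/-- one term of the shuffle sum -/
def T (hpq : p + q = N) (D₁ : V [⋀^Fin p]→ₗ[K] K) (D₂ : V [⋀^Fin q]→ₗ[K] K)
    (A : Finset (Fin N)) (hA : A.card = p) (u : Fin N → V) : K :=
  D₁ (u ∘ A.orderEmbOfFin hA) * D₂ (u ∘ Aᶜ.orderEmbOfFin (compl_card hpq hA))

/-- the shuffle sum -/
def G (hpq : p + q = N) (D₁ : V [⋀^Fin p]→ₗ[K] K) (D₂ : V [⋀^Fin q]→ₗ[K] K)
    (u : Fin N → V) : K :=
  ∑ A : Finset (Fin N), if hA : A.card = p then (-1 : K) ^ fsum A * T hpq D₁ D₂ A hA u else 0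

lemma swap_val (s : Fin N) (hs : s.val + 1 < N) (x : Fin N) :
    ((Equiv.swap s ⟨s.val + 1, hs⟩ x : Fin N) : ℕ) =
      if x.val = s.val then s.val + 1 else if x.val = s.val + 1 then s.val else x.val := by
  rw [Equiv.swap_apply_def]
  by_cases h1 : x = s
  · subst h1; simp
  · have h1' : x.val ≠ s.val := fun h => h1 (Fin.ext h)
    rw [if_neg h1, if_neg h1']
    by_cases h2 : x = ⟨s.val + 1, hs⟩
    · subst h2; simp
    · have h2' : x.val ≠ s.val + 1 := fun h => h2 (Fin.ext h)
      rw [if_neg h2, if_neg h2']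

lemma emb_congr {B B' : Finset (Fin N)} {m : ℕ} (h : B = B') (hB : B.card = m) (hB' : B'.card = m) :
    B.orderEmbOfFin hB = B'.orderEmbOfFin hB' := by subst h; rfl

lemma exists_emb_eq {B : Finset (Fin N)} {m : ℕ} (hB : B.card = m) {x : Fin N} (hx : x ∈ B) :
    ∃ a, B.orderEmbOfFin hB a = x := by
  have : x ∈ Set.range (B.orderEmbOfFin hB) := by rw [Finset.range_orderEmbOfFin]; exact hx
  exact this

lemma emb_map_swap (s : Fin N) (hs : s.val + 1 < N) (B : Finset (Fin N)) {m : ℕ} (hB : B.card = m)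
    (hnot : ¬ (s ∈ B ∧ (⟨s.val + 1, hs⟩ : Fin N) ∈ B))
    (hB' : (B.map (Equiv.swap s ⟨s.val + 1, hs⟩).toEmbedding).card = m) :
    ⇑((B.map (Equiv.swap s ⟨s.val + 1, hs⟩).toEmbedding).orderEmbOfFin hB') =
      (Equiv.swap s ⟨s.val + 1, hs⟩) ∘ B.orderEmbOfFin hB := by
  symm
  apply Finset.orderEmbOfFin_unique hB'
  · intro x
    exact Finset.mem_map_of_mem _ (Finset.orderEmbOfFin_mem B hB x)
  · intro a b hab
    have hlt : B.orderEmbOfFin hB a < B.orderEmbOfFin hB b := (B.orderEmbOfFin hB).strictMono hab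
    have ha := Finset.orderEmbOfFin_mem B hB a
    have hb := Finset.orderEmbOfFin_mem B hB b
    rw [Fin.lt_def] at hlt ⊢
    simp only [Function.comp]
    rw [swap_val, swap_val]
    have hnb : ¬ ((B.orderEmbOfFin hB a).val = s.val ∧ (B.orderEmbOfFin hB b).val = s.val + 1) := by
      rintro ⟨h1, h2⟩
      apply hnot
      constructor
      · have : B.orderEmbOfFin hB a = s := Fin.ext h1
        rw [← this]; exact ha
      · have : B.orderEmbOfFin hB b = ⟨s.val + 1, hs⟩ := Fin.ext h2
        rw [← this]; exact hb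
    split_ifs <;> omega

lemma swap_comp_emb_of_both (s : Fin N) (hs : s.val + 1 < N) (B : Finset (Fin N)) {m : ℕ}
    (hB : B.card = m) (a a' : Fin m) (ha : B.orderEmbOfFin hB a = s)
    (ha' : B.orderEmbOfFin hB a' = ⟨s.val + 1, hs⟩) :
    (Equiv.swap s ⟨s.val + 1, hs⟩) ∘ B.orderEmbOfFin hB = B.orderEmbOfFin hB ∘ (Equiv.swap a a') := by
  funext t
  simp only [Function.comp]
  by_cases h1 : t = a
  · subst h1; rw [Equiv.swap_apply_left, ha, Equiv.swap_apply_left, ha']
  · by_cases h2 : t = a'
    · subst h2; rw [Equiv.swap_apply_right, ha', Equiv.swap_apply_right, ha]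
    · rw [Equiv.swap_apply_of_ne_of_ne h1 h2]
      apply Equiv.swap_apply_of_ne_of_ne
      · intro h; exact h1 ((B.orderEmbOfFin hB).injective (h.trans ha.symm))
      · intro h; exact h2 ((B.orderEmbOfFin hB).injective (h.trans ha'.symm))

lemma map_swap_eq_self_of_both (s : Fin N) (hs : s.val + 1 < N) (B : Finset (Fin N))
    (h : s ∈ B ↔ (⟨s.val + 1, hs⟩ : Fin N) ∈ B) :
    B.map (Equiv.swap s ⟨s.val + 1, hs⟩).toEmbedding = B := by
  ext x
  rw [Finset.mem_map_equiv, Equiv.symm_swap, Equiv.swap_apply_def]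
  by_cases h1 : x = s
  · subst h1; rw [if_pos rfl]; exact h.symm
  · rw [if_neg h1]
    by_cases h2 : x = ⟨s.val + 1, hs⟩
    · subst h2; rw [if_pos rfl]; exact h
    · rw [if_neg h2]

lemma alt_swap_emb {m : ℕ} (D : V [⋀^Fin m]→ₗ[K] K) (s : Fin N) (hs : s.val + 1 < N)
    (B : Finset (Fin N)) (hB : B.card = m)
    (hB' : (B.map (Equiv.swap s ⟨s.val + 1, hs⟩).toEmbedding).card = m) (u : Fin N → V) :
    D ((u ∘ (Equiv.swap s ⟨s.val + 1, hs⟩)) ∘ B.orderEmbOfFin hB) =
      (if s ∈ B ∧ (⟨s.val + 1, hs⟩ : Fin N) ∈ B then -1 else 1) *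
        D (u ∘ (B.map (Equiv.swap s ⟨s.val + 1, hs⟩).toEmbedding).orderEmbOfFin hB') := by
  by_cases hboth : s ∈ B ∧ (⟨s.val + 1, hs⟩ : Fin N) ∈ B
  · rw [if_pos hboth]
    obtain ⟨a, ha⟩ := exists_emb_eq hB hboth.1
    obtain ⟨a', ha'⟩ := exists_emb_eq hB hboth.2
    have hne : a ≠ a' := by
      intro h; rw [h, ha'] at ha
      have := congrArg Fin.val ha
      simp at this
    have hBB : B.map (Equiv.swap s ⟨s.val + 1, hs⟩).toEmbedding = B :=
      map_swap_eq_self_of_both s hs B ⟨fun _ => hboth.2, fun _ => hboth.1⟩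
    rw [emb_congr hBB hB' hB, Function.comp_assoc, swap_comp_emb_of_both s hs B hB a a' ha ha',
      ← Function.comp_assoc, D.map_swap _ hne]
    ring
  · rw [if_neg hboth, one_mul, emb_map_swap s hs B hB hboth hB', Function.comp_assoc]

lemma map_compl_equiv (e : Equiv.Perm (Fin N)) (A : Finset (Fin N)) :
    (A.map e.toEmbedding)ᶜ = Aᶜ.map e.toEmbedding := by
  ext x
  simp only [Finset.mem_compl, Finset.mem_map_equiv]

lemma neg_one_pow_fsum_map (s : Fin N) (hs : s.val + 1 < N) (A : Finset (Fin N)) :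
    (-1 : K) ^ fsum (A.map (Equiv.swap s ⟨s.val + 1, hs⟩).toEmbedding) =
      (if (s ∈ A ↔ (⟨s.val + 1, hs⟩ : Fin N) ∈ A) then 1 else -1) * (-1 : K) ^ fsum A := by
  by_cases h : (s ∈ A ↔ (⟨s.val + 1, hs⟩ : Fin N) ∈ A)
  · rw [if_pos h, one_mul, map_swap_eq_self_of_both s hs A h]
  · rw [if_neg h]
    have hsum : fsum (A.map (Equiv.swap s ⟨s.val + 1, hs⟩).toEmbedding) =
        ∑ x ∈ A, ((Equiv.swap s ⟨s.val + 1, hs⟩ x : Fin N) : ℕ) := by
      unfold fsum; rw [Finset.sum_map]; rfl
    by_cases h1 : s ∈ A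
    · have h2 : (⟨s.val + 1, hs⟩ : Fin N) ∉ A := fun h2 => h ⟨fun _ => h2, fun _ => h1⟩
      have : fsum (A.map (Equiv.swap s ⟨s.val + 1, hs⟩).toEmbedding) = fsum A + 1 := by
        rw [hsum]; unfold fsum
        rw [← Finset.add_sum_erase A _ h1, ← Finset.add_sum_erase A (fun a => a.val) h1]
        have : ∑ x ∈ A.erase s, ((Equiv.swap s ⟨s.val + 1, hs⟩ x : Fin N) : ℕ) =
            ∑ x ∈ A.erase s, x.val := by
          apply Finset.sum_congr rfl
          intro x hx
          have hxs : x ≠ s := Finset.ne_of_mem_erase hx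
          have hxs' : x ≠ ⟨s.val + 1, hs⟩ := fun hh => h2 (hh ▸ Finset.mem_of_mem_erase hx)
          rw [Equiv.swap_apply_of_ne_of_ne hxs hxs']
        rw [this, Equiv.swap_apply_left]
        simp only
        omega
      rw [this, pow_succ]; ring
    · have h2 : (⟨s.val + 1, hs⟩ : Fin N) ∈ A := by
        by_contra h2; exact h ⟨fun hh => absurd hh h1, fun hh => absurd hh h2⟩
      have : fsum (A.map (Equiv.swap s ⟨s.val + 1, hs⟩).toEmbedding) + 1 = fsum A := by
        rw [hsum]; unfold fsum
        rw [← Finset.add_sum_erase A _ h2, ← Finset.add_sum_erase A (fun a => a.val) h2]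
        have : ∑ x ∈ A.erase ⟨s.val + 1, hs⟩, ((Equiv.swap s ⟨s.val + 1, hs⟩ x : Fin N) : ℕ) =
            ∑ x ∈ A.erase ⟨s.val + 1, hs⟩, x.val := by
          apply Finset.sum_congr rfl
          intro x hx
          have hxs' : x ≠ ⟨s.val + 1, hs⟩ := Finset.ne_of_mem_erase hx
          have hxs : x ≠ s := fun hh => h1 (hh ▸ Finset.mem_of_mem_erase hx)
          rw [Equiv.swap_apply_of_ne_of_ne hxs hxs']
        rw [this, Equiv.swap_apply_right]
        simp only
        omega
      rw [← this, pow_succ]; ring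

lemma term_swap (hpq : p + q = N) (D₁ : V [⋀^Fin p]→ₗ[K] K) (D₂ : V [⋀^Fin q]→ₗ[K] K)
    (s : Fin N) (hs : s.val + 1 < N) (A : Finset (Fin N)) (hA : A.card = p)
    (hA' : (A.map (Equiv.swap s ⟨s.val + 1, hs⟩).toEmbedding).card = p) (u : Fin N → V) :
    (-1 : K) ^ fsum A * T hpq D₁ D₂ A hA (u ∘ (Equiv.swap s ⟨s.val + 1, hs⟩)) =
      -((-1 : K) ^ fsum (A.map (Equiv.swap s ⟨s.val + 1, hs⟩).toEmbedding) *
        T hpq D₁ D₂ (A.map (Equiv.swap s ⟨s.val + 1, hs⟩).toEmbedding) hA' u) := by
  unfold T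
  have hC' : (Aᶜ.map (Equiv.swap s ⟨s.val + 1, hs⟩).toEmbedding).card = q := by
    rw [Finset.card_map]; exact compl_card hpq hA
  rw [alt_swap_emb D₁ s hs A hA hA' u, alt_swap_emb D₂ s hs Aᶜ (compl_card hpq hA) hC' u,
    neg_one_pow_fsum_map s hs A,
    emb_congr (map_compl_equiv (Equiv.swap s ⟨s.val + 1, hs⟩) A) (compl_card hpq hA') hC']
  by_cases h1 : s ∈ A <;> by_cases h2 : (⟨s.val + 1, hs⟩ : Fin N) ∈ A <;>
    simp [h1, h2, Finset.mem_compl]

lemma G_swap (hpq : p + q = N) (D₁ : V [⋀^Fin p]→ₗ[K] K) (D₂ : V [⋀^Fin q]→ₗ[K] K)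
    (s : Fin N) (hs : s.val + 1 < N) (u : Fin N → V) :
    G hpq D₁ D₂ (u ∘ (Equiv.swap s ⟨s.val + 1, hs⟩)) = - G hpq D₁ D₂ u := by
  unfold G
  rw [← Finset.sum_neg_distrib,
    ← Equiv.sum_comp (Equiv.finsetCongr (Equiv.swap s ⟨s.val + 1, hs⟩))
      (fun A => -(if hA : A.card = p then (-1 : K) ^ fsum A * T hpq D₁ D₂ A hA u else 0))]
  apply Finset.sum_congr rfl
  intro A _
  show _ = -(if hA : (A.map (Equiv.swap s ⟨s.val + 1, hs⟩).toEmbedding).card = p then
      (-1 : K) ^ fsum (A.map (Equiv.swap s ⟨s.val + 1, hs⟩).toEmbedding) *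
        T hpq D₁ D₂ (A.map (Equiv.swap s ⟨s.val + 1, hs⟩).toEmbedding) hA u else 0)
  by_cases hA : A.card = p
  · have hA' : (A.map (Equiv.swap s ⟨s.val + 1, hs⟩).toEmbedding).card = p := by
      rw [Finset.card_map]; exact hA
    rw [dif_pos hA, dif_pos hA']
    exact term_swap hpq D₁ D₂ s hs A hA hA' u
  · have hA' : ¬ (A.map (Equiv.swap s ⟨s.val + 1, hs⟩).toEmbedding).card = p := by
      rw [Finset.card_map]; exact hA
    rw [dif_neg hA, dif_neg hA', neg_zero]

lemma G_adj_zero (hpq : p + q = N) (D₁ : V [⋀^Fin p]→ₗ[K] K) (D₂ : V [⋀^Fin q]→ₗ[K] K)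
    (s : Fin N) (hs : s.val + 1 < N) (u : Fin N → V) (hu : u s = u ⟨s.val + 1, hs⟩) :
    G hpq D₁ D₂ u = 0 := by
  have huτ : u ∘ (Equiv.swap s ⟨s.val + 1, hs⟩) = u := by
    funext x
    simp only [Function.comp]
    rw [Equiv.swap_apply_def]
    split_ifs with h1 h2
    · rw [h1]; exact hu.symm
    · rw [h2]; exact hu
    · rfl
  unfold G
  apply Finset.sum_ninvolution (fun A => A.map (Equiv.swap s ⟨s.val + 1, hs⟩).toEmbedding)
  · intro A
    by_cases hA : A.card = p
    · have hA' : (A.map (Equiv.swap s ⟨s.val + 1, hs⟩).toEmbedding).card = p := by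
        rw [Finset.card_map]; exact hA
      rw [dif_pos hA, dif_pos hA']
      have := term_swap hpq D₁ D₂ s hs A hA hA' u
      rw [huτ] at this
      rw [this]; ring
    · have hA' : ¬ (A.map (Equiv.swap s ⟨s.val + 1, hs⟩).toEmbedding).card = p := by
        rw [Finset.card_map]; exact hA
      rw [dif_neg hA, dif_neg hA', add_zero]
  · intro A hne heq
    apply hne
    by_cases hA : A.card = p
    · rw [dif_pos hA]
      have hiff : s ∈ A ↔ (⟨s.val + 1, hs⟩ : Fin N) ∈ A := by
        constructor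
        · intro h
          rw [← heq, Finset.mem_map_equiv, Equiv.symm_swap, Equiv.swap_apply_right]; exact h
        · intro h
          rw [← heq, Finset.mem_map_equiv, Equiv.symm_swap, Equiv.swap_apply_left]; exact h
      unfold T
      by_cases h1 : s ∈ A
      · have h2 := hiff.mp h1
        obtain ⟨a, ha⟩ := exists_emb_eq hA h1
        obtain ⟨a', ha'⟩ := exists_emb_eq hA h2
        have hne' : a ≠ a' := by
          intro h; rw [h, ha'] at ha
          have := congrArg Fin.val ha
          simp at this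
        have : D₁ (u ∘ A.orderEmbOfFin hA) = 0 :=
          D₁.map_eq_zero_of_eq _ (by simp only [Function.comp]; rw [ha, ha']; exact hu) hne'
        rw [this]; ring
      · have h2 : (⟨s.val + 1, hs⟩ : Fin N) ∉ A := fun h => h1 (hiff.mpr h)
        have h1c : s ∈ Aᶜ := Finset.mem_compl.mpr h1
        have h2c : (⟨s.val + 1, hs⟩ : Fin N) ∈ Aᶜ := Finset.mem_compl.mpr h2
        obtain ⟨a, ha⟩ := exists_emb_eq (compl_card hpq hA) h1c
        obtain ⟨a', ha'⟩ := exists_emb_eq (compl_card hpq hA) h2c
        have hne' : a ≠ a' := by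
          intro h; rw [h, ha'] at ha
          have := congrArg Fin.val ha
          simp at this
        have : D₂ (u ∘ Aᶜ.orderEmbOfFin (compl_card hpq hA)) = 0 :=
          D₂.map_eq_zero_of_eq _ (by simp only [Function.comp]; rw [ha, ha']; exact hu) hne'
        rw [this]; ring
    · rw [dif_neg hA]
  · intro A; exact Finset.mem_univ _
  · intro A
    rw [Finset.map_map]
    ext x
    simp [Finset.mem_map_equiv]

lemma G_eq_zero_of_eq (hpq : p + q = N) (D₁ : V [⋀^Fin p]→ₗ[K] K) (D₂ : V [⋀^Fin q]→ₗ[K] K) :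
    ∀ (k : ℕ) (u : Fin N → V) (s t : Fin N), s.val < t.val → t.val - s.val = k + 1 → u s = u t →
      G hpq D₁ D₂ u = 0 := by
  intro k
  induction k with
  | zero =>
    intro u s t hst hk hu
    have hs : s.val + 1 < N := by have := t.isLt; omega
    have : t = ⟨s.val + 1, hs⟩ := Fin.ext (by simp only; omega)
    subst this
    exact G_adj_zero hpq D₁ D₂ s hs u hu
  | succ k ih =>
    intro u s t hst hk hu
    have ht1 : t.val - 1 < N := by have := t.isLt; omega
    have hs' : (⟨t.val - 1, ht1⟩ : Fin N).val + 1 < N := by simp only; have := t.isLt; omega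
    have htt : t = ⟨(⟨t.val - 1, ht1⟩ : Fin N).val + 1, hs'⟩ := Fin.ext (by simp only; omega)
    have h := G_swap hpq D₁ D₂ ⟨t.val - 1, ht1⟩ hs' u
    have hne1 : s ≠ ⟨t.val - 1, ht1⟩ := by
      intro hh; have := congrArg Fin.val hh; simp only at this; omega
    have hne2 : s ≠ ⟨(⟨t.val - 1, ht1⟩ : Fin N).val + 1, hs'⟩ := by
      intro hh; have := congrArg Fin.val hh; simp only at this; omega
    have h0 := ih (u ∘ (Equiv.swap ⟨t.val - 1, ht1⟩ ⟨(⟨t.val - 1, ht1⟩ : Fin N).val + 1, hs'⟩))
      s ⟨t.val - 1, ht1⟩ (by simp only; omega) (by simp only; omega)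
      (by
        simp only [Function.comp]
        rw [Equiv.swap_apply_of_ne_of_ne hne1 hne2, Equiv.swap_apply_left, ← htt]
        exact hu)
    rw [h0] at h
    exact neg_eq_zero.mp h.symm

lemma T_update (hpq : p + q = N) (D₁ : V [⋀^Fin p]→ₗ[K] K) (D₂ : V [⋀^Fin q]→ₗ[K] K)
    (A : Finset (Fin N)) (hA : A.card = p) (u : Fin N → V) (k : Fin N) :
    (∃ a : Fin p, ∀ v : V, T hpq D₁ D₂ A hA (Function.update u k v) =
      D₁ (Function.update (u ∘ A.orderEmbOfFin hA) a v) *
        D₂ (u ∘ Aᶜ.orderEmbOfFin (compl_card hpq hA))) ∨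
    (∃ b : Fin q, ∀ v : V, T hpq D₁ D₂ A hA (Function.update u k v) =
      D₁ (u ∘ A.orderEmbOfFin hA) *
        D₂ (Function.update (u ∘ Aᶜ.orderEmbOfFin (compl_card hpq hA)) b v)) := by
  by_cases hk : k ∈ A
  · left
    obtain ⟨a, rfl⟩ := exists_emb_eq hA hk
    refine ⟨a, fun v => ?_⟩
    unfold T
    have hnot : ∀ x, Aᶜ.orderEmbOfFin (compl_card hpq hA) x ≠ A.orderEmbOfFin hA a := by
      intro x h
      exact (Finset.mem_compl.mp (Finset.orderEmbOfFin_mem Aᶜ (compl_card hpq hA) x))
        (h ▸ Finset.orderEmbOfFin_mem A hA a)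
    rw [Function.update_comp_eq_of_injective _ (A.orderEmbOfFin hA).injective,
      Function.update_comp_eq_of_forall_ne _ _ hnot]
  · right
    have hk' : k ∈ Aᶜ := Finset.mem_compl.mpr hk
    obtain ⟨b, rfl⟩ := exists_emb_eq (compl_card hpq hA) hk'
    refine ⟨b, fun v => ?_⟩
    unfold T
    have hnot : ∀ x, A.orderEmbOfFin hA x ≠ Aᶜ.orderEmbOfFin (compl_card hpq hA) b := by
      intro x h
      exact hk (h ▸ Finset.orderEmbOfFin_mem A hA x)
    rw [Function.update_comp_eq_of_injective _ (Aᶜ.orderEmbOfFin (compl_card hpq hA)).injective,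
      Function.update_comp_eq_of_forall_ne _ _ hnot]

/-- the shuffle sum as an alternating map -/
def Galt (hpq : p + q = N) (D₁ : V [⋀^Fin p]→ₗ[K] K) (D₂ : V [⋀^Fin q]→ₗ[K] K) :
    V [⋀^Fin N]→ₗ[K] K :=
  { toFun := G hpq D₁ D₂
    map_update_add' := by
      intro inst u k v w
      obtain rfl : inst = instDecidableEqFin N := Subsingleton.elim _ _
      unfold G
      rw [← Finset.sum_add_distrib]
      apply Finset.sum_congr rfl
      intro A _
      by_cases hA : A.card = p
      · rw [dif_pos hA, dif_pos hA, dif_pos hA]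
        rcases T_update hpq D₁ D₂ A hA u k with ⟨a, ha⟩ | ⟨b, hb⟩
        · rw [ha, ha, ha, D₁.map_update_add]; ring
        · rw [hb, hb, hb, D₂.map_update_add]; ring
      · rw [dif_neg hA, dif_neg hA, dif_neg hA, add_zero]
    map_update_smul' := by
      intro inst u k c v
      obtain rfl : inst = instDecidableEqFin N := Subsingleton.elim _ _
      unfold G
      rw [Finset.smul_sum]
      apply Finset.sum_congr rfl
      intro A _
      by_cases hA : A.card = p
      · rw [dif_pos hA, dif_pos hA]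
        rcases T_update hpq D₁ D₂ A hA u k with ⟨a, ha⟩ | ⟨b, hb⟩
        · rw [ha, ha, D₁.map_update_smul, smul_eq_mul, smul_eq_mul]; ring
        · rw [hb, hb, D₂.map_update_smul, smul_eq_mul, smul_eq_mul]; ring
      · rw [dif_neg hA, dif_neg hA, smul_zero]
    map_eq_zero_of_eq' := by
      intro u i j huij hij
      rcases lt_or_gt_of_ne hij with h | h
      · exact G_eq_zero_of_eq hpq D₁ D₂ (j.val - i.val - 1) u i j h
          (by have : i.val < j.val := h; omega) huij
      · exact G_eq_zero_of_eq hpq D₁ D₂ (i.val - j.val - 1) u j i h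
          (by have : j.val < i.val := h; omega) huij.symm }

end Alt

/-- a shuffle sum of `d + 1` vectors in a free module of rank `d` vanishes -/
lemma G_zero_of_lt {p q : ℕ} (hpq : p + q = d + 1) (D₁ : (Fin d → K) [⋀^Fin p]→ₗ[K] K)
    (D₂ : (Fin d → K) [⋀^Fin q]→ₗ[K] K) (u : Fin (d + 1) → (Fin d → K)) :
    G hpq D₁ D₂ u = 0 := by
  have h0 : Galt hpq D₁ D₂ = 0 := by
    apply Module.Basis.ext_alternating (Pi.basisFun K (Fin d))
    intro v hv
    exfalso
    have := Fintype.card_le_of_injective v hv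
    simp at this
  have := DFunLike.congr_fun h0 u
  exact this

/-! ### determinants with some rows fixed -/

/-- rows `o, …, o + p - 1` are taken from `x`, the others from `z` -/
def rowsOf (o p : ℕ) (x : Fin p → (Fin d → K)) (z : Fin d → (Fin d → K)) : Fin d → (Fin d → K) :=
  fun t => if h : o ≤ t.val ∧ t.val < o + p then x ⟨t.val - o, by omega⟩ else z t

lemma rowsOf_update (o p : ℕ) (hop : o + p ≤ d) (x : Fin p → (Fin d → K)) (z : Fin d → (Fin d → K))
    (a : Fin p) (v : Fin d → K) :
    rowsOf o p (Function.update x a v) z =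
      Function.update (rowsOf o p x z) ⟨o + a.val, by have := a.isLt; omega⟩ v := by
  funext t
  unfold rowsOf
  by_cases ht : t = ⟨o + a.val, by have := a.isLt; omega⟩
  · subst ht
    rw [Function.update_self]
    have h1 : o ≤ o + a.val ∧ o + a.val < o + p := ⟨by omega, by have := a.isLt; omega⟩
    rw [dif_pos h1]
    have h2 : (⟨o + a.val - o, by omega⟩ : Fin p) = a := Fin.ext (by simp)
    rw [h2, Function.update_self]
  · rw [Function.update_of_ne ht]
    split_ifs with h
    · rw [Function.update_of_ne]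
      intro heq
      apply ht
      apply Fin.ext
      have := congrArg Fin.val heq
      simp only at this ⊢
      omega
    · rfl

/-- the determinant as an alternating function of the rows `o, …, o + p - 1` -/
def detFix (o p : ℕ) (hop : o + p ≤ d) (z : Fin d → (Fin d → K)) :
    (Fin d → K) [⋀^Fin p]→ₗ[K] K :=
  { toFun := fun x => Matrix.detRowAlternating (rowsOf o p x z)
    map_update_add' := by
      intro inst x a v w
      obtain rfl : inst = instDecidableEqFin p := Subsingleton.elim _ _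
      simp only [rowsOf_update o p hop]
      exact Matrix.detRowAlternating.map_update_add _ _ _ _
    map_update_smul' := by
      intro inst x a c v
      obtain rfl : inst = instDecidableEqFin p := Subsingleton.elim _ _
      simp only [rowsOf_update o p hop]
      exact Matrix.detRowAlternating.map_update_smul _ _ _ _
    map_eq_zero_of_eq' := by
      intro x a b hab hne
      have ha := a.isLt
      have hb := b.isLt
      apply Matrix.detRowAlternating.map_eq_zero_of_eq _ (i := ⟨o + a.val, by omega⟩)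
        (j := ⟨o + b.val, by omega⟩)
      · unfold rowsOf
        rw [dif_pos ⟨by simp only; omega, by simp only; omega⟩,
          dif_pos ⟨by simp only; omega, by simp only; omega⟩]
        have h1 : (⟨(⟨o + a.val, by omega⟩ : Fin d).val - o, by simp only; omega⟩ : Fin p) = a :=
          Fin.ext (by simp)
        have h2 : (⟨(⟨o + b.val, by omega⟩ : Fin d).val - o, by simp only; omega⟩ : Fin p) = b :=
          Fin.ext (by simp)
        rw [h1, h2]; exact hab
      · intro h
        apply hne
        apply Fin.ext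
        have := congrArg Fin.val h
        simp only at this
        omega }

lemma detFix_apply (o p : ℕ) (hop : o + p ≤ d) (z : Fin d → (Fin d → K)) (x : Fin p → (Fin d → K)) :
    detFix o p hop z x = Matrix.det (Matrix.of (rowsOf o p x z)) := rfl

lemma det_shuffleI (A : Matrix (Fin n) (Fin d) K) (i j : Idx d n) (r : Fin d)
    (S : Finset (Fin (d + 1))) (hS : S.card = r.val + 1) :
    (A.submatrix (shuffleI i j r S hS) id).det =
      detFix 0 (r.val + 1) (by have := r.isLt; omega) (fun t => A (i.1 t))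
        ((fun k => A (movingRows i j r k)) ∘ S.orderEmbOfFin hS) := by
  rw [detFix_apply]
  congr 1
  ext t c
  simp only [Matrix.submatrix_apply, id, Matrix.of_apply]
  unfold shuffleI rowsOf
  by_cases ht : t.val ≤ r.val
  · rw [dif_pos ht, dif_pos ⟨Nat.zero_le _, by omega⟩]
    simp only [Function.comp]
    have h1 : (⟨t.val - 0, by omega⟩ : Fin (r.val + 1)) = ⟨t.val, by omega⟩ := Fin.ext (by simp)
    rw [h1]
  · rw [dif_neg ht, dif_neg (by omega)]

lemma det_shuffleJ (A : Matrix (Fin n) (Fin d) K) (i j : Idx d n) (r : Fin d)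
    (S : Finset (Fin (d + 1))) (hS : S.card = r.val + 1) (hC : Sᶜ.card = d - r.val) :
    (A.submatrix (shuffleJ i j r S hS) id).det =
      detFix r.val (d - r.val) (by have := r.isLt; omega) (fun t => A (j.1 t))
        ((fun k => A (movingRows i j r k)) ∘ Sᶜ.orderEmbOfFin hC) := by
  rw [detFix_apply]
  congr 1
  ext t c
  simp only [Matrix.submatrix_apply, id, Matrix.of_apply]
  unfold shuffleJ rowsOf
  have htd := t.isLt
  by_cases ht : t.val < r.val
  · rw [dif_pos ht, dif_neg (by omega)]
  · rw [dif_neg ht, dif_pos ⟨by omega, by omega⟩]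
    rfl

lemma fsum_ge {N p : ℕ} (S : Finset (Fin N)) (hS : S.card = p) : p * (p - 1) / 2 ≤ fsum S := by
  unfold fsum
  rw [← sum_orderEmbOfFin S hS (fun a => a.val)]
  calc p * (p - 1) / 2 = ∑ t : Fin p, t.val := by
        rw [Fin.sum_univ_eq_sum_range (fun t => t) p, Finset.sum_range_id]
    _ ≤ ∑ t : Fin p, (S.orderEmbOfFin hS t).val :=
        Finset.sum_le_sum (fun t _ => val_le_of_strictMono _ (S.orderEmbOfFin hS).strictMono t)

/-- **Plücker relations**: the shuffle relations vanish on the minors of every matrix. -/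
theorem evalMinors_shuffleRel (A : Matrix (Fin n) (Fin d) K) (i j : Idx d n) (r : Fin d) :
    evalMinors K d n A (shuffleRel K i j r) = 0 := by
  unfold shuffleRel
  rw [map_sum]
  have hr := r.isLt
  have hpq : (r.val + 1) + (d - r.val) = d + 1 := by omega
  have hterm : ∀ S : Finset (Fin (d + 1)), evalMinors K d n A (shuffleTerm K i j r S) =
      (-1 : K) ^ (r.val * (r.val + 1) / 2) *
        (if hS : S.card = r.val + 1 then (-1 : K) ^ fsum S *
          T hpq (detFix 0 (r.val + 1) (by omega) (fun t => A (i.1 t)))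
            (detFix r.val (d - r.val) (by omega) (fun t => A (j.1 t))) S hS
            (fun k => A (movingRows i j r k)) else 0) := by
    intro S
    unfold shuffleTerm
    by_cases hS : S.card = r.val + 1
    · rw [dif_pos hS, dif_pos hS, map_mul, map_mul, map_pow, map_neg, map_one, evalMinors_coord,
        evalMinors_coord, det_shuffleI, det_shuffleJ A i j r S hS (compl_card hpq hS)]
      have hge : r.val * (r.val + 1) / 2 ≤ fsum S := by
        have := fsum_ge S hS
        rw [Nat.add_sub_cancel, Nat.mul_comm] at this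
        exact this
      have hsign : (-1 : K) ^ (shuffleSign r S) =
          (-1 : K) ^ (r.val * (r.val + 1) / 2) * (-1 : K) ^ fsum S := by
        have h1 : shuffleSign r S = fsum S - r.val * (r.val + 1) / 2 := rfl
        have h2 : (-1 : K) ^ (r.val * (r.val + 1) / 2) * (-1 : K) ^ (r.val * (r.val + 1) / 2) = 1 := by
          rw [← mul_pow]; simp
        calc (-1 : K) ^ (shuffleSign r S)
            = (-1 : K) ^ (shuffleSign r S) * ((-1 : K) ^ (r.val * (r.val + 1) / 2) *
                (-1 : K) ^ (r.val * (r.val + 1) / 2)) := by rw [h2, mul_one]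
          _ = (-1 : K) ^ (r.val * (r.val + 1) / 2) *
                ((-1 : K) ^ (shuffleSign r S) * (-1 : K) ^ (r.val * (r.val + 1) / 2)) := by ring
          _ = (-1 : K) ^ (r.val * (r.val + 1) / 2) * (-1 : K) ^ fsum S := by
                rw [← pow_add, h1, Nat.sub_add_cancel hge]
      rw [hsign]
      unfold T
      ring
    · rw [dif_neg hS, dif_neg hS, map_zero, mul_zero]
  simp_rw [hterm]
  rw [← Finset.mul_sum]
  have := G_zero_of_lt hpq (detFix 0 (r.val + 1) (by omega) (fun t => A (i.1 t)))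
    (detFix r.val (d - r.val) (by omega) (fun t => A (j.1 t))) (fun k => A (movingRows i j r k))
  unfold G at this
  rw [this, mul_zero]

end

end Groth.Agent.H85.Pl
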