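import Groth.Agent.H85.PlWeight

/-!
# The top index and the ideal of the Grassmannian (helper85 library)
-/

set_option autoImplicit false
universe u
open W4bk4grassmannian MvPolynomial

namespace Groth.Agent.H85.Pl

noncomputable section

variable {d n : ℕ}

/-- the largest index -/
def topIdx (hdn : d ≤ n) : Idx d n :=
  ⟨fun t => ⟨n - d + t.val, by have := t.isLt; omega⟩, fun a b hab => by
    have h : a.val < b.val := hab
    show n - d + a.val < n - d + b.val
    omega⟩

lemma val_add_le (θ : Idx d n) :
    ∀ (k : ℕ) (t : Fin d), t.val + k + 1 = d → (θ.1 t).val + k + 1 ≤ n := by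
  intro k
  induction k with
  | zero =>
    intro t _
    have := (θ.1 t).isLt
    omega
  | succ k ih =>
    intro t ht
    have h1 := ih ⟨t.val + 1, by omega⟩ (by simp only; omega)
    have h2 : θ.1 t < θ.1 ⟨t.val + 1, by omega⟩ := θ.2 (Fin.lt_def.mpr (by simp))
    have h3 : (θ.1 t).val < (θ.1 ⟨t.val + 1, by omega⟩).val := h2
    omega

lemma le_topIdx (hdn : d ≤ n) (θ : Idx d n) : θ ≤ topIdx hdn := by
  intro t
  rw [Fin.le_iff_val_le_val]
  show (θ.1 t).val ≤ n - d + t.val
  have := val_add_le θ (d - 1 - t.val) t (by have := t.isLt; omega)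
  omega

variable {K : Type u} [CommRing K]

lemma vanishing_eq (hdn : d ≤ n) : vanishing K d n = schubertVanishing K d n (topIdx hdn) := by
  ext f
  rw [mem_schubertVanishing_iff]
  unfold vanishing
  simp only [Ideal.mem_iInf, RingHom.mem_ker]
  constructor
  · intro h A _; exact h A
  · intro h A; exact h A (fun φ hφ => absurd (le_topIdx hdn φ) hφ)

end

end Groth.Agent.H85.Pl
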