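import Groth.Agent.H85.PlNormal

/-!
# Factoriality of Schubert cones: `S/J(τ)` is a UFD iff `X_τ` is prime (helper85 library)
-/

set_option autoImplicit false
universe u
open W4bk4grassmannian MvPolynomial

namespace Groth.Agent.H85.Pl

noncomputable section

/-! ### a Nagata-type criterion through a retraction -/

/-- `R ⊆ P` with `P` factorial, `f ∈ R` prime and a retraction of `P` onto `R[1/f]`: then `R` is factorial -/
lemma ufd_of_prime_of_retraction {R P L : Type*} [CommRing R] [IsDomain R] [IsNoetherianRing R]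
    [CommRing P] [IsDomain P] [UniqueFactorizationMonoid P] [CommRing L] [IsDomain L]
    (ι : R →+* L) (hι : Function.Injective ι) (j₀ : R →+* P) (ρ : P →+* L)
    (hρ : ∀ r, ρ (j₀ r) = ι r) (f : R) (hf : Prime f)
    (hρ' : ∀ z : P, ∃ (k : ℕ) (g : R), ρ z * ι f ^ k = ι g) :
    UniqueFactorizationMonoid R := by
  have L1 : ∀ (p : R), ¬ f ∣ p → ∀ (M : ℕ) (a c : R), p * c = f ^ M * a → p ∣ a := by
    intro p hfp M
    induction M with
    | zero =>
      intro a c h
      exact ⟨c, by rw [h, pow_zero, one_mul]⟩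
    | succ M ih =>
      intro a c h
      have hdvd : f ∣ p * c := ⟨f ^ M * a, by rw [h, pow_succ]; ring⟩
      rcases hf.dvd_or_dvd hdvd with h1 | h1
      · exact absurd h1 hfp
      · obtain ⟨c', rfl⟩ := h1
        apply ih a c'
        apply mul_left_cancel₀ hf.ne_zero
        rw [pow_succ] at h
        calc f * (p * c') = p * (f * c') := by ring
          _ = f ^ M * f * a := h
          _ = f * (f ^ M * a) := by ring
  have L2 : ∀ (N : ℕ) (p u u' : R), f ^ N * p = u * u' →
      ∃ (u₁ u₂ : R) (n₁ n₂ : ℕ), u = f ^ n₁ * u₁ ∧ u' = f ^ n₂ * u₂ ∧ p = u₁ * u₂ := by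
    intro N
    induction N with
    | zero =>
      intro p u u' h
      exact ⟨u, u', 0, 0, by rw [pow_zero, one_mul], by rw [pow_zero, one_mul],
        by rw [← h, pow_zero, one_mul]⟩
    | succ N ih =>
      intro p u u' h
      have hdvd : f ∣ u * u' := ⟨f ^ N * p, by rw [← h, pow_succ]; ring⟩
      rcases hf.dvd_or_dvd hdvd with ⟨v, rfl⟩ | ⟨v, rfl⟩
      · have h' : f ^ N * p = v * u' := by
          apply mul_left_cancel₀ hf.ne_zero
          rw [pow_succ] at h
          calc f * (f ^ N * p) = f ^ N * f * p := by ring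
            _ = f * v * u' := h
            _ = f * (v * u') := by ring
        obtain ⟨u₁, u₂, n₁, n₂, e1, e2, e3⟩ := ih p v u' h'
        exact ⟨u₁, u₂, n₁ + 1, n₂, by rw [e1, pow_succ]; ring, e2, e3⟩
      · have h' : f ^ N * p = u * v := by
          apply mul_left_cancel₀ hf.ne_zero
          rw [pow_succ] at h
          calc f * (f ^ N * p) = f ^ N * f * p := by ring
            _ = u * (f * v) := h
            _ = f * (u * v) := by ring
        obtain ⟨u₁, u₂, n₁, n₂, e1, e2, e3⟩ := ih p u v h'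
        exact ⟨u₁, u₂, n₁, n₂ + 1, e1, by rw [e2, pow_succ]; ring, e3⟩
  refine { (inferInstance : IsCancelMulZero R), (inferInstance : WfDvdMonoid R) with
    irreducible_iff_prime := ?_ }
  intro p
  refine ⟨fun hp => ?_, Prime.irreducible⟩
  by_cases hfp : f ∣ p
  · obtain ⟨c, rfl⟩ := hfp
    rcases hp.isUnit_or_isUnit rfl with h | h
    · exact absurd h hf.not_isUnit
    · exact (associated_mul_unit_right f c h).prime_iff.mp hf
  · refine ⟨hp.ne_zero, hp.not_isUnit, ?_⟩
    intro a b hab
    obtain ⟨e, he⟩ := hab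
    have hdvdP : j₀ p ∣ j₀ a * j₀ b := ⟨j₀ e, by rw [← map_mul, he, map_mul]⟩
    obtain ⟨g₁, g₂, hg₁, hg₂, hg⟩ := exists_dvd_and_dvd_of_dvd_mul hdvdP
    obtain ⟨i, u, hu⟩ := hρ' g₁
    obtain ⟨i', u', hu'⟩ := hρ' g₂
    have hp' : ι p = ρ g₁ * ρ g₂ := by rw [← hρ p, hg, map_mul]
    have hpe : f ^ (i + i') * p = u * u' := by
      apply hι
      rw [map_mul, map_mul, map_pow, ← hu, ← hu', hp']
      ring
    obtain ⟨u₁, u₂, n₁, n₂, e1, e2, e3⟩ := L2 _ p u u' hpe
    rcases hp.isUnit_or_isUnit e3 with h1 | h2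
    · right
      obtain ⟨b'', hb''⟩ := hg₂
      obtain ⟨i'', v, hv⟩ := hρ' b''
      obtain ⟨w, hw⟩ := h1.exists_right_inv
      apply L1 p hfp (n₁ + i'') b (v * f ^ i * w)
      apply hι
      have hb : ι b = ρ g₂ * ρ b'' := by rw [← hρ b, hb'', map_mul]
      have hu1 : ρ g₁ * ι f ^ i = ι f ^ n₁ * ι u₁ := by rw [hu, e1, map_mul, map_pow]
      have hw' : ι u₁ * ι w = 1 := by rw [← map_mul, hw, map_one]
      simp only [map_mul, map_pow]
      linear_combination (ι v * ι f ^ i * ι w) * hp' - (ρ g₁ * ρ g₂ * ι f ^ i * ι w) * hv +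
        (ρ g₂ * ρ b'' * ι f ^ i'' * ι w) * hu1 + (ι f ^ n₁ * ι f ^ i'' * ρ g₂ * ρ b'') * hw' -
        ι f ^ (n₁ + i'') * hb
    · left
      obtain ⟨a'', ha''⟩ := hg₁
      obtain ⟨i'', v, hv⟩ := hρ' a''
      obtain ⟨w, hw⟩ := h2.exists_right_inv
      apply L1 p hfp (n₂ + i'') a (v * f ^ i' * w)
      apply hι
      have ha : ι a = ρ g₁ * ρ a'' := by rw [← hρ a, ha'', map_mul]
      have hu2 : ρ g₂ * ι f ^ i' = ι f ^ n₂ * ι u₂ := by rw [hu', e2, map_mul, map_pow]
      have hw' : ι u₂ * ι w = 1 := by rw [← map_mul, hw, map_one]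
      simp only [map_mul, map_pow]
      linear_combination (ι v * ι f ^ i' * ι w) * hp' - (ρ g₁ * ρ g₂ * ι f ^ i' * ι w) * hv +
        (ρ g₁ * ρ a'' * ι f ^ i'' * ι w) * hu2 + (ι f ^ n₂ * ι f ^ i'' * ρ g₁ * ρ a'') * hw' -
        ι f ^ (n₂ + i'') * ha

/-! ### degrees -/

variable {K : Type u} [Field K] {d n : ℕ}

/-- all monomials have degree divisible by `d` -/
def DegD (d : ℕ) {σ : Type*} (p : MvPolynomial σ K) : Prop :=
  ∀ m ∈ p.support, d ∣ Finsupp.degree m

lemma DegD.add {σ : Type*} {p q : MvPolynomial σ K} (hp : DegD d p) (hq : DegD d q) :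
    DegD d (p + q) := by
  classical
  intro m hm
  rcases Finset.mem_union.mp (MvPolynomial.support_add hm) with h | h
  · exact hp m h
  · exact hq m h

lemma DegD.mul {σ : Type*} {p q : MvPolynomial σ K} (hp : DegD d p) (hq : DegD d q) :
    DegD d (p * q) := by
  classical
  intro m hm
  obtain ⟨a, ha, b, hb, rfl⟩ := Finset.mem_add.mp (MvPolynomial.support_mul p q hm)
  rw [map_add]
  exact dvd_add (hp a ha) (hq b hb)

lemma DegD.C {σ : Type*} (a : K) : DegD d (C a : MvPolynomial σ K) := by
  classical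
  intro m hm
  have : m = 0 := by
    by_contra h
    rw [MvPolynomial.mem_support_iff, MvPolynomial.coeff_C, if_neg (Ne.symm h)] at hm
    exact hm rfl
  rw [this, map_zero]
  exact dvd_zero d

lemma DegD.of_isHomogeneous {σ : Type*} {p : MvPolynomial σ K} (h : p.IsHomogeneous d) :
    DegD d p := by
  intro m hm
  rw [Finsupp.degree_apply, ← h.degree_eq_sum_deg_support hm]

lemma DegD.dvd_totalDegree {σ : Type*} {p : MvPolynomial σ K} (hp : DegD d p) (h0 : p ≠ 0) :
    d ∣ p.totalDegree := by
  have hne : p.support.Nonempty := by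
    rw [Finset.nonempty_iff_ne_empty]
    intro h
    exact h0 (MvPolynomial.support_eq_empty.mp h)
  obtain ⟨m, hm, hsup⟩ := Finset.exists_mem_eq_sup p.support hne (fun s => s.sum fun _ e => e)
  unfold MvPolynomial.totalDegree
  rw [hsup]
  exact hp m hm

lemma isHomogeneous_det_shaped (τ θ : Idx d n) :
    ((shaped K τ).submatrix θ.1 id).det.IsHomogeneous d := by
  rw [Matrix.det_apply]
  refine MvPolynomial.IsHomogeneous.sum _ _ _ (fun σ _ => ?_)
  rw [Units.smul_def]
  have hprod : (∏ i : Fin d, ((shaped K τ).submatrix θ.1 id) (σ i) i).IsHomogeneous d := by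
    have := MvPolynomial.IsHomogeneous.prod Finset.univ
      (fun i : Fin d => ((shaped K τ).submatrix θ.1 id) (σ i) i) (fun _ => 1) ?_
    · simpa using this
    · intro i _
      rw [Matrix.submatrix_apply]
      by_cases h : θ.1 (σ i) ≤ τ.1 (id i)
      · rw [shaped_pos _ _ _ h]
        exact MvPolynomial.isHomogeneous_X _ _
      · rw [shaped_zero _ _ _ h]
        exact MvPolynomial.isHomogeneous_zero _ _ _
  exact (MvPolynomial.mem_homogeneousSubmodule _ _).mp
    (zsmul_mem ((MvPolynomial.mem_homogeneousSubmodule _ _).mpr hprod) _)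

lemma DegD_Phi (τ : Idx d n) (f : PlRing K d n) : DegD d (Phi K τ f) := by
  induction f using MvPolynomial.induction_on with
  | C a =>
    rw [MvPolynomial.algHom_C, MvPolynomial.algebraMap_eq]
    exact DegD.C a
  | add p q hp hq =>
    rw [map_add]
    exact hp.add hq
  | mul_X p θ hp =>
    rw [map_mul, Phi_X]
    exact hp.mul (DegD.of_isHomogeneous (isHomogeneous_det_shaped τ θ))

variable [Infinite K]

lemma irreducible_mk_X (hd : 0 < d) (τ : Idx d n) :
    Irreducible (Ideal.Quotient.mk (schubertVanishing K d n τ) (X τ)) := by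
  have hδ0 : Phi K τ (X τ) ≠ 0 := by
    rw [Phi_X]
    exact (minor_monic (K := K) τ τ le_rfl).1.ne_zero
  have hδdeg : (Phi K τ (X τ)).totalDegree = d := by
    rw [Phi_X]
    exact (isHomogeneous_det_shaped τ τ).totalDegree (by rw [← Phi_X]; exact hδ0)
  have key : ∀ x y : PlRing K d n, Phi K τ (X τ) = Phi K τ x * Phi K τ y →
      (Phi K τ x).totalDegree = 0 →
      IsUnit (Ideal.Quotient.mk (schubertVanishing K d n τ) x) := by
    intro x y hxy hdeg
    rw [MvPolynomial.totalDegree_eq_zero_iff_eq_C] at hdeg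
    obtain ⟨c, hc⟩ : ∃ c, Phi K τ x = C c := ⟨_, hdeg⟩
    have hc0 : c ≠ 0 := by
      intro h0
      rw [hc, h0, map_zero, zero_mul] at hxy
      exact hδ0 hxy
    have hx : Ideal.Quotient.mk (schubertVanishing K d n τ) x =
        Ideal.Quotient.mk (schubertVanishing K d n τ) (C c) := by
      rw [Ideal.Quotient.eq, ← ker_Phi hd, map_sub, hc, MvPolynomial.algHom_C,
        MvPolynomial.algebraMap_eq, sub_self]
    rw [hx]
    refine IsUnit.of_mul_eq_one (Ideal.Quotient.mk (schubertVanishing K d n τ) (C c⁻¹)) ?_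
    rw [← map_mul, ← map_mul, mul_inv_cancel₀ hc0, map_one, map_one]
  rw [irreducible_iff]
  constructor
  · intro hu
    obtain ⟨v, hv⟩ := hu.exists_right_inv
    obtain ⟨v', rfl⟩ := Ideal.Quotient.mk_surjective v
    rw [← map_mul, ← map_one (Ideal.Quotient.mk (schubertVanishing K d n τ)), Ideal.Quotient.eq,
      ← ker_Phi hd, map_sub, map_mul, map_one, sub_eq_zero] at hv
    have h1 : Phi K τ v' ≠ 0 := by
      intro h0
      rw [h0, mul_zero] at hv
      exact zero_ne_one hv
    have h2 := MvPolynomial.totalDegree_mul_of_isDomain hδ0 h1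
    rw [hv, MvPolynomial.totalDegree_one, hδdeg] at h2
    omega
  · intro a b hab
    obtain ⟨x, rfl⟩ := Ideal.Quotient.mk_surjective a
    obtain ⟨y, rfl⟩ := Ideal.Quotient.mk_surjective b
    rw [← map_mul, Ideal.Quotient.eq, ← ker_Phi hd, map_sub, map_mul, sub_eq_zero] at hab
    have hx0 : Phi K τ x ≠ 0 := by
      intro h0
      rw [h0, zero_mul] at hab
      exact hδ0 hab
    have hy0 : Phi K τ y ≠ 0 := by
      intro h0
      rw [h0, mul_zero] at hab
      exact hδ0 hab
    have h2 := MvPolynomial.totalDegree_mul_of_isDomain hx0 hy0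
    rw [← hab, hδdeg] at h2
    obtain ⟨k1, hk1⟩ := (DegD_Phi τ x).dvd_totalDegree hx0
    obtain ⟨k2, hk2⟩ := (DegD_Phi τ y).dvd_totalDegree hy0
    have hk : k1 = 0 ∨ k2 = 0 := by
      by_contra hcon
      push Not at hcon
      have h3 : d * 1 ≤ d * k1 := Nat.mul_le_mul_left d (Nat.pos_of_ne_zero hcon.1)
      have h4 : d * 1 ≤ d * k2 := Nat.mul_le_mul_left d (Nat.pos_of_ne_zero hcon.2)
      omega
    rcases hk with h | h
    · left
      exact key x y hab (by rw [hk1, h, mul_zero])
    · right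
      exact key y x (by rw [hab, mul_comm]) (by rw [hk2, h, mul_zero])

/-- **(1) ⇔ (2)**: factoriality of the Schubert cone -/
theorem ufd_iff_prime (hd : 0 < d) (τ : Idx d n) :
    UniqueFactorizationMonoid (PlRing K d n ⧸ schubertVanishing K d n τ) ↔
      Prime (Ideal.Quotient.mk (schubertVanishing K d n τ) (X τ)) := by
  have hprime := isPrime_schubertVanishing (K := K) hd τ
  have hdom : IsDomain (PlRing K d n ⧸ schubertVanishing K d n τ) :=
    Ideal.Quotient.isDomain _
  constructor
  · intro hufd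
    exact UniqueFactorizationMonoid.irreducible_iff_prime.mp (irreducible_mk_X hd τ)
  · intro hp
    have hinj : Function.Injective (algebraMap (PlRing K d n ⧸ schubertVanishing K d n τ)
        (FractionRing (PlRing K d n ⧸ schubertVanishing K d n τ))) :=
      IsFractionRing.injective _ _
    have hker : ∀ f ∈ schubertVanishing K d n τ,
        ((algebraMap (PlRing K d n ⧸ schubertVanishing K d n τ)
          (FractionRing (PlRing K d n ⧸ schubertVanishing K d n τ))).comp
          (Ideal.Quotient.mk (schubertVanishing K d n τ))) f = 0 := by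
      intro f hf
      rw [RingHom.comp_apply, Ideal.Quotient.eq_zero_iff_mem.mpr hf, map_zero]
    have hmk : Ideal.Quotient.mk (schubertVanishing K d n τ) (X τ) ≠ 0 := fun h0 =>
      X_notMem τ (Ideal.Quotient.eq_zero_iff_mem.mp h0)
    have hF : ((algebraMap (PlRing K d n ⧸ schubertVanishing K d n τ)
          (FractionRing (PlRing K d n ⧸ schubertVanishing K d n τ))).comp
          (Ideal.Quotient.mk (schubertVanishing K d n τ))) (X τ) ≠ 0 := by
      intro h0
      rw [RingHom.comp_apply] at h0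
      exact hmk (hinj (by rw [h0, map_zero]))
    exact ufd_of_prime_of_retraction
      (algebraMap (PlRing K d n ⧸ schubertVanishing K d n τ)
        (FractionRing (PlRing K d n ⧸ schubertVanishing K d n τ))) hinj
      (Ideal.Quotient.lift (schubertVanishing K d n τ)
        (Phi K τ).toRingHom (fun f hf => Phi_eq_zero_of_mem τ hf))
      (retr ((algebraMap (PlRing K d n ⧸ schubertVanishing K d n τ)
          (FractionRing (PlRing K d n ⧸ schubertVanishing K d n τ))).comp
          (Ideal.Quotient.mk (schubertVanishing K d n τ))) hd τ)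
      (by
        intro r
        obtain ⟨f, rfl⟩ := Ideal.Quotient.mk_surjective r
        rw [Ideal.Quotient.lift_mk]
        exact retr_Phi _ hd τ hker hF f)
      (Ideal.Quotient.mk (schubertVanishing K d n τ) (X τ)) hp
      (by
        intro z
        obtain ⟨k, g, h⟩ := retr_mul_pow ((algebraMap (PlRing K d n ⧸ schubertVanishing K d n τ)
          (FractionRing (PlRing K d n ⧸ schubertVanishing K d n τ))).comp
          (Ideal.Quotient.mk (schubertVanishing K d n τ))) hd τ hF z
        exact ⟨k, Ideal.Quotient.mk _ g, h⟩)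

end

end Groth.Agent.H85.Pl
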