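import Mathlib

/-!
# Characteristic-two telescoping and a box-spanning lemma

Abstract tools for the `QsChow` dimension counts: Frobenius additivity and a telescoping sum in
characteristic two, the multiplier subalgebra of a submodule, and `span_box`: a cyclic module over a
polynomial ring on which "monic" relations hold is spanned by a box of monomials.
-/

open MvPolynomial

namespace Groth.Agent.H85.QsBox

section char2

variable {B : Type*} [CommRing B]

lemma frob_add (h2 : ∀ z : B, z + z = 0) (x y : B) (t : ℕ) :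
    (x + y) ^ 2 ^ t = x ^ 2 ^ t + y ^ 2 ^ t := by
  induction t with
  | zero => simp
  | succ t ih =>
    rw [pow_succ, pow_mul, ih, pow_mul, pow_mul]
    linear_combination h2 (x ^ 2 ^ t * y ^ 2 ^ t)

lemma tele (h2 : ∀ z : B, z + z = 0) (a b : B) (k : ℕ) :
    ∑ t ∈ Finset.range k, a ^ (2 ^ k - 2 ^ (t + 1)) * (b ^ 2 + a * b) ^ 2 ^ t
      = b ^ 2 ^ k + a ^ (2 ^ k - 1) * b := by
  induction k with
  | zero =>
    rw [Finset.range_zero, Finset.sum_empty, pow_zero, pow_one, Nat.sub_self, pow_zero, one_mul,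
      h2]
  | succ k ih =>
    rw [Finset.sum_range_succ]
    have h1 : ∑ t ∈ Finset.range k, a ^ (2 ^ (k + 1) - 2 ^ (t + 1)) * (b ^ 2 + a * b) ^ 2 ^ t
        = a ^ 2 ^ k *
          ∑ t ∈ Finset.range k, a ^ (2 ^ k - 2 ^ (t + 1)) * (b ^ 2 + a * b) ^ 2 ^ t := by
      rw [Finset.mul_sum]
      apply Finset.sum_congr rfl
      intro t ht
      have htk : 2 ^ (t + 1) ≤ 2 ^ k := Nat.pow_le_pow_right (by norm_num) (by
        have := Finset.mem_range.mp ht
        omega)
      have h : 2 ^ (k + 1) - 2 ^ (t + 1) = 2 ^ k + (2 ^ k - 2 ^ (t + 1)) := by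
        rw [pow_succ 2 k]
        omega
      rw [h, pow_add, mul_assoc]
    rw [h1, ih, Nat.sub_self, pow_zero, one_mul, frob_add h2]
    have h3 : (2 : ℕ) ^ (k + 1) - 1 = 2 ^ k + (2 ^ k - 1) := by
      have : 1 ≤ 2 ^ k := Nat.one_le_two_pow
      rw [pow_succ 2 k]
      omega
    have e1 : (b ^ 2) ^ 2 ^ k = b ^ 2 ^ (k + 1) := by
      rw [← pow_mul, ← pow_succ']
    have e2 : a ^ (2 ^ (k + 1) - 1) = a ^ 2 ^ k * a ^ (2 ^ k - 1) := by
      rw [h3, pow_add]
    rw [e1, e2, mul_pow]
    linear_combination h2 (a ^ 2 ^ k * b ^ 2 ^ k)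

end char2

section box

variable {B : Type*} [CommRing B] [Algebra (ZMod 2) B]

lemma char2 (z : B) : z + z = 0 := by
  have h : (2 : ZMod 2) = 0 := by decide
  rw [← two_smul (ZMod 2) z, h, zero_smul]

lemma sub_eq_add2 (z w : B) : z - w = z + w := by
  linear_combination (-1 : B) * char2 w

/-- the multiplier subalgebra of a submodule -/
def mult (T : Submodule (ZMod 2) B) : Subalgebra (ZMod 2) B where
  carrier := {y | ∀ w ∈ T, y * w ∈ T}
  mul_mem' := by
    intro y y' hy hy' w hw
    rw [mul_assoc]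
    exact hy _ (hy' _ hw)
  one_mem' := by
    intro w hw
    rw [one_mul]
    exact hw
  add_mem' := by
    intro y y' hy hy' w hw
    rw [add_mul]
    exact T.add_mem (hy _ hw) (hy' _ hw)
  zero_mem' := by
    intro w _
    rw [zero_mul]
    exact T.zero_mem
  algebraMap_mem' := by
    intro c w hw
    show algebraMap (ZMod 2) B c * w ∈ T
    rw [← Algebra.smul_def]
    exact T.smul_mem c hw

lemma mem_mult {T : Submodule (ZMod 2) B} {y : B} : y ∈ mult T ↔ ∀ w ∈ T, y * w ∈ T := Iff.rfl

lemma eq_top_of_stable (T : Submodule (ZMod 2) B) {ι : Type*} (g : ι → B)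
    (hg : Algebra.adjoin (ZMod 2) (Set.range g) = ⊤) (h1 : (1 : B) ∈ T)
    (hs : ∀ i, ∀ w ∈ T, g i * w ∈ T) : T = ⊤ := by
  have hle : Algebra.adjoin (ZMod 2) (Set.range g) ≤ mult T := by
    apply Algebra.adjoin_le
    rintro _ ⟨i, rfl⟩
    exact mem_mult.mpr (hs i)
  rw [eq_top_iff]
  intro y _
  have hy : y ∈ mult T := hle (by rw [hg]; exact Algebra.mem_top)
  have := mem_mult.mp hy 1 h1
  rwa [mul_one] at this

variable {s : ℕ}

/-- the span of the box monomials times `v` -/
def box (u : Fin s → B) (v : B) (bd : Fin s → ℕ) : Submodule (ZMod 2) B :=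
  Submodule.span (ZMod 2) {y | ∃ e : Fin s → ℕ, (∀ i, e i < bd i) ∧ y = (∏ i, u i ^ e i) * v}

lemma mem_box {u : Fin s → B} {v : B} {bd : Fin s → ℕ} (e : Fin s → ℕ)
    (he : ∀ i, e i < bd i) : (∏ i, u i ^ e i) * v ∈ box u v bd :=
  Submodule.subset_span ⟨e, he, rfl⟩

open Classical in
lemma box_set_eq (u : Fin s → B) (v : B) (bd : Fin s → ℕ) :
    {y | ∃ e : Fin s → ℕ, (∀ i, e i < bd i) ∧ y = (∏ i, u i ^ e i) * v} =
      ↑((Fintype.piFinset fun i => Finset.range (bd i)).image
        fun e : Fin s → ℕ => (∏ i, u i ^ e i) * v) := by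
  classical
  ext y
  simp only [Set.mem_setOf_eq, Finset.coe_image, Set.mem_image, Finset.mem_coe,
    Fintype.mem_piFinset, Finset.mem_range]
  constructor
  · rintro ⟨e, he, rfl⟩
    exact ⟨e, he, rfl⟩
  · rintro ⟨e, he, rfl⟩
    exact ⟨e, he, rfl⟩

lemma box_fg (u : Fin s → B) (v : B) (bd : Fin s → ℕ) : (box u v bd).FG := by
  classical
  unfold box
  rw [box_set_eq]
  exact Submodule.fg_span (Finset.finite_toSet _)

instance (u : Fin s → B) (v : B) (bd : Fin s → ℕ) : Module.Finite (ZMod 2) (box u v bd) :=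
  Module.Finite.of_fg (box_fg u v bd)

lemma finrank_box_le (u : Fin s → B) (v : B) (bd : Fin s → ℕ) :
    Module.finrank (ZMod 2) (box u v bd) ≤ ∏ i, bd i := by
  classical
  have h := finrank_span_finset_le_card (R := ZMod 2)
    ((Fintype.piFinset fun i => Finset.range (bd i)).image
        fun e : Fin s → ℕ => (∏ i, u i ^ e i) * v)
  unfold Set.finrank at h
  unfold box
  rw [box_set_eq]
  refine h.trans (Finset.card_image_le.trans ?_)
  rw [Fintype.card_piFinset]
  simp

lemma prod_update (u : Fin s → B) (e : Fin s → ℕ) (i : Fin s) (m : ℕ) :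
    ∏ l, u l ^ (Function.update e i m l) = u i ^ m * ∏ l, u l ^ (Function.update e i 0 l) := by
  have h : ∀ l, u l ^ (Function.update e i m l) =
      (if l = i then u i ^ m else 1) * u l ^ (Function.update e i 0 l) := by
    intro l
    by_cases h : l = i
    · subst h
      simp
    · simp [h, Function.update_of_ne h]
  rw [Finset.prod_congr rfl (fun l _ => h l), Finset.prod_mul_distrib, Finset.prod_ite_eq',
    if_pos (Finset.mem_univ _)]

lemma prod_self (u : Fin s → B) (e : Fin s → ℕ) (i : Fin s) :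
    ∏ l, u l ^ e l = u i ^ e i * ∏ l, u l ^ (Function.update e i 0 l) := by
  have h := prod_update u e i (e i)
  rwa [Function.update_eq_self] at h

lemma mul_box_mem (u : Fin s → B) (v : B) (bd : Fin s → ℕ) (y : B) (N : Submodule (ZMod 2) B)
    (h : ∀ r : MvPolynomial (Fin s) (ZMod 2), y * (aeval u r * v) ∈ N) :
    ∀ w ∈ box u v bd, y * w ∈ N := by
  intro w hw
  refine Submodule.span_induction (p := fun x _ => y * x ∈ N) ?_ ?_ ?_ ?_ hw
  · rintro _ ⟨e, _, rfl⟩
    have h' := h (∏ i, X i ^ e i)
    simp only [map_prod, map_pow, aeval_X] at h'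
    exact h'
  · rw [mul_zero]
    exact N.zero_mem
  · intro x x' _ _ hx hx'
    rw [mul_add]
    exact N.add_mem hx hx'
  · intro c x _ hx
    rw [mul_smul_comm]
    exact N.smul_mem c hx

theorem span_box (u : Fin s → B) (v : B) (W : Submodule (ZMod 2) B)
    (hW : ∀ i, ∀ w ∈ W, u i * w ∈ W) (bd : Fin s → ℕ) (hbd : ∀ i, 0 < bd i)
    (i0 i1 : Fin s)
    (H0 : u i0 ^ bd i0 * v ∈ W)
    (H1 : ∃ (T : Finset ℕ) (α β : ℕ → ℕ), (∀ t ∈ T, β t < bd i1) ∧
        u i1 ^ bd i1 * v - (∑ t ∈ T, u i0 ^ α t * u i1 ^ β t) * v ∈ W)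
    (H2 : ∀ i, i ≠ i0 → i ≠ i1 →
        ∃ z ∈ Algebra.adjoin (ZMod 2) ({u i0, u i1} : Set B), u i ^ bd i * v - z * v ∈ W)
    (r : MvPolynomial (Fin s) (ZMod 2)) :
    aeval u r * v ∈ box u v bd ⊔ W := by
  set T := box u v bd ⊔ W with hT
  have hprodW : ∀ (e : Fin s → ℕ) (w : B), w ∈ W → (∏ l, u l ^ e l) * w ∈ W := by
    intro e w hw
    have h : (∏ l, u l ^ e l) ∈ mult W :=
      Subalgebra.prod_mem _ (fun l _ => Subalgebra.pow_mem _ (mem_mult.mpr (hW l)) _)
    exact mem_mult.mp h w hw
  have step : ∀ i, (∀ (e : Fin s → ℕ), (∀ l, e l < bd l) → e i = 0 →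
        (∏ l, u l ^ e l) * (u i ^ bd i * v) ∈ T) → u i ∈ mult T := by
    intro i hi
    rw [mem_mult]
    intro w hw
    obtain ⟨w1, hw1, w2, hw2, rfl⟩ := Submodule.mem_sup.mp hw
    rw [mul_add]
    refine T.add_mem ?_ (Submodule.mem_sup_right (hW i w2 hw2))
    refine Submodule.span_induction (p := fun x _ => u i * x ∈ T) ?_ ?_ ?_ ?_ hw1
    · rintro _ ⟨e, he, rfl⟩
      have h0 := prod_self u e i
      by_cases hlt : e i + 1 < bd i
      · have h1 : u i * ((∏ l, u l ^ e l) * v) =
            (∏ l, u l ^ (Function.update e i (e i + 1) l)) * v := by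
          rw [prod_update u e i (e i + 1), h0, pow_succ]
          ring
        rw [h1]
        refine Submodule.mem_sup_left (mem_box _ ?_)
        intro l
        by_cases h : l = i
        · subst h
          rw [Function.update_self]
          exact hlt
        · rw [Function.update_of_ne h]
          exact he l
      · have hei : e i + 1 = bd i := by
          have := he i
          omega
        have h1 : u i * ((∏ l, u l ^ e l) * v) =
            (∏ l, u l ^ (Function.update e i 0 l)) * (u i ^ bd i * v) := by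
          rw [h0, ← hei, pow_succ]
          ring
        rw [h1]
        apply hi
        · intro l
          by_cases h : l = i
          · subst h
            rw [Function.update_self]
            exact hbd _
          · rw [Function.update_of_ne h]
            exact he l
        · rw [Function.update_self]
    · rw [mul_zero]
      exact T.zero_mem
    · intro x x' _ _ hx hx'
      rw [mul_add]
      exact T.add_mem hx hx'
    · intro c x _ hx
      rw [mul_smul_comm]
      exact T.smul_mem c hx
  have hv : v ∈ T := by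
    have h := mem_box (u := u) (v := v) (bd := bd) (fun _ => 0) (fun i => hbd i)
    simp only [pow_zero, Finset.prod_const_one, one_mul] at h
    exact Submodule.mem_sup_left h
  have h0 : u i0 ∈ mult T := by
    apply step
    intro e _ _
    exact Submodule.mem_sup_right (hprodW e _ H0)
  have h1 : u i1 ∈ mult T := by
    apply step
    intro e he hei
    obtain ⟨Tt, α, β, hβ, hrel⟩ := H1
    have hupd : ∀ t, (∏ l, u l ^ (Function.update e i1 (β t) l)) =
        u i1 ^ β t * ∏ l, u l ^ e l := by
      intro t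
      rw [prod_update]
      have h : Function.update e i1 0 = e := by
        rw [← hei, Function.update_eq_self]
      rw [h]
    have hs : ∑ t ∈ Tt, u i0 ^ α t * ((∏ l, u l ^ (Function.update e i1 (β t) l)) * v) =
        (∏ l, u l ^ e l) * ((∑ t ∈ Tt, u i0 ^ α t * u i1 ^ β t) * v) := by
      rw [Finset.sum_mul, Finset.mul_sum]
      apply Finset.sum_congr rfl
      intro t _
      rw [hupd t]
      ring
    have hsplit : (∏ l, u l ^ e l) * (u i1 ^ bd i1 * v) =
        (∏ l, u l ^ e l) * (u i1 ^ bd i1 * v - (∑ t ∈ Tt, u i0 ^ α t * u i1 ^ β t) * v) +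
        ∑ t ∈ Tt, u i0 ^ α t * ((∏ l, u l ^ (Function.update e i1 (β t) l)) * v) := by
      rw [hs]
      ring
    rw [hsplit]
    refine T.add_mem (Submodule.mem_sup_right (hprodW e _ hrel)) (T.sum_mem ?_)
    intro t ht
    refine mem_mult.mp (Subalgebra.pow_mem _ h0 (α t)) _ (Submodule.mem_sup_left (mem_box _ ?_))
    intro l
    by_cases h : l = i1
    · subst h
      rw [Function.update_self]
      exact hβ t ht
    · rw [Function.update_of_ne h]
      exact he l
  have hadj : Algebra.adjoin (ZMod 2) ({u i0, u i1} : Set B) ≤ mult T := by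
    apply Algebra.adjoin_le
    intro y hy
    rcases hy with rfl | rfl
    · exact h0
    · exact h1
  have hall : ∀ i, u i ∈ mult T := by
    intro i
    by_cases hi0 : i = i0
    · rw [hi0]
      exact h0
    by_cases hi1 : i = i1
    · rw [hi1]
      exact h1
    apply step
    intro e he _
    obtain ⟨z, hz, hrel⟩ := H2 i hi0 hi1
    have hsplit : (∏ l, u l ^ e l) * (u i ^ bd i * v) =
        (∏ l, u l ^ e l) * (u i ^ bd i * v - z * v) + z * ((∏ l, u l ^ e l) * v) := by
      ring
    rw [hsplit]
    exact T.add_mem (Submodule.mem_sup_right (hprodW e _ hrel))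
      (mem_mult.mp (hadj hz) _ (Submodule.mem_sup_left (mem_box e he)))
  have hr : aeval u r ∈ mult T := by
    induction r using MvPolynomial.induction_on with
    | C c =>
      rw [aeval_C]
      exact Subalgebra.algebraMap_mem _ c
    | add p q hp hq =>
      rw [map_add]
      exact Subalgebra.add_mem _ hp hq
    | mul_X p i hp =>
      rw [map_mul, aeval_X]
      exact Subalgebra.mul_mem _ hp (hall i)
  exact mem_mult.mp hr v hv

end box

end Groth.Agent.H85.QsBox
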