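import Mathlib
import Groth.Prelude.Def_W4c4chowquasisplitPn

/-!
# The truncated algebra `P_n` of `QsChow` and its involution

Structure used for S17739–S17741: with `a = ε_1`, `b = ε_2` and `D` the subalgebra generated by the
invariants `ē_j`, one has `P = D + D·b` (`T_all`), `τ(u + v b) = u + v b + v a` for `u, v ∈ D`, and
`Ann(a) = a^(n-1) P` (`ann`, a monomial-ideal computation).
-/

open MvPolynomial QsChow

namespace Groth.Agent.H85.QsC

variable {n : ℕ}

lemma two_le_numVars (hn : 2 ≤ n) : 2 ≤ numVars n := by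
  unfold numVars
  omega

/-- characteristic two -/
lemma add_self' (z : P n) : z + z = 0 := by
  have h : (2 : ZMod 2) = 0 := by decide
  rw [← two_smul (ZMod 2) z, h, zero_smul]

lemma eps_eq (j : ℕ) (h : 0 < j ∧ j ≤ numVars n) :
    eps n j = Ideal.Quotient.mk (truncIdeal n) (X (⟨j - 1, by omega⟩ : Fin (numVars n))) := by
  unfold eps
  rw [dif_pos h]

lemma eps_succ (i : Fin (numVars n)) :
    eps n (i.val + 1) = Ideal.Quotient.mk (truncIdeal n) (X i) := by
  rw [eps_eq (i.val + 1) ⟨Nat.succ_pos _, i.isLt⟩]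
  rfl

lemma genImage_some (i : Fin (numVars n)) : genImage n (some i) =
    if i.val = 0 then eps n 1
    else if i.val = 1 then eps n 2 ^ 2 + eps n 1 * eps n 2
    else eps n (i.val + 1) + eps n 1 ^ (2 * (i.val + 1) - 4) * eps n 2 := rfl

lemma genImage_none : genImage n none = eps n 1 ^ (n - 1) * eps n 2 := rfl

lemma eps_one_pow (hn : 2 ≤ n) : eps n 1 ^ n = 0 := by
  have h := two_le_numVars hn
  rw [eps_eq 1 ⟨Nat.one_pos, by omega⟩, ← map_pow, Ideal.Quotient.eq_zero_iff_mem]
  apply Ideal.subset_span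
  refine ⟨⟨0, by omega⟩, ?_⟩
  show (X (⟨0, _⟩ : Fin (numVars n)) : FreeP n) ^ bound n ⟨0, _⟩ = _
  unfold bound
  rw [if_pos rfl]

section tau

variable (hn : 2 ≤ n) (τ : P n →ₐ[ZMod 2] P n) (hτ1 : τ (eps n 1) = eps n 1)
  (hτ : ∀ j : ℕ, 2 ≤ j → j ≤ numVars n → τ (eps n j) = eps n j + eps n 1 ^ (2 * j - 3))

include hn hτ in
lemma tau_b : τ (eps n 2) = eps n 2 + eps n 1 := by
  have h := hτ 2 le_rfl (two_le_numVars hn)
  simpa using h

include hn hτ1 hτ in
lemma genImage_fixed (o : Option (Fin (numVars n))) : τ (genImage n o) = genImage n o := by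
  have hb := tau_b hn τ hτ
  cases o with
  | none =>
    rw [genImage_none, map_mul, map_pow, hτ1, hb, mul_add, ← pow_succ,
      Nat.sub_add_cancel (by omega), eps_one_pow hn, add_zero]
  | some i =>
    rw [genImage_some]
    by_cases h0 : i.val = 0
    · rw [if_pos h0]
      exact hτ1
    · rw [if_neg h0]
      by_cases h1 : i.val = 1
      · rw [if_pos h1, map_add, map_pow, map_mul, hτ1, hb]
        linear_combination add_self' (eps n 1 * eps n 2) + add_self' (eps n 1 ^ 2)
      · rw [if_neg h1, map_add, map_mul, map_pow, hτ1, hb, hτ (i.val + 1) (by omega) i.isLt]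
        have h3 : 2 * (i.val + 1) - 3 = (2 * (i.val + 1) - 4) + 1 := by omega
        rw [h3, pow_succ]
        linear_combination add_self' (eps n 1 ^ (2 * (i.val + 1) - 4) * eps n 1)

end tau

/-- the subalgebra generated by the invariants `ē_j` -/
noncomputable def Dbar (n : ℕ) : Subalgebra (ZMod 2) (P n) :=
  Algebra.adjoin (ZMod 2) (Set.range fun i : Fin (numVars n) => genImage n (some i))

/-- elements of the form `u + v b` with `u, v ∈ D` -/
def T (n : ℕ) (z : P n) : Prop := ∃ u ∈ Dbar n, ∃ v ∈ Dbar n, z = u + v * eps n 2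

lemma a_mem (hn : 2 ≤ n) : eps n 1 ∈ Dbar n := by
  have h := two_le_numVars hn
  refine Algebra.subset_adjoin ⟨⟨0, by omega⟩, ?_⟩
  show genImage n (some ⟨0, _⟩) = _
  rw [genImage_some, if_pos rfl]

lemma e2_mem (hn : 2 ≤ n) : eps n 2 ^ 2 + eps n 1 * eps n 2 ∈ Dbar n := by
  have h := two_le_numVars hn
  refine Algebra.subset_adjoin ⟨⟨1, by omega⟩, ?_⟩
  show genImage n (some ⟨1, _⟩) = _
  rw [genImage_some, if_neg (by simp), if_pos rfl]

lemma T_add {z z' : P n} (hz : T n z) (hz' : T n z') : T n (z + z') := by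
  obtain ⟨u, hu, v, hv, rfl⟩ := hz
  obtain ⟨u', hu', v', hv', rfl⟩ := hz'
  exact ⟨u + u', add_mem hu hu', v + v', add_mem hv hv', by ring⟩

lemma T_mul (hn : 2 ≤ n) {z z' : P n} (hz : T n z) (hz' : T n z') : T n (z * z') := by
  obtain ⟨u, hu, v, hv, rfl⟩ := hz
  obtain ⟨u', hu', v', hv', rfl⟩ := hz'
  refine ⟨u * u' + v * v' * (eps n 2 ^ 2 + eps n 1 * eps n 2),
    add_mem (mul_mem hu hu') (mul_mem (mul_mem hv hv') (e2_mem hn)),
    u * v' + v * u' + v * v' * eps n 1,
    add_mem (add_mem (mul_mem hu hv') (mul_mem hv hu')) (mul_mem (mul_mem hv hv') (a_mem hn)), ?_⟩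
  linear_combination (-1 : P n) * add_self' (v * v' * eps n 1 * eps n 2)

lemma T_var (hn : 2 ≤ n) (i : Fin (numVars n)) :
    T n (Ideal.Quotient.mk (truncIdeal n) (X i)) := by
  rw [← eps_succ i]
  by_cases h0 : i.val = 0
  · rw [h0]
    exact ⟨eps n 1, a_mem hn, 0, zero_mem _, by rw [zero_mul, add_zero]⟩
  · by_cases h1 : i.val = 1
    · rw [h1]
      exact ⟨0, zero_mem _, 1, one_mem _, by rw [one_mul, zero_add]⟩
    · refine ⟨genImage n (some i), Algebra.subset_adjoin ⟨i, rfl⟩,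
        eps n 1 ^ (2 * (i.val + 1) - 4), pow_mem (a_mem hn) _, ?_⟩
      rw [genImage_some, if_neg h0, if_neg h1, add_assoc, add_self', add_zero]

lemma T_all (hn : 2 ≤ n) (z : P n) : T n z := by
  obtain ⟨f, rfl⟩ := Ideal.Quotient.mk_surjective z
  induction f using MvPolynomial.induction_on with
  | C c =>
    exact ⟨algebraMap (ZMod 2) (P n) c, Subalgebra.algebraMap_mem _ c, 0, zero_mem _,
      by rw [zero_mul, add_zero]; rfl⟩
  | add p q hp hq =>
    rw [map_add]
    exact T_add hp hq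
  | mul_X p i hp =>
    rw [map_mul]
    exact T_mul hn hp (T_var hn i)

/-- the annihilator of `ε_1` is `ε_1^(n-1) P` -/
lemma ann (hn : 2 ≤ n) (v : P n) (hv : eps n 1 * v = 0) : ∃ w, v = eps n 1 ^ (n - 1) * w := by
  classical
  have h2 := two_le_numVars hn
  have ha : eps n 1 = Ideal.Quotient.mk (truncIdeal n) (X (⟨0, by omega⟩ : Fin (numVars n))) :=
    eps_eq 1 ⟨Nat.one_pos, by omega⟩
  obtain ⟨f, rfl⟩ := Ideal.Quotient.mk_surjective v
  rw [ha, ← map_mul, Ideal.Quotient.eq_zero_iff_mem] at hv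
  have hI : truncIdeal n = Ideal.span ((fun s => monomial s (1 : ZMod 2)) ''
      (Set.range fun i : Fin (numVars n) => Finsupp.single i (bound n i))) := by
    unfold truncIdeal
    congr 1
    rw [← Set.range_comp]
    congr 1
    funext i
    exact X_pow_eq_monomial
  have hb0 : bound n (⟨0, by omega⟩ : Fin (numVars n)) = n := by
    unfold bound
    rw [if_pos rfl]
  have hv' := hv
  rw [hI, mem_ideal_span_monomial_image] at hv'
  have hJ : f ∈ Ideal.span ((fun s => monomial s (1 : ZMod 2)) ''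
      (insert (Finsupp.single (⟨0, by omega⟩ : Fin (numVars n)) (n - 1))
        (Set.range fun i : Fin (numVars n) => Finsupp.single i (bound n i)))) := by
    rw [mem_ideal_span_monomial_image]
    intro m hm
    have hm' : Finsupp.single (⟨0, by omega⟩ : Fin (numVars n)) 1 + m ∈
        (X (⟨0, by omega⟩ : Fin (numVars n)) * f).support := by
      rw [support_X_mul]
      exact Finset.mem_map_of_mem _ hm
    obtain ⟨_, ⟨i, rfl⟩, hle⟩ := hv' _ hm'
    by_cases hi : i = (⟨0, by omega⟩ : Fin (numVars n))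
    · refine ⟨Finsupp.single (⟨0, by omega⟩ : Fin (numVars n)) (n - 1), Set.mem_insert _ _, ?_⟩
      have h1 := Finsupp.le_def.mp hle (⟨0, by omega⟩ : Fin (numVars n))
      rw [hi, Finsupp.single_eq_same, Finsupp.add_apply, Finsupp.single_eq_same, hb0] at h1
      rw [Finsupp.le_def]
      intro j
      by_cases hj : j = (⟨0, by omega⟩ : Fin (numVars n))
      · rw [hj, Finsupp.single_eq_same]
        omega
      · rw [Finsupp.single_apply, if_neg (fun h => hj h.symm)]
        exact Nat.zero_le _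
    · refine ⟨Finsupp.single i (bound n i), Set.mem_insert_of_mem _ ⟨i, rfl⟩, ?_⟩
      rw [Finsupp.le_def]
      intro j
      by_cases hj : j = i
      · have h1 := Finsupp.le_def.mp hle i
        rw [Finsupp.single_eq_same, Finsupp.add_apply, Finsupp.single_apply,
          if_neg (fun h => hi h.symm), zero_add] at h1
        rw [hj, Finsupp.single_eq_same]
        exact h1
      · rw [Finsupp.single_apply, if_neg (fun h => hj h.symm)]
        exact Nat.zero_le _
  have hJle : Ideal.span ((fun s => monomial s (1 : ZMod 2)) ''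
      (insert (Finsupp.single (⟨0, by omega⟩ : Fin (numVars n)) (n - 1))
        (Set.range fun i : Fin (numVars n) => Finsupp.single i (bound n i)))) ≤
      Ideal.span {(X (⟨0, by omega⟩ : Fin (numVars n)) : FreeP n) ^ (n - 1)} ⊔ truncIdeal n := by
    rw [Ideal.span_le]
    rintro _ ⟨s, hs, rfl⟩
    rcases hs with rfl | ⟨i, rfl⟩
    · exact Ideal.mem_sup_left (by
        show (monomial (Finsupp.single _ _) (1 : ZMod 2) : FreeP n) ∈ _
        rw [← X_pow_eq_monomial]; exact Ideal.subset_span rfl)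
    · exact Ideal.mem_sup_right (by
        show (monomial (Finsupp.single _ _) (1 : ZMod 2) : FreeP n) ∈ _
        rw [← X_pow_eq_monomial]
        exact Ideal.subset_span ⟨i, rfl⟩)
  obtain ⟨p, hp, q, hq, hpq⟩ := Submodule.mem_sup.mp (hJle hJ)
  obtain ⟨g, rfl⟩ := Ideal.mem_span_singleton'.mp hp
  refine ⟨Ideal.Quotient.mk _ g, ?_⟩
  rw [← hpq, map_add, Ideal.Quotient.eq_zero_iff_mem.mpr hq, add_zero, map_mul, map_pow, ha,
    mul_comm]

section main

variable (hn : 2 ≤ n) (τ : P n →ₐ[ZMod 2] P n) (hτ1 : τ (eps n 1) = eps n 1)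
  (hτ : ∀ j : ℕ, 2 ≤ j → j ≤ numVars n → τ (eps n j) = eps n j + eps n 1 ^ (2 * j - 3))

include hn hτ1 hτ in
lemma Dbar_fixed {u : P n} (hu : u ∈ Dbar n) : τ u = u := by
  have h : Dbar n ≤ AlgHom.equalizer τ (AlgHom.id (ZMod 2) (P n)) := by
    apply Algebra.adjoin_le
    rintro _ ⟨i, rfl⟩
    exact genImage_fixed hn τ hτ1 hτ (some i)
  exact h hu

include hn hτ1 hτ in
lemma sum_tau {u v : P n} (hu : u ∈ Dbar n) (hv : v ∈ Dbar n) :
    (u + v * eps n 2) + τ (u + v * eps n 2) = eps n 1 * v := by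
  rw [map_add, map_mul, Dbar_fixed hn τ hτ1 hτ hu, Dbar_fixed hn τ hτ1 hτ hv, tau_b hn τ hτ]
  linear_combination add_self' (u + v * eps n 2)

include hn hτ1 hτ in
theorem main39 :
    Set.range (fun y : P n => y + τ y) =
      (fun z : P n => eps n 1 * z) ''
        (AlgHom.equalizer τ (AlgHom.id (ZMod 2) (P n)) : Set (P n)) := by
  ext w
  constructor
  · rintro ⟨y, rfl⟩
    obtain ⟨u, hu, v, hv, rfl⟩ := T_all hn y
    refine ⟨v, Dbar_fixed hn τ hτ1 hτ hv, ?_⟩
    exact (sum_tau hn τ hτ1 hτ hu hv).symm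
  · rintro ⟨z, hz, rfl⟩
    have hz' : τ z = z := hz
    refine ⟨z * eps n 2, ?_⟩
    show z * eps n 2 + τ (z * eps n 2) = eps n 1 * z
    rw [map_mul, hz', tau_b hn τ hτ]
    linear_combination add_self' (z * eps n 2)

include hn hτ1 hτ in
theorem main40 (m : ℕ) (hm1 : 1 ≤ m) (hmn : m ≤ n) (y : P n)
    (hy : y + τ y ∈ Ideal.span ({eps n 1 ^ m} : Set (P n))) :
    ∃ z : P n, τ z = z ∧ y + τ y = eps n 1 ^ m * z := by
  obtain ⟨u, hu, v, hv, rfl⟩ := T_all hn y
  rw [sum_tau hn τ hτ1 hτ hu hv] at hy ⊢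
  obtain ⟨w, hw⟩ := Ideal.mem_span_singleton'.mp hy
  have hpm : eps n 1 ^ m = eps n 1 * eps n 1 ^ (m - 1) := by
    rw [← pow_succ', Nat.sub_add_cancel hm1]
  have h1 : eps n 1 * (v + eps n 1 ^ (m - 1) * w) = 0 := by
    rw [mul_add, ← hw, hpm]
    linear_combination add_self' (w * (eps n 1 * eps n 1 ^ (m - 1)))
  obtain ⟨w', hw'⟩ := ann hn _ h1
  have hpn : eps n 1 ^ (n - 1) = eps n 1 ^ (m - 1) * eps n 1 ^ (n - m) := by
    rw [← pow_add]
    congr 1
    omega
  have hv2 : v = eps n 1 ^ (m - 1) * (w + eps n 1 ^ (n - m) * w') := by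
    have h3 : v = eps n 1 ^ (n - 1) * w' + eps n 1 ^ (m - 1) * w := by
      linear_combination hw' - add_self' (eps n 1 ^ (m - 1) * w)
    rw [h3, hpn]
    ring
  obtain ⟨u', hu', v', hv', hW⟩ := T_all hn (w + eps n 1 ^ (n - m) * w')
  have hτv : τ v = v := Dbar_fixed hn τ hτ1 hτ hv
  have h4 : eps n 1 ^ m * v' = 0 := by
    rw [hv2, hW] at hτv
    rw [map_mul, map_pow, hτ1, map_add, map_mul, Dbar_fixed hn τ hτ1 hτ hu',
      Dbar_fixed hn τ hτ1 hτ hv', tau_b hn τ hτ] at hτv
    have hpm' : eps n 1 ^ m = eps n 1 ^ (m - 1) * eps n 1 := by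
      rw [← pow_succ, Nat.sub_add_cancel hm1]
    rw [hpm']
    linear_combination hτv
  refine ⟨u', Dbar_fixed hn τ hτ1 hτ hu', ?_⟩
  rw [hv2, hW]
  calc eps n 1 * (eps n 1 ^ (m - 1) * (u' + v' * eps n 2))
      = eps n 1 ^ m * u' + (eps n 1 ^ m * v') * eps n 2 := by rw [hpm]; ring
    _ = eps n 1 ^ m * u' := by rw [h4, zero_mul, add_zero]

include hn hτ1 hτ in
theorem main41 : (phi n).range = AlgHom.equalizer τ (AlgHom.id (ZMod 2) (P n)) := by
  apply le_antisymm
  · unfold phi
    rw [aeval_range]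
    apply Algebra.adjoin_le
    rintro _ ⟨o, rfl⟩
    exact genImage_fixed hn τ hτ1 hτ o
  · intro z hz
    have hz' : τ z = z := hz
    have hD : Dbar n ≤ (phi n).range := by
      apply Algebra.adjoin_le
      rintro _ ⟨i, rfl⟩
      exact ⟨X (some i), by
        show (aeval (genImage n)) (X (some i)) = _
        rw [aeval_X]⟩
    have hx : eps n 1 ^ (n - 1) * eps n 2 ∈ (phi n).range :=
      ⟨X none, by
        show (aeval (genImage n)) (X none) = _
        rw [aeval_X]; rfl⟩
    obtain ⟨u, hu, v, hv, rfl⟩ := T_all hn z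
    have hva : eps n 1 * v = 0 := by
      rw [map_add, map_mul, Dbar_fixed hn τ hτ1 hτ hu, Dbar_fixed hn τ hτ1 hτ hv,
        tau_b hn τ hτ] at hz'
      linear_combination hz'
    obtain ⟨w, hw⟩ := ann hn v hva
    obtain ⟨u', hu', v', hv', hW⟩ := T_all hn w
    have h0 : eps n 1 ^ (n - 1) * eps n 1 = 0 := by
      rw [← pow_succ, Nat.sub_add_cancel (by omega), eps_one_pow hn]
    have key : u + v * eps n 2 = u + (eps n 1 ^ (n - 1) * eps n 2) * u' +
        eps n 1 ^ (n - 1) * v' * (eps n 2 ^ 2 + eps n 1 * eps n 2) := by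
      rw [hw, hW]
      linear_combination (-(v' * eps n 2)) * h0
    rw [key]
    exact add_mem (add_mem (hD hu) (mul_mem hx (hD hu')))
      (mul_mem (mul_mem (pow_mem (hD (a_mem hn)) _) (hD hv')) (hD (e2_mem hn)))

end main

end Groth.Agent.H85.QsC
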