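import Mathlib
import Groth.Prelude.Def_W4c4chowquasisplitPn
import Groth.Agent.H85.QsC
import Groth.Agent.H85.QsBox

/-!
# The kernel of `φ : F_2[e, x] → P_n` (S17742)

`presIdeal ≤ ker φ` by a characteristic-two telescoping computation; the converse by a dimension
count: `F_2[e,x]/presIdeal` is spanned by `(n+1)K` monomials, while the `τ`-fixed subalgebra (the
range of `φ`) has dimension at least `dim P - dim ε_1 D = 2nK - (n-1)K`.
-/

open MvPolynomial QsChow

namespace Groth.Agent.H85.QsK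

open Groth.Agent.H85.QsC Groth.Agent.H85.QsBox

variable {n : ℕ}

/-! ### numerics -/

lemma klog_pos (hn : 2 ≤ n) (j : ℕ) (hj2 : 2 ≤ j) (hjs : j ≤ numVars n) : 1 ≤ klog n j := by
  unfold klog
  have h : 0 < Nat.log 2 ((2 * n - 1) / (2 * j - 3)) := by
    apply Nat.log_pos (by norm_num)
    unfold numVars at hjs
    rw [Nat.le_div_iff_mul_le (by omega)]
    omega
  omega

lemma le_mul_pow (j : ℕ) (hj2 : 2 ≤ j) : n ≤ (2 * j - 3) * 2 ^ klog n j := by
  unfold klog
  have hd0 : 0 < 2 * j - 3 := by omega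
  have h1 : (2 * n - 1) / (2 * j - 3) < 2 ^ (Nat.log 2 ((2 * n - 1) / (2 * j - 3)) + 1) :=
    Nat.lt_pow_succ_log_self (by norm_num) _
  have h2 : 2 * n - 1 < (2 * j - 3) * ((2 * n - 1) / (2 * j - 3) + 1) :=
    Nat.lt_mul_div_succ (2 * n - 1) hd0
  have h3 : (2 * j - 3) * ((2 * n - 1) / (2 * j - 3) + 1) ≤
      (2 * j - 3) * 2 ^ (Nat.log 2 ((2 * n - 1) / (2 * j - 3)) + 1) :=
    Nat.mul_le_mul_left _ h1
  have h4 : (2 * j - 3) * 2 ^ (Nat.log 2 ((2 * n - 1) / (2 * j - 3)) + 1) =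
      2 * ((2 * j - 3) * 2 ^ Nat.log 2 ((2 * n - 1) / (2 * j - 3))) := by
    rw [pow_succ]
    ring
  omega

/-- index of `ε_1` -/
def i0 (hn : 2 ≤ n) : Fin (numVars n) := ⟨0, by have := two_le_numVars hn; omega⟩

/-- index of `ε_2` -/
def i1 (hn : 2 ≤ n) : Fin (numVars n) := ⟨1, by have := two_le_numVars hn; omega⟩

lemma i0_val (hn : 2 ≤ n) : (i0 hn).val = 0 := rfl

lemma i1_val (hn : 2 ≤ n) : (i1 hn).val = 1 := rfl

lemma i1_val_ne (hn : 2 ≤ n) : ¬ (i1 hn).val = 0 := by
  rw [i1_val]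
  norm_num

lemma ge_two_of_ne (hn : 2 ≤ n) (i : Fin (numVars n)) (h0 : i ≠ i0 hn) (h1 : i ≠ i1 hn) :
    2 ≤ i.val := by
  by_contra hlt
  have h : i.val = 0 ∨ i.val = 1 := by omega
  rcases h with h | h
  · exact h0 (Fin.ext h)
  · exact h1 (Fin.ext h)

/-! ### relations in `P` -/

lemma eps_pow_bound (i : Fin (numVars n)) (hi : i.val ≠ 0) :
    eps n (i.val + 1) ^ 2 ^ klog n (i.val + 1) = 0 := by
  rw [eps_succ, ← map_pow, Ideal.Quotient.eq_zero_iff_mem]
  apply Ideal.subset_span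
  refine ⟨i, ?_⟩
  show (X i : FreeP n) ^ bound n i = _
  unfold bound
  rw [if_neg hi]

lemma a_pow_zero (hn : 2 ≤ n) (m : ℕ) (hm : n ≤ m) : eps n 1 ^ m = 0 :=
  pow_eq_zero_of_le hm (eps_one_pow hn)

lemma eps2_pow (hn : 2 ≤ n) : eps n 2 ^ 2 ^ klog n 2 = 0 :=
  eps_pow_bound (i1 hn) (i1_val_ne hn)

lemma phi_X (o : Option (Fin (numVars n))) : phi n (X o) = genImage n o := by
  show aeval (genImage n) (X o) = _
  rw [aeval_X]

lemma evar_succ (i : Fin (numVars n)) : evar n (i.val + 1) = X (some i) := by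
  unfold evar
  rw [dif_pos ⟨Nat.succ_pos _, i.isLt⟩]
  rfl

lemma evar1 (hn : 2 ≤ n) : evar n 1 = X (some (i0 hn)) := evar_succ (i0 hn)

lemma evar2 (hn : 2 ≤ n) : evar n 2 = X (some (i1 hn)) := evar_succ (i1 hn)

lemma phi_evar1 (hn : 2 ≤ n) : phi n (evar n 1) = eps n 1 := by
  rw [evar1 hn, phi_X, genImage_some, if_pos (i0_val hn)]

lemma phi_evar2 (hn : 2 ≤ n) : phi n (evar n 2) = eps n 2 ^ 2 + eps n 1 * eps n 2 := by
  rw [evar2 hn, phi_X, genImage_some, if_neg (i1_val_ne hn), if_pos (i1_val hn)]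

lemma phi_evar_ge (i : Fin (numVars n)) (h : 2 ≤ i.val) :
    phi n (evar n (i.val + 1)) =
      eps n (i.val + 1) + eps n 1 ^ (2 * (i.val + 1) - 4) * eps n 2 := by
  rw [evar_succ, phi_X, genImage_some, if_neg (by omega), if_neg (by omega)]

lemma phi_xvar : phi n (xvar n) = eps n 1 ^ (n - 1) * eps n 2 := phi_X none

lemma phi_sPoly (hn : 2 ≤ n) (j : ℕ) :
    phi n (sPoly n j) = eps n 2 ^ 2 ^ klog n j + eps n 1 ^ (2 ^ klog n j - 1) * eps n 2 := by
  unfold sPoly
  rw [map_sum]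
  simp only [map_mul, map_pow, phi_evar1 hn, phi_evar2 hn]
  exact tele add_self' _ _ _

lemma phi_hrel2 (hn : 2 ≤ n) : phi n (hrel n 2) = 0 := by
  unfold hrel
  rw [if_pos rfl, map_add, map_mul, map_pow, phi_evar1 hn, phi_sPoly hn, phi_xvar, eps2_pow hn,
    zero_add]
  have hle : n ≤ 2 ^ klog n 2 := by
    have h := le_mul_pow (n := n) 2 le_rfl
    simpa using h
  have he : eps n 1 ^ (2 ^ klog n 2 - n) * (eps n 1 ^ (n - 1) * eps n 2) =
      eps n 1 ^ (2 ^ klog n 2 - 1) * eps n 2 := by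
    rw [← mul_assoc, ← pow_add]
    congr 2
    omega
  rw [he]
  exact add_self' _

lemma mul_split (j : ℕ) (hj : 2 ≤ j) (k : ℕ) : (2 * j - 3) * 2 ^ k = (2 * j - 4) * 2 ^ k + 2 ^ k := by
  have h : 2 * j - 3 = (2 * j - 4) + 1 := by omega
  rw [h, add_mul, one_mul]

lemma phi_hrel_ge (hn : 2 ≤ n) (i : Fin (numVars n)) (h : 2 ≤ i.val) :
    phi n (hrel n (i.val + 1)) = 0 := by
  unfold hrel
  rw [if_neg (by omega), if_pos ⟨by omega, i.isLt⟩]
  have hej := phi_evar_ge i h
  rw [map_add, map_add, map_mul, map_mul, map_pow, map_pow, map_pow, phi_evar1 hn, phi_sPoly hn,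
    phi_xvar, hej]
  rw [frob_add add_self', eps_pow_bound i (by omega), zero_add, mul_pow, ← pow_mul]
  have hle := le_mul_pow (n := n) (i.val + 1) (by omega)
  have hsp := mul_split (i.val + 1) (by omega) (klog n (i.val + 1))
  have h1 : 1 ≤ 2 ^ klog n (i.val + 1) := Nat.one_le_two_pow
  have c1 : eps n 1 ^ ((2 * (i.val + 1) - 3) * 2 ^ klog n (i.val + 1) - n) *
      (eps n 1 ^ (n - 1) * eps n 2) =
      eps n 1 ^ ((2 * (i.val + 1) - 3) * 2 ^ klog n (i.val + 1) - 1) * eps n 2 := by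
    rw [← mul_assoc, ← pow_add]
    congr 2
    omega
  have c2 : eps n 1 ^ ((2 * (i.val + 1) - 4) * 2 ^ klog n (i.val + 1)) *
      (eps n 1 ^ (2 ^ klog n (i.val + 1) - 1) * eps n 2) =
      eps n 1 ^ ((2 * (i.val + 1) - 3) * 2 ^ klog n (i.val + 1) - 1) * eps n 2 := by
    rw [← mul_assoc, ← pow_add]
    congr 2
    omega
  rw [c1, mul_add (eps n 1 ^ ((2 * (i.val + 1) - 4) * 2 ^ klog n (i.val + 1))), c2]
  linear_combination
    add_self' (eps n 1 ^ ((2 * (i.val + 1) - 4) * 2 ^ klog n (i.val + 1)) *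
      eps n 2 ^ 2 ^ klog n (i.val + 1)) +
    add_self' (eps n 1 ^ ((2 * (i.val + 1) - 3) * 2 ^ klog n (i.val + 1) - 1) * eps n 2)

lemma presIdeal_le_ker (hn : 2 ≤ n) : presIdeal n ≤ RingHom.ker (phi n) := by
  unfold presIdeal
  rw [Ideal.span_le]
  rintro y (hy | ⟨i, rfl⟩)
  · rcases hy with rfl | rfl | rfl
    · show phi n (evar n 1 ^ n) = 0
      rw [map_pow, phi_evar1 hn, eps_one_pow hn]
    · show phi n (evar n 1 * xvar n) = 0
      rw [map_mul, phi_evar1 hn, phi_xvar, ← mul_assoc, ← pow_succ',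
        Nat.sub_add_cancel (by omega), eps_one_pow hn, zero_mul]
    · show phi n (xvar n ^ 2) = 0
      rw [map_pow, phi_xvar, mul_pow, ← pow_mul, a_pow_zero hn _ (by omega), zero_mul]
  · show phi n (hrel n (i.val + 1)) = 0
    by_cases h0 : i.val = 0
    · have hz : hrel n (i.val + 1) = 0 := by
        unfold hrel
        rw [if_neg (by omega), if_neg (by omega)]
      rw [hz, map_zero]
    by_cases h1 : i.val = 1
    · rw [h1]
      exact phi_hrel2 hn
    · exact phi_hrel_ge hn i (by omega)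

/-! ### the involution -/

/-- images of the variables under `τ` -/
noncomputable def tauImg (n : ℕ) (i : Fin (numVars n)) : P n :=
  if i.val = 0 then eps n 1 else eps n (i.val + 1) + eps n 1 ^ (2 * (i.val + 1) - 3)

lemma tau_exists (hn : 2 ≤ n) : ∃ τ : P n →ₐ[ZMod 2] P n, τ (eps n 1) = eps n 1 ∧
    ∀ j : ℕ, 2 ≤ j → j ≤ numVars n → τ (eps n j) = eps n j + eps n 1 ^ (2 * j - 3) := by
  have h2 := two_le_numVars hn
  have hker : ∀ x ∈ truncIdeal n, (aeval (tauImg n) : FreeP n →ₐ[ZMod 2] P n) x = 0 := by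
    intro x hx
    have hle : truncIdeal n ≤ RingHom.ker (aeval (tauImg n) : FreeP n →ₐ[ZMod 2] P n) := by
      unfold truncIdeal
      rw [Ideal.span_le]
      rintro _ ⟨i, rfl⟩
      show aeval (tauImg n) ((X i : FreeP n) ^ bound n i) = 0
      rw [map_pow, aeval_X]
      unfold tauImg bound
      by_cases h0 : i.val = 0
      · rw [if_pos h0, if_pos h0, eps_one_pow hn]
      · rw [if_neg h0, if_neg h0, frob_add add_self', eps_pow_bound i h0, zero_add, ← pow_mul]
        exact a_pow_zero hn _ (le_mul_pow (n := n) (i.val + 1) (by omega))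
    exact hle hx
  refine ⟨Ideal.Quotient.liftₐ (truncIdeal n) (aeval (tauImg n)) hker, ?_, ?_⟩
  · rw [eps_eq 1 ⟨Nat.one_pos, by omega⟩]
    show aeval (tauImg n) (X _) = _
    rw [aeval_X]
    unfold tauImg
    rw [if_pos rfl, eps_eq 1 ⟨Nat.one_pos, by omega⟩]
  · intro j hj2 hjs
    have he := eps_eq (n := n) j ⟨by omega, hjs⟩
    have h1 : (Ideal.Quotient.liftₐ (truncIdeal n) (aeval (tauImg n)) hker) (eps n j) =
        tauImg n ⟨j - 1, by omega⟩ := by
      rw [he]
      show aeval (tauImg n) (X _) = _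
      rw [aeval_X]
    rw [h1]
    unfold tauImg
    rw [if_neg (by show ¬ (j - 1 = 0); omega)]
    show eps n (j - 1 + 1) + eps n 1 ^ (2 * (j - 1 + 1) - 3) = _
    rw [Nat.sub_add_cancel (by omega)]

/-! ### dimension of `P` -/

/-- classes of the variables in `P` -/
noncomputable def uP (n : ℕ) (i : Fin (numVars n)) : P n := Ideal.Quotient.mk (truncIdeal n) (X i)

lemma aeval_uP (r : FreeP n) : aeval (uP n) r = Ideal.Quotient.mk (truncIdeal n) r := by
  induction r using MvPolynomial.induction_on with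
  | C c =>
    rw [aeval_C]
    rfl
  | add p q hp hq => rw [map_add, map_add, hp, hq]
  | mul_X p i hp =>
    rw [map_mul, map_mul, hp, aeval_X]
    rfl

lemma uP_pow (i : Fin (numVars n)) : uP n i ^ bound n i = 0 := by
  unfold uP
  rw [← map_pow, Ideal.Quotient.eq_zero_iff_mem]
  exact Ideal.subset_span ⟨i, rfl⟩

lemma bound_pos (hn : 2 ≤ n) (i : Fin (numVars n)) : 0 < bound n i := by
  unfold bound
  split_ifs
  · omega
  · positivity

lemma P_box (hn : 2 ≤ n) : box (uP n) (1 : P n) (bound n) = ⊤ := by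
  rw [eq_top_iff]
  intro z _
  obtain ⟨r, rfl⟩ := Ideal.Quotient.mk_surjective z
  have h : aeval (uP n) r * 1 ∈ box (uP n) (1 : P n) (bound n) ⊔ ⊥ := by
    refine span_box (uP n) 1 ⊥ ?_ (bound n) (bound_pos hn) (i0 hn) (i1 hn) ?_ ?_ ?_ r
    · intro i w hw
      rw [Submodule.mem_bot] at hw ⊢
      rw [hw, mul_zero]
    · rw [Submodule.mem_bot, mul_one]
      exact uP_pow _
    · refine ⟨∅, fun _ => 0, fun _ => 0, by simp, ?_⟩
      rw [Finset.sum_empty, zero_mul, sub_zero, Submodule.mem_bot, mul_one]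
      exact uP_pow _
    · intro i _ _
      refine ⟨0, zero_mem _, ?_⟩
      rw [zero_mul, sub_zero, Submodule.mem_bot, mul_one]
      exact uP_pow _
  rw [aeval_uP, mul_one, sup_bot_eq] at h
  exact h

lemma P_finite (hn : 2 ≤ n) : Module.Finite (ZMod 2) (P n) := by
  rw [Module.finite_def, ← P_box hn]
  exact box_fg _ _ _

lemma truncIdeal_eq : truncIdeal n = Ideal.span ((fun s => monomial s (1 : ZMod 2)) ''
    (Set.range fun i : Fin (numVars n) => Finsupp.single i (bound n i))) := by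
  unfold truncIdeal
  congr 1
  rw [← Set.range_comp]
  congr 1
  funext i
  exact X_pow_eq_monomial

lemma finrank_P_ge (hn : 2 ≤ n) : ∏ i, bound n i ≤ Module.finrank (ZMod 2) (P n) := by
  classical
  have hfin := P_finite hn
  let toF : ((i : Fin (numVars n)) → Fin (bound n i)) → (Fin (numVars n) →₀ ℕ) :=
    fun e => Finsupp.equivFunOnFinite.symm (fun i => (e i : ℕ))
  have htoF : ∀ e i, toF e i = (e i : ℕ) := fun e i => rfl
  have hinj : ∀ e e', toF e = toF e' → e = e' := by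
    intro e e' h
    funext i
    apply Fin.ext
    have h' := DFunLike.congr_fun h i
    rwa [htoF, htoF] at h'
  let m : ((i : Fin (numVars n)) → Fin (bound n i)) → P n :=
    fun e => Ideal.Quotient.mkₐ (ZMod 2) (truncIdeal n) (monomial (toF e) 1)
  have hLI : LinearIndependent (ZMod 2) m := by
    rw [Fintype.linearIndependent_iff]
    intro g hg e0
    by_contra hne
    have hsum : ∑ e, g e • m e =
        Ideal.Quotient.mkₐ (ZMod 2) (truncIdeal n) (∑ e, monomial (toF e) (g e)) := by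
      rw [map_sum]
      apply Finset.sum_congr rfl
      intro e _
      show g e • Ideal.Quotient.mkₐ (ZMod 2) (truncIdeal n) (monomial (toF e) 1) = _
      rw [← map_smul, smul_monomial, smul_eq_mul, mul_one]
    rw [hsum] at hg
    have hmem : (∑ e, monomial (toF e) (g e) : FreeP n) ∈ truncIdeal n := by
      rw [← Ideal.Quotient.eq_zero_iff_mem]
      exact hg
    rw [truncIdeal_eq, mem_ideal_span_monomial_image] at hmem
    have hcoeff : coeff (toF e0) (∑ e, monomial (toF e) (g e) : FreeP n) = g e0 := by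
      rw [coeff_sum]
      simp only [coeff_monomial]
      rw [Finset.sum_eq_single e0]
      · rw [if_pos rfl]
      · intro e _ hne'
        rw [if_neg (fun h => hne' (hinj _ _ h))]
      · intro h
        exact absurd (Finset.mem_univ _) h
    have hsupp : toF e0 ∈ (∑ e, monomial (toF e) (g e) : FreeP n).support := by
      rw [mem_support_iff, hcoeff]
      exact hne
    obtain ⟨_, ⟨i, rfl⟩, hle⟩ := hmem _ hsupp
    have h1 := Finsupp.le_def.mp hle i
    rw [Finsupp.single_eq_same, htoF] at h1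
    have h2 := (e0 i).isLt
    omega
  have h := hLI.fintype_card_le_finrank
  rw [Fintype.card_pi] at h
  simpa using h

/-! ### box sizes -/

/-- box bounds: `c` for `e_1`, `2^(k_2 - 1)` for `e_2`, `2^(k_j)` for `e_j`, `j ≥ 3` -/
def bdK (n c : ℕ) (i : Fin (numVars n)) : ℕ :=
  if i.val = 0 then c else if i.val = 1 then 2 ^ (klog n 2 - 1) else 2 ^ klog n (i.val + 1)

lemma bdK_pos (c : ℕ) (hc : 0 < c) (i : Fin (numVars n)) : 0 < bdK n c i := by
  unfold bdK
  split_ifs
  · exact hc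
  · positivity
  · positivity

lemma bdK_i0 (hn : 2 ≤ n) (c : ℕ) : bdK n c (i0 hn) = c := by
  unfold bdK
  rw [if_pos (i0_val hn)]

lemma bdK_i1 (hn : 2 ≤ n) (c : ℕ) : bdK n c (i1 hn) = 2 ^ (klog n 2 - 1) := by
  unfold bdK
  rw [if_neg (i1_val_ne hn), if_pos (i1_val hn)]

lemma bdK_ge (c : ℕ) (i : Fin (numVars n)) (h : 2 ≤ i.val) :
    bdK n c i = 2 ^ klog n (i.val + 1) := by
  unfold bdK
  rw [if_neg (by omega), if_neg (by omega)]

/-- the common factor of all box sizes -/
def Kp (n : ℕ) : ℕ := ∏ i, bdK n 1 i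

lemma prod_bdK (hn : 2 ≤ n) (c : ℕ) : ∏ i, bdK n c i = c * Kp n := by
  unfold Kp
  have h : ∀ i : Fin (numVars n), bdK n c i = (if i = i0 hn then c else 1) * bdK n 1 i := by
    intro i
    unfold bdK
    by_cases h0 : i.val = 0
    · have e0 : i = i0 hn := Fin.ext h0
      rw [if_pos h0, if_pos h0, if_pos e0, mul_one]
    · have e0 : i ≠ i0 hn := fun h => h0 (by rw [h]; rfl)
      rw [if_neg h0, if_neg h0, if_neg e0, one_mul]
  rw [Finset.prod_congr rfl (fun i _ => h i), Finset.prod_mul_distrib, Finset.prod_ite_eq',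
    if_pos (Finset.mem_univ _)]

lemma prod_bound (hn : 2 ≤ n) : ∏ i, bound n i = 2 * n * Kp n := by
  unfold Kp
  have hk := klog_pos hn 2 le_rfl (two_le_numVars hn)
  have h : ∀ i : Fin (numVars n), bound n i =
      (if i = i0 hn then n else 1) * ((if i = i1 hn then 2 else 1) * bdK n 1 i) := by
    intro i
    unfold bound bdK
    by_cases h0 : i.val = 0
    · have e0 : i = i0 hn := Fin.ext h0
      have e1 : i ≠ i1 hn := fun h => by
        rw [h] at h0
        exact absurd h0 (by simp [i1])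
      rw [if_pos h0, if_pos h0, if_pos e0, if_neg e1]
      ring
    · have e0 : i ≠ i0 hn := fun h => h0 (by rw [h]; rfl)
      rw [if_neg h0, if_neg h0, if_neg e0, one_mul]
      by_cases h1 : i.val = 1
      · have e1 : i = i1 hn := Fin.ext h1
        rw [if_pos h1, if_pos e1, h1]
        show 2 ^ klog n 2 = _
        rw [← pow_succ', Nat.sub_add_cancel hk]
      · have e1 : i ≠ i1 hn := fun h => h1 (by rw [h]; rfl)
        rw [if_neg h1, if_neg e1, one_mul]
  rw [Finset.prod_congr rfl (fun i _ => h i), Finset.prod_mul_distrib, Finset.prod_mul_distrib,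
    Finset.prod_ite_eq', Finset.prod_ite_eq', if_pos (Finset.mem_univ _),
    if_pos (Finset.mem_univ _)]
  ring

end Groth.Agent.H85.QsK
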