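import Mathlib
import Groth.Prelude.Def_W4c4chowquasisplitPn
import Groth.Agent.H85.QsC
import Groth.Agent.H85.QsBox
import Groth.Agent.H85.QsK

/-!
# The kernel of `φ : F_2[e, x] → P_n` (S17742), part 2: the dimension count
-/

open MvPolynomial QsChow

namespace Groth.Agent.H85.QsK

open Groth.Agent.H85.QsC Groth.Agent.H85.QsBox

variable {n : ℕ}

/-- `S_k(x0, x1) = Σ_{t<k} x0^(2^k - 2^(t+1)) x1^(2^t)` -/
def Sp {B : Type*} [CommRing B] (x0 x1 : B) (k : ℕ) : B :=
  ∑ t ∈ Finset.range k, x0 ^ (2 ^ k - 2 ^ (t + 1)) * x1 ^ 2 ^ t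

lemma Sp_mem {B : Type*} [CommRing B] [Algebra (ZMod 2) B] (x0 x1 : B) (k : ℕ) :
    Sp x0 x1 k ∈ Algebra.adjoin (ZMod 2) ({x0, x1} : Set B) := by
  unfold Sp
  have h0 : x0 ∈ Algebra.adjoin (ZMod 2) ({x0, x1} : Set B) := Algebra.subset_adjoin (by simp)
  have h1 : x1 ∈ Algebra.adjoin (ZMod 2) ({x0, x1} : Set B) := Algebra.subset_adjoin (by simp)
  exact Subalgebra.sum_mem _ (fun t _ => Subalgebra.mul_mem _
    (Subalgebra.pow_mem _ h0 _) (Subalgebra.pow_mem _ h1 _))

lemma split_top {B : Type*} [CommRing B] (a e : B) (k : ℕ) (hk : 1 ≤ k) :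
    Sp a e k =
      e ^ 2 ^ (k - 1) + ∑ t ∈ Finset.range (k - 1), a ^ (2 ^ k - 2 ^ (t + 1)) * e ^ 2 ^ t := by
  obtain ⟨k', rfl⟩ : ∃ k', k = k' + 1 := ⟨k - 1, by omega⟩
  unfold Sp
  rw [Finset.sum_range_succ, Nat.add_sub_cancel, Nat.sub_self, pow_zero, one_mul]
  exact add_comm _ _

lemma gen1 : evar n 1 ^ n ∈ presIdeal n := Ideal.subset_span (Or.inl (Set.mem_insert _ _))

lemma gen2 : evar n 1 * xvar n ∈ presIdeal n :=
  Ideal.subset_span (Or.inl (Set.mem_insert_of_mem _ (Set.mem_insert _ _)))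

lemma gen3 : xvar n ^ 2 ∈ presIdeal n :=
  Ideal.subset_span (Or.inl (Set.mem_insert_of_mem _ (Set.mem_insert_of_mem _ rfl)))

lemma genh (i : Fin (numVars n)) : hrel n (i.val + 1) ∈ presIdeal n :=
  Ideal.subset_span (Or.inr ⟨i, rfl⟩)

section generic

variable {B : Type*} [CommRing B] [Algebra (ZMod 2) B] (hn : 2 ≤ n) (θ : FreeE n →ₐ[ZMod 2] B)
  (hθ : ∀ y ∈ presIdeal n, θ y = 0)

/-- images of the `e_j` -/
noncomputable def gu (θ : FreeE n →ₐ[ZMod 2] B) (i : Fin (numVars n)) : B := θ (X (some i))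

/-- image of `x` -/
noncomputable def gx (θ : FreeE n →ₐ[ZMod 2] B) : B := θ (X none)

include hθ in
lemma g_e1n : gu θ (i0 hn) ^ n = 0 := by
  have h := hθ _ (gen1 (n := n))
  rw [evar1 hn, map_pow] at h
  exact h

include hθ in
lemma g_e1x : gu θ (i0 hn) * gx θ = 0 := by
  have h := hθ _ (gen2 (n := n))
  rw [evar1 hn, map_mul] at h
  exact h

include hθ in
lemma g_xx : gx θ ^ 2 = 0 := by
  have h := hθ _ (gen3 (n := n))
  rw [map_pow] at h
  exact h

lemma g_S (j : ℕ) : θ (sPoly n j) = Sp (gu θ (i0 hn)) (gu θ (i1 hn)) (klog n j) := by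
  unfold sPoly Sp
  rw [map_sum]
  apply Finset.sum_congr rfl
  intro t _
  rw [map_mul, map_pow, map_pow, evar1 hn, evar2 hn]
  rfl

include hθ in
lemma g_h2 : gu θ (i0 hn) ^ (2 ^ klog n 2 - n) * gx θ +
    Sp (gu θ (i0 hn)) (gu θ (i1 hn)) (klog n 2) = 0 := by
  have h := hθ _ (genh (i1 hn))
  have e : hrel n ((i1 hn).val + 1) = evar n 1 ^ (2 ^ klog n 2 - n) * xvar n + sPoly n 2 := by
    show hrel n 2 = _
    unfold hrel
    rw [if_pos rfl]
  rw [e, map_add, map_mul, map_pow, evar1 hn, g_S hn] at h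
  exact h

include hθ in
lemma g_hj (i : Fin (numVars n)) (h2 : 2 ≤ i.val) :
    gu θ i ^ 2 ^ klog n (i.val + 1) +
      gu θ (i0 hn) ^ ((2 * (i.val + 1) - 3) * 2 ^ klog n (i.val + 1) - n) * gx θ +
      gu θ (i0 hn) ^ ((2 * (i.val + 1) - 4) * 2 ^ klog n (i.val + 1)) *
        Sp (gu θ (i0 hn)) (gu θ (i1 hn)) (klog n (i.val + 1)) = 0 := by
  have h := hθ _ (genh i)
  have e : hrel n (i.val + 1) = evar n (i.val + 1) ^ 2 ^ klog n (i.val + 1) +
      evar n 1 ^ ((2 * (i.val + 1) - 3) * 2 ^ klog n (i.val + 1) - n) * xvar n +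
      evar n 1 ^ ((2 * (i.val + 1) - 4) * 2 ^ klog n (i.val + 1)) * sPoly n (i.val + 1) := by
    unfold hrel
    rw [if_neg (by omega), if_pos ⟨by omega, i.isLt⟩]
  rw [e, map_add, map_add, map_mul, map_mul, map_pow, map_pow, map_pow, evar1 hn, g_S hn,
    evar_succ] at h
  exact h

include hθ in
theorem gen_box (c : ℕ) (hc : 0 < c) (v : B) (W : Submodule (ZMod 2) B)
    (hW : ∀ i, ∀ w ∈ W, gu θ i * w ∈ W)
    (H0 : gu θ (i0 hn) ^ c * v ∈ W)
    (Hx : ∀ m : ℕ, gu θ (i0 hn) ^ m * gx θ * v ∈ W)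
    (r : FreeP n) : aeval (gu θ) r * v ∈ box (gu θ) v (bdK n c) ⊔ W := by
  have hk2 := klog_pos hn 2 le_rfl (two_le_numVars hn)
  refine span_box (gu θ) v W hW (bdK n c) (bdK_pos c hc) (i0 hn) (i1 hn) ?_ ?_ ?_ r
  · rw [bdK_i0]
    exact H0
  · refine ⟨Finset.range (klog n 2 - 1), fun t => 2 ^ klog n 2 - 2 ^ (t + 1), fun t => 2 ^ t,
      ?_, ?_⟩
    · intro t ht
      rw [bdK_i1]
      exact Nat.pow_lt_pow_right (by norm_num) (Finset.mem_range.mp ht)
    · rw [bdK_i1]
      have key : gu θ (i1 hn) ^ 2 ^ (klog n 2 - 1) * v -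
          (∑ t ∈ Finset.range (klog n 2 - 1),
            gu θ (i0 hn) ^ (2 ^ klog n 2 - 2 ^ (t + 1)) * gu θ (i1 hn) ^ 2 ^ t) * v =
          gu θ (i0 hn) ^ (2 ^ klog n 2 - n) * gx θ * v := by
        have h2 := g_h2 hn θ hθ
        rw [split_top _ _ _ hk2] at h2
        rw [sub_eq_add2]
        linear_combination v * h2 - char2 (gu θ (i0 hn) ^ (2 ^ klog n 2 - n) * gx θ * v)
      rw [key]
      exact Hx _
  · intro i hi0 hi1
    have h2 := ge_two_of_ne hn i hi0 hi1
    refine ⟨gu θ (i0 hn) ^ ((2 * (i.val + 1) - 4) * 2 ^ klog n (i.val + 1)) *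
      Sp (gu θ (i0 hn)) (gu θ (i1 hn)) (klog n (i.val + 1)), ?_, ?_⟩
    · exact Subalgebra.mul_mem _
        (Subalgebra.pow_mem _ (Algebra.subset_adjoin (Set.mem_insert _ _)) _) (Sp_mem _ _ _)
    · rw [bdK_ge c i h2]
      have key : gu θ i ^ 2 ^ klog n (i.val + 1) * v -
          gu θ (i0 hn) ^ ((2 * (i.val + 1) - 4) * 2 ^ klog n (i.val + 1)) *
            Sp (gu θ (i0 hn)) (gu θ (i1 hn)) (klog n (i.val + 1)) * v =
          gu θ (i0 hn) ^ ((2 * (i.val + 1) - 3) * 2 ^ klog n (i.val + 1) - n) * gx θ * v := by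
        have h3 := g_hj hn θ hθ i h2
        rw [sub_eq_add2]
        linear_combination v * h3 -
          char2 (gu θ (i0 hn) ^ ((2 * (i.val + 1) - 3) * 2 ^ klog n (i.val + 1) - n) * gx θ * v)
      rw [key]
      exact Hx _

include hn hθ in
lemma G1 (r : FreeP n) : aeval (gu θ) r * gx θ ∈ box (gu θ) (gx θ) (bdK n 1) := by
  have h := gen_box hn θ hθ 1 one_pos (gx θ) ⊥ (fun i w hw => by
      rw [Submodule.mem_bot] at hw ⊢
      rw [hw, mul_zero])
    (by
      rw [Submodule.mem_bot, pow_one]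
      exact g_e1x hn θ hθ)
    (fun m => by
      rw [Submodule.mem_bot, mul_assoc, ← pow_two, g_xx θ hθ, mul_zero]) r
  rwa [sup_bot_eq] at h

include hθ in
lemma G3 (r : FreeP n) :
    aeval (gu θ) r * gu θ (i0 hn) ∈ box (gu θ) (gu θ (i0 hn)) (bdK n (n - 1)) := by
  have h := gen_box hn θ hθ (n - 1) (by omega) (gu θ (i0 hn)) ⊥ (fun i w hw => by
      rw [Submodule.mem_bot] at hw ⊢
      rw [hw, mul_zero])
    (by
      rw [Submodule.mem_bot, ← pow_succ, Nat.sub_add_cancel (by omega)]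
      exact g_e1n hn θ hθ)
    (fun m => by
      rw [Submodule.mem_bot, mul_assoc, mul_comm (gx θ), g_e1x hn θ hθ, mul_zero]) r
  rwa [sup_bot_eq] at h

include hn hθ in
lemma G2 (r : FreeP n) :
    aeval (gu θ) r * 1 ∈ box (gu θ) 1 (bdK n n) ⊔ box (gu θ) (gx θ) (bdK n 1) := by
  refine gen_box hn θ hθ n (by omega) 1 _ ?_ ?_ ?_ r
  · intro i w hw
    refine mul_box_mem (gu θ) (gx θ) (bdK n 1) (gu θ i) _ (fun r' => ?_) w hw
    have e : gu θ i * (aeval (gu θ) r' * gx θ) = aeval (gu θ) (X i * r') * gx θ := by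
      rw [map_mul, aeval_X]
      ring
    rw [e]
    exact G1 hn θ hθ _
  · rw [mul_one, g_e1n hn θ hθ]
    exact zero_mem _
  · intro m
    rw [mul_one]
    have e : gu θ (i0 hn) ^ m * gx θ =
        aeval (gu θ) ((X (i0 hn) : FreeP n) ^ m) * gx θ := by
      rw [map_pow, aeval_X]
    rw [e]
    exact G1 hn θ hθ _

end generic

/-- the quotient `F_2[e,x]/presIdeal` -/
abbrev Qn (n : ℕ) : Type := FreeE n ⧸ presIdeal n

/-- the quotient map -/
noncomputable def piQ (n : ℕ) : FreeE n →ₐ[ZMod 2] Qn n :=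
  Ideal.Quotient.mkₐ (ZMod 2) (presIdeal n)

lemma piQ_zero : ∀ y ∈ presIdeal n, piQ n y = 0 :=
  fun _ hy => Ideal.Quotient.eq_zero_iff_mem.mpr hy

lemma Q_top (hn : 2 ≤ n) : box (gu (piQ n)) (1 : Qn n) (bdK n n) ⊔
    box (gu (piQ n)) (gx (piQ n)) (bdK n 1) = ⊤ := by
  refine eq_top_of_stable _ (fun o : Option (Fin (numVars n)) => piQ n (X o)) ?_ ?_ ?_
  · rw [Algebra.adjoin_range_eq_range_aeval]
    have h : aeval (fun o : Option (Fin (numVars n)) => piQ n (X o)) = piQ n :=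
      (aeval_unique (piQ n)).symm
    rw [h]
    exact (AlgHom.range_eq_top _).mpr (Ideal.Quotient.mkₐ_surjective _ _)
  · have h := G2 hn (piQ n) piQ_zero 1
    rwa [map_one, mul_one] at h
  · intro o w hw
    obtain ⟨w1, hw1, w2, hw2, rfl⟩ := Submodule.mem_sup.mp hw
    rw [mul_add]
    cases o with
    | none =>
      refine add_mem ?_ ?_
      · refine mul_box_mem _ _ _ _ _ (fun r => ?_) w1 hw1
        have e : piQ n (X none) * (aeval (gu (piQ n)) r * 1) =
            aeval (gu (piQ n)) r * gx (piQ n) := by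
          rw [mul_one, mul_comm]
          rfl
        rw [e]
        exact Submodule.mem_sup_right (G1 hn (piQ n) piQ_zero r)
      · refine mul_box_mem _ _ _ _ _ (fun r => ?_) w2 hw2
        have e : piQ n (X none) * (aeval (gu (piQ n)) r * gx (piQ n)) =
            aeval (gu (piQ n)) r * gx (piQ n) ^ 2 := by
          show gx (piQ n) * _ = _
          ring
        rw [e, g_xx (piQ n) piQ_zero, mul_zero]
        exact zero_mem _
    | some i =>
      refine add_mem ?_ ?_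
      · refine mul_box_mem _ _ _ _ _ (fun r => ?_) w1 hw1
        have e : piQ n (X (some i)) * (aeval (gu (piQ n)) r * 1) =
            aeval (gu (piQ n)) (X i * r) * 1 := by
          rw [map_mul, aeval_X]
          show gu (piQ n) i * _ = _
          ring
        rw [e]
        exact G2 hn (piQ n) piQ_zero _
      · refine mul_box_mem _ _ _ _ _ (fun r => ?_) w2 hw2
        have e : piQ n (X (some i)) * (aeval (gu (piQ n)) r * gx (piQ n)) =
            aeval (gu (piQ n)) (X i * r) * gx (piQ n) := by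
          rw [map_mul, aeval_X]
          show gu (piQ n) i * _ = _
          ring
        rw [e]
        exact Submodule.mem_sup_right (G1 hn (piQ n) piQ_zero _)

lemma Q_finite (hn : 2 ≤ n) : Module.Finite (ZMod 2) (Qn n) := by
  rw [Module.finite_def, ← Q_top hn]
  exact (box_fg _ _ _).sup (box_fg _ _ _)

lemma finrank_Q_le (hn : 2 ≤ n) : Module.finrank (ZMod 2) (Qn n) ≤ n * Kp n + Kp n := by
  rw [← finrank_top (ZMod 2) (Qn n), ← Q_top hn]
  refine (Submodule.finrank_add_le_finrank_add_finrank _ _).trans ?_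
  have h1 := finrank_box_le (gu (piQ n)) (1 : Qn n) (bdK n n)
  have h2 := finrank_box_le (gu (piQ n)) (gx (piQ n)) (bdK n 1)
  rw [prod_bdK hn] at h1 h2
  omega

theorem main42 (hn : 2 ≤ n) : RingHom.ker (phi n) = presIdeal n := by
  classical
  refine le_antisymm ?_ (presIdeal_le_ker hn)
  obtain ⟨τ, hτ1, hτ⟩ := tau_exists hn
  have hPfin := P_finite hn
  have hQfin := Q_finite hn
  have hφ0 : ∀ y ∈ presIdeal n, phi n y = 0 := fun y hy => RingHom.mem_ker.mp (presIdeal_le_ker hn hy)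
  let φb : Qn n →ₐ[ZMod 2] P n := Ideal.Quotient.liftₐ (presIdeal n) (phi n) hφ0
  have hφb : ∀ y, φb (piQ n y) = phi n y := fun y => rfl
  let δ : P n →ₗ[ZMod 2] P n := τ.toLinearMap + LinearMap.id
  have hδ : ∀ y, δ y = τ y + y := fun y => rfl
  -- kernel of δ is in the range of φb
  have hker : LinearMap.ker δ ≤ LinearMap.range φb.toLinearMap := by
    intro z hz
    rw [LinearMap.mem_ker, hδ] at hz
    have hz' : τ z = z := by
      linear_combination hz - add_self' z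
    have hmem : z ∈ (phi n).range := by
      rw [main41 hn τ hτ1 hτ]
      exact hz'
    obtain ⟨y, rfl⟩ := hmem
    exact ⟨piQ n y, rfl⟩
  -- range of δ is small
  have hgu0 : gu (phi n) (i0 hn) = eps n 1 := by
    unfold gu
    rw [phi_X, genImage_some, if_pos (i0_val hn)]
  have hrange : LinearMap.range δ ≤
      box (gu (phi n)) (gu (phi n) (i0 hn)) (bdK n (n - 1)) := by
    rintro _ ⟨y, rfl⟩
    obtain ⟨u, hu, w, hw, rfl⟩ := T_all hn y
    have hsum := sum_tau hn τ hτ1 hτ hu hw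
    have hD : Dbar n = (aeval (gu (phi n))).range := by
      unfold Dbar
      rw [Algebra.adjoin_range_eq_range_aeval]
      congr 2
      funext i
      exact (phi_X (some i)).symm
    rw [hD] at hw
    obtain ⟨r, hr⟩ := hw
    have hr' : aeval (gu (phi n)) r = w := hr
    subst hr'
    have e : δ (u + aeval (gu (phi n)) r * eps n 2) =
        aeval (gu (phi n)) r * gu (phi n) (i0 hn) := by
      rw [hδ, hgu0]
      linear_combination hsum
    rw [e]
    exact G3 hn (phi n) hφ0 r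
  -- counting
  have c1 := LinearMap.finrank_range_add_finrank_ker δ
  have c2 : Module.finrank (ZMod 2) (LinearMap.range δ) ≤ (n - 1) * Kp n := by
    refine (Submodule.finrank_mono hrange).trans ?_
    have h := finrank_box_le (gu (phi n)) (gu (phi n) (i0 hn)) (bdK n (n - 1))
    rwa [prod_bdK hn] at h
  have c3 : 2 * n * Kp n ≤ Module.finrank (ZMod 2) (P n) := by
    rw [← prod_bound hn]
    exact finrank_P_ge hn
  have c4 : Module.finrank (ZMod 2) (LinearMap.ker δ) ≤
      Module.finrank (ZMod 2) (LinearMap.range φb.toLinearMap) := Submodule.finrank_mono hker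
  have c5 := LinearMap.finrank_range_add_finrank_ker φb.toLinearMap
  have c6 := finrank_Q_le hn
  have c7 : (n - 1) * Kp n = n * Kp n - Kp n := by
    rw [Nat.sub_mul, one_mul]
  have c8 : Kp n ≤ n * Kp n := Nat.le_mul_of_pos_left _ (by omega)
  have c9 : 2 * n * Kp n = 2 * (n * Kp n) := by ring
  have hk0 : Module.finrank (ZMod 2) (LinearMap.ker φb.toLinearMap) = 0 := by omega
  have hbot : LinearMap.ker φb.toLinearMap = ⊥ := Submodule.finrank_eq_zero.mp hk0
  intro x hx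
  have hx0 : phi n x = 0 := RingHom.mem_ker.mp hx
  have hx1 : piQ n x ∈ LinearMap.ker φb.toLinearMap := by
    rw [LinearMap.mem_ker]
    exact hx0
  rw [hbot, Submodule.mem_bot] at hx1
  exact Ideal.Quotient.eq_zero_iff_mem.mp hx1

end Groth.Agent.H85.QsK
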