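import Mathlib
import Groth.Prelude.Def_W4c4chowquasisplitPn
import Groth.Prelude.Def_W4c4chowquasisplitPn2
import Groth.Agent.H85.QsC
import Groth.Agent.H85.QsBox
import Groth.Agent.H85.QsK
import Groth.Agent.H85.QsK2

/-!
# Numerics and decompositions of the relations `h_j` for the `QsChow` family
-/

open MvPolynomial QsChow

namespace Groth.Agent.H85.QsNum

open Groth.Agent.H85.QsC Groth.Agent.H85.QsBox Groth.Agent.H85.QsK

variable {n : ℕ}

lemma log_pred_eq (x : ℕ) (hx : 2 ≤ x) (hnp : ∀ r : ℕ, x ≠ 2 ^ r) :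
    Nat.log 2 (x - 1) = Nat.log 2 x := by
  have h1 : 2 ^ Nat.log 2 x ≤ x := Nat.pow_log_le_self 2 (by omega)
  have h2 : x < 2 ^ (Nat.log 2 x + 1) := Nat.lt_pow_succ_log_self (by norm_num) x
  have h3 : 2 ^ Nat.log 2 x ≠ x := fun h => hnp _ h.symm
  apply Nat.log_eq_of_pow_le_of_lt_pow
  · omega
  · omega

lemma klog2_eq : klog n 2 = Nat.log 2 (2 * n - 1) := by
  unfold klog
  norm_num

lemma pow_klog2_le (hn : 2 ≤ n) : 2 ^ klog n 2 ≤ 2 * n - 1 := by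
  rw [klog2_eq]
  exact Nat.pow_log_le_self 2 (by omega)

lemma le_pow_klog2 : n ≤ 2 ^ klog n 2 := by
  have h := le_mul_pow (n := n) 2 le_rfl
  simpa using h

lemma lt_pow_klog2 (hnp : ∀ r : ℕ, n ≠ 2 ^ r) : n < 2 ^ klog n 2 :=
  lt_of_le_of_ne le_pow_klog2 (hnp _)

lemma kprime1 : kprime n 1 = twoExp n := by
  unfold kprime
  rw [if_pos rfl]

lemma kprime2 (hn : 2 ≤ n) (hnp : ∀ r : ℕ, n ≠ 2 ^ r) : kprime n 2 = klog n 2 - 1 := by
  unfold kprime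
  rw [if_neg (by norm_num), if_pos rfl]
  have hk := klog_pos hn 2 le_rfl (two_le_numVars hn)
  have h1 := pow_klog2_le hn
  have h2 := lt_pow_klog2 hnp
  obtain ⟨k, hk'⟩ : ∃ k, klog n 2 = k + 1 := ⟨klog n 2 - 1, by omega⟩
  rw [hk'] at h1 h2 ⊢
  rw [Nat.add_sub_cancel]
  rw [pow_succ] at h1
  exact Nat.log_eq_of_pow_le_of_lt_pow (by omega) h2

lemma kprime_eq_klog (j : ℕ) (hj : 3 ≤ j) (hjs : j ≤ numVars n)
    (h : ∀ r : ℕ, 2 * n ≠ (2 * j - 3) * 2 ^ r) : kprime n j = klog n j := by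
  unfold kprime klog
  rw [if_neg (by omega), if_neg (by omega)]
  have hd : 0 < 2 * j - 3 := by omega
  have hn1 : 2 * n = (2 * n - 1) + 1 := by
    unfold numVars at hjs
    omega
  have hsd := @Nat.succ_div (2 * n - 1) (2 * j - 3)
  rw [← hn1] at hsd
  by_cases hdvd : (2 * j - 3) ∣ 2 * n
  · rw [if_pos hdvd] at hsd
    have hx : 2 ≤ 2 * n / (2 * j - 3) := by
      rw [Nat.le_div_iff_mul_le hd]
      unfold numVars at hjs
      omega
    have hnp : ∀ r : ℕ, 2 * n / (2 * j - 3) ≠ 2 ^ r := by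
      intro r hr
      have h1 := Nat.mul_div_cancel' hdvd
      rw [hr] at h1
      exact h r h1.symm
    have h2 : (2 * n - 1) / (2 * j - 3) = 2 * n / (2 * j - 3) - 1 := by omega
    rw [h2, log_pred_eq _ hx hnp]
  · rw [if_neg hdvd, add_zero] at hsd
    rw [hsd]

/-! ### decompositions of the relations -/

lemma sPoly_eq (j : ℕ) : sPoly n j = Sp (evar n 1) (evar n 2) (klog n j) := rfl

lemma hrel2_decomp (hn : 2 ≤ n) (hnp : ∀ r : ℕ, n ≠ 2 ^ r) :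
    ∃ A : FreeE n, hrel n 2 = evar n 2 ^ 2 ^ (klog n 2 - 1) + evar n 1 * A := by
  have hk := klog_pos hn 2 le_rfl (two_le_numVars hn)
  have hlt := lt_pow_klog2 hnp
  unfold hrel
  rw [if_pos rfl, sPoly_eq, split_top _ _ _ hk]
  obtain ⟨A1, hA1⟩ : evar n 1 ∣ evar n 1 ^ (2 ^ klog n 2 - n) * xvar n :=
    dvd_mul_of_dvd_left (dvd_pow_self _ (by omega)) _
  obtain ⟨A2, hA2⟩ : evar n 1 ∣ ∑ t ∈ Finset.range (klog n 2 - 1),
      evar n 1 ^ (2 ^ klog n 2 - 2 ^ (t + 1)) * evar n 2 ^ 2 ^ t := by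
    apply Finset.dvd_sum
    intro t ht
    have h1 : 2 ^ (t + 1) < 2 ^ klog n 2 :=
      Nat.pow_lt_pow_right (by norm_num) (by
        have := Finset.mem_range.mp ht
        omega)
    exact dvd_mul_of_dvd_left (dvd_pow_self _ (by omega)) _
  refine ⟨A1 + A2, ?_⟩
  rw [hA1, hA2]
  ring

lemma hrel_ge_decomp (i : Fin (numVars n)) (h : 2 ≤ i.val)
    (hlt : n < (2 * (i.val + 1) - 3) * 2 ^ klog n (i.val + 1)) :
    ∃ A : FreeE n, hrel n (i.val + 1) =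
      evar n (i.val + 1) ^ 2 ^ klog n (i.val + 1) + evar n 1 * A := by
  unfold hrel
  rw [if_neg (by omega), if_pos ⟨by omega, i.isLt⟩]
  obtain ⟨A1, hA1⟩ : evar n 1 ∣
      evar n 1 ^ ((2 * (i.val + 1) - 3) * 2 ^ klog n (i.val + 1) - n) * xvar n :=
    dvd_mul_of_dvd_left (dvd_pow_self _ (by omega)) _
  obtain ⟨A2, hA2⟩ : evar n 1 ∣
      evar n 1 ^ ((2 * (i.val + 1) - 4) * 2 ^ klog n (i.val + 1)) * sPoly n (i.val + 1) := by
    have h1 : 1 ≤ 2 ^ klog n (i.val + 1) := Nat.one_le_two_pow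
    have h2 : 2 ≤ 2 * (i.val + 1) - 4 := by omega
    have h3 : 1 ≤ (2 * (i.val + 1) - 4) * 2 ^ klog n (i.val + 1) :=
      Nat.one_le_iff_ne_zero.mpr (Nat.mul_ne_zero (by omega) (by omega))
    exact dvd_mul_of_dvd_left (dvd_pow_self _ (by omega)) _
  refine ⟨A1 + A2, ?_⟩
  rw [hA1, hA2]
  ring

end Groth.Agent.H85.QsNum
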