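import Mathlib
import Groth.Prelude.Def_W4c4chowquasisplitPn
import Groth.Prelude.Def_W4c4chowquasisplitPn2
import Groth.Agent.H85.QsC
import Groth.Agent.H85.QsBox
import Groth.Agent.H85.QsK
import Groth.Agent.H85.QsK2
import Groth.Agent.H85.QsNum

/-!
# Eliminating `x`: when `x̄ = ψ(Xp)`, `ker ψ` is the image of `presIdeal` under `x ↦ Xp`
-/

open MvPolynomial QsChow

namespace Groth.Agent.H85.QsSub

open Groth.Agent.H85.QsC Groth.Agent.H85.QsBox Groth.Agent.H85.QsK Groth.Agent.H85.QsNum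

variable {n : ℕ}

/-- the inclusion `F_2[e] → F_2[e, x]` -/
noncomputable def iota (n : ℕ) : FreeP n →ₐ[ZMod 2] FreeE n := rename some

/-- the substitution `x ↦ Xp` -/
noncomputable def rho (Xp : FreeP n) : FreeE n →ₐ[ZMod 2] FreeP n :=
  aeval (fun o : Option (Fin (numVars n)) => o.elim Xp X)

lemma rho_some (Xp : FreeP n) (i : Fin (numVars n)) : rho Xp (X (some i)) = X i := by
  unfold rho
  rw [aeval_X]
  rfl

lemma rho_none (Xp : FreeP n) : rho Xp (X none) = Xp := by
  unfold rho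
  rw [aeval_X]
  rfl

lemma rho_iota (Xp : FreeP n) (q : FreeP n) : rho Xp (iota n q) = q := by
  unfold rho iota
  rw [aeval_rename]
  have h : ((fun o : Option (Fin (numVars n)) => o.elim Xp X) ∘ some) = X := by
    funext i
    rfl
  rw [h, aeval_X_left_apply]

lemma psi_X (i : Fin (numVars n)) : psi n (X i) = genImage n (some i) := by
  unfold psi
  rw [aeval_X]

lemma phi_eq (Xp : FreeP n) (hX : psi n Xp = genImage n none) (q : FreeE n) :
    phi n q = psi n (rho Xp q) := by
  have h : phi n = (psi n).comp (rho Xp) := by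
    apply MvPolynomial.algHom_ext
    intro o
    rw [AlgHom.comp_apply, phi_X]
    cases o with
    | none => rw [rho_none, hX]
    | some i => rw [rho_some, psi_X]
  rw [h]
  rfl

lemma psi_eq (Xp : FreeP n) (hX : psi n Xp = genImage n none) (q : FreeP n) :
    psi n q = phi n (iota n q) := by
  rw [phi_eq Xp hX, rho_iota]

lemma range_eq (Xp : FreeP n) (hX : psi n Xp = genImage n none) :
    (psi n).range = (phi n).range := by
  apply le_antisymm
  · rintro _ ⟨q, rfl⟩
    exact ⟨iota n q, (psi_eq Xp hX q).symm⟩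
  · rintro _ ⟨q, rfl⟩
    exact ⟨rho Xp q, (phi_eq Xp hX q).symm⟩

lemma ker_eq (hn : 2 ≤ n) (Xp : FreeP n) (hX : psi n Xp = genImage n none) :
    RingHom.ker (psi n) = Ideal.map (rho Xp) (presIdeal n) := by
  apply le_antisymm
  · intro q hq
    have h1 : phi n (iota n q) = 0 := by
      rw [← psi_eq Xp hX]
      exact RingHom.mem_ker.mp hq
    have h2 : iota n q ∈ presIdeal n := by
      rw [← main42 hn]
      exact RingHom.mem_ker.mpr h1
    have h3 := Ideal.mem_map_of_mem (rho Xp) h2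
    rwa [rho_iota] at h3
  · rw [Ideal.map_le_iff_le_comap]
    intro y hy
    rw [Ideal.mem_comap, RingHom.mem_ker]
    have h := RingHom.mem_ker.mp (presIdeal_le_ker hn hy)
    rw [phi_eq Xp hX] at h
    exact h

lemma rho_evar (Xp : FreeP n) (j : ℕ) : rho Xp (evar n j) = evarE n j := by
  unfold evar evarE
  split_ifs with h
  · rw [rho_some]
  · rw [map_zero]

lemma rho_xvar (Xp : FreeP n) : rho Xp (xvar n) = Xp := rho_none Xp

lemma rho_sPoly (Xp : FreeP n) (j : ℕ) :
    rho Xp (sPoly n j) = Sp (evarE n 1) (evarE n 2) (klog n j) := by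
  unfold sPoly Sp
  rw [map_sum]
  apply Finset.sum_congr rfl
  intro t _
  rw [map_mul, map_pow, map_pow, rho_evar, rho_evar]

lemma evarE_succ (i : Fin (numVars n)) : evarE n (i.val + 1) = X i := by
  unfold evarE
  rw [dif_pos ⟨Nat.succ_pos _, i.isLt⟩]
  rfl

lemma psi_evarE1 (hn : 2 ≤ n) : psi n (evarE n 1) = eps n 1 := by
  have h := evarE_succ (i0 hn)
  have h' : evarE n 1 = X (i0 hn) := h
  rw [h', psi_X, genImage_some, if_pos (i0_val hn)]

lemma psi_evarE2 (hn : 2 ≤ n) : psi n (evarE n 2) = eps n 2 ^ 2 + eps n 1 * eps n 2 := by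
  have h := evarE_succ (i1 hn)
  have h' : evarE n 2 = X (i1 hn) := h
  rw [h', psi_X, genImage_some, if_neg (i1_val_ne hn), if_pos (i1_val hn)]

lemma psi_evarE_ge (i : Fin (numVars n)) (h : 2 ≤ i.val) :
    psi n (evarE n (i.val + 1)) =
      eps n (i.val + 1) + eps n 1 ^ (2 * (i.val + 1) - 4) * eps n 2 := by
  rw [evarE_succ, psi_X, genImage_some, if_neg (by omega), if_neg (by omega)]

lemma psi_Sp (hn : 2 ≤ n) (k : ℕ) : psi n (Sp (evarE n 1) (evarE n 2) k) =
    eps n 2 ^ 2 ^ k + eps n 1 ^ (2 ^ k - 1) * eps n 2 := by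
  unfold Sp
  rw [map_sum]
  simp only [map_mul, map_pow, psi_evarE1 hn, psi_evarE2 hn]
  exact tele add_self' _ _ _

end Groth.Agent.H85.QsSub
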