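import Mathlib
import Groth.Prelude.Def_W4c4chowquasisplitPn
import Groth.Prelude.Def_W4c4chowquasisplitPn2
import Groth.Agent.H85.QsC
import Groth.Agent.H85.QsBox
import Groth.Agent.H85.QsK
import Groth.Agent.H85.QsK2
import Groth.Agent.H85.QsNum
import Groth.Agent.H85.QsSub

/-!
# `P^τ / ε_1^(2^a) P^τ` for `n` even, not a power of two (S17748)
-/

open MvPolynomial QsChow

namespace Groth.Agent.H85.QsEven

open Groth.Agent.H85.QsC Groth.Agent.H85.QsBox Groth.Agent.H85.QsK Groth.Agent.H85.QsNum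
  Groth.Agent.H85.QsSub

variable {n : ℕ}

/-- the odd part of `n` -/
def dd (n : ℕ) : ℕ := n / 2 ^ twoExp n

lemma n_eq : n = 2 ^ twoExp n * dd n := by
  unfold dd twoExp
  exact (Nat.mul_div_cancel' pow_padicValNat_dvd).symm

lemma lIdx_def : lIdx n = (dd n + 3) / 2 := rfl

section num

variable (hn : 2 ≤ n) (ha : 1 ≤ twoExp n) (hne : n ≠ 2 ^ twoExp n)

include hn in
lemma dd_odd : dd n % 2 = 1 := by
  by_contra h
  have h2 : dd n % 2 = 0 := by omega
  obtain ⟨m, hm⟩ : 2 ∣ dd n := Nat.dvd_of_mod_eq_zero h2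
  have hdvd : 2 ^ (twoExp n + 1) ∣ n := by
    refine ⟨m, ?_⟩
    have e := n_eq (n := n)
    rw [hm] at e
    rw [pow_succ, mul_assoc]
    exact e
  unfold twoExp at hdvd
  exact pow_succ_padicValNat_not_dvd (by omega) hdvd

include hn hne in
lemma dd_ge : 3 ≤ dd n := by
  have h1 := dd_odd hn
  have h2 : dd n ≠ 1 := by
    intro h
    have e := n_eq (n := n)
    rw [h, mul_one] at e
    exact hne e
  omega

include hn in
lemma two_l : 2 * lIdx n - 3 = dd n := by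
  rw [lIdx_def]
  have := dd_odd hn
  omega

include hn hne in
lemma l_ge : 3 ≤ lIdx n := by
  rw [lIdx_def]
  have := dd_ge hn hne
  omega

include hn ha hne in
lemma l_le : lIdx n ≤ numVars n := by
  rw [lIdx_def]
  unfold numVars
  have h1 := dd_ge hn hne
  have h2 : 2 * dd n ≤ n := by
    have e := n_eq (n := n)
    have h3 : 2 ^ 1 ≤ 2 ^ twoExp n := Nat.pow_le_pow_right (by norm_num) ha
    have h4 : 2 ^ 1 * dd n ≤ 2 ^ twoExp n * dd n := Nat.mul_le_mul_right _ h3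
    omega
  omega

include hn in
lemma n_eq' : n = (2 * lIdx n - 3) * 2 ^ twoExp n := by
  rw [two_l hn, mul_comm]
  exact n_eq

include hne in
lemma not_pow : ∀ r : ℕ, n ≠ 2 ^ r := by
  intro r hr
  apply hne
  have h : twoExp n = r := by
    unfold twoExp
    rw [hr]
    exact padicValNat.prime_pow r
  rw [h]
  exact hr

lemma two_n : 2 * n = 2 ^ (twoExp n + 1) * dd n := by
  have e := n_eq (n := n)
  calc 2 * n = 2 * (2 ^ twoExp n * dd n) := by rw [← e]
    _ = 2 ^ (twoExp n + 1) * dd n := by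
      rw [pow_succ]
      ring

include hn hne in
lemma klog_l : klog n (lIdx n) = twoExp n := by
  unfold klog
  rw [two_l hn]
  have hd := dd_ge hn hne
  have h2 := two_n (n := n)
  have h1 : 1 ≤ 2 ^ (twoExp n + 1) := Nat.one_le_two_pow
  have hdiv : (2 * n - 1) / dd n = 2 ^ (twoExp n + 1) - 1 := by
    apply Nat.div_eq_of_lt_le
    · rw [Nat.sub_mul, one_mul]
      omega
    · rw [Nat.sub_add_cancel h1]
      omega
  rw [hdiv]
  apply Nat.log_eq_of_pow_le_of_lt_pow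
  · have : 1 ≤ 2 ^ twoExp n := Nat.one_le_two_pow
    rw [pow_succ]
    omega
  · omega

include hn hne in
lemma kprime_l : kprime n (lIdx n) = twoExp n + 1 := by
  have hl := l_ge hn hne
  unfold kprime
  rw [if_neg (by omega), if_neg (by omega), two_l hn]
  have hd := dd_ge hn hne
  rw [two_n, Nat.mul_div_cancel _ (by omega)]
  exact Nat.log_pow (by norm_num) _

include hn in
lemma two_mul_ne (j : ℕ) (hj : 3 ≤ j) (hjl : j ≠ lIdx n) :
    ∀ r : ℕ, 2 * n ≠ (2 * j - 3) * 2 ^ r := by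
  intro r hr
  have hd1 := dd_odd hn
  have htl := two_l hn
  rw [two_n] at hr
  rcases lt_trichotomy r (twoExp n + 1) with hlt | heq | hgt
  · obtain ⟨c, hc⟩ : ∃ c, twoExp n + 1 = r + (c + 1) := ⟨twoExp n - r, by omega⟩
    rw [hc, pow_add 2 r (c + 1)] at hr
    have h3 : 2 ^ r * (2 ^ (c + 1) * dd n) = 2 ^ r * (2 * j - 3) := by
      rw [← mul_assoc, hr, mul_comm]
    have h4 := Nat.eq_of_mul_eq_mul_left (by positivity : 0 < 2 ^ r) h3
    rw [pow_succ] at h4
    have h5 : 2 ^ c * 2 * dd n = 2 * (2 ^ c * dd n) := by ring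
    omega
  · rw [heq] at hr
    have h3 : 2 ^ (twoExp n + 1) * dd n = 2 ^ (twoExp n + 1) * (2 * j - 3) := by
      rw [hr, mul_comm]
    have h4 := Nat.eq_of_mul_eq_mul_left (by positivity : 0 < 2 ^ (twoExp n + 1)) h3
    omega
  · obtain ⟨c, hc⟩ : ∃ c, r = twoExp n + 1 + (c + 1) := ⟨r - twoExp n - 2, by omega⟩
    rw [hc, pow_add 2 (twoExp n + 1) (c + 1)] at hr
    have h3 : 2 ^ (twoExp n + 1) * dd n =
        2 ^ (twoExp n + 1) * ((2 * j - 3) * 2 ^ (c + 1)) := by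
      rw [hr]
      ring
    have h4 := Nat.eq_of_mul_eq_mul_left (by positivity : 0 < 2 ^ (twoExp n + 1)) h3
    rw [pow_succ] at h4
    have h5 : (2 * j - 3) * (2 ^ c * 2) = 2 * ((2 * j - 3) * 2 ^ c) := by ring
    omega

include hn in
lemma lt_mul_pow_even (j : ℕ) (hj : 3 ≤ j) (hjl : j ≠ lIdx n) :
    n < (2 * j - 3) * 2 ^ klog n j := by
  refine lt_of_le_of_ne (le_mul_pow j (by omega)) ?_
  intro h
  apply two_mul_ne hn j hj hjl (klog n j + 1)
  have h5 : (2 * j - 3) * (2 ^ klog n j * 2) = 2 * ((2 * j - 3) * 2 ^ klog n j) := by ring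
  rw [pow_succ, h5, ← h]

include hn hne in
lemma pow_a_le (j : ℕ) (hj : 3 ≤ j) : 2 * 2 ^ twoExp n ≤ (2 * j - 4) * 2 ^ klog n j := by
  have hle := le_mul_pow (n := n) j (by omega)
  have hsp := mul_split j (by omega) (klog n j)
  have h3K : 3 * 2 ^ klog n j ≤ (2 * j - 3) * 2 ^ klog n j := Nat.mul_le_mul_right _ (by omega)
  have h3A : 2 ^ twoExp n * 3 ≤ 2 ^ twoExp n * dd n := Nat.mul_le_mul_left _ (dd_ge hn hne)
  have e := n_eq (n := n)
  omega

include hn hne in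
lemma pow_a_le_k2 : 2 ^ twoExp n ≤ 2 ^ (klog n 2 - 1) := by
  have hk := klog_pos hn 2 le_rfl (two_le_numVars hn)
  have hlt := lt_pow_klog2 (not_pow hne)
  have h3A : 2 ^ twoExp n * 3 ≤ 2 ^ twoExp n * dd n := Nat.mul_le_mul_left _ (dd_ge hn hne)
  have e := n_eq (n := n)
  have h2 : 2 ^ klog n 2 = 2 ^ (klog n 2 - 1) * 2 := by
    rw [← pow_succ, Nat.sub_add_cancel hk]
  omega

include hn hne in
lemma pow_a_le_n : 2 ^ twoExp n ≤ n := by
  have h3A : 2 ^ twoExp n * 3 ≤ 2 ^ twoExp n * dd n := Nat.mul_le_mul_left _ (dd_ge hn hne)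
  have e := n_eq (n := n)
  omega

end num

/-- the image of `x` -/
noncomputable def Xp (n : ℕ) : FreeP n :=
  evarE n (lIdx n) ^ 2 ^ twoExp n +
    evarE n 1 ^ ((2 * lIdx n - 4) * 2 ^ twoExp n) * Sp (evarE n 1) (evarE n 2) (twoExp n)

section poly

variable (hn : 2 ≤ n) (ha : 1 ≤ twoExp n) (hne : n ≠ 2 ^ twoExp n)

include hn ha hne in
lemma psi_Xp : psi n (Xp n) = genImage n none := by
  have hl3 := l_ge hn hne
  have hls := l_le hn ha hne
  obtain ⟨i, hi⟩ : ∃ i : Fin (numVars n), i.val + 1 = lIdx n :=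
    ⟨⟨lIdx n - 1, by omega⟩, by
      show lIdx n - 1 + 1 = lIdx n
      omega⟩
  have hi2 : 2 ≤ i.val := by omega
  have hk := klog_l hn hne
  have hn' := n_eq' hn
  unfold Xp
  rw [← hi] at hk hn' ⊢
  rw [map_add, map_mul, map_pow, map_pow, psi_evarE_ge i hi2, psi_evarE1 hn, psi_Sp hn,
    frob_add add_self', genImage_none]
  have h0 : eps n (i.val + 1) ^ 2 ^ twoExp n = 0 := by
    have h := eps_pow_bound i (by omega)
    rwa [hk] at h
  rw [h0, zero_add, mul_pow, ← pow_mul]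
  have hsp := mul_split (i.val + 1) (by omega) (twoExp n)
  have h1 : 1 ≤ 2 ^ twoExp n := Nat.one_le_two_pow
  have c2 : eps n 1 ^ ((2 * (i.val + 1) - 4) * 2 ^ twoExp n) *
      (eps n 1 ^ (2 ^ twoExp n - 1) * eps n 2) = eps n 1 ^ (n - 1) * eps n 2 := by
    rw [← mul_assoc, ← pow_add]
    congr 2
    omega
  rw [mul_add (eps n 1 ^ ((2 * (i.val + 1) - 4) * 2 ^ twoExp n)), c2]
  linear_combination
    add_self' (eps n 1 ^ ((2 * (i.val + 1) - 4) * 2 ^ twoExp n) * eps n 2 ^ 2 ^ twoExp n)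

include hn hne in
lemma L1 : ∃ B : FreeP n, evarE n 1 * Xp n =
    evarE n 1 * evarE n (lIdx n) ^ 2 ^ twoExp n + evarE n 1 ^ 2 ^ twoExp n * B := by
  have hl3 := l_ge hn hne
  have hA : 2 ^ twoExp n ≤ (2 * lIdx n - 4) * 2 ^ twoExp n + 1 := by
    have h : 1 * 2 ^ twoExp n ≤ (2 * lIdx n - 4) * 2 ^ twoExp n :=
      Nat.mul_le_mul_right _ (by omega)
    omega
  obtain ⟨D, hD⟩ : evarE n 1 ^ 2 ^ twoExp n ∣
      evarE n 1 ^ ((2 * lIdx n - 4) * 2 ^ twoExp n + 1) := pow_dvd_pow _ hA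
  refine ⟨D * Sp (evarE n 1) (evarE n 2) (twoExp n), ?_⟩
  unfold Xp
  rw [mul_add, ← mul_assoc (evarE n 1) (evarE n 1 ^ ((2 * lIdx n - 4) * 2 ^ twoExp n)),
    ← pow_succ', hD]
  ring

include hn hne in
lemma L2 : ∃ B : FreeP n, Xp n ^ 2 =
    evarE n (lIdx n) ^ 2 ^ (twoExp n + 1) + evarE n 1 ^ 2 ^ twoExp n * B := by
  have hl3 := l_ge hn hne
  have hA : 2 ^ twoExp n ≤ (2 * lIdx n - 4) * 2 ^ twoExp n := by
    have h : 1 * 2 ^ twoExp n ≤ (2 * lIdx n - 4) * 2 ^ twoExp n :=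
      Nat.mul_le_mul_right _ (by omega)
    omega
  obtain ⟨D, hD⟩ : evarE n 1 ^ 2 ^ twoExp n ∣
      evarE n 1 ^ ((2 * lIdx n - 4) * 2 ^ twoExp n) := pow_dvd_pow _ hA
  refine ⟨D * evarE n 1 ^ ((2 * lIdx n - 4) * 2 ^ twoExp n) *
    Sp (evarE n 1) (evarE n 2) (twoExp n) ^ 2, ?_⟩
  have hu : (evarE n (lIdx n) ^ 2 ^ twoExp n) ^ 2 = evarE n (lIdx n) ^ 2 ^ (twoExp n + 1) := by
    rw [← pow_mul, ← pow_succ]
  unfold Xp
  linear_combination hu +
    (evarE n 1 ^ ((2 * lIdx n - 4) * 2 ^ twoExp n) *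
      Sp (evarE n 1) (evarE n 2) (twoExp n) ^ 2) * hD +
    char2 (evarE n (lIdx n) ^ 2 ^ twoExp n * evarE n 1 ^ ((2 * lIdx n - 4) * 2 ^ twoExp n) *
      Sp (evarE n 1) (evarE n 2) (twoExp n))

include hn hne in
lemma L3 : ∃ B : FreeP n, rho (Xp n) (hrel n 2) =
    evarE n 1 ^ (2 ^ klog n 2 - n) * Xp n + evarE n 2 ^ 2 ^ (klog n 2 - 1) +
      evarE n 1 ^ 2 ^ twoExp n * B := by
  have hk := klog_pos hn 2 le_rfl (two_le_numVars hn)
  have hAk := pow_a_le_k2 hn hne
  unfold hrel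
  rw [if_pos rfl, map_add, map_mul, map_pow, rho_evar, rho_xvar, rho_sPoly, split_top _ _ _ hk]
  obtain ⟨C, hC⟩ : evarE n 1 ^ 2 ^ twoExp n ∣ ∑ t ∈ Finset.range (klog n 2 - 1),
      evarE n 1 ^ (2 ^ klog n 2 - 2 ^ (t + 1)) * evarE n 2 ^ 2 ^ t := by
    apply Finset.dvd_sum
    intro t ht
    have h1 : 2 ^ (t + 1) ≤ 2 ^ (klog n 2 - 1) :=
      Nat.pow_le_pow_right (by norm_num) (by
        have := Finset.mem_range.mp ht
        omega)
    have h2 : 2 ^ klog n 2 = 2 ^ (klog n 2 - 1) * 2 := by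
      rw [← pow_succ, Nat.sub_add_cancel hk]
    exact dvd_mul_of_dvd_left (pow_dvd_pow _ (by omega)) _
  refine ⟨C, ?_⟩
  rw [hC]
  ring

include hn hne in
lemma L4 (i : Fin (numVars n)) (h2 : 2 ≤ i.val) : ∃ B : FreeP n,
    rho (Xp n) (hrel n (i.val + 1)) =
      evarE n (i.val + 1) ^ 2 ^ klog n (i.val + 1) +
      evarE n 1 ^ ((2 * (i.val + 1) - 3) * 2 ^ klog n (i.val + 1) - n) * Xp n +
      evarE n 1 ^ 2 ^ twoExp n * B := by
  have hA := pow_a_le hn hne (i.val + 1) (by omega)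
  unfold hrel
  rw [if_neg (by omega), if_pos ⟨by omega, i.isLt⟩, map_add, map_add, map_mul, map_mul, map_pow,
    map_pow, map_pow, rho_evar, rho_evar, rho_xvar, rho_sPoly]
  obtain ⟨D, hD⟩ : evarE n 1 ^ 2 ^ twoExp n ∣
      evarE n 1 ^ ((2 * (i.val + 1) - 4) * 2 ^ klog n (i.val + 1)) := pow_dvd_pow _ (by omega)
  refine ⟨D * Sp (evarE n 1) (evarE n 2) (klog n (i.val + 1)), ?_⟩
  rw [hD]
  ring

include hn hne in
lemma L5 (i : Fin (numVars n)) (hil : i.val + 1 = lIdx n) :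
    rho (Xp n) (hrel n (i.val + 1)) = 0 := by
  have hl3 := l_ge hn hne
  have hk := klog_l hn hne
  have hn' := n_eq' hn
  rw [← hil] at hk hn'
  unfold hrel
  rw [if_neg (by omega), if_pos ⟨by omega, i.isLt⟩, map_add, map_add, map_mul, map_mul, map_pow,
    map_pow, map_pow, rho_evar, rho_evar, rho_xvar, rho_sPoly, hk]
  have e0 : (2 * (i.val + 1) - 3) * 2 ^ twoExp n - n = 0 := by omega
  rw [e0, pow_zero, one_mul]
  unfold Xp
  rw [← hil]
  linear_combination char2 (evarE n (i.val + 1) ^ 2 ^ twoExp n) +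
    char2 (evarE n 1 ^ ((2 * (i.val + 1) - 4) * 2 ^ twoExp n) *
      Sp (evarE n 1) (evarE n 2) (twoExp n))

end poly

/-! ### the ideals -/

lemma even_gen0 : evarE n 1 * evarE n (lIdx n) ^ 2 ^ (kprime n (lIdx n) - 1) ∈ evenIdeal n :=
  Ideal.subset_span (Or.inl rfl)

lemma even_genj (i : Fin (numVars n)) :
    evarE n (i.val + 1) ^ 2 ^ kprime n (i.val + 1) ∈ evenIdeal n :=
  Ideal.subset_span (Or.inr ⟨i, rfl⟩)

/-- the ideal `ker ψ + (e_1^(2^a))` -/
noncomputable def KK (n : ℕ) : Ideal (FreeP n) :=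
  RingHom.ker (psi n) ⊔ Ideal.span {evarE n 1 ^ 2 ^ twoExp n}

lemma memK (y B : FreeP n) (hy : psi n y = 0) : y + evarE n 1 ^ 2 ^ twoExp n * B ∈ KK n :=
  add_mem (Ideal.mem_sup_left (RingHom.mem_ker.mpr hy))
    (Ideal.mem_sup_right (Ideal.mul_mem_right _ _ (Ideal.subset_span rfl)))

section ideals

variable (hn : 2 ≤ n) (ha : 1 ≤ twoExp n) (hne : n ≠ 2 ^ twoExp n)

include hn hne in
lemma ev0 : evarE n 1 * evarE n (lIdx n) ^ 2 ^ twoExp n ∈ evenIdeal n := by
  have h := even_gen0 (n := n)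
  rw [kprime_l hn hne, Nat.add_sub_cancel] at h
  exact h

include hn in
lemma ev_e1 : evarE n 1 ^ 2 ^ twoExp n ∈ evenIdeal n := by
  have h := even_genj (n := n) (i0 hn)
  have e : kprime n ((i0 hn).val + 1) = twoExp n := kprime1
  rw [e] at h
  exact h

include hn hne in
lemma ev_e2 : evarE n 2 ^ 2 ^ (klog n 2 - 1) ∈ evenIdeal n := by
  have h := even_genj (n := n) (i1 hn)
  have e : kprime n ((i1 hn).val + 1) = klog n 2 - 1 := kprime2 hn (not_pow hne)
  rw [e] at h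
  exact h

include hn hne in
lemma ev_l (i : Fin (numVars n)) (hil : i.val + 1 = lIdx n) :
    evarE n (i.val + 1) ^ 2 ^ (twoExp n + 1) ∈ evenIdeal n := by
  have h := even_genj (n := n) i
  rw [hil, kprime_l hn hne] at h
  rw [hil]
  exact h

include hn in
lemma ev_j (i : Fin (numVars n)) (h2 : 2 ≤ i.val) (hil : i.val + 1 ≠ lIdx n) :
    evarE n (i.val + 1) ^ 2 ^ klog n (i.val + 1) ∈ evenIdeal n := by
  have h := even_genj (n := n) i
  rw [kprime_eq_klog (i.val + 1) (by omega) i.isLt (two_mul_ne hn (i.val + 1) (by omega) hil)] at h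
  exact h

include hn hne in
lemma ev_e1X : evarE n 1 * Xp n ∈ evenIdeal n := by
  obtain ⟨B, hB⟩ := L1 hn hne
  rw [hB]
  exact add_mem (ev0 hn hne) (Ideal.mul_mem_right _ _ (ev_e1 hn))

include hn ha hne in
lemma ker_le_even : RingHom.ker (psi n) ≤ evenIdeal n := by
  rw [ker_eq hn (Xp n) (psi_Xp hn ha hne), Ideal.map_le_iff_le_comap]
  unfold presIdeal
  rw [Ideal.span_le]
  rintro y (hy | ⟨i, rfl⟩)
  · rcases hy with rfl | rfl | rfl
    · show rho (Xp n) (evar n 1 ^ n) ∈ evenIdeal n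
      rw [map_pow, rho_evar]
      obtain ⟨D, hD⟩ : evarE n 1 ^ 2 ^ twoExp n ∣ evarE n 1 ^ n :=
        pow_dvd_pow _ (pow_a_le_n hn hne)
      rw [hD]
      exact Ideal.mul_mem_right _ _ (ev_e1 hn)
    · show rho (Xp n) (evar n 1 * xvar n) ∈ evenIdeal n
      rw [map_mul, rho_evar, rho_xvar]
      exact ev_e1X hn hne
    · show rho (Xp n) (xvar n ^ 2) ∈ evenIdeal n
      rw [map_pow, rho_xvar]
      have hl3 := l_ge hn hne
      have hls := l_le hn ha hne
      obtain ⟨i, hi⟩ : ∃ i : Fin (numVars n), i.val + 1 = lIdx n :=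
        ⟨⟨lIdx n - 1, by omega⟩, by
          show lIdx n - 1 + 1 = lIdx n
          omega⟩
      obtain ⟨B, hB⟩ := L2 hn hne
      rw [hB, ← hi]
      exact add_mem (ev_l hn hne i hi) (Ideal.mul_mem_right _ _ (ev_e1 hn))
  · show rho (Xp n) (hrel n (i.val + 1)) ∈ evenIdeal n
    by_cases h0 : i.val = 0
    · have hz : hrel n (i.val + 1) = 0 := by
        unfold hrel
        rw [if_neg (by omega), if_neg (by omega)]
      rw [hz, map_zero]
      exact zero_mem _
    by_cases h1 : i.val = 1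
    · rw [h1]
      show rho (Xp n) (hrel n 2) ∈ evenIdeal n
      obtain ⟨B, hB⟩ := L3 hn hne
      rw [hB]
      have hlt := lt_pow_klog2 (not_pow hne)
      obtain ⟨m, hm⟩ : ∃ m, 2 ^ klog n 2 - n = m + 1 := ⟨2 ^ klog n 2 - n - 1, by omega⟩
      refine add_mem (add_mem ?_ (ev_e2 hn hne)) (Ideal.mul_mem_right _ _ (ev_e1 hn))
      rw [hm, pow_succ, mul_assoc]
      exact Ideal.mul_mem_left _ _ (ev_e1X hn hne)
    · have h2 : 2 ≤ i.val := by omega
      by_cases hil : i.val + 1 = lIdx n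
      · rw [L5 hn hne i hil]
        exact zero_mem _
      · obtain ⟨B, hB⟩ := L4 hn hne i h2
        rw [hB]
        have hlt := lt_mul_pow_even hn (i.val + 1) (by omega) hil
        obtain ⟨m, hm⟩ : ∃ m, (2 * (i.val + 1) - 3) * 2 ^ klog n (i.val + 1) - n = m + 1 :=
          ⟨(2 * (i.val + 1) - 3) * 2 ^ klog n (i.val + 1) - n - 1, by omega⟩
        refine add_mem (add_mem (ev_j hn i h2 hil) ?_) (Ideal.mul_mem_right _ _ (ev_e1 hn))
        rw [hm, pow_succ, mul_assoc]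
        exact Ideal.mul_mem_left _ _ (ev_e1X hn hne)

include hn ha hne in
lemma psi_pow_X (m : ℕ) (hm : 1 ≤ m) : psi n (evarE n 1 ^ m * Xp n) = 0 := by
  rw [map_mul, map_pow, psi_evarE1 hn, psi_Xp hn ha hne, genImage_none, ← mul_assoc, ← pow_add,
    a_pow_zero hn _ (by omega), zero_mul]

include hn ha hne in
lemma even_le_K : evenIdeal n ≤ KK n := by
  have hX := psi_Xp hn ha hne
  have hφ0 : ∀ y ∈ presIdeal n, phi n y = 0 :=
    fun y hy => RingHom.mem_ker.mp (presIdeal_le_ker hn hy)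
  have hρ : ∀ y ∈ presIdeal n, psi n (rho (Xp n) y) = 0 := by
    intro y hy
    rw [← phi_eq (Xp n) hX]
    exact hφ0 y hy
  unfold evenIdeal
  rw [Ideal.span_le]
  rintro y (hy | ⟨i, rfl⟩)
  · have hy' : y = evarE n 1 * evarE n (lIdx n) ^ 2 ^ (kprime n (lIdx n) - 1) := hy
    rw [kprime_l hn hne, Nat.add_sub_cancel] at hy'
    obtain ⟨B, hB⟩ := L1 hn hne
    have e : y = evarE n 1 * Xp n + evarE n 1 ^ 2 ^ twoExp n * B := by
      rw [hy']
      linear_combination (-1 : FreeP n) * hB - char2 (evarE n 1 ^ 2 ^ twoExp n * B)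
    show y ∈ KK n
    rw [e]
    apply memK
    have h := psi_pow_X hn ha hne 1 le_rfl
    rwa [pow_one] at h
  · show evarE n (i.val + 1) ^ 2 ^ kprime n (i.val + 1) ∈ KK n
    by_cases h0 : i.val = 0
    · have e : evarE n (i.val + 1) ^ 2 ^ kprime n (i.val + 1) =
          0 + evarE n 1 ^ 2 ^ twoExp n * 1 := by
        rw [h0]
        show evarE n 1 ^ 2 ^ kprime n 1 = _
        rw [kprime1]
        ring
      rw [e]
      exact memK 0 1 (map_zero _)
    by_cases h1 : i.val = 1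
    · obtain ⟨B, hB⟩ := L3 hn hne
      have hlt := lt_pow_klog2 (not_pow hne)
      have e : evarE n (i.val + 1) ^ 2 ^ kprime n (i.val + 1) =
          (rho (Xp n) (hrel n 2) + evarE n 1 ^ (2 ^ klog n 2 - n) * Xp n) +
            evarE n 1 ^ 2 ^ twoExp n * B := by
        rw [h1]
        show evarE n 2 ^ 2 ^ kprime n 2 = _
        rw [kprime2 hn (not_pow hne)]
        linear_combination (-1 : FreeP n) * hB -
          char2 (evarE n 1 ^ (2 ^ klog n 2 - n) * Xp n) -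
          char2 (evarE n 1 ^ 2 ^ twoExp n * B)
      rw [e]
      apply memK
      have hh : psi n (rho (Xp n) (hrel n 2)) = 0 := hρ _ (genh (i1 hn))
      rw [map_add, hh, psi_pow_X hn ha hne _ (by omega), add_zero]
    · have h2 : 2 ≤ i.val := by omega
      by_cases hil : i.val + 1 = lIdx n
      · obtain ⟨B, hB⟩ := L2 hn hne
        have e : evarE n (i.val + 1) ^ 2 ^ kprime n (i.val + 1) =
            Xp n ^ 2 + evarE n 1 ^ 2 ^ twoExp n * B := by
          rw [hil, kprime_l hn hne]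
          linear_combination (-1 : FreeP n) * hB - char2 (evarE n 1 ^ 2 ^ twoExp n * B)
        rw [e]
        apply memK
        rw [map_pow, hX, genImage_none, mul_pow, ← pow_mul, a_pow_zero hn _ (by omega), zero_mul]
      · obtain ⟨B, hB⟩ := L4 hn hne i h2
        have hlt := lt_mul_pow_even hn (i.val + 1) (by omega) hil
        have e : evarE n (i.val + 1) ^ 2 ^ kprime n (i.val + 1) =
            (rho (Xp n) (hrel n (i.val + 1)) +
              evarE n 1 ^ ((2 * (i.val + 1) - 3) * 2 ^ klog n (i.val + 1) - n) * Xp n) +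
            evarE n 1 ^ 2 ^ twoExp n * B := by
          rw [kprime_eq_klog (i.val + 1) (by omega) i.isLt
            (two_mul_ne hn (i.val + 1) (by omega) hil)]
          linear_combination (-1 : FreeP n) * hB -
            char2 (evarE n 1 ^ ((2 * (i.val + 1) - 3) * 2 ^ klog n (i.val + 1) - n) * Xp n) -
            char2 (evarE n 1 ^ 2 ^ twoExp n * B)
        rw [e]
        apply memK
        rw [map_add, hρ _ (genh i), psi_pow_X hn ha hne _ (by omega), add_zero]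

variable (τ : P n →ₐ[ZMod 2] P n) (hτ1 : τ (eps n 1) = eps n 1)
  (hτ : ∀ j : ℕ, 2 ≤ j → j ≤ numVars n → τ (eps n j) = eps n j + eps n 1 ^ (2 * j - 3))

include hn ha hne hτ1 hτ in
theorem main48 :
    (∀ q : FreeP n,
      (∃ w : P n, τ w = w ∧ psi n q = eps n 1 ^ 2 ^ twoExp n * w) ↔ q ∈ evenIdeal n) ∧
    (∀ z : P n, τ z = z → ∃ q : FreeP n, ∃ w : P n,
      τ w = w ∧ z = psi n q + eps n 1 ^ 2 ^ twoExp n * w) := by
  have hX := psi_Xp hn ha hne
  have hrange : (psi n).range = AlgHom.equalizer τ (AlgHom.id (ZMod 2) (P n)) := by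
    rw [range_eq (Xp n) hX, main41 hn τ hτ1 hτ]
  have hfix : ∀ c : FreeP n, τ (psi n c) = psi n c := by
    intro c
    have h : psi n c ∈ (psi n).range := ⟨c, rfl⟩
    rw [hrange] at h
    exact h
  have hsurj : ∀ z : P n, τ z = z → ∃ q : FreeP n, psi n q = z := by
    intro z hz
    have h : z ∈ (psi n).range := by
      rw [hrange]
      exact hz
    obtain ⟨q, hq⟩ := h
    exact ⟨q, hq⟩
  refine ⟨?_, ?_⟩
  · intro q
    constructor
    · rintro ⟨w, hw, h⟩
      obtain ⟨q', rfl⟩ := hsurj w hw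
      have hk : q - evarE n 1 ^ 2 ^ twoExp n * q' ∈ RingHom.ker (psi n) := by
        rw [RingHom.mem_ker, map_sub, map_mul, map_pow, psi_evarE1 hn, h, sub_self]
      have h1 : evarE n 1 ^ 2 ^ twoExp n * q' ∈ evenIdeal n :=
        Ideal.mul_mem_right _ _ (ev_e1 hn)
      have h2 := add_mem (ker_le_even hn ha hne hk) h1
      rwa [sub_add_cancel] at h2
    · intro hq
      have hK := even_le_K hn ha hne hq
      unfold KK at hK
      obtain ⟨y, hy, z, hz, rfl⟩ := Submodule.mem_sup.mp hK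
      obtain ⟨c, rfl⟩ := Ideal.mem_span_singleton'.mp hz
      refine ⟨psi n c, hfix c, ?_⟩
      rw [map_add, RingHom.mem_ker.mp hy, zero_add, map_mul, map_pow, psi_evarE1 hn, mul_comm]
  · intro z hz
    obtain ⟨q, rfl⟩ := hsurj z hz
    exact ⟨q, 0, map_zero _, by rw [mul_zero, add_zero]⟩

end ideals

end Groth.Agent.H85.QsEven
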