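import Mathlib
import Groth.Prelude.Def_W4c4chowquasisplitPn
import Groth.Prelude.Def_W4c4chowquasisplitPn2
import Groth.Agent.H85.QsC
import Groth.Agent.H85.QsBox
import Groth.Agent.H85.QsK
import Groth.Agent.H85.QsK2
import Groth.Agent.H85.QsNum

/-!
# `P^τ / ε_1 P^τ` for odd `n` (S17747)
-/

open MvPolynomial QsChow

namespace Groth.Agent.H85.QsOdd

open Groth.Agent.H85.QsC Groth.Agent.H85.QsBox Groth.Agent.H85.QsK Groth.Agent.H85.QsNum

variable {n : ℕ}

lemma not_pow_of_odd (hn : 2 ≤ n) (hodd : Odd n) : ∀ r : ℕ, n ≠ 2 ^ r := by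
  intro r hr
  obtain ⟨m, hm⟩ := hodd
  rcases r with _ | r
  · rw [pow_zero] at hr
    omega
  · rw [pow_succ] at hr
    omega

lemma two_mul_ne_of_odd (hodd : Odd n) (j : ℕ) (hj : 3 ≤ j) (hjs : j ≤ numVars n) :
    ∀ r : ℕ, 2 * n ≠ (2 * j - 3) * 2 ^ r := by
  intro r hr
  obtain ⟨m, hm⟩ := hodd
  unfold numVars at hjs
  rcases r with _ | _ | r
  · rw [pow_zero] at hr
    omega
  · rw [pow_one] at hr
    omega
  · have h4 : (2 * j - 3) * 2 ^ (r + 2) = 4 * ((2 * j - 3) * 2 ^ r) := by
      rw [pow_succ, pow_succ]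
      ring
    rw [h4] at hr
    omega

lemma lt_mul_pow_of_odd (hn : 2 ≤ n) (hodd : Odd n) (j : ℕ) (hj : 3 ≤ j) (hjs : j ≤ numVars n) :
    n < (2 * j - 3) * 2 ^ klog n j := by
  refine lt_of_le_of_ne (le_mul_pow j (by omega)) ?_
  intro h
  have hk := klog_pos hn j (by omega) hjs
  obtain ⟨k, hk'⟩ : ∃ k, klog n j = k + 1 := ⟨klog n j - 1, by omega⟩
  rw [hk', pow_succ] at h
  obtain ⟨m, hm⟩ := hodd
  have h2 : (2 * j - 3) * (2 ^ k * 2) = 2 * ((2 * j - 3) * 2 ^ k) := by ring
  omega

lemma odd_gen1 : evar n 1 ∈ oddIdeal n := Ideal.subset_span (Or.inl (Set.mem_insert _ _))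

lemma odd_gen2 : xvar n ^ 2 ∈ oddIdeal n :=
  Ideal.subset_span (Or.inl (Set.mem_insert_of_mem _ rfl))

lemma odd_genj (i : Fin (numVars n)) : evar n (i.val + 1) ^ 2 ^ kprime n (i.val + 1) ∈ oddIdeal n :=
  Ideal.subset_span (Or.inr ⟨i, rfl⟩)

lemma presIdeal_le_odd (hn : 2 ≤ n) (hodd : Odd n) : presIdeal n ≤ oddIdeal n := by
  have hnp := not_pow_of_odd hn hodd
  unfold presIdeal
  rw [Ideal.span_le]
  rintro y (hy | ⟨i, rfl⟩)
  · rcases hy with rfl | rfl | rfl
    · exact Ideal.pow_mem_of_mem _ odd_gen1 _ (by omega)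
    · exact Ideal.mul_mem_right _ _ odd_gen1
    · exact odd_gen2
  · show hrel n (i.val + 1) ∈ oddIdeal n
    by_cases h0 : i.val = 0
    · have hz : hrel n (i.val + 1) = 0 := by
        unfold hrel
        rw [if_neg (by omega), if_neg (by omega)]
      rw [hz]
      exact zero_mem _
    by_cases h1 : i.val = 1
    · obtain ⟨A, hA⟩ := hrel2_decomp hn hnp
      have hg := odd_genj (n := n) i
      rw [h1] at hg ⊢
      have hk : kprime n (1 + 1) = klog n 2 - 1 := kprime2 hn hnp
      rw [hk] at hg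
      show hrel n 2 ∈ _
      rw [hA]
      exact add_mem hg (Ideal.mul_mem_right _ _ odd_gen1)
    · have h2 : 2 ≤ i.val := by omega
      obtain ⟨A, hA⟩ := hrel_ge_decomp i h2
        (lt_mul_pow_of_odd hn hodd (i.val + 1) (by omega) i.isLt)
      have hg := odd_genj (n := n) i
      rw [kprime_eq_klog (i.val + 1) (by omega) i.isLt
        (two_mul_ne_of_odd hodd (i.val + 1) (by omega) i.isLt)] at hg
      rw [hA]
      exact add_mem hg (Ideal.mul_mem_right _ _ odd_gen1)

section main

variable (hn : 2 ≤ n) (τ : P n →ₐ[ZMod 2] P n) (hτ1 : τ (eps n 1) = eps n 1)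
  (hτ : ∀ j : ℕ, 2 ≤ j → j ≤ numVars n → τ (eps n j) = eps n j + eps n 1 ^ (2 * j - 3))

include hn hτ1 hτ in
lemma phi_fixed (c : FreeE n) : τ (phi n c) = phi n c := by
  have h : phi n c ∈ (phi n).range := ⟨c, rfl⟩
  rw [main41 hn τ hτ1 hτ] at h
  exact h

include hn hτ1 hτ in
theorem main47 (hodd : Odd n) (q : FreeE n) :
    (∃ w : P n, τ w = w ∧ phi n q = eps n 1 * w) ↔ q ∈ oddIdeal n := by
  have hnp := not_pow_of_odd hn hodd
  have hφ0 : ∀ y ∈ presIdeal n, phi n y = 0 :=
    fun y hy => RingHom.mem_ker.mp (presIdeal_le_ker hn hy)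
  constructor
  · rintro ⟨w, hw, h⟩
    have hwr : w ∈ (phi n).range := by
      rw [main41 hn τ hτ1 hτ]
      exact hw
    obtain ⟨q', hq'⟩ := hwr
    have hq'' : phi n q' = w := hq'
    subst hq''
    have hk : q - evar n 1 * q' ∈ presIdeal n := by
      rw [← main42 hn, RingHom.mem_ker, map_sub, map_mul, phi_evar1 hn, h, sub_self]
    have h1 : evar n 1 * q' ∈ oddIdeal n := Ideal.mul_mem_right _ _ odd_gen1
    have h2 := add_mem (presIdeal_le_odd hn hodd hk) h1
    rwa [sub_add_cancel] at h2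
  · intro hq
    -- the set of such q is an ideal containing the generators
    refine Submodule.span_induction (p := fun q _ => ∃ w : P n, τ w = w ∧ phi n q = eps n 1 * w)
      ?_ ?_ ?_ ?_ hq
    · rintro y (hy | ⟨i, rfl⟩)
      · rcases hy with rfl | rfl
        · exact ⟨1, map_one _, by rw [phi_evar1 hn, mul_one]⟩
        · refine ⟨0, map_zero _, ?_⟩
          rw [mul_zero]
          exact hφ0 _ gen3
      · show ∃ w : P n, τ w = w ∧
          phi n (evar n (i.val + 1) ^ 2 ^ kprime n (i.val + 1)) = eps n 1 * w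
        by_cases h0 : i.val = 0
        · refine ⟨1, map_one _, ?_⟩
          have hk : kprime n (i.val + 1) = 0 := by
            rw [h0]
            show kprime n 1 = 0
            rw [kprime1]
            unfold twoExp
            apply padicValNat.eq_zero_of_not_dvd
            intro hdvd
            obtain ⟨m, hm⟩ := hodd
            omega
          rw [hk, pow_zero, pow_one, h0, mul_one]
          exact phi_evar1 hn
        by_cases h1 : i.val = 1
        · obtain ⟨A, hA⟩ := hrel2_decomp hn hnp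
          have hk : kprime n (i.val + 1) = klog n 2 - 1 := by
            rw [h1]
            exact kprime2 hn hnp
          refine ⟨phi n (-A), phi_fixed hn τ hτ1 hτ _, ?_⟩
          rw [hk, h1]
          have h3 := hφ0 _ (genh (i1 hn))
          have h4 : phi n (hrel n 2) = 0 := h3
          rw [hA, map_add, map_mul, phi_evar1 hn] at h4
          rw [map_neg]
          show phi n (evar n 2 ^ 2 ^ (klog n 2 - 1)) = _
          linear_combination h4
        · have h2 : 2 ≤ i.val := by omega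
          obtain ⟨A, hA⟩ := hrel_ge_decomp i h2
            (lt_mul_pow_of_odd hn hodd (i.val + 1) (by omega) i.isLt)
          refine ⟨phi n (-A), phi_fixed hn τ hτ1 hτ _, ?_⟩
          rw [kprime_eq_klog (i.val + 1) (by omega) i.isLt
            (two_mul_ne_of_odd hodd (i.val + 1) (by omega) i.isLt)]
          have h4 := hφ0 _ (genh i)
          rw [hA, map_add, map_mul, phi_evar1 hn] at h4
          rw [map_neg]
          linear_combination h4
    · exact ⟨0, map_zero _, by rw [map_zero, mul_zero]⟩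
    · rintro x y _ _ ⟨w, hw, h⟩ ⟨w', hw', h'⟩
      exact ⟨w + w', by rw [map_add, hw, hw'], by rw [map_add, h, h', mul_add]⟩
    · rintro c x _ ⟨w, hw, h⟩
      refine ⟨phi n c * w, ?_, ?_⟩
      · rw [map_mul, hw, phi_fixed hn τ hτ1 hτ]
      · rw [smul_eq_mul, map_mul, h]
        ring

end main

end Groth.Agent.H85.QsOdd
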