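import Mathlib
import Groth.Prelude.Def_W4c4chowquasisplitPn
import Groth.Prelude.Def_W4c4chowquasisplitPn2
import Groth.Agent.H85.QsC
import Groth.Agent.H85.QsBox
import Groth.Agent.H85.QsK
import Groth.Agent.H85.QsK2
import Groth.Agent.H85.QsNum
import Groth.Agent.H85.QsSub

/-!
# `P^τ` for `n` a power of two (S17749)
-/

open MvPolynomial QsChow

namespace Groth.Agent.H85.QsPow

open Groth.Agent.H85.QsC Groth.Agent.H85.QsBox Groth.Agent.H85.QsK Groth.Agent.H85.QsNum
  Groth.Agent.H85.QsSub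

variable {n : ℕ}

section num

variable (b : ℕ) (hb : 1 ≤ b) (hnb : n = 2 ^ b)

include hnb in
lemma twoExp_pow : twoExp n = b := by
  subst hnb
  unfold twoExp
  exact padicValNat.prime_pow b

include hnb in
lemma kprime2_pow : kprime n 2 = b := by
  unfold kprime
  rw [if_neg (by norm_num), if_pos rfl, hnb]
  exact Nat.log_pow (by norm_num) b

include hnb in
lemma klog2_pow : klog n 2 = b := by
  rw [klog2_eq, hnb]
  have h1 : 1 ≤ 2 ^ b := Nat.one_le_two_pow
  apply Nat.log_eq_of_pow_le_of_lt_pow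
  · omega
  · rw [pow_succ]
    omega

lemma odd_not_dvd (j : ℕ) (hj : 3 ≤ j) (c : ℕ) : ¬ (2 * j - 3) ∣ 2 ^ c := by
  intro hd
  obtain ⟨m, _, hm⟩ := (Nat.dvd_prime_pow Nat.prime_two).mp hd
  rcases m with _ | m
  · rw [pow_zero] at hm
    omega
  · rw [pow_succ] at hm
    omega

include hnb in
lemma two_mul_ne_pow (j : ℕ) (hj : 3 ≤ j) : ∀ r : ℕ, 2 * n ≠ (2 * j - 3) * 2 ^ r := by
  intro r hr
  apply odd_not_dvd j hj (b + 1)
  rw [pow_succ, ← hnb, mul_comm n 2, hr]
  exact dvd_mul_right _ _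

include hnb in
lemma lt_mul_pow_pow (j : ℕ) (hj : 3 ≤ j) : n < (2 * j - 3) * 2 ^ klog n j := by
  refine lt_of_le_of_ne (le_mul_pow j (by omega)) ?_
  intro h
  apply odd_not_dvd j hj b
  rw [← hnb, h]
  exact dvd_mul_right _ _

include hnb in
lemma le_mul_pow4 (j : ℕ) (hj : 3 ≤ j) : n ≤ (2 * j - 4) * 2 ^ klog n j := by
  have hle := le_mul_pow (n := n) j (by omega)
  rcases le_or_gt b (klog n j) with hbk | hkb
  · have h1 : 2 ^ b ≤ 2 ^ klog n j := Nat.pow_le_pow_right (by norm_num) hbk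
    have h2 : 1 * 2 ^ klog n j ≤ (2 * j - 4) * 2 ^ klog n j :=
      Nat.mul_le_mul_right _ (by omega)
    omega
  · obtain ⟨c, hc⟩ : ∃ c, b = klog n j + (c + 1) := ⟨b - klog n j - 1, by omega⟩
    have h0 : 2 ^ b = 2 ^ (c + 1) * 2 ^ klog n j := by
      rw [hc, pow_add, mul_comm]
    have h1 : n = 2 ^ (c + 1) * 2 ^ klog n j := hnb.trans h0
    have h2 : 2 ^ (c + 1) ≤ 2 * j - 3 := by
      apply Nat.le_of_mul_le_mul_right (c := 2 ^ klog n j) _ (by positivity)
      rw [← h1]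
      exact hle
    have h3 : 2 ^ (c + 1) = 2 * 2 ^ c := by
      rw [pow_succ]
      ring
    have h4 : 2 ^ (c + 1) * 2 ^ klog n j ≤ (2 * j - 4) * 2 ^ klog n j :=
      Nat.mul_le_mul_right _ (by omega)
    omega

end num

/-- `S_2(e_1, e_2)`, the image of `x` -/
noncomputable def Xp (n : ℕ) : FreeP n := Sp (evarE n 1) (evarE n 2) (klog n 2)

lemma pow_gen0 : evarE n 1 * ∑ t ∈ Finset.range (kprime n 2),
    evarE n 1 ^ (2 ^ kprime n 2 - 2 ^ (t + 1)) * evarE n 2 ^ 2 ^ t ∈ powIdeal n :=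
  Ideal.subset_span (Or.inl rfl)

lemma pow_genj (i : Fin (numVars n)) : evarE n (i.val + 1) ^ 2 ^ kprime n (i.val + 1) ∈ powIdeal n :=
  Ideal.subset_span (Or.inr ⟨i, rfl⟩)

section main

variable (hn : 2 ≤ n) (b : ℕ) (hb : 1 ≤ b) (hnb : n = 2 ^ b)

include hn hb hnb in
lemma psi_Xp : psi n (Xp n) = genImage n none := by
  unfold Xp
  rw [psi_Sp hn, eps2_pow hn, zero_add, genImage_none, klog2_pow b hnb, ← hnb]

include hb hnb in
lemma g_e1X : evarE n 1 * Xp n ∈ powIdeal n := by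
  have h := pow_gen0 (n := n)
  have e : kprime n 2 = klog n 2 := by rw [kprime2_pow b hnb, klog2_pow b hnb]
  rw [e] at h
  exact h

include hn hnb in
lemma g_e1n : evarE n 1 ^ n ∈ powIdeal n := by
  have h := pow_genj (n := n) (i0 hn)
  have e : kprime n ((i0 hn).val + 1) = b := by
    show kprime n 1 = b
    rw [kprime1, twoExp_pow b hnb]
  rw [e, ← hnb] at h
  exact h

include hn hnb in
lemma g_e2 : evarE n 2 ^ 2 ^ b ∈ powIdeal n := by
  have h := pow_genj (n := n) (i1 hn)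
  have e : kprime n ((i1 hn).val + 1) = b := kprime2_pow b hnb
  rw [e] at h
  exact h

include hnb in
lemma g_ej (i : Fin (numVars n)) (h2 : 2 ≤ i.val) :
    evarE n (i.val + 1) ^ 2 ^ klog n (i.val + 1) ∈ powIdeal n := by
  have h := pow_genj (n := n) i
  rw [kprime_eq_klog (i.val + 1) (by omega) i.isLt (two_mul_ne_pow b hnb (i.val + 1) (by omega))] at h
  exact h

include hb hnb in
lemma Xp_decomp : ∃ C : FreeP n,
    Xp n = evarE n 2 ^ 2 ^ (b - 1) + evarE n 1 ^ 2 ^ (b - 1) * C := by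
  unfold Xp
  rw [klog2_pow b hnb, split_top _ _ _ hb]
  obtain ⟨C, hC⟩ : evarE n 1 ^ 2 ^ (b - 1) ∣ ∑ t ∈ Finset.range (b - 1),
      evarE n 1 ^ (2 ^ b - 2 ^ (t + 1)) * evarE n 2 ^ 2 ^ t := by
    apply Finset.dvd_sum
    intro t ht
    have h1 : 2 ^ (t + 1) ≤ 2 ^ (b - 1) :=
      Nat.pow_le_pow_right (by norm_num) (by
        have := Finset.mem_range.mp ht
        omega)
    have h2 : 2 ^ b = 2 ^ (b - 1) * 2 := by
      rw [← pow_succ, Nat.sub_add_cancel hb]
    exact dvd_mul_of_dvd_left (pow_dvd_pow _ (by omega)) _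
  exact ⟨C, by rw [hC]⟩

include hn hb hnb in
lemma map_le : Ideal.map (rho (Xp n)) (presIdeal n) ≤ powIdeal n := by
  rw [Ideal.map_le_iff_le_comap]
  unfold presIdeal
  rw [Ideal.span_le]
  rintro y (hy | ⟨i, rfl⟩)
  · rcases hy with rfl | rfl | rfl
    · show rho (Xp n) (evar n 1 ^ n) ∈ powIdeal n
      rw [map_pow, rho_evar]
      exact g_e1n hn b hnb
    · show rho (Xp n) (evar n 1 * xvar n) ∈ powIdeal n
      rw [map_mul, rho_evar, rho_xvar]
      exact g_e1X b hb hnb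
    · show rho (Xp n) (xvar n ^ 2) ∈ powIdeal n
      rw [map_pow, rho_xvar]
      obtain ⟨C, hC⟩ := Xp_decomp (n := n) b hb hnb
      have hu : (evarE n 2 ^ 2 ^ (b - 1)) ^ 2 = evarE n 2 ^ 2 ^ b := by
        rw [← pow_mul, ← pow_succ, Nat.sub_add_cancel hb]
      have hv : (evarE n 1 ^ 2 ^ (b - 1)) ^ 2 = evarE n 1 ^ n := by
        rw [← pow_mul, ← pow_succ, Nat.sub_add_cancel hb, ← hnb]
      have hsq : Xp n ^ 2 = evarE n 2 ^ 2 ^ b + evarE n 1 ^ n * C ^ 2 := by
        rw [hC]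
        linear_combination hu + C ^ 2 * hv +
          char2 (evarE n 2 ^ 2 ^ (b - 1) * evarE n 1 ^ 2 ^ (b - 1) * C)
      rw [hsq]
      exact add_mem (g_e2 hn b hnb) (Ideal.mul_mem_right _ _ (g_e1n hn b hnb))
  · show rho (Xp n) (hrel n (i.val + 1)) ∈ powIdeal n
    by_cases h0 : i.val = 0
    · have hz : hrel n (i.val + 1) = 0 := by
        unfold hrel
        rw [if_neg (by omega), if_neg (by omega)]
      rw [hz, map_zero]
      exact zero_mem _
    by_cases h1 : i.val = 1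
    · rw [h1]
      show rho (Xp n) (hrel n 2) ∈ powIdeal n
      unfold hrel
      rw [if_pos rfl, map_add, map_mul, map_pow, rho_evar, rho_xvar, rho_sPoly]
      have e : 2 ^ klog n 2 - n = 0 := by
        rw [klog2_pow b hnb, ← hnb]
        omega
      rw [e, pow_zero, one_mul]
      show Xp n + Xp n ∈ powIdeal n
      rw [char2]
      exact zero_mem _
    · have h2 : 2 ≤ i.val := by omega
      unfold hrel
      rw [if_neg (by omega), if_pos ⟨by omega, i.isLt⟩, map_add, map_add, map_mul, map_mul,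
        map_pow, map_pow, map_pow, rho_evar, rho_evar, rho_xvar, rho_sPoly]
      have hlt := lt_mul_pow_pow b hnb (i.val + 1) (by omega)
      have hle := le_mul_pow4 b hnb (i.val + 1) (by omega)
      refine add_mem (add_mem (g_ej b hnb i h2) ?_) ?_
      · obtain ⟨m, hm⟩ : ∃ m, (2 * (i.val + 1) - 3) * 2 ^ klog n (i.val + 1) - n = m + 1 :=
          ⟨(2 * (i.val + 1) - 3) * 2 ^ klog n (i.val + 1) - n - 1, by omega⟩
        rw [hm, pow_succ, mul_assoc]
        exact Ideal.mul_mem_left _ _ (g_e1X b hb hnb)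
      · obtain ⟨D, hD⟩ : evarE n 1 ^ n ∣
            evarE n 1 ^ ((2 * (i.val + 1) - 4) * 2 ^ klog n (i.val + 1)) := pow_dvd_pow _ hle
        rw [hD, mul_assoc]
        exact Ideal.mul_mem_right _ _ (g_e1n hn b hnb)

include hn hb hnb in
lemma pow_le_ker : powIdeal n ≤ RingHom.ker (psi n) := by
  have hb2 : eps n 2 ^ 2 ^ b = 0 := by
    have h := eps2_pow hn
    rwa [klog2_pow b hnb] at h
  unfold powIdeal
  rw [Ideal.span_le]
  rintro y (hy | ⟨i, rfl⟩)
  · have hy' : y = evarE n 1 * ∑ t ∈ Finset.range (kprime n 2),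
        evarE n 1 ^ (2 ^ kprime n 2 - 2 ^ (t + 1)) * evarE n 2 ^ 2 ^ t := hy
    have e : kprime n 2 = klog n 2 := by rw [kprime2_pow b hnb, klog2_pow b hnb]
    rw [e] at hy'
    have hy'' : y = evarE n 1 * Xp n := hy'
    show psi n y = 0
    rw [hy'', map_mul, psi_Xp hn b hb hnb, psi_evarE1 hn, genImage_none, ← mul_assoc, ← pow_succ',
      Nat.sub_add_cancel (by omega), eps_one_pow hn, zero_mul]
  · show psi n (evarE n (i.val + 1) ^ 2 ^ kprime n (i.val + 1)) = 0
    rw [map_pow]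
    by_cases h0 : i.val = 0
    · have e : kprime n (i.val + 1) = b := by
        rw [h0]
        show kprime n 1 = b
        rw [kprime1, twoExp_pow b hnb]
      rw [e, ← hnb, h0]
      show psi n (evarE n 1) ^ n = 0
      rw [psi_evarE1 hn, eps_one_pow hn]
    by_cases h1 : i.val = 1
    · have e : kprime n (i.val + 1) = b := by
        rw [h1]
        exact kprime2_pow b hnb
      rw [e, h1]
      show psi n (evarE n 2) ^ 2 ^ b = 0
      rw [psi_evarE2 hn, frob_add add_self', mul_pow, hb2, mul_zero, add_zero, ← pow_mul,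
        mul_comm, pow_mul, hb2, zero_pow (by norm_num)]
    · have h2 : 2 ≤ i.val := by omega
      rw [kprime_eq_klog (i.val + 1) (by omega) i.isLt
        (two_mul_ne_pow b hnb (i.val + 1) (by omega)), psi_evarE_ge i h2, frob_add add_self',
        eps_pow_bound i (by omega), zero_add, mul_pow, ← pow_mul,
        a_pow_zero hn _ (le_mul_pow4 b hnb (i.val + 1) (by omega)), zero_mul]

variable (τ : P n →ₐ[ZMod 2] P n) (hτ1 : τ (eps n 1) = eps n 1)
  (hτ : ∀ j : ℕ, 2 ≤ j → j ≤ numVars n → τ (eps n j) = eps n j + eps n 1 ^ (2 * j - 3))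

include hn hb hnb hτ1 hτ in
theorem main49 : (psi n).range = AlgHom.equalizer τ (AlgHom.id (ZMod 2) (P n)) ∧
    RingHom.ker (psi n) = powIdeal n := by
  have hX := psi_Xp hn b hb hnb
  refine ⟨?_, ?_⟩
  · rw [range_eq (Xp n) hX, main41 hn τ hτ1 hτ]
  · apply le_antisymm
    · rw [ker_eq hn (Xp n) hX]
      exact map_le hn b hb hnb
    · exact pow_le_ker hn b hb hnb

end main

end Groth.Agent.H85.QsPow
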