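import Mathlib

/-!
# Rees degenerations of algebras with a weighted monomial basis (helper85 library)

`A` a `K`-algebra with elements `x h` (`h : H`), weights `ω h`, and a family of "standard" multisets
`ch c` whose monomials form a `K`-basis of `A`, such that every monomial is a combination of standard
monomials of no larger weight.  The Rees ring `RR ⊆ A[T]` generated over `K[T]` by `x h T^(ω h)` is free
over `K[T]`, its fibre at `T = c ≠ 0` is `A`, and its fibre at `T = 0` is `K[X_h] ⧸ IT` as soon as `IT`
is generated by elements whose images have only lower-order terms and the standard monomials span modulo `IT`.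
-/

set_option autoImplicit false
universe u

namespace Groth.Agent.H85.Rees

noncomputable section

variable (K : Type u) [Field K] {A : Type u} [CommRing A] [Algebra K A] {H : Type}
  (x : H → A) (ω : H → ℕ)

/-- the substitution `X h ↦ x h * T ^ ω h` -/
def Psi : MvPolynomial H (Polynomial K) →+* Polynomial A :=
  MvPolynomial.eval₂Hom (Polynomial.mapRingHom (algebraMap K A))
    (fun h => Polynomial.monomial (ω h) (x h))

lemma Psi_C (p : Polynomial K) : Psi K x ω (MvPolynomial.C p) = p.map (algebraMap K A) := by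
  unfold Psi
  rw [MvPolynomial.eval₂Hom_C, Polynomial.coe_mapRingHom]

lemma Psi_X (h : H) : Psi K x ω (MvPolynomial.X h) = Polynomial.monomial (ω h) (x h) := by
  unfold Psi
  rw [MvPolynomial.eval₂Hom_X']

/-- the Rees ring -/
def RR : Type u := MvPolynomial H (Polynomial K) ⧸ RingHom.ker (Psi K x ω)

instance instCommRingRR : CommRing (RR K x ω) :=
  inferInstanceAs (CommRing (MvPolynomial H (Polynomial K) ⧸ RingHom.ker (Psi K x ω)))

instance instAlgebraPolyRR : Algebra (Polynomial K) (RR K x ω) :=
  inferInstanceAs (Algebra (Polynomial K) (MvPolynomial H (Polynomial K) ⧸ RingHom.ker (Psi K x ω)))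

instance instAlgebraRR : Algebra K (RR K x ω) :=
  inferInstanceAs (Algebra K (MvPolynomial H (Polynomial K) ⧸ RingHom.ker (Psi K x ω)))

instance instIsScalarTowerRR : IsScalarTower K (Polynomial K) (RR K x ω) :=
  inferInstanceAs (IsScalarTower K (Polynomial K)
    (MvPolynomial H (Polynomial K) ⧸ RingHom.ker (Psi K x ω)))

/-- the quotient map to the Rees ring -/
def mkR : MvPolynomial H (Polynomial K) →+* RR K x ω := Ideal.Quotient.mk (RingHom.ker (Psi K x ω))

lemma mkR_surjective : Function.Surjective (mkR K x ω) := Ideal.Quotient.mk_surjective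

/-- the Rees ring as a subring of `A[T]` -/
def iota : RR K x ω →+* Polynomial A := RingHom.kerLift (Psi K x ω)

lemma iota_injective : Function.Injective (iota K x ω) := RingHom.kerLift_injective _

lemma iota_mk (q : MvPolynomial H (Polynomial K)) :
    iota K x ω (mkR K x ω q) = Psi K x ω q := RingHom.kerLift_mk _ q

lemma algebraMap_poly_eq (p : Polynomial K) :
    algebraMap (Polynomial K) (RR K x ω) p = mkR K x ω (MvPolynomial.C p) := rfl

lemma algebraMap_K_eq (k : K) :
    algebraMap K (RR K x ω) k = mkR K x ω (MvPolynomial.C (Polynomial.C k)) := rfl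

lemma iota_algebraMap (p : Polynomial K) :
    iota K x ω (algebraMap (Polynomial K) (RR K x ω) p) = p.map (algebraMap K A) := by
  rw [algebraMap_poly_eq, iota_mk, Psi_C]

lemma iota_smul (p : Polynomial K) (r : RR K x ω) :
    iota K x ω (p • r) = p.map (algebraMap K A) * iota K x ω r := by
  rw [Algebra.smul_def, map_mul, iota_algebraMap]

lemma prod_monomial (s : Multiset H) :
    (s.map (fun h => Polynomial.monomial (ω h) (x h))).prod =
      Polynomial.monomial ((s.map ω).sum) ((s.map x).prod) := by
  induction s using Multiset.induction_on with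
  | empty => simp
  | cons h s ih =>
    rw [Multiset.map_cons, Multiset.prod_cons, ih, Multiset.map_cons, Multiset.sum_cons,
      Multiset.map_cons, Multiset.prod_cons, Polynomial.monomial_mul_monomial]

/-- the class of a monomial -/
def vv (s : Multiset H) : RR K x ω := mkR K x ω ((s.map MvPolynomial.X).prod)

lemma iota_vv (s : Multiset H) :
    iota K x ω (vv K x ω s) = Polynomial.monomial ((s.map ω).sum) ((s.map x).prod) := by
  unfold vv
  rw [iota_mk, map_multiset_prod, Multiset.map_map, ← prod_monomial]
  congr 2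
  funext h
  exact Psi_X K x ω h

lemma vv_cons (h : H) (s : Multiset H) :
    vv K x ω (h ::ₘ s) = vv K x ω s * mkR K x ω (MvPolynomial.X h) := by
  unfold vv
  rw [Multiset.map_cons, Multiset.prod_cons, mul_comm, map_mul]

variable {C : Type} (ch : C → Multiset H)

/-- hypothesis (W): every monomial is a combination of standard monomials of no larger weight -/
abbrev HW : Prop := ∀ s : Multiset H, (s.map x).prod ∈ Submodule.span K
    ((fun c => ((ch c).map x).prod) '' {c | ((ch c).map ω).sum ≤ (s.map ω).sum})

lemma coeff_map_mul_monomial (p : Polynomial K) (k N : ℕ) (a : A) :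
    ((p.map (algebraMap K A)) * Polynomial.monomial k a).coeff N =
      (if k ≤ N then p.coeff (N - k) else 0) • a := by
  rw [← Polynomial.C_mul_X_pow_eq_monomial, ← mul_assoc, Polynomial.coeff_mul_X_pow']
  split_ifs with h
  · rw [Polynomial.coeff_mul_C, Polynomial.coeff_map, Algebra.smul_def]
  · rw [zero_smul]

/-- linear independence of the classes of the standard monomials over `K[T]` -/
lemma vv_li (hLI : LinearIndependent K (fun c => ((ch c).map x).prod)) :
    LinearIndependent (Polynomial K) (fun c => vv K x ω (ch c)) := by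
  rw [linearIndependent_iff']
  intro s g hsum c hc
  have h1 := congrArg (iota K x ω) hsum
  rw [map_sum, map_zero] at h1
  simp only [iota_smul, iota_vv] at h1
  ext j
  rw [Polynomial.coeff_zero]
  have h2 := congrArg (fun f => Polynomial.coeff f (j + ((ch c).map ω).sum)) h1
  simp only [Polynomial.finsetSum_coeff, Polynomial.coeff_zero, coeff_map_mul_monomial] at h2
  have h3 := linearIndependent_iff'.mp hLI s
    (fun c' => if ((ch c').map ω).sum ≤ j + ((ch c).map ω).sum then
      (g c').coeff (j + ((ch c).map ω).sum - ((ch c').map ω).sum) else 0) h2 c hc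
  rw [if_pos (Nat.le_add_left _ _), Nat.add_sub_cancel] at h3
  exact h3

/-- the classes of all monomials are in the span of the standard ones -/
lemma vv_mem_span (hW : HW K x ω ch) (s : Multiset H) :
    vv K x ω s ∈ Submodule.span (Polynomial K) (Set.range fun c => vv K x ω (ch c)) := by
  obtain ⟨l, hl1, hl2⟩ := (Finsupp.mem_span_image_iff_linearCombination K).mp (hW s)
  rw [Finsupp.mem_supported] at hl1
  rw [Finsupp.linearCombination_apply, Finsupp.sum] at hl2
  have heq : vv K x ω s = ∑ c ∈ l.support,
      (Polynomial.monomial ((s.map ω).sum - ((ch c).map ω).sum) (l c) : Polynomial K) •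
        vv K x ω (ch c) := by
    apply iota_injective
    rw [iota_vv, ← hl2, map_sum, map_sum]
    apply Finset.sum_congr rfl
    intro c hc
    have hc' : ((ch c).map ω).sum ≤ (s.map ω).sum := hl1 hc
    rw [iota_smul, iota_vv, Polynomial.map_monomial, Polynomial.monomial_mul_monomial,
      Nat.sub_add_cancel hc', Algebra.smul_def]
  rw [heq]
  exact Submodule.sum_mem _ (fun c _ => Submodule.smul_mem _ _ (Submodule.subset_span ⟨c, rfl⟩))

lemma vv_span (hW : HW K x ω ch) :
    ⊤ ≤ Submodule.span (Polynomial K) (Set.range fun c => vv K x ω (ch c)) := by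
  have hmulX : ∀ (h : H) (r : RR K x ω),
      r ∈ Submodule.span (Polynomial K) (Set.range fun c => vv K x ω (ch c)) →
      r * mkR K x ω (MvPolynomial.X h) ∈
        Submodule.span (Polynomial K) (Set.range fun c => vv K x ω (ch c)) := by
    intro h r hr
    induction hr using Submodule.span_induction with
    | mem y hy =>
      obtain ⟨c, rfl⟩ := hy
      rw [← vv_cons]
      exact vv_mem_span K x ω ch hW _
    | zero => rw [zero_mul]; exact Submodule.zero_mem _
    | add y z _ _ hy hz => rw [add_mul]; exact Submodule.add_mem _ hy hz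
    | smul p y _ hy => rw [smul_mul_assoc]; exact Submodule.smul_mem _ _ hy
  rintro r -
  obtain ⟨q, rfl⟩ := mkR_surjective K x ω r
  induction q using MvPolynomial.induction_on with
  | C p =>
    have h1 : (mkR K x ω (MvPolynomial.C p)) =
        p • vv K x ω (0 : Multiset H) := by
      rw [Algebra.smul_def]
      unfold vv
      rw [Multiset.map_zero, Multiset.prod_zero, map_one, mul_one]
      rfl
    rw [h1]
    exact Submodule.smul_mem _ _ (vv_mem_span K x ω ch hW 0)
  | add p q hp hq => rw [map_add]; exact Submodule.add_mem _ hp hq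
  | mul_X q h hq => rw [map_mul]; exact hmulX h _ hq

/-- the basis of the Rees ring -/
lemma exists_basis (hLI : LinearIndependent K (fun c => ((ch c).map x).prod)) (hW : HW K x ω ch) :
    ∃ B : Module.Basis C (Polynomial K) (RR K x ω), ∀ c, B c = vv K x ω (ch c) :=
  ⟨Module.Basis.mk (vv_li K x ω ch hLI) (vv_span K x ω ch hW), fun c => Module.Basis.mk_apply _ _ c⟩

/-! ### the fibre at `T = c ≠ 0` -/

/-- evaluation at `T = c` as a ring hom -/
def piRing (c : K) : RR K x ω →+* A :=
  (Polynomial.evalRingHom (algebraMap K A c)).comp (iota K x ω)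

lemma piRing_apply (c : K) (r : RR K x ω) :
    piRing K x ω c r = Polynomial.eval (algebraMap K A c) (iota K x ω r) := rfl

/-- evaluation at `T = c` -/
def piR (c : K) : RR K x ω →ₐ[K] A :=
  { piRing K x ω c with
    commutes' := fun k => by
      show piRing K x ω c (algebraMap K (RR K x ω) k) = algebraMap K A k
      rw [piRing_apply, algebraMap_K_eq, iota_mk, Psi_C, Polynomial.map_C, Polynomial.eval_C] }

lemma piR_apply (c : K) (r : RR K x ω) :
    piR K x ω c r = Polynomial.eval (algebraMap K A c) (iota K x ω r) := rfl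

lemma piR_algebraMap_poly (c : K) (p : Polynomial K) :
    piR K x ω c (algebraMap (Polynomial K) (RR K x ω) p) = algebraMap K A (p.eval c) := by
  rw [piR_apply, iota_algebraMap, Polynomial.eval_map, Polynomial.eval₂_at_apply]

lemma piR_smul (c : K) (p : Polynomial K) (r : RR K x ω) :
    piR K x ω c (p • r) = algebraMap K A (p.eval c) * piR K x ω c r := by
  rw [Algebra.smul_def, map_mul, piR_algebraMap_poly]

lemma piR_vv (c : K) (s : Multiset H) :
    piR K x ω c (vv K x ω s) = algebraMap K A (c ^ (s.map ω).sum) * (s.map x).prod := by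
  rw [piR_apply, iota_vv, Polynomial.eval_monomial, map_pow, mul_comm]

lemma piR_surjective
    (hspanA : ⊤ ≤ Submodule.span K (Set.range fun c => ((ch c).map x).prod))
    (c : K) (hc : c ≠ 0) : Function.Surjective (piR K x ω c) := by
  intro a
  have ha : a ∈ Submodule.span K (Set.range fun c' => ((ch c').map x).prod) :=
    hspanA Submodule.mem_top
  have hle : Submodule.span K (Set.range fun c' => ((ch c').map x).prod) ≤
      LinearMap.range (piR K x ω c).toLinearMap := by
    rw [Submodule.span_le]
    rintro _ ⟨c', rfl⟩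
    refine ⟨algebraMap K (RR K x ω) ((c ^ ((ch c').map ω).sum)⁻¹) * vv K x ω (ch c'), ?_⟩
    show piR K x ω c (algebraMap K (RR K x ω) ((c ^ ((ch c').map ω).sum)⁻¹) * vv K x ω (ch c')) = _
    rw [map_mul, AlgHom.commutes, piR_vv, ← mul_assoc, ← map_mul,
      inv_mul_cancel₀ (pow_ne_zero _ hc), map_one, one_mul]
  obtain ⟨r, hr⟩ := hle ha
  exact ⟨r, hr⟩

lemma mem_of_piR_eq_zero (hLI : LinearIndependent K (fun c => ((ch c).map x).prod))
    (hW : HW K x ω ch) (c : K) (hc : c ≠ 0) (r : RR K x ω) (hr : piR K x ω c r = 0) :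
    r ∈ Ideal.span {algebraMap (Polynomial K) (RR K x ω) (Polynomial.X - Polynomial.C c)} := by
  obtain ⟨B, hB⟩ := exists_basis K x ω ch hLI hW
  obtain ⟨f, rfl⟩ : ∃ f : C →₀ Polynomial K, r = ∑ c' ∈ f.support, f c' • vv K x ω (ch c') := by
    refine ⟨B.repr r, ?_⟩
    conv_lhs => rw [← B.linearCombination_repr r, Finsupp.linearCombination_apply, Finsupp.sum]
    apply Finset.sum_congr rfl
    intro c' _
    rw [hB]
  have h1 : ∑ c' ∈ f.support, ((f c').eval c * c ^ ((ch c').map ω).sum) • ((ch c').map x).prod = 0 := by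
    refine Eq.trans ?_ hr
    rw [map_sum]
    apply Finset.sum_congr rfl
    intro c' _
    rw [piR_smul, piR_vv, ← mul_assoc, ← map_mul, Algebra.smul_def]
  have h2 := linearIndependent_iff'.mp hLI f.support
    (fun c' => (f c').eval c * c ^ ((ch c').map ω).sum) h1
  apply Ideal.sum_mem
  intro c' hc'
  have h3 : (f c').eval c = 0 := by
    have := h2 c' hc'
    rcases mul_eq_zero.mp this with h | h
    · exact h
    · exact absurd h (pow_ne_zero _ hc)
  obtain ⟨q, hq⟩ := Polynomial.dvd_iff_isRoot.mpr h3
  rw [hq, Algebra.smul_def, map_mul, mul_assoc]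
  exact Ideal.mul_mem_right _ _ (Ideal.subset_span rfl)

theorem fibre_ne_zero (hLI : LinearIndependent K (fun c => ((ch c).map x).prod))
    (hspanA : ⊤ ≤ Submodule.span K (Set.range fun c => ((ch c).map x).prod))
    (hW : HW K x ω ch) (c : K) (hc : c ≠ 0) :
    Nonempty ((RR K x ω ⧸ Ideal.span
      {algebraMap (Polynomial K) (RR K x ω) (Polynomial.X - Polynomial.C c)}) ≃ₐ[K] A) := by
  have hker : ∀ a ∈ Ideal.span
      {algebraMap (Polynomial K) (RR K x ω) (Polynomial.X - Polynomial.C c)},
      piR K x ω c a = 0 := by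
    intro a ha
    obtain ⟨b, rfl⟩ := Ideal.mem_span_singleton'.mp ha
    rw [map_mul, piR_algebraMap_poly, Polynomial.eval_sub, Polynomial.eval_X, Polynomial.eval_C,
      sub_self, map_zero, mul_zero]
  refine ⟨AlgEquiv.ofBijective (Ideal.Quotient.liftₐ _ (piR K x ω c) hker) ⟨?_, ?_⟩⟩
  · rw [injective_iff_map_eq_zero]
    intro y hy
    obtain ⟨r, rfl⟩ := Ideal.Quotient.mk_surjective y
    rw [Ideal.Quotient.eq_zero_iff_mem]
    exact mem_of_piR_eq_zero K x ω ch hLI hW c hc r hy
  · intro a
    obtain ⟨r, hr⟩ := piR_surjective K x ω ch hspanA c hc a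
    exact ⟨Ideal.Quotient.mk _ r, hr⟩

/-! ### the fibre at `T = 0` -/

/-- the ideal `(T)` of the Rees ring -/
abbrev I0 : Ideal (RR K x ω) := Ideal.span {algebraMap (Polynomial K) (RR K x ω) Polynomial.X}

/-- the map from the polynomial ring to the special fibre -/
def psi0 : MvPolynomial H K →ₐ[K] (RR K x ω ⧸ I0 K x ω) :=
  MvPolynomial.aeval (fun h => Ideal.Quotient.mk (I0 K x ω)
    (mkR K x ω (MvPolynomial.X h)))

lemma psi0_X (h : H) : psi0 K x ω (MvPolynomial.X h) =
    Ideal.Quotient.mk (I0 K x ω) (mkR K x ω (MvPolynomial.X h)) := by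
  unfold psi0
  rw [MvPolynomial.aeval_X]

lemma psi0_C (k : K) : psi0 K x ω (MvPolynomial.C k) =
    Ideal.Quotient.mk (I0 K x ω) (mkR K x ω (MvPolynomial.C (Polynomial.C k))) := by
  unfold psi0
  rw [MvPolynomial.aeval_C]
  rfl

lemma psi0_eq (g : MvPolynomial H K) :
    psi0 K x ω g = Ideal.Quotient.mk (I0 K x ω)
      (mkR K x ω (MvPolynomial.map Polynomial.C g)) := by
  induction g using MvPolynomial.induction_on with
  | C k => rw [MvPolynomial.map_C, psi0_C]
  | add p q hp hq => simp only [map_add, hp, hq]
  | mul_X p h hp => simp only [map_mul, hp, MvPolynomial.map_X, psi0_X]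

lemma psi0_monomial (s : Multiset H) :
    psi0 K x ω ((s.map MvPolynomial.X).prod) = Ideal.Quotient.mk (I0 K x ω) (vv K x ω s) := by
  induction s using Multiset.induction_on with
  | empty =>
    unfold vv
    simp only [Multiset.map_zero, Multiset.prod_zero, map_one]
  | cons h s ih =>
    rw [vv_cons, Multiset.map_cons, Multiset.prod_cons, map_mul, ih, psi0_X, map_mul, mul_comm]

lemma Psi_map_C (g : MvPolynomial H K) :
    Psi K x ω (MvPolynomial.map Polynomial.C g) =
      MvPolynomial.aeval (fun h => Polynomial.monomial (ω h) (x h)) g := by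
  induction g using MvPolynomial.induction_on with
  | C k =>
    rw [MvPolynomial.map_C, Psi_C, Polynomial.map_C, MvPolynomial.aeval_C,
      Polynomial.algebraMap_apply]
  | add p q hp hq => simp only [map_add, hp, hq]
  | mul_X p h hp => simp only [map_mul, hp, MvPolynomial.map_X, Psi_X, MvPolynomial.aeval_X]

/-- a relation whose image is of strictly lower order dies in the special fibre -/
lemma psi0_gen (g : MvPolynomial H K) (N : ℕ) (y : A)
    (hy : y ∈ Submodule.span K
      ((fun c => ((ch c).map x).prod) '' {c | ((ch c).map ω).sum < N}))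
    (hg : MvPolynomial.aeval (fun h => Polynomial.monomial (ω h) (x h)) g =
      Polynomial.monomial N y) :
    psi0 K x ω g = 0 := by
  rw [psi0_eq, Ideal.Quotient.eq_zero_iff_mem]
  obtain ⟨l, hl1, hl2⟩ := (Finsupp.mem_span_image_iff_linearCombination K).mp hy
  rw [Finsupp.mem_supported] at hl1
  rw [Finsupp.linearCombination_apply, Finsupp.sum] at hl2
  subst hl2
  have heq : (mkR K x ω (MvPolynomial.map Polynomial.C g) : RR K x ω) =
      ∑ c ∈ l.support,
        (Polynomial.monomial (N - ((ch c).map ω).sum - 1) (l c) * Polynomial.X : Polynomial K) •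
          vv K x ω (ch c) := by
    apply iota_injective
    rw [iota_mk, Psi_map_C, hg, map_sum, map_sum]
    apply Finset.sum_congr rfl
    intro c hc
    have hc' : ((ch c).map ω).sum < N := hl1 hc
    rw [iota_smul, iota_vv, Polynomial.monomial_mul_X, Polynomial.map_monomial,
      Polynomial.monomial_mul_monomial, Algebra.smul_def]
    have hN : N - ((ch c).map ω).sum - 1 + 1 + ((ch c).map ω).sum = N := by omega
    rw [hN]
  rw [heq]
  apply Ideal.sum_mem
  intro c _
  rw [Algebra.smul_def, map_mul]
  exact Ideal.mul_mem_right _ _ (Ideal.mul_mem_left _ _ (Ideal.subset_span rfl))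

lemma psi0_surjective : Function.Surjective (psi0 K x ω) := by
  intro z
  obtain ⟨r, rfl⟩ := Ideal.Quotient.mk_surjective z
  obtain ⟨q, rfl⟩ := mkR_surjective K x ω r
  induction q using MvPolynomial.induction_on with
  | C p =>
    refine ⟨MvPolynomial.C (p.coeff 0), ?_⟩
    rw [psi0_C, Ideal.Quotient.eq]
    have h1 : (mkR K x ω (MvPolynomial.C p)) =
        algebraMap (Polynomial K) (RR K x ω)
          (p.divX * Polynomial.X + Polynomial.C (p.coeff 0)) := by
      rw [Polynomial.divX_mul_X_add]; rfl
    rw [h1, map_add, map_mul, ← algebraMap_poly_eq]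
    have h3 : ∀ a b : RR K x ω, a - (b + a) = -b := fun a b => by ring
    rw [h3]
    exact neg_mem (Ideal.mul_mem_left _ _ (Ideal.subset_span rfl))
  | add p q hp hq =>
    obtain ⟨g1, h1⟩ := hp
    obtain ⟨g2, h2⟩ := hq
    exact ⟨g1 + g2, by simp only [map_add, h1, h2]⟩
  | mul_X q h hq =>
    obtain ⟨g, hg⟩ := hq
    exact ⟨g * MvPolynomial.X h, by simp only [map_mul, hg, psi0_X]⟩

/-- the span of the standard monomials together with `IT` -/
abbrev TT (IT : Ideal (MvPolynomial H K)) : Submodule K (MvPolynomial H K) :=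
  Submodule.restrictScalars K IT ⊔
    Submodule.span K (Set.range fun c => ((ch c).map MvPolynomial.X).prod)

lemma h5a_all (IT : Ideal (MvPolynomial H K))
    (h5a : ∀ s : Multiset H, ((s.map MvPolynomial.X).prod : MvPolynomial H K) ∈ TT K ch IT)
    (g : MvPolynomial H K) : g ∈ TT K ch IT := by
  have hmulX : ∀ (h : H) (r : MvPolynomial H K), r ∈ TT K ch IT →
      r * MvPolynomial.X h ∈ TT K ch IT := by
    intro h r hr
    obtain ⟨y, hy, z, hz, rfl⟩ := Submodule.mem_sup.mp hr
    clear hr
    rw [add_mul]
    apply Submodule.add_mem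
    · apply Submodule.mem_sup_left
      exact (Submodule.restrictScalars_mem K IT _).mpr
        (Ideal.mul_mem_right _ _ ((Submodule.restrictScalars_mem K IT _).mp hy))
    · induction hz using Submodule.span_induction with
      | mem y hy =>
        obtain ⟨c, rfl⟩ := hy
        have := h5a (h ::ₘ ch c)
        rw [Multiset.map_cons, Multiset.prod_cons, mul_comm] at this
        exact this
      | zero => rw [zero_mul]; exact Submodule.zero_mem _
      | add y z _ _ hy hz => rw [add_mul]; exact Submodule.add_mem _ hy hz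
      | smul a y _ hy => rw [smul_mul_assoc]; exact Submodule.smul_mem _ _ hy
  induction g using MvPolynomial.induction_on with
  | C a =>
    have h0 := h5a 0
    rw [Multiset.map_zero, Multiset.prod_zero] at h0
    have : (MvPolynomial.C a : MvPolynomial H K) = a • 1 := by
      rw [MvPolynomial.smul_eq_C_mul, mul_one]
    rw [this]
    exact Submodule.smul_mem _ _ h0
  | add p q hp hq => exact Submodule.add_mem _ hp hq
  | mul_X p h hp => exact hmulX h p hp

lemma mem_of_psi0_eq_zero (hLI : LinearIndependent K (fun c => ((ch c).map x).prod))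
    (hW : HW K x ω ch) (IT : Ideal (MvPolynomial H K))
    (h5a : ∀ s : Multiset H, ((s.map MvPolynomial.X).prod : MvPolynomial H K) ∈ TT K ch IT)
    (hkill : ∀ g ∈ IT, psi0 K x ω g = 0)
    (g : MvPolynomial H K) (hg : psi0 K x ω g = 0) : g ∈ IT := by
  classical
  obtain ⟨y, hy, z, hz, rfl⟩ := Submodule.mem_sup.mp (h5a_all K ch IT h5a g)
  have hy' : y ∈ IT := (Submodule.restrictScalars_mem K IT _).mp hy
  obtain ⟨l, hl⟩ := Finsupp.mem_span_range_iff_exists_finsupp.mp hz
  rw [Finsupp.sum] at hl
  have hz0 : psi0 K x ω z = 0 := by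
    rw [map_add, hkill y hy', zero_add] at hg
    exact hg
  have hr : (∑ c ∈ l.support, Polynomial.C (l c) • vv K x ω (ch c) : RR K x ω) ∈ I0 K x ω := by
    have h1 : Ideal.Quotient.mk (I0 K x ω)
        (∑ c ∈ l.support, Polynomial.C (l c) • vv K x ω (ch c) : RR K x ω) = psi0 K x ω z := by
      rw [← hl, map_sum, map_sum]
      apply Finset.sum_congr rfl
      intro c _
      have e1 : psi0 K x ω (l c • ((ch c).map MvPolynomial.X).prod) =
          algebraMap K _ (l c) * Ideal.Quotient.mk (I0 K x ω) (vv K x ω (ch c)) := by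
        rw [Algebra.smul_def, map_mul, AlgHom.commutes, psi0_monomial]
      rw [e1, Algebra.smul_def, map_mul]
      rfl
    rw [← Ideal.Quotient.eq_zero_iff_mem, h1, hz0]
  obtain ⟨B, hB⟩ := exists_basis K x ω ch hLI hW
  obtain ⟨r', hr'⟩ := Ideal.mem_span_singleton'.mp hr
  have hl0 : l = 0 := by
    rw [← Finsupp.support_eq_empty, Finset.eq_empty_iff_forall_notMem]
    intro c₀ hc₀
    have h1 := congrArg (fun r => B.repr r c₀) hr'
    rw [mul_comm, ← Algebra.smul_def, map_smul, Finsupp.smul_apply, map_sum,
      Finsupp.finsetSum_apply] at h1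
    have h2 : ∀ c ∈ l.support, (B.repr (Polynomial.C (l c) • vv K x ω (ch c))) c₀ =
        if c = c₀ then Polynomial.C (l c) else 0 := by
      intro c _
      rw [map_smul, ← hB c, B.repr_self, Finsupp.smul_apply, Finsupp.single_apply, smul_eq_mul,
        mul_ite, mul_one, mul_zero]
    rw [Finset.sum_congr rfl h2, Finset.sum_ite_eq', if_pos hc₀, smul_eq_mul] at h1
    have h3 := congrArg (fun p => Polynomial.coeff p 0) h1
    simp only [Polynomial.coeff_X_mul_zero, Polynomial.coeff_C_zero] at h3
    exact (Finsupp.mem_support_iff.mp hc₀) h3.symm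
  rw [hl0, Finsupp.support_zero, Finset.sum_empty] at hl
  rw [← hl, add_zero]
  exact hy'

theorem fibre_zero (hLI : LinearIndependent K (fun c => ((ch c).map x).prod))
    (hW : HW K x ω ch) (IT : Ideal (MvPolynomial H K)) (GT : Set (MvPolynomial H K))
    (hGT : IT = Ideal.span GT)
    (h5a : ∀ s : Multiset H, ((s.map MvPolynomial.X).prod : MvPolynomial H K) ∈ TT K ch IT)
    (h5b : ∀ g ∈ GT, ∃ (N : ℕ) (y : A),
      y ∈ Submodule.span K ((fun c => ((ch c).map x).prod) '' {c | ((ch c).map ω).sum < N}) ∧
      MvPolynomial.aeval (fun h => Polynomial.monomial (ω h) (x h)) g = Polynomial.monomial N y) :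
    Nonempty ((RR K x ω ⧸ I0 K x ω) ≃ₐ[K] (MvPolynomial H K ⧸ IT)) := by
  have hkill : ∀ g ∈ IT, psi0 K x ω g = 0 := by
    intro g hg
    rw [hGT] at hg
    have hle : Ideal.span GT ≤ RingHom.ker (psi0 K x ω).toRingHom := by
      rw [Ideal.span_le]
      intro g hg
      obtain ⟨N, y, hy, h⟩ := h5b g hg
      rw [SetLike.mem_coe, RingHom.mem_ker]
      exact psi0_gen K x ω ch g N y hy h
    exact RingHom.mem_ker.mp (hle hg)
  refine ⟨(AlgEquiv.ofBijective (Ideal.Quotient.liftₐ IT (psi0 K x ω) hkill) ⟨?_, ?_⟩).symm⟩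
  · rw [injective_iff_map_eq_zero]
    intro y hy
    obtain ⟨g, rfl⟩ := Ideal.Quotient.mk_surjective y
    rw [Ideal.Quotient.eq_zero_iff_mem]
    exact mem_of_psi0_eq_zero K x ω ch hLI hW IT h5a hkill g hy
  · intro z
    obtain ⟨g, hg⟩ := psi0_surjective K x ω z
    exact ⟨Ideal.Quotient.mk _ g, hg⟩

/-- **Rees degeneration.** -/
theorem rees (hLI : LinearIndependent K (fun c => ((ch c).map x).prod))
    (hspanA : ⊤ ≤ Submodule.span K (Set.range fun c => ((ch c).map x).prod))
    (hW : HW K x ω ch) (IT : Ideal (MvPolynomial H K)) (GT : Set (MvPolynomial H K))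
    (hGT : IT = Ideal.span GT)
    (h5a : ∀ s : Multiset H, ((s.map MvPolynomial.X).prod : MvPolynomial H K) ∈ TT K ch IT)
    (h5b : ∀ g ∈ GT, ∃ (N : ℕ) (y : A),
      y ∈ Submodule.span K ((fun c => ((ch c).map x).prod) '' {c | ((ch c).map ω).sum < N}) ∧
      MvPolynomial.aeval (fun h => Polynomial.monomial (ω h) (x h)) g = Polynomial.monomial N y) :
    ∃ (R : Type u) (_ : CommRing R) (_ : Algebra K R) (_ : Algebra (Polynomial K) R)
      (_ : IsScalarTower K (Polynomial K) R),
      Module.Free (Polynomial K) R ∧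
      Nonempty ((R ⧸ Ideal.span {algebraMap (Polynomial K) R Polynomial.X}) ≃ₐ[K]
        (MvPolynomial H K ⧸ IT)) ∧
      ∀ c : K, c ≠ 0 →
        Nonempty ((R ⧸ Ideal.span {algebraMap (Polynomial K) R (Polynomial.X - Polynomial.C c)})
          ≃ₐ[K] A) := by
  obtain ⟨B, -⟩ := exists_basis K x ω ch hLI hW
  exact ⟨RR K x ω, inferInstance, inferInstance, inferInstance, inferInstance,
    Module.Free.of_basis B, fibre_zero K x ω ch hLI hW IT GT hGT h5a h5b,
    fun c hc => fibre_ne_zero K x ω ch hLI hspanA hW c hc⟩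

end

end Groth.Agent.H85.Rees
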