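import Mathlib
import Groth.Agent.H48.WRNNDefs

set_option autoImplicit false
universe u
open TensorProduct Groth.Agent.H48.WRNN

namespace Groth.Agent.H85.WRNN_CD

variable {R S : Type u} [CommRing R] [CommRing S] [Algebra R S]

/-- every element of `κ(p)` is a fraction `a₀ / r` with `r ∉ p`. -/
theorem exists_frac (p : Ideal R) [p.IsPrime] (c : p.ResidueField) :
    ∃ a₀ r : R, r ∉ p ∧
      algebraMap R p.ResidueField r * c = algebraMap R p.ResidueField a₀ := by
  obtain ⟨x, rfl⟩ := IsLocalRing.residue_surjective (R := Localization.AtPrime p) c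
  obtain ⟨a₀, s, rfl⟩ := IsLocalization.exists_mk'_eq p.primeCompl x
  refine ⟨a₀, s.1, s.2, ?_⟩
  rw [IsScalarTower.algebraMap_apply R (Localization.AtPrime p) p.ResidueField,
    IsScalarTower.algebraMap_apply R (Localization.AtPrime p) p.ResidueField,
    IsLocalRing.ResidueField.algebraMap_eq, ← map_mul, mul_comm, IsLocalization.mk'_spec]

/-- (CD) clearing denominators. -/
theorem exists_map_eq_C_mul {σ : Type*} (p : Ideal R) [p.IsPrime]
    (g : MvPolynomial σ p.ResidueField) :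
    ∃ r : R, r ∉ p ∧ ∃ a : MvPolynomial σ R,
      MvPolynomial.map (algebraMap R p.ResidueField) a =
        MvPolynomial.C (algebraMap R p.ResidueField r) * g := by
  induction g using MvPolynomial.induction_on with
  | C c =>
    obtain ⟨a₀, r, hr, h⟩ := exists_frac p c
    refine ⟨r, hr, MvPolynomial.C a₀, ?_⟩
    rw [MvPolynomial.map_C, ← h, map_mul]
  | add g₁ g₂ h₁ h₂ =>
    obtain ⟨r₁, hr₁, a₁, e₁⟩ := h₁
    obtain ⟨r₂, hr₂, a₂, e₂⟩ := h₂
    refine ⟨r₁ * r₂, fun h => (Ideal.IsPrime.mem_or_mem ‹_› h).elim hr₁ hr₂,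
      MvPolynomial.C r₂ * a₁ + MvPolynomial.C r₁ * a₂, ?_⟩
    rw [map_add, map_mul, map_mul, e₁, e₂, MvPolynomial.map_C, MvPolynomial.map_C, map_mul,
      map_mul]
    ring
  | mul_X g i h =>
    obtain ⟨r, hr, a, e⟩ := h
    refine ⟨r, hr, a * MvPolynomial.X i, ?_⟩
    rw [map_mul, e, MvPolynomial.map_X, mul_assoc]

end Groth.Agent.H85.WRNN_CD
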