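import Mathlib
import Groth.Agent.H48.WRNNDefs

set_option autoImplicit false
universe u
open TensorProduct Groth.Agent.H48.WRNN

namespace Groth.Agent.H85.WRNN_TZ

variable {R S : Type u} [CommRing R] [CommRing S] [Algebra R S]

/-- elements of `pS` die in the fibre. -/
theorem one_tmul_eq_zero_of_mem (p : Ideal R) [p.IsPrime] (z : S)
    (hz : z ∈ Ideal.map (algebraMap R S) p) : (1 : p.ResidueField) ⊗ₜ[R] z = (0 : p.Fiber S) := by
  unfold Ideal.map at hz
  induction hz using Submodule.span_induction with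
  | mem z hz =>
    obtain ⟨a, ha, rfl⟩ := hz
    rw [Algebra.algebraMap_eq_smul_one, ← TensorProduct.smul_tmul, Algebra.smul_def, mul_one,
      (Ideal.algebraMap_residueField_eq_zero).mpr ha, TensorProduct.zero_tmul]
  | zero => exact TensorProduct.tmul_zero _ _
  | add z₁ z₂ _ _ h₁ h₂ => rw [TensorProduct.tmul_add, h₁, h₂, add_zero]
  | smul s z _ h =>
    have : (1 : p.ResidueField) ⊗ₜ[R] (s • z) =
        ((1 : p.ResidueField) ⊗ₜ[R] s) * ((1 : p.ResidueField) ⊗ₜ[R] z) := by
      rw [Algebra.TensorProduct.tmul_mul_tmul, one_mul, smul_eq_mul]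
    rw [this, h, mul_zero]

/-- (TZ) -/
theorem one_tmul_eq_zero_iff (p : Ideal R) [p.IsPrime] (s : S) :
    (1 : p.ResidueField) ⊗ₜ[R] s = (0 : p.Fiber S) ↔
      ∃ r : R, r ∉ p ∧ r • s ∈ Ideal.map (algebraMap R S) p := by
  constructor
  · intro h
    letI : Algebra S (p.Fiber S) := Algebra.TensorProduct.rightAlgebra
    have h1 : algebraMap S (p.Fiber S) s = 0 := h
    have h2 := congrArg (Ideal.Fiber.algEquivAux₁ p (S := S)) h1
    rw [AlgEquiv.commutes, map_zero] at h2
    change Ideal.Quotient.mk _ (algebraMap S _ s) = 0 at h2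
    rw [Ideal.Quotient.eq_zero_iff_mem,
      IsLocalization.algebraMap_mem_map_algebraMap_iff
        (Algebra.algebraMapSubmonoid S p.primeCompl)] at h2
    obtain ⟨m, hm, hms⟩ := h2
    obtain ⟨r, hr, rfl⟩ := hm
    exact ⟨r, hr, by rwa [Algebra.smul_def]⟩
  · rintro ⟨r, hr, h⟩
    have h1 := one_tmul_eq_zero_of_mem p _ h
    have h2 : (1 : p.ResidueField) ⊗ₜ[R] (r • s) =
        algebraMap R p.ResidueField r • ((1 : p.ResidueField) ⊗ₜ[R] s) := by
      rw [TensorProduct.tmul_smul, algebraMap_smul]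
    rw [h2] at h1
    have hne : algebraMap R p.ResidueField r ≠ 0 := fun h0 =>
      hr ((Ideal.algebraMap_residueField_eq_zero).mp h0)
    exact (smul_eq_zero.mp h1).resolve_left hne

end Groth.Agent.H85.WRNN_TZ
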