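import Mathlib
import Groth.Agent.H48.WRNNDefs
import Groth.Agent.H85.WRNN_TZ

set_option autoImplicit false
universe u
open TensorProduct Groth.Agent.H48.WRNN

namespace Groth.Agent.H85.WRNN_OPEN

open Groth.Agent.H85.WRNN_TZ

variable {R S : Type u} [CommRing R] [CommRing S] [Algebra R S]

/-- (OPEN) -/
theorem relLocus_constructible {σ : Type*} (x : σ → S) (G : MvPolynomial σ R) :
    ∀ p ∈ relLocus x G, ∃ (f : R) (a : Finset R), f ∉ p.asIdeal ∧ (↑a : Set R) ⊆ p.asIdeal ∧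
      ∀ q : PrimeSpectrum R, f ∉ q.asIdeal → (↑a : Set R) ⊆ q.asIdeal → q ∈ relLocus x G := by
  rintro p ⟨hG, hz⟩
  haveI := p.isPrime
  obtain ⟨m, hm⟩ : ∃ m, MvPolynomial.coeff m
      (MvPolynomial.map (algebraMap R p.asIdeal.ResidueField) G) ≠ 0 := by
    by_contra hcon
    push Not at hcon
    exact hG (MvPolynomial.ext _ _ (fun m => by rw [hcon m, MvPolynomial.coeff_zero]))
  rw [MvPolynomial.coeff_map] at hm
  have hc : MvPolynomial.coeff m G ∉ p.asIdeal := fun h =>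
    hm ((Ideal.algebraMap_residueField_eq_zero).mpr h)
  obtain ⟨r, hr, hrs⟩ := (one_tmul_eq_zero_iff p.asIdeal _).mp hz
  have hrs' : r • MvPolynomial.aeval x G ∈
      Submodule.span S ((algebraMap R S : R → S) '' (p.asIdeal : Set R)) := hrs
  obtain ⟨l, hl, hleq⟩ := (Finsupp.mem_span_image_iff_linearCombination S).mp hrs'
  refine ⟨MvPolynomial.coeff m G * r, l.support,
    fun h => (Ideal.IsPrime.mem_or_mem ‹_› h).elim hc hr, fun a ha => hl ha, ?_⟩
  intro q hfq haq
  haveI := q.isPrime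
  have hcq : MvPolynomial.coeff m G ∉ q.asIdeal := fun h => hfq (Ideal.mul_mem_right _ _ h)
  have hrq : r ∉ q.asIdeal := fun h => hfq (Ideal.mul_mem_left _ _ h)
  refine ⟨fun h0 => ?_, ?_⟩
  · have h1 := congrArg (MvPolynomial.coeff m) h0
    rw [MvPolynomial.coeff_map, MvPolynomial.coeff_zero] at h1
    exact hcq ((Ideal.algebraMap_residueField_eq_zero).mp h1)
  · refine (one_tmul_eq_zero_iff q.asIdeal _).mpr ⟨r, hrq, ?_⟩
    rw [← hleq, Finsupp.linearCombination_apply, Finsupp.sum]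
    refine Ideal.sum_mem _ (fun a ha => ?_)
    rw [smul_eq_mul]
    exact Ideal.mul_mem_left _ _ (Ideal.mem_map_of_mem _ (haq ha))

end Groth.Agent.H85.WRNN_OPEN
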