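import Mathlib
import Groth.Agent.H9.DimFormulaEq
import Groth.Agent.H54.FibreDimTdeg
import Groth.Agent.S4702

/-!
# (D12) for S18281: the generic fibre of a dominant morphism between integral `k`-schemes of the
same dimension has dimension zero.
-/

set_option autoImplicit false
universe u
open CategoryTheory CategoryTheory.Limits AlgebraicGeometry

namespace Groth.Agent.H85.ZCorr_D12

open Groth.Agent.H54 (tdeg)

theorem tdeg_genericPoint {k : Type u} [Field k] {F : Scheme.{u}}
    (s : F ⟶ Spec (CommRingCat.of k)) [LocallyOfFiniteType s] [IrreducibleSpace F] (n : ℕ)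
    (h : topologicalKrullDim F = n) : tdeg s (genericPoint F) = n := by
  have huniv : (Set.univ : Set F) ∈ irreducibleComponents F := by
    rw [irreducibleComponents_eq_singleton]
    exact Set.mem_singleton _
  obtain ⟨ζ, hcl, hdim⟩ := Groth.Agent.S4702.dim_irreducibleComponent_eq_tdeg s Set.univ huniv
  have hζ : ζ = genericPoint F :=
    (show IsGenericPoint ζ Set.univ from hcl).eq (genericPoint_spec F)
  rw [hζ] at hdim
  have h1 : topologicalKrullDim ↥(Set.univ : Set F) = topologicalKrullDim F :=
    IsHomeomorph.topologicalKrullDim_eq _ (Homeomorph.Set.univ F).isHomeomorph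
  rw [h1, h] at hdim
  exact_mod_cast hdim.symm

/-- (D12) -/
theorem dim_generic_fibre_eq_zero {k : Type u} [Field k] {Z W : Scheme.{u}}
    (sZ : Z ⟶ Spec (CommRingCat.of k)) (sW : W ⟶ Spec (CommRingCat.of k))
    [LocallyOfFiniteType sZ] [LocallyOfFiniteType sW] [IsIntegral Z] [IsIntegral W]
    (π : Z ⟶ W) (hπ : π ≫ sW = sZ) [IsDominant π] (n : ℕ)
    (hZ : topologicalKrullDim Z = n) (hW : topologicalKrullDim W = n) :
    topologicalKrullDim ↥(π.fiber (genericPoint W)) = 0 := by
  haveI : LocallyOfFiniteType (π ≫ sW) := by rw [hπ]; infer_instance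
  haveI : LocallyOfFiniteType π := locallyOfFiniteType_of_comp π sW
  obtain ⟨E, hE⟩ := Groth.Agent.H9.DimFormulaScheme.exists_trdeg_eq_nat π (genericPoint Z)
  have hadd := Groth.Agent.H54.tdeg_eq_add_of_trdeg sZ sW π hπ (genericPoint Z) E hE
  have hZn : tdeg sZ (genericPoint Z) = n := tdeg_genericPoint sZ n hZ
  have hWn : tdeg sW (π.base (genericPoint Z)) = n := by
    rw [Groth.Agent.H9.DimFormulaEq.map_genericPoint π]
    exact tdeg_genericPoint sW n hW
  have hE0 : E = 0 := by omega
  subst hE0
  have h2 := (Groth.Agent.H9.DimFormulaEq.dim_generic_fiber_eq π 0 hE).1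
  simpa using h2

end Groth.Agent.H85.ZCorr_D12
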